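/-
The reflection groups in dimension six with discriminant one over three elements have elements of order seven modulo the centre.
-/
import Cfsg.Agent.Lib.ReflClass.Basic
import Cfsg.Agent.Lib.FiniteForms.Congr

set_option autoImplicit false

namespace CfsgThreeTrans.M22

open Matrix QuadraticMap

abbrev K := ZMod 3
abbrev V6 := Fin 6 → K

/-- The reflection in `v` of the sum of six squares, of norm `c`. -/
def stdRefl (c : K) (v : V6) : Matrix (Fin 6) (Fin 6) K := 1 - (c⁻¹ * 2) • vecMulVec v v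

def word (c : K) : List V6 :=
  if c = 1 then
    [![0, 1, 0, 1, 2, 2], ![0, 1, 2, 2, 1, 0], ![1, 2, 0, 2, 1, 0], ![1, 0, 2, 0, 2, 2], ![1, 2, 0, 1, 0, 1],
      ![1, 0, 1, 2, 2, 0]]
  else
    [![1, 0, 2, 2, 1, 2], ![1, 0, 2, 1, 2, 1], ![0, 1, 1, 1, 2, 1], ![1, 1, 2, 1, 2, 0], ![0, 1, 1, 2, 1, 1],
      ![1, 0, 2, 2, 2, 2]]

theorem word_norm : ∀ c : K, c ≠ 0 → ∀ v ∈ word c, ∑ i, v i * v i = c := by decide +kernel

theorem word_seven : ∀ c : K, c ≠ 0 →
    ((word c).map (stdRefl c)).prod ^ 7 = 1 ∧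
    ((word c).map (stdRefl c)).prod * stdRefl c ((word c).headI) ≠
      stdRefl c ((word c).headI) * ((word c).map (stdRefl c)).prod := by decide +kernel

/-- A non-degenerate form with discriminant one is the sum of six squares. -/
theorem exists_frame (Q : QuadraticForm K V6) (hQ : Cfsg.polarGramDet (⇑Q) = 1) :
    ∃ P : Matrix (Fin 6) (Fin 6) K, P.det ≠ 0 ∧ (∀ v, Q (P *ᵥ v) = ∑ i, v i * v i) := by
  set G : Matrix (Fin 6) (Fin 6) K := Matrix.of fun i j => polar (⇑Q) (Pi.single i 1) (Pi.single j 1) with hG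
  have hs : G.IsSymm := Matrix.ext fun i j => QuadraticMap.polar_comm Q _ _
  have hH : (diagonal fun _ : Fin 6 => (2 : K)).det = 1 := by rw [det_diagonal]; decide +kernel
  have hG1 : G.det = 1 := hQ
  obtain ⟨P, hP, hPG⟩ := (CfsgLib.FiniteForms.congr_iff (G := G) (H := diagonal fun _ => (2 : K))
    (by decide) hs (diagonal_transpose _) (by rw [hG1]; exact one_ne_zero) (by rw [hH]; exact one_ne_zero)).mpr
    (by rw [hG1, hH, one_mul]; exact ⟨1, (one_mul 1).symm⟩)
  refine ⟨P, hP, fun v => ?_⟩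
  have hpol : ∀ x y : V6, polar (⇑Q) x y = x ⬝ᵥ (G *ᵥ y) := by
    intro x y
    rw [← QuadraticMap.polarBilin_apply_apply]
    conv_lhs => rw [pi_eq_sum_univ' x, pi_eq_sum_univ' y]
    simp only [map_sum, map_smul, LinearMap.coe_sum, Finset.sum_apply, LinearMap.smul_apply, smul_eq_mul,
      QuadraticMap.polarBilin_apply_apply, dotProduct, mulVec, hG, Matrix.of_apply]
    simp only [Finset.mul_sum]
    rw [Finset.sum_comm]
    exact Finset.sum_congr rfl fun _ _ => Finset.sum_congr rfl fun _ _ => by ring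
  have h2 : polar (⇑Q) (P *ᵥ v) (P *ᵥ v) = 2 * ∑ i, v i * v i := by
    rw [hpol, mulVec_mulVec, dotProduct_mulVec, vecMul_mulVec, ← dotProduct_mulVec, ← Matrix.mul_assoc, hPG]
    simp only [dotProduct, mulVec_diagonal, Finset.mul_sum]
    exact Finset.sum_congr rfl fun _ _ => by ring
  rw [CfsgLib.PolarVec.polar_self] at h2
  exact mul_left_cancel₀ (by decide) h2

/-- An element of order seven modulo the centre. -/
theorem exists_seven (Q : QuadraticForm K V6) (hQ : Cfsg.polarGramDet (⇑Q) = 1) (c : K) (hc : c ≠ 0) :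
    7 ∣ Nat.card (↥(Cfsg.reflectionSubgroup (⇑Q) c) ⧸ Subgroup.center ↥(Cfsg.reflectionSubgroup (⇑Q) c)) := by
  obtain ⟨P, hP, hfr⟩ := exists_frame Q hQ
  have hPu : IsUnit P.det := isUnit_iff_ne_zero.mpr hP
  have hpolar : ∀ x y : V6, polar (⇑Q) (P *ᵥ x) (P *ᵥ y) = 2 * ∑ i, x i * y i := by
    intro x y
    simp only [polar, ← mulVec_add, hfr, Pi.add_apply]
    simp only [Finset.mul_sum, ← Finset.sum_sub_distrib]
    exact Finset.sum_congr rfl fun _ _ => by ring
  have hrefl : ∀ v : V6, (∑ i, v i * v i = c) →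
      ∃ r : ↥(Cfsg.reflectionSubgroup (⇑Q) c), r.1.1.1 * P = P * stdRefl c v := by
    intro v hv
    obtain ⟨r, hr⟩ := CfsgReflClass.IsRefl.exists (Q := Q) (v := P *ᵥ v) (by rw [hfr, hv]; exact hc)
    refine ⟨⟨r, Subgroup.subset_closure ⟨P *ᵥ v, by rw [hfr, hv], (CfsgReflClass.isRefl_iff hr.1).mp hr⟩⟩, ?_⟩
    refine Matrix.ext_of_mulVec_single fun i => ?_
    rw [← mulVec_mulVec, ← mulVec_mulVec, hr.2, hpolar, hfr, hv, stdRefl, sub_mulVec, one_mulVec, smul_mulVec,
      vecMulVec_mulVec, op_smul_eq_smul, smul_smul, mulVec_sub, mulVec_smul, sub_eq_add_neg, ← neg_smul]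
    refine congrArg (fun a : K => P *ᵥ Pi.single i 1 + a • (P *ᵥ v)) ?_
    simp only [dotProduct]
    ring
  choose! r hr using hrefl
  set g := ((word c).map r).prod with hg
  have key : ∀ l : List V6, (∀ v ∈ l, ∑ i, v i * v i = c) →
      ((l.map r).prod).1.1.1 * P = P * (l.map (stdRefl c)).prod := by
    intro l
    induction l with
    | nil => intro _; simp
    | cons a l ih =>
      intro h
      simp only [List.map_cons, List.prod_cons, Subgroup.coe_mul, Units.val_mul]
      rw [Matrix.mul_assoc, ih fun v hv => h v (List.mem_cons_of_mem _ hv), ← Matrix.mul_assoc,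
        hr a (h a (List.mem_cons_self ..)), Matrix.mul_assoc]
  have hkey : g.1.1.1 * P = P * ((word c).map (stdRefl c)).prod := key _ (word_norm c hc)
  obtain ⟨h7, hnc⟩ := word_seven c hc
  have hg7 : g ^ 7 = 1 := by
    have h' : ∀ k : ℕ, (g ^ k).1.1.1 * P = P * ((word c).map (stdRefl c)).prod ^ k := by
      intro k
      induction k with
      | zero => simp
      | succ k ih =>
        rw [pow_succ, pow_succ, Subgroup.coe_mul, Subgroup.coe_mul, Units.val_mul, Matrix.mul_assoc, hkey,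
          ← Matrix.mul_assoc, ih, Matrix.mul_assoc]
    have := h' 7
    rw [h7, Matrix.mul_one] at this
    refine Subtype.ext (Subtype.ext (Units.ext ?_))
    calc (g ^ 7).1.1.1 = (g ^ 7).1.1.1 * P * P⁻¹ := (Matrix.mul_nonsing_inv_cancel_right P _ hPu).symm
      _ = 1 := by rw [this, Matrix.mul_nonsing_inv P hPu]
  have hgz : g ∉ Subgroup.center ↥(Cfsg.reflectionSubgroup (⇑Q) c) := by
    intro hz
    apply hnc
    set w := (word c).headI with hw
    have hwm : w ∈ word c := by
      rw [hw, word]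
      split_ifs <;> simp
    have hcomm := congrArg (fun x => x.1.1.1 * P) (Subgroup.mem_center_iff.mp hz (r w))
    simp only [Subgroup.coe_mul, Units.val_mul] at hcomm
    have e1 : (r w).1.1.1 * g.1.1.1 * P = P * (stdRefl c w * ((word c).map (stdRefl c)).prod) := by
      rw [Matrix.mul_assoc, hkey, ← Matrix.mul_assoc, hr w (word_norm c hc w hwm), Matrix.mul_assoc]
    have e2 : g.1.1.1 * (r w).1.1.1 * P = P * (((word c).map (stdRefl c)).prod * stdRefl c w) := by
      rw [Matrix.mul_assoc, hr w (word_norm c hc w hwm), ← Matrix.mul_assoc, hkey, Matrix.mul_assoc]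
    rw [e1, e2] at hcomm
    exact ((Matrix.isUnit_iff_isUnit_det P).mpr hPu).mul_left_cancel hcomm.symm
  haveI : Fact (Nat.Prime 7) := ⟨by norm_num⟩
  have ho := orderOf_eq_prime (p := 7)
    (x := (QuotientGroup.mk g : ↥(Cfsg.reflectionSubgroup (⇑Q) c) ⧸ Subgroup.center ↥(Cfsg.reflectionSubgroup (⇑Q) c)))
    (by rw [← QuotientGroup.mk_pow, hg7]; rfl) (fun h => hgz ((QuotientGroup.eq_one_iff g).mp h))
  exact ho ▸ orderOf_dvd_natCard _

end CfsgThreeTrans.M22
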