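/-
The projective reflection groups in dimension six with discriminant one over three elements.
-/
import Cfsg.Agent.Lib.ThreeTrans.M22.Seven
import Cfsg.Agent.Lib.ReflClass.IndexTwo
import Cfsg.Agent.Lib.ReflClass.Quasi
import Cfsg.Agent.Lib.OrthOrderBase
import Cfsg.Agent.Lib.Basic

set_option autoImplicit false

namespace CfsgThreeTrans.M22.ReflSix

open Matrix QuadraticMap CfsgReflClass
open scoped commutatorElement

abbrev K3 := ZMod 3
abbrev V := Fin 6 → K3

/-- From hyperbolic coordinates to sums of squares. -/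
def toSq : ((Fin 2 ⊕ Fin 2) ⊕ Fin 2 → K3) ≃ₗ[K3] V where
  toFun v := ![v (.inl (.inl 0)) + v (.inl (.inr 0)), v (.inl (.inl 1)) + v (.inl (.inr 1)),
    (v (.inl (.inl 0)) - v (.inl (.inr 0))) + (v (.inl (.inl 1)) - v (.inl (.inr 1))),
    (v (.inl (.inl 0)) - v (.inl (.inr 0))) - (v (.inl (.inl 1)) - v (.inl (.inr 1))), v (.inr 0), v (.inr 1)]
  invFun w := Sum.elim (Sum.elim ![-(w 0 + -(w 2 + w 3)), -(w 1 + -(w 2 - w 3))]
    ![-(w 0 - -(w 2 + w 3)), -(w 1 - -(w 2 - w 3))]) ![w 4, w 5]
  left_inv v := by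
    funext i
    rcases i with (i | i) | i <;> fin_cases i <;> simp
    all_goals (ring_nf; simp [show (2 : K3) = -1 from rfl, show (4 : K3) = 1 from rfl, show (3 : K3) = 0 from rfl])
  right_inv w := by
    funext i
    fin_cases i <;> simp
    all_goals (ring_nf; simp [show (2 : K3) = -1 from rfl, show (4 : K3) = 1 from rfl, show (3 : K3) = 0 from rfl])
  map_add' a b := by funext i; fin_cases i <;> simp <;> ring
  map_smul' r a := by funext i; fin_cases i <;> simp <;> ring

theorem toSq_norm (v : (Fin 2 ⊕ Fin 2) ⊕ Fin 2 → K3) :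
    ∑ i, toSq v i * toSq v i = Cfsg.quadFormMinus 2 K3 0 1 v := by
  simp [toSq, Cfsg.quadFormMinus, Fin.sum_univ_six]
  ring_nf
  simp [show (2 : K3) = -1 from rfl, show (4 : K3) = 1 from rfl, show (3 : K3) = 0 from rfl]

variable (Q : QuadraticForm K3 V) (hQ : Cfsg.polarGramDet (⇑Q) = 1) (hQn : (polarBilin Q).Nondegenerate)
variable {c : K3} (hc : c ≠ 0)

include hQ in
theorem card_O : Nat.card (Cfsg.isometryGroup K3 (⇑Q)) = 26127360 := by
  classical
  obtain ⟨P, hP, hfr⟩ := exists_frame Q hQ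
  let e : ((Fin 2 ⊕ Fin 2) ⊕ Fin 2 → K3) ≃ₗ[K3] V := toSq.trans
    (Matrix.toLinearEquiv' P (Matrix.invertibleOfIsUnitDet P (isUnit_iff_ne_zero.mpr hP)))
  have he : ∀ v, Q (e v) = Cfsg.quadFormMinus 2 K3 0 1 v := fun v => by
    rw [← toSq_norm, ← hfr]; rfl
  have hab : ∀ z₁ z₂ : K3, z₁ ^ 2 + 0 * z₁ * z₂ + 1 * z₂ ^ 2 = 0 → z₁ = 0 ∧ z₂ = 0 := by decide
  have h1 := CfsgLib.OrthOrder.card_isometryGroup Q (Cfsg.quadFormMinus 2 K3 0 1) e.symm fun w => by
    rw [← he, e.apply_symm_apply]
  rw [Nat.card_congr (CfsgLib.SpinorMatrix.isoEquiv Q).toEquiv, ← h1,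
    show Nat.card (Cfsg.isometryGroup K3 (Cfsg.quadFormMinus 2 K3 0 1)) = _ from
      CfsgLib.OrthOrder.card_O_minus 3 (by norm_num) (0 : K3) 1 hab, ZMod.card]
  decide

include hQ hQn hc in
theorem card_refl : Nat.card (Cfsg.reflectionSubgroup (⇑Q) c) = 13063680 := by
  have e := Subgroup.card_mul_index (Cfsg.reflectionSubgroup (⇑Q) c)
  rw [refl_index hQn (by norm_num) hc, card_O Q hQ] at e
  omega

include hQ hQn hc in
/-- A central element is determined by its sign on one vector of norm `c`. -/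
theorem card_center : Nat.card (Subgroup.center ↥(Cfsg.reflectionSubgroup (⇑Q) c)) ≤ 2 := by
  classical
  set R := Cfsg.reflectionSubgroup (⇑Q) c with hR
  obtain ⟨P, hP, hfr⟩ := exists_frame Q hQ
  have hsign : ∀ z ∈ Subgroup.center R, ∀ v, Q v = c → ∃ s : K3, s * s = 1 ∧ z.1.1.1 *ᵥ v = s • v := by
    intro z hz v hv
    obtain ⟨r, hr⟩ := IsRefl.exists (show Q v ≠ 0 from hv ▸ hc)
    have hrR : r ∈ R := Subgroup.subset_closure ⟨v, hv, (isRefl_iff hr.1).mp hr⟩
    have e : z.1 * r * z.1⁻¹ = r := mul_inv_eq_iff_eq_mul.mpr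
      (congrArg Subtype.val (Subgroup.mem_center_iff.mp hz ⟨r, hrR⟩)).symm
    have h2 := (e ▸ hr.conj (g := z.1) : IsRefl Q r (z.1.1.1 *ᵥ v)).2 v
    set w := z.1.1.1 *ᵥ v
    rw [hr.2, show Q w = c from (iso_map Q z.1 v).trans hv, hv, inv_three hc, polar_self_two, hv] at h2
    have hcc : c * c = 1 := (by decide : ∀ c : K3, c ≠ 0 → c * c = 1) c hc
    rw [show -(c * (2 * c)) = 1 from by linear_combination (-2) * hcc + (-1) * three_zero, one_smul] at h2
    set t := -(c * polar (⇑Q) w v)
    have hv' : v = t • w := add_left_cancel h2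
    have htt : t * t = 1 := by
      have := congrArg Q hv'
      rw [QuadraticMap.map_smul, hv, show Q w = c from (iso_map Q z.1 v).trans hv, smul_eq_mul] at this
      linear_combination (-c) * this + (1 - t * t) * hcc
    exact ⟨t, htt, by conv_rhs => rw [hv', smul_smul, htt, one_smul]⟩
  choose! s hss hs using hsign
  have hstep : ∀ z ∈ Subgroup.center R, ∀ u v, Q u = c → Q v = c → polar (⇑Q) u v ≠ 0 → s z u = s z v := by
    intro z hz u v hu hv huv
    have e := polar_map Q z.1 u v
    rw [hs z hz u hu, hs z hz v hv, polar_smul_left, polar_smul_right, smul_eq_mul, smul_eq_mul, ← mul_assoc] at e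
    have h1 : s z u * s z v = 1 := mul_right_cancel₀ huv (by rw [one_mul]; exact e)
    calc s z u = s z u * (s z v * s z v) := by rw [hss z hz v hv, mul_one]
      _ = s z v := by rw [← mul_assoc, h1, one_mul]
  have hall : ∀ z ∈ Subgroup.center R, ∀ u v, Q u = c → Q v = c → s z u = s z v := by
    intro z hz u v hu hv
    by_cases h : polar (⇑Q) u v = 0
    · obtain ⟨w, hw, h1, h2⟩ := exists_linking hQn (by norm_num) hc hu hv h
      exact (hstep z hz u w hu hw h1).trans (hstep z hz w v hw hv h2)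
    · exact hstep z hz u v hu hv h
  obtain ⟨v0, -, hv0⟩ := exists_orth_norm hQn (k := 0) (by norm_num) ![] (fun i => i.elim0) (fun i => i.elim0) hc
  have hinj : Function.Injective fun z : Subgroup.center R =>
      (⟨s z.1 v0, hss z.1 z.2 v0 hv0⟩ : {t : K3 // t * t = 1}) := by
    intro z z' e
    have e' : s z.1 v0 = s z'.1 v0 := congrArg Subtype.val e
    have heq : ∀ v, Q v = c → z.1.1.1.1 *ᵥ v = z'.1.1.1.1 *ᵥ v := fun v hv => by
      rw [hs z.1 z.2 v hv, hs z'.1 z'.2 v hv, hall z.1 z.2 v v0 hv hv0, hall z'.1 z'.2 v v0 hv hv0, e']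
    have hPu : IsUnit P.det := isUnit_iff_ne_zero.mpr hP
    have hbasis : ∀ i : Fin 6, z.1.1.1.1 *ᵥ (P *ᵥ Pi.single i 1) = z'.1.1.1.1 *ᵥ (P *ᵥ Pi.single i 1) := by
      intro i
      have hd : ∀ i : Fin 6, (∑ j, (Pi.single i 1 : V) j * (Pi.single i 1 : V) j = 1) ∧
          (∑ j, (Pi.single i 1 + Pi.single (i + 1) 1 : V) j * (Pi.single i 1 + Pi.single (i + 1) 1 : V) j = -1) ∧
          (∑ j, (Pi.single i 1 - Pi.single (i + 1) 1 : V) j * (Pi.single i 1 - Pi.single (i + 1) 1 : V) j = -1) := by
        decide +kernel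
      rcases (by decide : ∀ c : K3, c ≠ 0 → c = 1 ∨ c = -1) c hc with rfl | rfl
      · exact heq _ ((hfr _).trans (hd i).1)
      · have h1 := heq (P *ᵥ (Pi.single i 1 + Pi.single (i + 1) 1)) ((hfr _).trans (hd i).2.1)
        have h2 := heq (P *ᵥ (Pi.single i 1 - Pi.single (i + 1) 1)) ((hfr _).trans (hd i).2.2)
        simp only [mulVec_add, mulVec_sub] at h1 h2
        funext j
        have a1 := congrFun h1 j
        have a2 := congrFun h2 j
        simp only [Pi.add_apply, Pi.sub_apply] at a1 a2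
        linear_combination (-1) * a1 + (-1) * a2 +
          ((z.1.1.1.1 *ᵥ (P *ᵥ Pi.single i 1)) j - (z'.1.1.1.1 *ᵥ (P *ᵥ Pi.single i 1)) j) * three_zero
    have hm : z.1.1.1.1 * P = z'.1.1.1.1 * P := Matrix.ext_of_mulVec_single fun i => by
      rw [← mulVec_mulVec, ← mulVec_mulVec]; exact hbasis i
    exact Subtype.ext (Subtype.ext (Subtype.ext (Units.ext
      (((Matrix.isUnit_iff_isUnit_det P).mpr hPu).mul_right_cancel hm))))
  refine (Nat.card_le_card_of_injective _ hinj).trans ?_
  rw [Nat.card_eq_fintype_card]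
  decide

include hQ hQn hc in
theorem card_proj : 6531840 ≤ Nat.card
    (↥(Cfsg.reflectionSubgroup (⇑Q) c) ⧸ Subgroup.center ↥(Cfsg.reflectionSubgroup (⇑Q) c)) := by
  have e := Subgroup.card_eq_card_quotient_mul_card_subgroup (Subgroup.center ↥(Cfsg.reflectionSubgroup (⇑Q) c))
  rw [card_refl Q hQ hQn hc] at e
  have h := card_center Q hQ hQn hc
  set a := Nat.card (↥(Cfsg.reflectionSubgroup (⇑Q) c) ⧸ Subgroup.center ↥(Cfsg.reflectionSubgroup (⇑Q) c))
  set b := Nat.card (Subgroup.center ↥(Cfsg.reflectionSubgroup (⇑Q) c))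
  have := Nat.mul_le_mul_left a h
  omega

universe u

include hQn hc in
/-- A copy of the projective group has no solvable normal subgroup and a perfect derived group. -/
theorem proj_props {X : Type u} [Group X] [Finite X] (e : X ≃*
    (↥(Cfsg.reflectionSubgroup (⇑Q) c) ⧸ Subgroup.center ↥(Cfsg.reflectionSubgroup (⇑Q) c))) :
    (∀ N : Subgroup X, N.Normal → Group.IsSolvable N → N = ⊥) ∧
      ⁅commutator X, commutator X⁆ = commutator X := by
  classical
  set R := Cfsg.reflectionSubgroup (⇑Q) c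
  set ψ : R →* X := e.symm.toMonoidHom.comp (QuotientGroup.mk' (Subgroup.center R))
  have hψ : Function.Surjective ψ := e.symm.surjective.comp (QuotientGroup.mk'_surjective _)
  have hker : ∀ x, ψ x = 1 ↔ x ∈ Subgroup.center R := fun x => by simp [ψ]
  have hfit : Cfsg.fittingSubgroup R ≤ Subgroup.center R := by
    rw [CfsgLib.fittingSubgroup_eq_iSup_pCore]
    exact iSup_le fun p => pCore_le_center hQn (by norm_num) hc p.2
  have hnil : ∀ N : Subgroup X, N.Normal → Group.IsNilpotent N → N = ⊥ := by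
    intro N hN hn
    haveI := hN; haveI := hn
    set M := N.comap ψ
    have : Group.IsNilpotent M := Subgroup.isNilpotent_of_ker_le_center (ψ.subgroupComap N) (fun x hx => by
      refine Subgroup.mem_center_iff.mpr fun y => Subtype.ext ?_
      exact Subgroup.mem_center_iff.mp ((hker x.1).mp (congrArg Subtype.val (MonoidHom.mem_ker.mp hx))) y.1)
    have hM : M ≤ Subgroup.center R := (le_sSup ⟨Subgroup.Normal.comap hN ψ, this⟩ : M ≤ Cfsg.fittingSubgroup R).trans hfit
    refine (Subgroup.eq_bot_iff_forall N).mpr fun x hx => ?_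
    obtain ⟨r, rfl⟩ := hψ x
    exact (hker r).mpr (hM hx)
  refine ⟨fun N hN hs => ?_, ?_⟩
  · by_contra hne
    haveI := hN
    haveI := hs
    haveI : Nontrivial N := (Subgroup.nontrivial_iff_ne_bot N).mpr hne
    obtain ⟨k, hk⟩ := Group.IsSolvable.solvable (G := N)
    have hind : ∀ k, (derivedSeries N k).map N.subtype = ⊥ → N = ⊥ := by
      intro k
      induction k with
      | zero => intro h; rwa [derivedSeries_zero, ← MonoidHom.range_eq_map, Subgroup.range_subtype] at h
      | succ k ih =>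
        intro h
        refine ih (hnil _ ConjAct.normal_of_characteristic_of_normal ?_)
        rw [derivedSeries_succ, Subgroup.map_commutator] at h
        letI : CommGroup ↥((derivedSeries N k).map N.subtype) :=
          { (inferInstance : Group ↥((derivedSeries N k).map N.subtype)) with
            mul_comm := fun x y => Subtype.ext (commutatorElement_eq_one_iff_mul_comm.mp
              (Subgroup.mem_bot.mp (h ▸ Subgroup.commutator_mem_commutator x.2 y.2))) }
        infer_instance
    exact hne (hind k (by rw [hk, Subgroup.map_bot]))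
  · obtain ⟨⟨hperf, -⟩, -, -, -⟩ := CfsgReflClass.s5360 hQn (by norm_num) hc
    have h1 : ⁅commutator R, commutator R⁆ = commutator R := by
      have e1 : (_root_.commutator ↥(commutator R)).map (commutator R).subtype = ⁅commutator R, commutator R⁆ := by
        rw [_root_.commutator_def ↥(commutator R), Subgroup.map_commutator, ← MonoidHom.range_eq_map,
          Subgroup.range_subtype]
      rw [← e1, hperf.commutator_eq_top, ← MonoidHom.range_eq_map, Subgroup.range_subtype]
    have h2 : (commutator R).map ψ = commutator X := by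
      rw [_root_.commutator_def, Subgroup.map_commutator, Subgroup.map_top_of_surjective ψ hψ, ← _root_.commutator_def]
    rw [← h2, ← Subgroup.map_commutator, h1]

end CfsgThreeTrans.M22.ReflSix
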