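/-
The projective reflection group in dimension seven with discriminant opposite to the norm is the simple orthogonal group.
-/
import Cfsg.Agent.Lib.ThreeTrans.M22.ReflSix
import Cfsg.Agent.Lib.POmegaCard
import Cfsg.Agent.Lib.OmegaSylowTwo.Transfer

set_option autoImplicit false

namespace CfsgThreeTrans.M22.ReflSeven

open Matrix QuadraticMap CfsgReflClass
open scoped commutatorElement

abbrev K3 := ZMod 3
abbrev V := Fin 7 → K3
abbrev I7 := Unit ⊕ (Fin 3 ⊕ Fin 3)

/-- From hyperbolic coordinates to sums of squares. -/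
def toSq : (I7 → K3) ≃ₗ[K3] V where
  toFun v :=
    ![v (.inr (.inl 0)) - v (.inr (.inr 0)), v (.inr (.inl 1)) - v (.inr (.inr 1)), v (.inr (.inl 2)) - v (.inr (.inr 2)),
      (v (.inr (.inl 0)) + v (.inr (.inr 0))) + (v (.inr (.inl 1)) + v (.inr (.inr 1))),
      (v (.inr (.inl 0)) + v (.inr (.inr 0))) - (v (.inr (.inl 1)) + v (.inr (.inr 1))),
      (v (.inr (.inl 2)) + v (.inr (.inr 2))) + v (.inl ()), (v (.inr (.inl 2)) + v (.inr (.inr 2))) - v (.inl ())]
  invFun w := Sum.elim (fun _ => -(w 5 - w 6))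
    (Sum.elim ![-(w 0 + -(w 3 + w 4)), -(w 1 + -(w 3 - w 4)), -(w 2 + -(w 5 + w 6))]
      ![-(-(w 3 + w 4) - w 0), -(-(w 3 - w 4) - w 1), -(-(w 5 + w 6) - w 2)])
  left_inv v := by
    funext i
    rcases i with u | i | i <;> [skip; fin_cases i; fin_cases i] <;> simp
    all_goals (ring_nf; simp [show (2 : K3) = -1 from rfl, show (4 : K3) = 1 from rfl, show (3 : K3) = 0 from rfl])
  right_inv w := by
    funext i
    fin_cases i <;> simp
    all_goals (ring_nf; simp [show (2 : K3) = -1 from rfl, show (4 : K3) = 1 from rfl, show (3 : K3) = 0 from rfl])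
  map_add' a b := by funext i; fin_cases i <;> simp <;> ring
  map_smul' r a := by funext i; fin_cases i <;> simp <;> ring

theorem toSq_norm (v : I7 → K3) : ∑ i, toSq v i * toSq v i = -Cfsg.quadFormOdd 3 K3 v := by
  simp [toSq, Cfsg.quadFormOdd, Fin.sum_univ_seven, Fin.sum_univ_three]
  ring_nf
  simp [show (2 : K3) = -1 from rfl, show (4 : K3) = 1 from rfl, show (3 : K3) = 0 from rfl]
  try ring

variable (Q : QuadraticForm K3 V) {c : K3} (hQ : Cfsg.polarGramDet (⇑Q) = -c) (hc : c ≠ 0)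
  (hQn : (polarBilin Q).Nondegenerate)

include hQ hc in
/-- The form is the norm times a sum of squares. -/
theorem exists_frame7 : ∃ P : Matrix (Fin 7) (Fin 7) K3, P.det ≠ 0 ∧ (∀ v, Q (P *ᵥ v) = c * ∑ i, v i * v i) := by
  set G : Matrix (Fin 7) (Fin 7) K3 := Matrix.of fun i j => polar (⇑Q) (Pi.single i 1) (Pi.single j 1) with hG
  have hs : G.IsSymm := Matrix.ext fun i j => QuadraticMap.polar_comm Q _ _
  have hH : (diagonal fun _ : Fin 7 => 2 * c).det = -c := by
    rw [det_diagonal]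
    exact (by decide +kernel : ∀ c : K3, c ≠ 0 → ∏ _i : Fin 7, 2 * c = -c) c hc
  have hG1 : G.det = -c := hQ
  obtain ⟨P, hP, hPG⟩ := (CfsgLib.FiniteForms.congr_iff (G := G) (H := diagonal fun _ => 2 * c)
    (by decide) hs (diagonal_transpose _) (by rw [hG1]; exact neg_ne_zero.mpr hc)
    (by rw [hH]; exact neg_ne_zero.mpr hc)).mpr
    (by rw [hG1, hH]; exact ⟨-c, rfl⟩)
  refine ⟨P, hP, fun v => ?_⟩
  have hpol : ∀ x y : V, polar (⇑Q) x y = x ⬝ᵥ (G *ᵥ y) := by
    intro x y
    rw [← QuadraticMap.polarBilin_apply_apply]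
    conv_lhs => rw [pi_eq_sum_univ' x, pi_eq_sum_univ' y]
    simp only [map_sum, map_smul, LinearMap.coe_sum, Finset.sum_apply, LinearMap.smul_apply, smul_eq_mul,
      QuadraticMap.polarBilin_apply_apply, dotProduct, mulVec, hG, Matrix.of_apply]
    simp only [Finset.mul_sum]
    rw [Finset.sum_comm]
    exact Finset.sum_congr rfl fun _ _ => Finset.sum_congr rfl fun _ _ => by ring
  have h2 : polar (⇑Q) (P *ᵥ v) (P *ᵥ v) = 2 * (c * ∑ i, v i * v i) := by
    rw [hpol, mulVec_mulVec, dotProduct_mulVec, vecMul_mulVec, ← dotProduct_mulVec, ← Matrix.mul_assoc, hPG]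
    simp only [dotProduct, mulVec_diagonal, Finset.mul_sum]
    exact Finset.sum_congr rfl fun _ _ => by ring
  rw [CfsgLib.PolarVec.polar_self] at h2
  exact mul_left_cancel₀ (by decide) h2

include hQ hc hQn in
/-- The projective reflection group. -/
theorem proj_omega :
    Nonempty ((↥(Cfsg.reflectionSubgroup (⇑Q) c) ⧸ Subgroup.center ↥(Cfsg.reflectionSubgroup (⇑Q) c)) ≃*
      Cfsg.POmega K3 (Cfsg.quadFormOdd 3 K3)) ∧
    Nat.card (↥(Cfsg.reflectionSubgroup (⇑Q) c) ⧸ Subgroup.center ↥(Cfsg.reflectionSubgroup (⇑Q) c)) = 4585351680 := by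
  classical
  obtain ⟨P, hP, hfr⟩ := exists_frame7 Q hQ hc
  have hPu : IsUnit P.det := isUnit_iff_ne_zero.mpr hP
  let e : (I7 → K3) ≃ₗ[K3] V := toSq.trans (Matrix.toLinearEquiv' P (Matrix.invertibleOfIsUnitDet P hPu))
  have he : ∀ v, Q (e v) = -c * Cfsg.quadFormOdd 3 K3 v := fun v => by
    rw [show -c * Cfsg.quadFormOdd 3 K3 v = c * -Cfsg.quadFormOdd 3 K3 v by ring, ← toSq_norm, ← hfr]; rfl
  set f := Cfsg.quadFormOdd 3 K3
  let Q' : QuadraticForm K3 (I7 → K3) := Q.comp e.toLinearMap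
  have hQ' : ∀ v, Q' v = -c * f v := he
  have hsame : Cfsg.isometryGroup K3 f = Cfsg.isometryGroup K3 (⇑Q') := by
    ext g
    constructor
    · intro hg v w
      show Q' _ = Q' _
      rw [hQ', hQ']
      exact congrArg (-c * ·) (hg v w)
    · intro hg v w
      exact mul_left_cancel₀ (neg_ne_zero.mpr hc) ((hQ' _).symm.trans ((hg v w).trans (hQ' _)))
  let φ : Cfsg.isometryGroup K3 f ≃* Cfsg.isometryGroup K3 (⇑Q) :=
    (MulEquiv.subgroupCongr hsame).trans (((CfsgLib.SpinorMatrix.isoEquiv Q').trans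
      (CfsgLib.OmegaSylowTwo.quadIsoCongr Q' Q e fun v => rfl)).trans (CfsgLib.SpinorMatrix.isoEquiv Q).symm)
  have hO : Nat.card (Cfsg.isometryGroup K3 (⇑Q)) = 18341406720 := by
    rw [← Nat.card_congr φ.toEquiv, CfsgLib.OrthOrder.card_O_odd (by rw [ZMod.card]; decide) 3, ZMod.card]
    decide
  set O := Cfsg.isometryGroup K3 (⇑Q)
  set R := Cfsg.reflectionSubgroup (⇑Q) c with hR
  have hcardR : Nat.card R = 9170703360 := by
    have e1 := Subgroup.card_mul_index R
    rw [refl_index hQn (by norm_num) hc, hO] at e1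
    omega
  haveI hRn : R.Normal := Subgroup.normal_of_index_eq_two (refl_index hQn (by norm_num) hc)
  have hRef : ∀ g : O, ∀ v, Q v = c → IsRefl Q g v → g ∈ R :=
    fun g v hv hr => Subgroup.subset_closure ⟨v, hv, (isRefl_iff hr.1).mp hr⟩
  have hPnorm : ∀ i : Fin 7, Q (P *ᵥ Pi.single i 1) = c := fun i => by
    rw [hfr, (by decide : ∀ i : Fin 7, ∑ j, (Pi.single i 1 : V) j * (Pi.single i 1 : V) j = 1) i, mul_one]
  -- a central element acts as a sign
  have hscalar : ∀ z ∈ Subgroup.center R, ∃ t : K3, t * t = 1 ∧ ∀ x, z.1.1.1 *ᵥ x = t • x := by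
    intro z hz
    have hsign : ∀ v, Q v = c → ∃ s : K3, s * s = 1 ∧ z.1.1.1 *ᵥ v = s • v := by
      intro v hv
      obtain ⟨r, hr⟩ := IsRefl.exists (show Q v ≠ 0 from hv ▸ hc)
      have e : z.1 * r * z.1⁻¹ = r := mul_inv_eq_iff_eq_mul.mpr
        (congrArg Subtype.val (Subgroup.mem_center_iff.mp hz ⟨r, hRef r v hv hr⟩)).symm
      have h2 := (e ▸ hr.conj (g := z.1) : IsRefl Q r (z.1.1.1 *ᵥ v)).2 v
      set w := z.1.1.1 *ᵥ v
      rw [hr.2, show Q w = c from (iso_map Q z.1 v).trans hv, hv, inv_three hc, polar_self_two, hv] at h2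
      have hcc : c * c = 1 := (by decide : ∀ c : K3, c ≠ 0 → c * c = 1) c hc
      rw [show -(c * (2 * c)) = 1 from by linear_combination (-2) * hcc + (-1) * three_zero, one_smul] at h2
      set t := -(c * polar (⇑Q) w v)
      have hv' : v = t • w := add_left_cancel h2
      have htt : t * t = 1 := by
        have := congrArg Q hv'
        rw [QuadraticMap.map_smul, hv, show Q w = c from (iso_map Q z.1 v).trans hv, smul_eq_mul] at this
        linear_combination (-c) * this + (1 - t * t) * hcc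
      exact ⟨t, htt, by conv_rhs => rw [hv', smul_smul, htt, one_smul]⟩
    choose! s hss hs using hsign
    have hstep : ∀ u v, Q u = c → Q v = c → polar (⇑Q) u v ≠ 0 → s u = s v := by
      intro u v hu hv huv
      have e := polar_map Q z.1 u v
      rw [hs u hu, hs v hv, polar_smul_left, polar_smul_right, smul_eq_mul, smul_eq_mul, ← mul_assoc] at e
      have h1 : s u * s v = 1 := mul_right_cancel₀ huv (by rw [one_mul]; exact e)
      calc s u = s u * (s v * s v) := by rw [hss v hv, mul_one]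
        _ = s v := by rw [← mul_assoc, h1, one_mul]
    refine ⟨s (P *ᵥ Pi.single 0 1), hss _ (hPnorm 0), fun x => ?_⟩
    have hall : ∀ i : Fin 7, s (P *ᵥ Pi.single i 1) = s (P *ᵥ Pi.single 0 1) := by
      intro i
      by_cases h : polar (⇑Q) (P *ᵥ Pi.single i 1) (P *ᵥ Pi.single 0 1) = 0
      · obtain ⟨w, hw, h1, h2⟩ := exists_linking hQn (by norm_num) hc (hPnorm i) (hPnorm 0) h
        exact (hstep _ w (hPnorm i) hw h1).trans (hstep w _ hw (hPnorm 0) h2)
      · exact hstep _ _ (hPnorm i) (hPnorm 0) h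
    have hm : z.1.1.1 * P = s (P *ᵥ Pi.single 0 1) • P := Matrix.ext_of_mulVec_single fun i => by
      rw [← mulVec_mulVec, hs _ (hPnorm i), hall i, Matrix.smul_mulVec]
    obtain ⟨y, rfl⟩ : ∃ y, P *ᵥ y = x := ⟨P⁻¹ *ᵥ x, by rw [mulVec_mulVec, Matrix.mul_nonsing_inv P hPu, one_mulVec]⟩
    rw [mulVec_mulVec, hm, Matrix.smul_mulVec]
  -- the sign change lies in the reflection group
  choose r hr using fun i : Fin 7 => IsRefl.exists (show Q (P *ᵥ Pi.single i 1) ≠ 0 from (hPnorm i).symm ▸ hc)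
  set m : O := r 0 * r 1 * r 2 * r 3 * r 4 * r 5 * r 6
  have hmR : m ∈ R := by
    have hh := fun i => hRef (r i) _ (hPnorm i) (hr i)
    exact mul_mem (mul_mem (mul_mem (mul_mem (mul_mem (mul_mem (hh 0) (hh 1)) (hh 2)) (hh 3)) (hh 4)) (hh 5)) (hh 6)
  have hact : ∀ i j : Fin 7, (r i).1.1 *ᵥ (P *ᵥ Pi.single j 1) =
      (if i = j then (-1 : K3) else 1) • (P *ᵥ Pi.single j 1) := by
    intro i j
    rw [(hr i).2, hPnorm i]
    have hp : polar (⇑Q) (P *ᵥ Pi.single i 1) (P *ᵥ Pi.single j 1) = if i = j then 2 * c else 0 := by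
      simp only [polar, ← mulVec_add, hfr]
      have hd : ∀ i j : Fin 7, (∑ k, (Pi.single i 1 + Pi.single j 1 : V) k * (Pi.single i 1 + Pi.single j 1 : V) k) -
          (∑ k, (Pi.single i 1 : V) k * (Pi.single i 1 : V) k) - (∑ k, (Pi.single j 1 : V) k * (Pi.single j 1 : V) k) =
          if i = j then 2 else 0 := by decide +kernel
      rw [← mul_sub, ← mul_sub, hd]
      split <;> ring
    rw [hp, inv_three hc]
    by_cases h : i = j
    · subst h
      rw [if_pos rfl, if_pos rfl, show -(c * (2 * c)) = -2 by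
        linear_combination (-2 : K3) * ((by decide : ∀ c : K3, c ≠ 0 → c * c = 1) c hc)]
      conv_lhs => rw [← one_smul K3 (P *ᵥ Pi.single i 1), smul_smul, ← add_smul]
      congr 1
    · rw [if_neg h, if_neg h, mul_zero, neg_zero, zero_smul, add_zero, one_smul]
  have hmm : m.1.1 = -1 := by
    have : m.1.1 * P = -P := Matrix.ext_of_mulVec_single fun j => by
      rw [← mulVec_mulVec]
      simp only [m, iso_mul, hact, mulVec_smul, smul_smul, Matrix.neg_mulVec]
      rw [(by decide : ∀ j : Fin 7, ((if (6 : Fin 7) = j then (-1 : K3) else 1) * ((if (5 : Fin 7) = j then (-1 : K3) else 1) * ((if (4 : Fin 7) = j then (-1 : K3) else 1) * ((if (3 : Fin 7) = j then (-1 : K3) else 1) * ((if (2 : Fin 7) = j then (-1 : K3) else 1) * ((if (1 : Fin 7) = j then (-1 : K3) else 1) * (if (0 : Fin 7) = j then (-1 : K3) else 1))))))) = -1) j, neg_one_smul]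
    calc m.1.1 = m.1.1 * P * P⁻¹ := (Matrix.mul_nonsing_inv_cancel_right P _ hPu).symm
      _ = -1 := by rw [this, neg_mul, Matrix.mul_nonsing_inv P hPu]
  set Om := Cfsg.Omega K3 (⇑Q)
  have hneg : ¬ CfsgLib.POmegaCard.NegMem K3 (⇑Q) := by
    rintro ⟨g, hg, hg1⟩
    let δ : O →* K3ˣ := Matrix.GeneralLinearGroup.det.comp O.subtype
    have h1 : δ g = 1 := MonoidHom.mem_ker.mp (Abelianization.commutator_subset_ker δ hg)
    have h1' : Matrix.GeneralLinearGroup.det g.1 = 1 := h1
    have h2 : g.1.1.det = 1 := by rw [← Matrix.GeneralLinearGroup.val_det_apply, h1', Units.val_one]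
    rw [hg1, Matrix.det_neg, Matrix.det_one, Fintype.card_fin] at h2
    revert h2; decide
  have hn5 : 5 ≤ Fintype.card (Fin 7) := by simp
  have hZ1 := ((CfsgLib.POmegaCard.card_center Q hn5 hQn).2 (by decide)).1 hneg
  have hOm : Nat.card Om = 4585351680 := by
    have h4 := ((CfsgLib.POmegaCard.main Q (⇑Q) (fun _ => rfl) hn5 hQn).2 (by decide)).1 hneg
    have := Subgroup.card_eq_card_quotient_mul_card_subgroup (Subgroup.center Om)
    rw [hZ1, mul_one] at this
    rw [this]
    rw [hO] at h4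
    exact Nat.eq_of_mul_eq_mul_left (show 0 < 4 by norm_num) h4
  have hOmR : Om ≤ R := by
    refine Subgroup.Normal.quotient_commutative_iff_commutator_le.mp ?_
    have hq : Nat.card (O ⧸ R) = 2 := by rw [← Subgroup.index]; exact refl_index hQn (by norm_num) hc
    haveI : Fact (Nat.Prime 2) := ⟨Nat.prime_two⟩
    haveI := isCyclic_of_prime_card hq
    exact ⟨⟨fun a b => IsCyclic.commGroup.mul_comm a b⟩⟩
  set ψ : Om →* R ⧸ Subgroup.center R :=
    (QuotientGroup.mk' (Subgroup.center R)).comp (Subgroup.inclusion hOmR)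
  have hψ : Function.Injective ψ := by
    rw [injective_iff_map_eq_one]
    intro w hw
    obtain ⟨t, ht, htx⟩ := hscalar _ ((QuotientGroup.eq_one_iff _).mp hw)
    have hw1 : w.1.1.1 = t • (1 : Matrix (Fin 7) (Fin 7) K3) := Matrix.ext_of_mulVec_single fun i =>
      (htx _).trans (by rw [Matrix.smul_mulVec, Matrix.one_mulVec])
    rcases (by decide : ∀ t : K3, t * t = 1 → t = 1 ∨ t = -1) t ht with rfl | rfl
    · rw [one_smul] at hw1
      exact Subtype.ext (Subtype.ext (Units.ext hw1))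
    · rw [neg_smul, one_smul] at hw1
      exact absurd ⟨w.1, w.2, hw1⟩ hneg
  have hZR : 2 ≤ Nat.card (Subgroup.center R) := by
    have hmc : (⟨m, hmR⟩ : R) ∈ Subgroup.center R := Subgroup.mem_center_iff.mpr fun g =>
      Subtype.ext (Subtype.ext (Units.ext (by
        show g.1.1.1 * m.1.1 = m.1.1 * g.1.1.1
        rw [hmm, mul_neg, mul_one, neg_mul, one_mul])))
    haveI : Nontrivial (Subgroup.center R) := ⟨⟨⟨_, hmc⟩, 1, fun q => by
      have h1 : m.1.1 = 1 := congrArg (fun z : Subgroup.center R => z.1.1.1.1) q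
      rw [hmm] at h1
      have := congrFun (congrFun h1 0) 0
      simp at this
      revert this; decide⟩⟩
    exact Finite.one_lt_card
  have hcard : Nat.card (R ⧸ Subgroup.center R) ≤ 4585351680 := by
    have e1 := Subgroup.card_eq_card_quotient_mul_card_subgroup (Subgroup.center R)
    rw [hcardR] at e1
    have := Nat.mul_le_mul_left (Nat.card (R ⧸ Subgroup.center R)) hZR
    omega
  have hcard' : Nat.card (R ⧸ Subgroup.center R) = 4585351680 :=
    le_antisymm hcard (hOm ▸ Nat.card_le_card_of_injective ψ hψ)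
  have hbot : Subgroup.center Om = ⊥ := Subgroup.eq_bot_of_card_eq _ hZ1
  let eψ := MulEquiv.ofBijective ψ (hψ.bijective_of_nat_card_le (by rw [hcard', hOm]))
  let φ' : Cfsg.Omega K3 f ≃* Om :=
    ((Cfsg.Omega K3 f).equivMapOfInjective φ.toMonoidHom φ.injective).trans (MulEquiv.subgroupCongr (by
      show (commutator _).map φ.toMonoidHom = commutator _
      rw [_root_.commutator_def, Subgroup.map_commutator, Subgroup.map_top_of_surjective φ.toMonoidHom φ.surjective,
        ← _root_.commutator_def]))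
  have hbot' : Subgroup.center (Cfsg.Omega K3 f) = ⊥ := by
    refine Subgroup.eq_bot_of_card_eq _ ?_
    rw [Nat.card_congr (Subgroup.centerCongr φ').toEquiv, hZ1]
  exact ⟨⟨eψ.symm.trans (φ'.symm.trans (QuotientGroup.quotientBot.symm.trans
    (QuotientGroup.quotientMulEquivOfEq hbot'.symm)))⟩, hcard'⟩

end CfsgThreeTrans.M22.ReflSeven
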