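/-
Transvections of U6(2) and the classes of 3-transpositions it contains.
-/
import Cfsg.Agent.Lib.UnitaryTransConj
import Cfsg.Agent.Lib.SpectrumPowers.UnitaryWitness
import Cfsg.Prelude.Def_FischerSpaces

set_option autoImplicit false
set_option linter.unusedSectionVars false

namespace CfsgThreeTrans.M22

open Matrix CfsgLib CfsgLib.UnitaryTransvection CfsgLib.UnitarySimple

variable {F : Type*} [Field F] [Fintype F] [DecidableEq F] (hF : Fintype.card F = 2 ^ 2)

local notation "h" => Cfsg.hermForm 6 F 2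
local notation "σ" => frob hF
local notation "V" => (Fin 6 → F)

include hF

theorem two_zero : (2 : F) = 0 := by
  have h4 : ((Fintype.card F : ℕ) : F) = 0 := Nat.cast_card_eq_zero F
  have h22 : (2 : F) * 2 = 0 := by rw [hF] at h4; linear_combination (norm := (push_cast; ring)) h4
  exact mul_self_eq_zero.mp h22

theorem add_self (a : F) : a + a = 0 := by linear_combination a * two_zero hF

theorem vadd_self (a : V) : a + a = 0 := funext fun _ => add_self hF _

theorem cube {l : F} (hl : l ≠ 0) : l ^ 3 = 1 := by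
  have := FiniteField.pow_card_sub_one_eq_one l hl
  rwa [hF] at this

theorem norm_one {l : F} (hl : l ≠ 0) : l * σ l = 1 := by
  rw [frob_apply, ← pow_succ']
  exact cube hF hl

theorem fixed {a : F} (ha : σ a = a) : a = 0 ∨ a = 1 := by
  rw [frob_apply] at ha
  exact or_iff_not_imp_left.mpr fun h0 => by
    have : a * a = a * 1 := by rw [mul_one, ← pow_two]; exact ha
    exact mul_left_cancel₀ h0 this

theorem norm_fix {l : F} (hl : l ≠ 0) : σ l * l = 1 := by rw [mul_comm]; exact norm_one hF hl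

/-- The transvection at an isotropic vector. -/
noncomputable def tu (u : V) : Cfsg.SU 6 F 2 :=
  if hu : h u u = 0 then tv hF u hu 1 (by rw [map_one]; exact add_self hF 1) else 1

theorem tu_mulVec {u : V} (hu : h u u = 0) (x : V) : mat (tu hF u) *ᵥ x = x + h x u • u := by
  rw [tu, dif_pos hu, tv_mulVec, one_mul]

theorem h_zero_right (x : V) : h x 0 = 0 := by simp [Cfsg.hermForm]

theorem h_zero_left (x : V) : h 0 x = 0 := by simp [Cfsg.hermForm]

theorem tu_sq {u : V} (hu : h u u = 0) : tu hF u * tu hF u = 1 := su_ext fun x => by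
  rw [mat_mul, ← mulVec_mulVec, tu_mulVec hF hu, tu_mulVec hF hu, mat_one, one_mulVec, h_add_left, h_smul_left, hu,
    mul_zero, add_zero, add_assoc, ← add_smul, add_self hF, zero_smul, add_zero]

theorem tu_inv {u : V} (hu : h u u = 0) : (tu hF u)⁻¹ = tu hF u := inv_eq_of_mul_eq_one_right (tu_sq hF hu)

theorem tu_smul {u : V} (hu : h u u = 0) {a : F} (ha : a ≠ 0) : tu hF (a • u) = tu hF u := by
  have hau : h (a • u) (a • u) = 0 := by rw [h_smul_left, h_smul_right hF, hu, mul_zero, mul_zero]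
  refine su_ext fun x => ?_
  rw [tu_mulVec hF hau, tu_mulVec hF hu, smul_smul, h_smul_right hF, mul_right_comm, norm_fix hF ha, one_mul]

theorem tu_conj (g : Cfsg.SU 6 F 2) {u : V} (hu : h u u = 0) : g * tu hF u * g⁻¹ = tu hF (mat g *ᵥ u) := by
  have hgu : h (mat g *ᵥ u) (mat g *ᵥ u) = 0 := by rw [su_h, hu]
  rw [tu, dif_pos hu, conj_tv, tu, dif_pos hgu]

theorem exists_dual {u : V} (hu0 : u ≠ 0) : ∃ y, h y u = 1 := by
  obtain ⟨y, -, hy⟩ := exists_partner (n := 6) hF hu0
  exact ⟨y, hy⟩

theorem tu_point {u w : V} (hu : h u u = 0) (hu0 : u ≠ 0) (hw : h w w = 0) (e : tu hF u = tu hF w) :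
    ∃ a : F, u = a • w := by
  obtain ⟨y, hy⟩ := exists_dual hF hu0
  have := congrArg (fun g => mat g *ᵥ y) e
  simp only [tu_mulVec hF hu, tu_mulVec hF hw, hy, one_smul] at this
  exact ⟨h y w, add_left_cancel this⟩

theorem tu_commute {u w : V} (hu : h u u = 0) (hw : h w w = 0) (huw : h u w = 0) :
    Commute (tu hF u) (tu hF w) := by
  have hwu : h w u = 0 := by rw [← h_swap hF u w, huw, map_zero]
  refine su_ext fun x => ?_
  rw [mat_mul, mat_mul, ← mulVec_mulVec, ← mulVec_mulVec, tu_mulVec hF hu, tu_mulVec hF hw, tu_mulVec hF hu,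
    tu_mulVec hF hw, h_add_left, h_add_left, h_smul_left, h_smul_left, huw, hwu, mul_zero, mul_zero, add_zero,
    add_zero]
  abel

theorem of_tu_commute {u w : V} (hu : h u u = 0) (hu0 : u ≠ 0) (hw : h w w = 0)
    (e : Commute (tu hF u) (tu hF w)) : h u w = 0 := by
  by_contra hne
  have h1 : tu hF (mat (tu hF w) *ᵥ u) = tu hF u := by
    rw [← tu_conj hF _ hu, ← e.eq, mul_inv_cancel_right]
  obtain ⟨a, ha⟩ := tu_point hF (by rw [su_h, hu]) (mat_ne_zero _ hu0) hu h1
  rw [tu_mulVec hF hw] at ha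
  have h3 := congrArg (fun v => h v u) ha
  simp only [h_add_left, h_smul_left, hu, mul_zero, zero_add] at h3
  rw [← h_swap hF u w] at h3
  exact hne ((mul_eq_zero.mp h3).elim id fun h4 => by simpa using h4)

local notation "Z" => Subgroup.center (Cfsg.SU 6 F 2)
local notation "π" => QuotientGroup.mk' (Subgroup.center (Cfsg.SU 6 F 2))

theorem center_cube {z : Cfsg.SU 6 F 2} (hz : z ∈ Z) : z ^ 3 = 1 := by
  obtain ⟨t, ht⟩ := (SpectrumPowers.mk_eq_one_iff_SU hF (by norm_num) z).mp ((QuotientGroup.eq_one_iff z).mpr hz)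
  have ht0 : t ≠ 0 := by
    rintro rfl
    have := z.1.2
    simp [ht] at this
  refine Subtype.ext (Subtype.ext ?_)
  show z.1.1 ^ 3 = 1
  rw [ht, ← map_pow, cube hF ht0, map_one]

theorem mk_inj {g k : Cfsg.SU 6 F 2} (hg : g * g = 1) (hk : k * k = 1) (e : π g = π k) : g = k := by
  obtain ⟨z, hz, rfl⟩ := (QuotientGroup.mk'_eq_mk' _).mp e.symm
  have hz2 : z * z = 1 := by
    calc z * z = (k * k) * (z * z) := by rw [hk, one_mul]
      _ = k * ((k * z) * z) := by simp only [mul_assoc]
      _ = k * ((z * k) * z) := by rw [Subgroup.mem_center_iff.mp hz k]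
      _ = k * z * (k * z) := by simp only [mul_assoc]
      _ = 1 := hg
  have h3 := center_cube hF hz
  rw [pow_succ, pow_two, hz2, one_mul] at h3
  rw [h3, mul_one]

theorem of_mk_commute {g k : Cfsg.SU 6 F 2} (hk : k * k = 1) (e : Commute (π g) (π k)) : Commute g k := by
  have h1 := mk_inj hF (g := g * k * g⁻¹) (k := k)
    (by rw [show g * k * g⁻¹ * (g * k * g⁻¹) = g * (k * k) * g⁻¹ by group, hk]; group) hk
    (by rw [map_mul, map_mul, map_inv, e.eq, mul_inv_cancel_right])
  exact mul_inv_eq_iff_eq_mul.mp h1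

theorem exists_lift {e : Cfsg.PSU 6 F 2} (he : e * e = 1) : ∃ A : Cfsg.SU 6 F 2, A * A = 1 ∧ π A = e := by
  obtain ⟨A, rfl⟩ := QuotientGroup.mk'_surjective Z e
  refine ⟨A ^ 3, ?_, ?_⟩
  · rw [← pow_add, show 3 + 3 = 2 * 3 from rfl, pow_mul, pow_two]
    exact center_cube hF ((QuotientGroup.eq_one_iff _).mp (by rw [← map_mul] at he; exact he))
  · rw [map_pow, pow_succ, pow_two, he, one_mul]

/-- The witness against involutions of rank above one. -/
theorem five_bad {A : Cfsg.SU 6 F 2} (hA : A * A = 1) {x y : V} (hxx : h x x = 0) (hyy : h y y = 0)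
    (hxy : h x y = 0) (b1 : h (mat A *ᵥ x) x = 1) (b2 : h (mat A *ᵥ x) y = 1) (b3 : h (mat A *ᵥ y) y = 0) :
    ∃ g : Cfsg.SU 6 F 2, ∀ k, k = 1 ∨ k = 2 ∨ k = 3 → (π (A * (g * A * g⁻¹))) ^ k ≠ 1 := by
  set U := mat A *ᵥ x with hU
  set W := mat A *ᵥ y with hW
  set g := tu hF x * tu hF y with hg
  refine ⟨g, ?_⟩
  have hginv : g⁻¹ = g := by
    rw [hg, _root_.mul_inv_rev, tu_inv hF hxx, tu_inv hF hyy, (tu_commute hF hxx hyy hxy).eq]
  have hAinv : A⁻¹ = A := inv_eq_of_mul_eq_one_right hA
  have hAA : ∀ v, mat A *ᵥ (mat A *ᵥ v) = v := fun v => by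
    rw [mulVec_mulVec, ← mat_mul, hA, mat_one, one_mulVec]
  have hswap : ∀ a b, h (mat A *ᵥ a) b = h a (mat A *ᵥ b) := fun a b => by
    rw [← su_h A (mat A *ᵥ a) b, hAA]
  have hyx : h y x = 0 := by rw [← h_swap hF x y, hxy, map_zero]
  have UU : h U U = 0 := by rw [hU, su_h, hxx]
  have WW : h W W = 0 := by rw [hW, su_h, hyy]
  have UW : h U W = 0 := by rw [hU, hW, su_h, hxy]
  have WU : h W U = 0 := by rw [hU, hW, su_h, hyx]
  have Wx : h W x = 1 := by rw [hW, hswap, ← hU, ← h_swap hF, b2, map_one]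
  have xU : h x U = 1 := by rw [← h_swap hF, b1, map_one]
  have yU : h y U = 1 := by rw [← h_swap hF, b2, map_one]
  have xW : h x W = 1 := by rw [← h_swap hF, Wx, map_one]
  have yW : h y W = 0 := by rw [← h_swap hF, b3, map_zero]
  have hconj : A * (g * A * g⁻¹) = (tu hF U * tu hF W) * g := by
    rw [hU, hW, ← tu_conj hF A hxx, ← tu_conj hF A hyy, hginv, hAinv, hg]
    simp only [mul_assoc, show ∀ a : Cfsg.SU 6 F 2, A * (A * a) = a from fun a => by rw [← mul_assoc, hA, one_mul]]
  set C := A * (g * A * g⁻¹) with hC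
  have hCv : ∀ v, mat C *ᵥ v = mat (tu hF U) *ᵥ (mat (tu hF W) *ᵥ (mat (tu hF x) *ᵥ (mat (tu hF y) *ᵥ v))) := by
    intro v
    rw [hconj, hg]
    simp only [mat_mul, mulVec_mulVec, Matrix.mul_assoc]
  have h2 := two_zero hF
  have step : ∀ v, mat C *ᵥ v = v + h v y • y + h v x • x + (h v W + h v y * h y W + h v x * h x W) • W +
      (h v U + h v y * h y U + h v x * h x U) • U := by
    intro v
    rw [hCv, tu_mulVec hF hyy, tu_mulVec hF hxx, tu_mulVec hF WW, tu_mulVec hF UU]
    simp only [h_add_left, h_smul_left, hyx, mul_zero, add_zero, WU]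
  have CX : mat C *ᵥ x = x + U + W := by
    rw [step]; simp only [hxy, hxx, xW, xU]
    ext i; simp; ring
  have CY : mat C *ᵥ y = y + U := by
    rw [step]; simp only [hyy, hyx, yW, yU]
    ext i; simp
  have CU : mat C *ᵥ U = x + y + U + W := by
    rw [step]; simp only [b2, b1, UW, UU, yW, xW, yU, xU]
    ext i; simp; linear_combination (U i) * h2
  have CW : mat C *ᵥ W = x + U := by
    rw [step]; simp only [b3, Wx, WW, WU, yW, xW, yU, xU]
    ext i; simp; linear_combination (W i) * h2
  have C2 : mat C *ᵥ (mat C *ᵥ x) = x + y + U := by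
    rw [CX, mulVec_add, mulVec_add, CX, CU, CW]
    ext i; simp; linear_combination (x i + U i + W i) * h2
  have C3 : mat C *ᵥ (mat C *ᵥ (mat C *ᵥ x)) = U := by
    rw [C2, mulVec_add, mulVec_add, CX, CY, CU]
    ext i; simp; linear_combination (x i + y i + U i + W i) * h2
  intro k hk hk1
  rw [← map_pow] at hk1
  obtain ⟨t, ht⟩ := (SpectrumPowers.mk_eq_one_iff_SU hF (by norm_num) (C ^ k)).mp hk1
  have hval : mat (C ^ k) *ᵥ x = t • x := by
    show (C ^ k).1.1 *ᵥ x = _
    rw [ht]; ext i; simp [Matrix.scalar_apply, mulVec_diagonal]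
  rcases hk with rfl | rfl | rfl
  · rw [pow_one, CX] at hval
    have := congrArg (fun v => h v y) hval
    simp [h_add_left, h_smul_left, hxy, b2, b3] at this
  · rw [pow_two, mat_mul, ← mulVec_mulVec, C2] at hval
    have := congrArg (fun v => h v x) hval
    simp [h_add_left, h_smul_left, hxx, hyx, b1] at this
  · rw [pow_succ, pow_two, mat_mul, mat_mul, ← mulVec_mulVec, ← mulVec_mulVec, C3] at hval
    have := congrArg (fun v => h v x) hval
    simp [h_smul_left, hxx, b1] at this

/-- An involution whose conjugates have products of order at most three is a transvection. -/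
theorem rank_one {A : Cfsg.SU 6 F 2} (hA : A * A = 1) (hA1 : A ≠ 1)
    (h3 : ∀ g : Cfsg.SU 6 F 2, ∃ k, (k = 1 ∨ k = 2 ∨ k = 3) ∧ (π (A * (g * A * g⁻¹))) ^ k = 1) :
    ∃ u : V, u ≠ 0 ∧ h u u = 0 ∧ A = tu hF u := by
  classical
  have hAA : ∀ v, mat A *ᵥ (mat A *ᵥ v) = v := fun v => by
    rw [mulVec_mulVec, ← mat_mul, hA, mat_one, one_mulVec]
  set N : V → V := fun v => mat A *ᵥ v + v with hN
  have Nadd : ∀ a b, N (a + b) = N a + N b := fun a b => by simp only [hN, mulVec_add]; abel
  have Nsmul : ∀ (l : F) a, N (l • a) = l • N a := fun l a => by simp only [hN, mulVec_smul, smul_add]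
  have hswap : ∀ a b, h (mat A *ᵥ a) b = h a (mat A *ᵥ b) := fun a b => by
    rw [← su_h A (mat A *ᵥ a) b, hAA]
  have Nsym : ∀ a b, h (N a) b = h a (N b) := fun a b => by
    simp only [hN, h_add_left, h_add_right hF, hswap]
  have NN : ∀ a, N (N a) = 0 := fun a => by
    simp only [hN, mulVec_add, hAA]
    rw [add_comm (mat A *ᵥ a) a, vadd_self hF]
  have Niso : ∀ a b, h (N a) (N b) = 0 := fun a b => by rw [Nsym, NN, h_zero_right hF]
  set β : V → V → F := fun a b => h (N a) b with hβ
  have βswap : ∀ a b, σ (β a b) = β b a := fun a b => by simp only [hβ]; rw [h_swap hF, Nsym]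
  have hA' : ∀ v, mat A *ᵥ v = v + N v := fun v => by
    simp only [hN]
    rw [add_comm (mat A *ᵥ v) v, ← add_assoc, vadd_self hF, zero_add]
  obtain ⟨d, hd⟩ := exists_trace_one hF
  obtain ⟨v₀, hv₀⟩ : ∃ v, N v ≠ 0 := by
    by_contra hc
    push Not at hc
    exact hA1 (su_ext fun v => by rw [hA', hc, add_zero, mat_one, one_mulVec])
  obtain ⟨e, he⟩ : ∃ e, β e e = 1 := by
    by_contra hc
    push Not at hc
    have hz : ∀ a, β a a = 0 := fun a => (fixed hF (βswap a a)).resolve_right (hc a)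
    obtain ⟨b, hb⟩ := exists_dual hF hv₀
    have hb' : β v₀ b = 1 := by simp only [hβ]; rw [← h_swap hF, hb, map_one]
    have := hz (d • v₀ + b)
    simp only [hβ] at this hb' hz
    rw [Nadd, Nsmul, h_add_left, h_smul_left, h_add_right hF, h_add_right hF, h_smul_right hF, h_smul_right hF,
      hz v₀, hz b, mul_zero, zero_add, add_zero, hb',
      show h (N b) v₀ = 1 by rw [Nsym, hb], mul_one, mul_one, add_comm, hd] at this
    exact one_ne_zero this
  by_cases hall : ∀ v, N v = β v e • N e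
  · refine ⟨N e, fun h0 => hv₀ (by rw [hall v₀, h0, smul_zero]), Niso e e, su_ext fun v => ?_⟩
    rw [hA', tu_mulVec hF (Niso e e), hall v]
    simp only [hβ, Nsym]
  exfalso
  push Not at hall
  obtain ⟨v, hv⟩ := hall
  -- a second orthonormal vector for the form
  have hperp : ∀ v, β (v + β v e • e) e = 0 := fun v => by
    simp only [hβ, Nadd, Nsmul, h_add_left, h_smul_left]
    simp only [hβ] at he
    rw [he, mul_one, add_self hF]
  obtain ⟨f, hfe, hff⟩ : ∃ f, β f e = 0 ∧ β f f = 1 := by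
    by_contra hc
    push Not at hc
    have hz : ∀ a, β a e = 0 → β a a = 0 := fun a ha => (fixed hF (βswap a a)).resolve_right (hc a ha)
    set a := v + β v e • e
    have hNa : N a ≠ 0 := fun h0 => hv (by
      rw [Nadd, Nsmul] at h0
      calc N v = N v + (β v e • N e + β v e • N e) := by rw [vadd_self hF, add_zero]
        _ = β v e • N e := by rw [← add_assoc, h0, zero_add])
    obtain ⟨b, hb⟩ := exists_dual hF hNa
    set b' := b + β b e • e
    have hab : β a b' = 1 := by
      have h1 : β a b = 1 := by simp only [hβ]; rw [← h_swap hF, hb, map_one]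
      have h2 : β a e = 0 := hperp v
      simp only [hβ] at h1 h2 ⊢
      rw [h_add_right hF, h_smul_right hF, h1, h2, mul_zero, add_zero]
    have hae : β a e = 0 := hperp v
    have hbe : β b' e = 0 := hperp b
    have := hz (d • a + b') (by
      simp only [hβ, Nadd, Nsmul, h_add_left, h_smul_left] at hae hbe ⊢
      rw [hae, hbe, mul_zero, add_zero])
    have hba : β b' a = 1 := by rw [← βswap, hab, map_one]
    have za := hz a hae
    have zb := hz b' hbe
    simp only [hβ] at this hab hba za zb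
    clear_value b' a
    simp only [Nadd, Nsmul, h_add_left, h_smul_left, h_add_right hF, h_smul_right hF,
      za, zb, hab, hba, mul_zero, zero_add, add_zero, mul_one] at this
    rw [hd] at this
    exact one_ne_zero this
  have hef : β e f = 0 := by rw [← βswap, hfe, map_zero]
  have hge : h (N e) e = 1 := he
  have hgf : h (N f) f = 1 := hff
  have hg1 : h (N e) f = 0 := hef
  have hg2 : h (N f) e = 0 := hfe
  -- make the pair totally isotropic
  set α := h e e * d with hα
  set μ := σ (h e (e + f) + α) with hμ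
  set ν := h (e + f) (e + f) * d - μ with hν
  set x := e + α • N e with hx
  set y := (e + f) + (μ • N e + ν • N f) with hy
  have hfix1 : σ (h e e) = h e e := h_swap hF e e
  have hfix2 : σ (h (e + f) (e + f)) = h (e + f) (e + f) := h_swap hF _ _
  have h2 := two_zero hF
  have nsw : ∀ a b, h a (N b) = h (N a) b := fun a b => (Nsym a b).symm
  have hxx : h x x = 0 := by
    simp only [hx, h_add_left, h_add_right hF, h_smul_left, h_smul_right hF, nsw, Niso, Nadd, Nsmul, NN, smul_zero,
      h_zero_left hF, hge, mul_one, mul_zero, add_zero]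
    rw [hα, map_mul, hfix1]
    linear_combination (h e e) * hd + (h e e) * h2
  have hyy : h y y = 0 := by
    have e1 : h (μ • N e + ν • N f) (μ • N e + ν • N f) = 0 := by
      simp only [h_add_left, h_add_right hF, h_smul_left, h_smul_right hF, Niso, mul_zero, add_zero]
    have e2 : h (μ • N e + ν • N f) (e + f) = μ + ν := by
      simp only [h_add_left, h_add_right hF, h_smul_left, hge, hgf, hg1, hg2, mul_one, mul_zero, add_zero, zero_add]
    have e3 : h (e + f) (μ • N e + ν • N f) = σ (μ + ν) := by rw [← h_swap hF, e2]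
    rw [hy, h_add_left, h_add_right hF, h_add_right hF _ (e + f), e1, e2, e3, hν, add_sub_cancel, map_mul, hfix2]
    linear_combination (h (e + f) (e + f)) * hd + (h (e + f) (e + f)) * h2
  have hxy : h x y = 0 := by
    have e1 : h x y = h e (e + f) + σ μ + α := by
      simp only [hx, hy, h_add_left, h_add_right hF, h_smul_left, h_smul_right hF, nsw, Niso, Nadd, Nsmul, NN,
        smul_zero, h_zero_left hF, hge, hg1,
        mul_one, mul_zero, add_zero]
      ring
    rw [e1, hμ, frob_frob]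
    linear_combination (h e (e + f) + α) * h2
  have hNx : N x = N e := by simp only [hx, Nadd, Nsmul, NN, smul_zero, add_zero]
  have hNy : N y = N e + N f := by simp only [hy, Nadd, Nsmul, NN, smul_zero, add_zero]
  have b1 : h (mat A *ᵥ x) x = 1 := by
    rw [hA', h_add_left, hxx, zero_add, hNx]
    simp only [hx, h_add_right hF, h_smul_right hF, Niso, hge, mul_zero, add_zero]
  have b2 : h (mat A *ᵥ x) y = 1 := by
    rw [hA', h_add_left, hxy, zero_add, hNx]
    simp only [hy, h_add_right hF, h_smul_right hF, Niso, hge, hg1, mul_zero, add_zero]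
  have b3 : h (mat A *ᵥ y) y = 0 := by
    rw [hA', h_add_left, hyy, zero_add, hNy]
    simp only [hy, h_add_left, h_add_right hF, h_smul_right hF, Niso, hge, hg1, hg2, hgf, mul_zero, add_zero,
      zero_add]
    exact add_self hF 1
  obtain ⟨g, hg⟩ := five_bad hF hA hxx hyy hxy b1 b2 b3
  obtain ⟨k, hk, hk1⟩ := h3 g
  exact hg k hk hk1

/-- A generating class of 3-transpositions of U6(2) consists of the transvections. -/
theorem class_transvections {E : Set (Cfsg.PSU 6 F 2)} (hE : Cfsg.IsThreeTranspositionSet E)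
    (hconj : ∀ g, ∀ a ∈ E, g * a * g⁻¹ ∈ E) (hgen : Subgroup.closure E = ⊤) :
    (∀ a ∈ E, ∃ u : V, u ≠ 0 ∧ h u u = 0 ∧ a = π (tu hF u)) ∧
      ∀ u : V, u ≠ 0 → h u u = 0 → π (tu hF u) ∈ E := by
  have h1 : ∀ a ∈ E, ∃ u : V, u ≠ 0 ∧ h u u = 0 ∧ a = π (tu hF u) := by
    intro a ha
    have ha1 : a ≠ 1 := fun e => by have := hE.1 a ha; rw [e, orderOf_one] at this; omega
    obtain ⟨A, hA, rfl⟩ := exists_lift hF (e := a) (by
      have := pow_orderOf_eq_one a
      rwa [hE.1 a ha, pow_two] at this)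
    obtain ⟨u, hu0, hu, rfl⟩ := rank_one hF hA (fun e => ha1 (by rw [e, map_one])) fun g => by
      rw [map_mul, map_mul, map_mul, map_inv]
      rcases hE.2 _ ha _ (hconj (π g) _ ha) with hh | hh
      · exact ⟨2, by simp, hh⟩
      · exact ⟨3, by simp, hh⟩
    exact ⟨u, hu0, hu, rfl⟩
  refine ⟨h1, fun w hw0 hw => ?_⟩
  by_contra hwE
  have hperp : ∀ a ∈ E, ∀ u : V, u ≠ 0 → h u u = 0 → a = π (tu hF u) → h u w = 0 := by
    intro a ha u hu0 hu e
    by_contra hne
    apply hwE
    subst e
    have hc := hconj (π (tu hF u * tu hF w)) _ ha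
    rw [← map_inv, ← map_mul, ← map_mul, tu_conj hF _ hu, mat_mul, ← mulVec_mulVec, tu_mulVec hF hw] at hc
    rw [tu_mulVec hF hu, h_add_left, h_smul_left, hu, zero_add, ← h_swap hF u w, norm_one hF hne, one_smul,
      add_assoc, add_comm (h u w • w) u, ← add_assoc, vadd_self hF, zero_add, tu_smul hF hw hne] at hc
    exact hc
  have hfix : ∀ g : Cfsg.SU 6 F 2, ∃ a : F, mat g *ᵥ w = a • w := by
    intro g
    have hg : π g ∈ Subgroup.closure E := hgen ▸ Subgroup.mem_top _
    suffices H : ∀ p ∈ Subgroup.closure E, ∀ g, π g = p → tu hF (mat g *ᵥ w) = tu hF w from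
      tu_point hF (by rw [su_h, hw]) (mat_ne_zero _ hw0) hw (H _ hg g rfl)
    intro p hp
    refine Subgroup.closure_induction (p := fun p _ => ∀ g, π g = p → tu hF (mat g *ᵥ w) = tu hF w) ?_ ?_ ?_ ?_ hp
    · intro a ha g hga
      obtain ⟨u, hu0, hu, e⟩ := h1 a ha
      rw [← tu_conj hF _ hw]
      refine mk_inj hF ?_ (tu_sq hF hw) ?_
      · rw [show g * tu hF w * g⁻¹ * (g * tu hF w * g⁻¹) = g * (tu hF w * tu hF w) * g⁻¹ by group, tu_sq hF hw]
        group
      · rw [map_mul, map_mul, map_inv, hga, e, ← map_mul, (tu_commute hF hu hw (hperp a ha u hu0 hu e)).eq, map_mul,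
          mul_inv_cancel_right]
    · intro g hg1
      rw [← tu_conj hF _ hw]
      have hz : g ∈ Z := (QuotientGroup.eq_one_iff g).mp hg1
      rw [← Subgroup.mem_center_iff.mp hz, mul_inv_cancel_right]
    · intro p q _ _ ihp ihq g hgpq
      obtain ⟨r, hr⟩ := QuotientGroup.mk'_surjective Z q
      have h1 := ihp (g * r⁻¹) (by rw [map_mul, map_inv, hr, hgpq, mul_inv_cancel_right])
      have h2 := ihq r hr
      rw [← tu_conj hF _ hw] at h1 h2 ⊢
      calc g * tu hF w * g⁻¹ = (g * r⁻¹) * (r * tu hF w * r⁻¹) * (g * r⁻¹)⁻¹ := by group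
        _ = tu hF w := by rw [h2, h1]
    · intro p _ ih g hgp
      have h1 := ih g⁻¹ (by rw [map_inv, hgp, inv_inv])
      rw [← tu_conj hF _ hw] at h1 ⊢
      conv_lhs => rw [← h1]
      group
  obtain ⟨y, hy0, hyy⟩ : ∃ y, h w y = 1 ∧ y ≠ 0 := by
    obtain ⟨y, hy, -⟩ := exists_partner (n := 6) hF hw0
    exact ⟨y, hy, fun e => one_ne_zero (α := F) (by rw [← hy, e, h_zero_right hF])⟩
  obtain ⟨s, -, hs, hy'⟩ : ∃ s : V, s ≠ 0 ∧ h s s = 0 ∧ h w s ≠ 0 := by
    obtain ⟨d, hd⟩ := exists_trace_one hF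
    refine ⟨y + (h y y * d) • w, fun e => ?_, ?_, ?_⟩
    · have := congrArg (fun v => h w v) e
      simp only [h_add_right hF, h_smul_right hF, hw, hy0, mul_zero, add_zero, h_zero_right hF] at this
      exact one_ne_zero this
    · have hyw : h y w = 1 := by rw [← h_swap hF, hy0, map_one]
      simp only [h_add_left, h_add_right hF, h_smul_left, h_smul_right hF, hw, hy0, hyw, mul_zero, add_zero, mul_one]
      rw [map_mul, h_swap hF y y]
      linear_combination (h y y) * hd + (h y y) * two_zero hF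
    · simp only [h_add_right hF, h_smul_right hF, hw, hy0, mul_zero, add_zero]
      exact one_ne_zero
  obtain ⟨a, ha⟩ := hfix (tu hF s)
  rw [tu_mulVec hF hs] at ha
  have := congrArg (fun v => h v w) ha
  simp only [h_add_left, h_smul_left, hw, mul_zero, zero_add] at this
  rw [← h_swap hF w s] at this
  exact hy' ((mul_eq_zero.mp this).elim id fun h4 => by simpa using h4)

end CfsgThreeTrans.M22
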