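/-
Five commuting transvections of U6(2) with trivial product, and the order of a transvection centraliser.
-/
import Cfsg.Agent.Lib.ThreeTrans.M22.Transv
import Cfsg.Agent.Lib.HermCount

set_option autoImplicit false
set_option linter.unusedSectionVars false

namespace CfsgThreeTrans.M22

open Matrix CfsgLib CfsgLib.UnitaryTransvection CfsgLib.UnitarySimple

variable {F : Type*} [Field F] [Fintype F] [DecidableEq F] (hF : Fintype.card F = 2 ^ 2)

local notation "h" => Cfsg.hermForm 6 F 2
local notation "σ" => frob hF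
local notation "V" => (Fin 6 → F)
local notation "π" => QuotientGroup.mk' (Subgroup.center (Cfsg.SU 6 F 2))

include hF

theorem mk_eq_iff {u w : V} (hu : h u u = 0) (hu0 : u ≠ 0) (hw : h w w = 0) :
    π (tu hF u) = π (tu hF w) ↔ ∃ a : F, u = a • w := by
  refine ⟨fun e => tu_point hF hu hu0 hw (mk_inj hF (tu_sq hF hu) (tu_sq hF hw) e), fun ⟨a, e⟩ => ?_⟩
  have ha : a ≠ 0 := fun h0 => hu0 (by rw [e, h0, zero_smul])
  rw [e, tu_smul hF hw ha]

theorem of_mk_tu_commute {u w : V} (hu : h u u = 0) (hu0 : u ≠ 0) (hw : h w w = 0)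
    (e : Commute (π (tu hF u)) (π (tu hF w))) : h u w = 0 :=
  of_tu_commute hF hu hu0 hw (of_mk_commute hF (tu_sq hF hw) e)

theorem exists_zeta : ∃ z : F, z ≠ 0 ∧ z ≠ 1 ∧ z * z + z + 1 = 0 ∧ σ z = z * z ∧
    ∀ a : F, a = 0 ∨ a = 1 ∨ a = z ∨ a = z * z := by
  obtain ⟨z, hz⟩ : ∃ z : F, z ∉ ({0, 1} : Finset F) := by
    by_contra hc
    push Not at hc
    have := Finset.card_le_card (s := Finset.univ) fun a _ => hc a
    rw [Finset.card_univ, hF] at this
    exact absurd (this.trans (Finset.card_le_two (a := (0 : F)) (b := 1))) (by norm_num)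
  simp only [Finset.mem_insert, Finset.mem_singleton, not_or] at hz
  obtain ⟨h0, h1⟩ := hz
  have h3 := cube hF h0
  have hq : z * z + z + 1 = 0 := (mul_eq_zero.mp (show (z - 1) * (z * z + z + 1) = 0 by
    linear_combination h3)).resolve_left (sub_ne_zero.mpr h1)
  refine ⟨z, h0, h1, hq, by rw [frob_apply, pow_two], fun a => ?_⟩
  by_cases ha : a = 0
  · exact Or.inl ha
  have ha3 := cube hF ha
  have h2 := two_zero hF
  have : (a - 1) * (a - z) * (a - z * z) = 0 := by
    linear_combination ha3 - (a ^ 2) * hq + a * z * hq - (1 : F) * h3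
  rcases mul_eq_zero.mp this with e | e
  · rcases mul_eq_zero.mp e with e | e
    · exact Or.inr (Or.inl (sub_eq_zero.mp e))
    · exact Or.inr (Or.inr (Or.inl (sub_eq_zero.mp e)))
  · exact Or.inr (Or.inr (Or.inr (sub_eq_zero.mp e)))

theorem five_mulVec {x y p q r : V} (hx : h x x = 0) (hy : h y y = 0) (hp : h p p = 0) (hq : h q q = 0)
    (hr : h r r = 0) (hxy : h x y = 0) (hxp : h x p = 0) (hxq : h x q = 0) (hxr : h x r = 0) (hyp : h y p = 0)
    (hyq : h y q = 0) (hyr : h y r = 0) (hpq : h p q = 0) (hpr : h p r = 0) (hqr : h q r = 0) (v : V) :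
    mat (tu hF x * tu hF y * tu hF p * tu hF q * tu hF r) *ᵥ v =
      v + (h v x • x + h v y • y + h v p • p + h v q • q + h v r • r) := by
  have sw : ∀ {a b : V}, h a b = 0 → h b a = 0 := fun {a b} e => by rw [← h_swap hF a b, e, map_zero]
  simp only [mat_mul, ← mulVec_mulVec, tu_mulVec hF hx, tu_mulVec hF hy, tu_mulVec hF hp, tu_mulVec hF hq,
    tu_mulVec hF hr, h_add_left, h_smul_left, sw hxy, sw hxp, sw hxq, sw hxr, sw hyp, sw hyq, sw hyr, sw hpq,
    sw hpr, sw hqr, mul_zero, add_zero]
  abel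

/-- The five points of a totally isotropic line. -/
theorem line_exists {x y : V} (hx : h x x = 0) (hy : h y y = 0) (hxy : h x y = 0) (hx0 : x ≠ 0) (hy0 : y ≠ 0)
    (hne : π (tu hF x) ≠ π (tu hF y)) :
    ∃ p q r : V, (∀ a ∈ [p, q, r], a ≠ 0 ∧ h a a = 0 ∧ h x a = 0 ∧ h y a = 0) ∧
      h p q = 0 ∧ h p r = 0 ∧ h q r = 0 ∧
      [π (tu hF x), π (tu hF y), π (tu hF p), π (tu hF q), π (tu hF r)].Nodup ∧
      tu hF x * tu hF y * tu hF p * tu hF q * tu hF r = 1 := by
  obtain ⟨z, z0, z1, hq, hσ, -⟩ := exists_zeta hF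
  have hyx : h y x = 0 := by rw [← h_swap hF x y, hxy, map_zero]
  have hind : ∀ a b : F, a • x + b • y = 0 → a = 0 ∧ b = 0 := by
    intro a b e
    by_cases ha : a = 0
    · refine ⟨ha, ?_⟩
      rw [ha, zero_smul, zero_add] at e
      exact (smul_eq_zero.mp e).resolve_right hy0
    · exfalso
      apply hne
      refine (mk_eq_iff hF hx hx0 hy).mpr ⟨-(a⁻¹ * b), ?_⟩
      have := congrArg (fun v => a⁻¹ • v) e
      simp only [smul_add, smul_smul, inv_mul_cancel₀ ha, one_smul, smul_zero] at this
      rw [neg_smul]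
      exact eq_neg_of_add_eq_zero_left this
  set w : F → V := fun c => x + c • y with hw
  have ww : ∀ c d, h (w c) (w d) = 0 := fun c d => by
    simp [hw, h_add_left, h_add_right hF, h_smul_left, h_smul_right hF, hx, hy, hxy, hyx]
  have xw : ∀ c, h x (w c) = 0 := fun c => by simp [hw, h_add_right hF, h_smul_right hF, hx, hxy]
  have yw : ∀ c, h y (w c) = 0 := fun c => by simp [hw, h_add_right hF, h_smul_right hF, hy, hyx]
  have w0 : ∀ c, w c ≠ 0 := fun c e => one_ne_zero (α := F) (hind 1 c (by simpa [hw] using e)).1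
  have wne : ∀ c d, c ≠ d → π (tu hF (w c)) ≠ π (tu hF (w d)) := by
    intro c d hcd e
    obtain ⟨a, ha⟩ := (mk_eq_iff hF (ww c c) (w0 c) (ww d d)).mp e
    obtain ⟨h1, h2⟩ := hind (1 - a) (c - a * d) (by
      rw [sub_smul, sub_smul, one_smul, mul_smul]
      simp only [hw, smul_add] at ha
      calc x - a • x + (c • y - a • d • y) = (x + c • y) - (a • x + a • d • y) := by abel
        _ = 0 := by rw [ha, sub_self])
    rw [← sub_eq_zero.mp h1, one_mul] at h2
    exact hcd (sub_eq_zero.mp h2)
  have xne : ∀ c, c ≠ 0 → π (tu hF x) ≠ π (tu hF (w c)) := by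
    intro c hc e
    obtain ⟨a, ha⟩ := (mk_eq_iff hF hx hx0 (ww c c)).mp e
    obtain ⟨h1, h2⟩ := hind (1 - a) (-(a * c)) (by
      rw [sub_smul, one_smul, neg_smul, mul_smul]
      simp only [hw, smul_add] at ha
      calc x - a • x + -(a • c • y) = x - (a • x + a • c • y) := by abel
        _ = 0 := by rw [← ha, sub_self])
    rw [← sub_eq_zero.mp h1, one_mul, neg_eq_zero] at h2
    exact hc h2
  have yne : ∀ c, π (tu hF y) ≠ π (tu hF (w c)) := by
    intro c e
    obtain ⟨a, ha⟩ := (mk_eq_iff hF hy hy0 (ww c c)).mp e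
    obtain ⟨h1, h2⟩ := hind (-a) (1 - a * c) (by
      rw [neg_smul, sub_smul, one_smul, mul_smul]
      simp only [hw, smul_add] at ha
      calc -(a • x) + (y - a • c • y) = y - (a • x + a • c • y) := by abel
        _ = 0 := by rw [← ha, sub_self])
    rw [neg_eq_zero.mp h1] at ha
    exact hy0 (ha.trans (by simp))
  have zz1 : z * z ≠ 1 := fun e => z0 (by linear_combination hq - e - two_zero hF)
  have zzz : z * z ≠ z := fun e => z1 (mul_left_cancel₀ z0 (by rw [e, mul_one]))
  refine ⟨w 1, w z, w (z * z), ?_, ww _ _, ww _ _, ww _ _, ?_, ?_⟩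
  · intro a ha
    simp only [List.mem_cons, List.not_mem_nil, or_false] at ha
    rcases ha with rfl | rfl | rfl <;> exact ⟨w0 _, ww _ _, xw _, yw _⟩
  · simp only [List.nodup_cons, List.mem_cons, List.not_mem_nil, or_false, not_or, List.nodup_nil, and_true,
      not_false_iff]
    exact ⟨⟨hne, xne 1 one_ne_zero, xne z z0, xne _ (mul_ne_zero z0 z0)⟩, ⟨yne _, yne _, yne _⟩,
      ⟨wne _ _ (Ne.symm z1), wne _ _ (Ne.symm zz1)⟩, wne _ _ (Ne.symm zzz)⟩
  · refine su_ext fun v => ?_
    rw [five_mulVec hF hx hy (ww _ _) (ww _ _) (ww _ _) hxy (xw _) (xw _) (xw _) (yw _) (yw _) (yw _) (ww _ _)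
      (ww _ _) (ww _ _), mat_one, one_mulVec]
    refine add_eq_left.mpr ?_
    simp only [hw, h_add_right hF, h_smul_right hF, map_one, map_mul, hσ]
    ext i
    simp only [Pi.add_apply, Pi.smul_apply, smul_eq_mul, Pi.zero_apply]
    have h2 := two_zero hF
    linear_combination (2 * h v x * x i + 2 * h v y * y i) * h2 + (h v x * y i) * hq +
      (h v y * x i) * (z * z - z + 1) * hq + (h v y * y i) * (z - 1) * (z ^ 3 + 2) * hq

/-- A product of five pairwise orthogonal transvections is trivial only on a line. -/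
theorem line_only {x y p q r : V} (hx : h x x = 0) (hy : h y y = 0) (hp : h p p = 0) (hq : h q q = 0)
    (hr : h r r = 0) (hxy : h x y = 0) (hxp : h x p = 0) (hxq : h x q = 0) (hxr : h x r = 0) (hyp : h y p = 0)
    (hyq : h y q = 0) (hyr : h y r = 0) (hpq : h p q = 0) (hpr : h p r = 0) (hqr : h q r = 0)
    (hx0 : x ≠ 0) (hne : π (tu hF x) ≠ π (tu hF y)) (hy0 : y ≠ 0) (hp0 : p ≠ 0) (hq0 : q ≠ 0) (hr0 : r ≠ 0)
    (hpqne : π (tu hF p) ≠ π (tu hF q)) (hprne : π (tu hF p) ≠ π (tu hF r)) (hqrne : π (tu hF q) ≠ π (tu hF r))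
    (hz : π (tu hF x * tu hF y * tu hF p * tu hF q * tu hF r) = 1) :
    ∀ a ∈ [p, q, r], ∃ c d : F, a = c • x + d • y := by
  classical
  have cm := fun {a b : V} (ha : h a a = 0) (hb : h b b = 0) (e : h a b = 0) => tu_commute hF ha hb e
  have h1 : tu hF x * tu hF y * tu hF p * tu hF q * tu hF r = 1 := by
    refine mk_inj hF ?_ (one_mul 1) (by rw [hz, map_one])
    have k1 := (cm hx hy hxy)
    have k2 := (cm hx hp hxp).mul_left (cm hy hp hyp)
    have k3 := ((cm hx hq hxq).mul_left (cm hy hq hyq)).mul_left (cm hp hq hpq)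
    have k4 := (((cm hx hr hxr).mul_left (cm hy hr hyr)).mul_left (cm hp hr hpr)).mul_left (cm hq hr hqr)
    rw [← pow_two, k4.mul_pow, k3.mul_pow, k2.mul_pow, k1.mul_pow]
    simp [pow_two, tu_sq hF hx, tu_sq hF hy, tu_sq hF hp, tu_sq hF hq, tu_sq hF hr]
  have hsum : ∀ v, h v x • x + h v y • y + h v p • p + h v q • q + h v r • r = 0 := by
    intro v
    have e := five_mulVec hF hx hy hp hq hr hxy hxp hxq hxr hyp hyq hyr hpq hpr hqr v
    rw [h1, mat_one, one_mulVec] at e
    exact add_eq_left.mp e.symm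
  have hpair : ∀ v w, h v x * h x w + h v y * h y w + h v p * h p w + h v q * h q w + h v r * h r w = 0 := by
    intro v w
    have := congrArg (fun u => h u w) (hsum v)
    simpa only [h_add_left, h_smul_left, h_zero_left hF] using this
  let f : V →ₗ[F] F × F :=
    { toFun := fun v => (h v x, h v y), map_add' := fun a b => by simp [h_add_left],
      map_smul' := fun c a => by simp [h_smul_left] }
  have hind : ∀ a b : F, a • x + b • y = 0 → a = 0 ∧ b = 0 := by
    intro a b e
    by_cases ha : a = 0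
    · refine ⟨ha, ?_⟩
      rw [ha, zero_smul, zero_add] at e
      exact (smul_eq_zero.mp e).resolve_right hy0
    · exfalso
      apply hne
      refine (mk_eq_iff hF hx hx0 hy).mpr ⟨-(a⁻¹ * b), ?_⟩
      have := congrArg (fun v => a⁻¹ • v) e
      simp only [smul_add, smul_smul, inv_mul_cancel₀ ha, one_smul, smul_zero] at this
      rw [neg_smul]
      exact eq_neg_of_add_eq_zero_left this
  obtain ⟨v₀, hv₀x, hv₀y⟩ : ∃ v, h v y = 0 ∧ h v x = 1 := by
    obtain ⟨v, hv⟩ := exists_dual hF hy0
    by_contra hc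
    push Not at hc
    have hall : ∀ u, h u y = 0 → h u x = 0 := fun u hu => by
      by_contra h0
      exact hc ((h u x)⁻¹ • u) (by rw [h_smul_left, hu, mul_zero]) (by rw [h_smul_left, inv_mul_cancel₀ h0])
    have hxy' : x + (-(σ (h v x))) • y = 0 := h_nondeg hF fun u => by
      have := hall (u + (-(h u y)) • v) (by rw [h_add_left, h_smul_left, hv]; ring)
      rw [h_add_left, h_smul_left] at this
      rw [← h_swap hF u (x + (-(σ (h v x))) • y), h_add_right hF, h_smul_right hF, map_neg, frob_frob,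
        show h u x + -h v x * h u y = 0 by linear_combination this, map_zero]
    exact one_ne_zero (hind 1 _ (by rw [one_smul]; exact hxy')).1
  obtain ⟨v₁, hv₁x, hv₁y⟩ : ∃ v, h v x = 0 ∧ h v y = 1 := by
    obtain ⟨v, hv⟩ := exists_dual hF hy0
    exact ⟨v + (-(h v x)) • v₀, by rw [h_add_left, h_smul_left, hv₀y]; ring,
      by rw [h_add_left, h_smul_left, hv₀x, hv]; ring⟩
  have hker : ∀ a : V, (∀ v, h v x = 0 → h v y = 0 → h v a = 0) → ∃ c d : F, a = c • x + d • y := by
    intro a ha
    refine ⟨σ (h v₀ a), σ (h v₁ a), sub_eq_zero.mp (h_nondeg hF fun u => ?_)⟩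
    have := ha (u + (-(h u x)) • v₀ + (-(h u y)) • v₁)
      (by rw [h_add_left, h_add_left, h_smul_left, h_smul_left, hv₀y, hv₁x]; ring)
      (by rw [h_add_left, h_add_left, h_smul_left, h_smul_left, hv₀x, hv₁y]; ring)
    rw [h_add_left, h_add_left, h_smul_left, h_smul_left] at this
    rw [← h_swap hF u, h_sub_right hF, h_add_right hF, h_smul_right hF, h_smul_right hF, frob_frob, frob_frob,
      show h u a - (h v₀ a * h u x + h v₁ a * h u y) = 0 by linear_combination this, map_zero]
  -- on the orthogonal complement the three functionals have dependent supports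
  have hK : ∀ v w, h v x = 0 → h v y = 0 → h v p * σ (h w p) + h v q * σ (h w q) + h v r * σ (h w r) = 0 := by
    intro v w e1 e2
    have := hpair v w
    rw [e1, e2, ← h_swap hF w p, ← h_swap hF w q, ← h_swap hF w r] at this
    linear_combination this
  -- two of the points outside and their difference inside is impossible
  have two : ∀ s t o : V, h s s = 0 → s ≠ 0 → h t t = 0 → t ≠ 0 → π (tu hF s) ≠ π (tu hF t) →
      (∀ v, h v x • x + h v y • y + h v o • o + h v s • s + h v t • t = 0) →
      (∀ v, h v x = 0 → h v y = 0 → h v o = 0) →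
      (∀ v w, h v x = 0 → h v y = 0 → h v s * σ (h w s) + h v t * σ (h w t) = 0) →
      ∀ v, h v x = 0 → h v y = 0 → h v t = 0 := by
    intro s t o hs hs0 ht ht0 hst hsum' ho hK' v e1 e2
    by_contra ht'
    obtain ⟨b, hb⟩ := exists_dual hF hs0
    have hvs : h v s ≠ 0 := fun e => ht' (by
      have := hK' v v e1 e2
      rw [e, zero_mul, zero_add] at this
      exact (mul_eq_zero.mp this).resolve_right fun e' => ht' (by simpa using e'))
    set c := h v s / h v t with hc
    have hrel : ∀ u, h u x = 0 → h u y = 0 → h u t = σ (h v s / h v t) * h u s := by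
      intro u u1 u2
      have := hK' v u e1 e2
      have h3 : σ (h u t) = c * σ (h u s) := by
        rw [hc]; field_simp; linear_combination this - (h v s * σ (h u s)) * two_zero hF
      have := congrArg σ h3
      rwa [frob_frob, map_mul, frob_frob, hc] at this
    obtain ⟨c', d', hcd⟩ := hker (t - c • s) fun u u1 u2 => by
      rw [h_sub_right hF, h_smul_right hF, hrel u u1 u2, hc, sub_self]
    obtain ⟨m, n, hmn⟩ := hker o ho
    set e := c' • x + d' • y with he
    have ht_eq : t = c • s + e := by rw [← hcd]; abel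
    have hc0 : c ≠ 0 := div_ne_zero hvs ht'
    have hzero : ∀ u, h u e = 0 := by
      intro u
      by_contra hue
      have hS := hsum' u
      have hcc := norm_fix hF hc0
      have e3 : h u t • t = h u s • s + (σ c * h u s) • e + (c * h u e) • s + h u e • e := by
        rw [ht_eq, h_add_right hF, h_smul_right hF]
        rw [smul_add, add_smul, add_smul, smul_smul, smul_smul, mul_right_comm, hcc, one_mul, mul_comm (h u e) c]
        abel
      rw [e3] at hS
      have e4 : (c * h u e) • s + ((h u x + h u o * m + σ c * h u s * c' + h u e * c') • x +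
          (h u y + h u o * n + σ c * h u s * d' + h u e * d') • y) = 0 := by
        have hd := vadd_self hF (h u s • s)
        calc _ = h u x • x + h u y • y + h u o • (m • x + n • y) + (h u s • s + h u s • s) +
              ((σ c * h u s) • e + (c * h u e) • s + h u e • e) := by
              rw [hd, he]; module
          _ = _ := by rw [← hmn]; rw [← hS]; abel
      obtain ⟨i, j, hij⟩ : ∃ i j : F, s = i • x + j • y := by
        refine ⟨-((c * h u e)⁻¹ * (h u x + h u o * m + σ c * h u s * c' + h u e * c')),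
          -((c * h u e)⁻¹ * (h u y + h u o * n + σ c * h u s * d' + h u e * d')), ?_⟩
        have := congrArg (fun z => (c * h u e)⁻¹ • z) e4
        simp only [smul_add, smul_smul, inv_mul_cancel₀ (mul_ne_zero hc0 hue), one_smul, smul_zero] at this
        rw [neg_smul, neg_smul, ← neg_add]
        exact eq_neg_of_add_eq_zero_left this
      apply hvs
      rw [hij, h_add_right hF, h_smul_right hF, h_smul_right hF, e1, e2, mul_zero, mul_zero, add_zero]
    have he0 : e = 0 := h_nondeg hF fun u => by rw [← h_swap hF u e, hzero u, map_zero]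
    exact hst ((mk_eq_iff hF hs hs0 ht).mpr ⟨c⁻¹, by rw [ht_eq, he0, add_zero, smul_smul, inv_mul_cancel₀ hc0,
      one_smul]⟩)
  have parity : ∀ v, h v x = 0 → h v y = 0 → ¬ (h v p ≠ 0 ∧ h v q ≠ 0 ∧ h v r ≠ 0) := by
    rintro v e1 e2 ⟨a, b, c⟩
    have := hK v v e1 e2
    rw [norm_one hF a, norm_one hF b, norm_one hF c] at this
    exact one_ne_zero (α := F) (by linear_combination this - two_zero hF)
  -- one of the three lies on the line
  have one : (∀ v, h v x = 0 → h v y = 0 → h v p = 0) ∨ (∀ v, h v x = 0 → h v y = 0 → h v q = 0) ∨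
      (∀ v, h v x = 0 → h v y = 0 → h v r = 0) := by
    by_contra hc
    simp only [not_or, not_forall] at hc
    obtain ⟨⟨vp, hp1, hp2, hp3⟩, ⟨vq, hq1, hq2, hq3⟩, ⟨vr, hr1, hr2, hr3⟩⟩ := hc
    by_cases hprop : ∀ v, h v x = 0 → h v y = 0 → h v p = 0 → h v q = 0
    · have hq' : h vp q = 0 := by
        by_contra hq'
        have hr' : h vp r = 0 := by
          by_contra hr'
          exact parity vp hp1 hp2 ⟨hp3, hq', hr'⟩
        by_cases e : h vr p = 0
        · have e' := hprop vr hr1 hr2 e
          have := hK vr vr hr1 hr2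
          simp only [e, e', zero_mul, zero_add, norm_one hF hr3] at this
          exact one_ne_zero this
        · by_cases e' : h vr q = 0
          · have := hK vp vr hp1 hp2
            simp [e', hr', hp3, e] at this
          · exact parity vr hr1 hr2 ⟨e, e', hr3⟩
      have := hprop (vq + (-(h vq p / h vp p)) • vp)
        (by rw [h_add_left, h_smul_left, hp1, hq1]; ring) (by rw [h_add_left, h_smul_left, hp2, hq2]; ring)
        (by rw [h_add_left, h_smul_left]; field_simp; ring)
      rw [h_add_left, h_smul_left, hq', mul_zero, add_zero] at this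
      exact hq3 this
    · push Not at hprop
      obtain ⟨v, e1, e2, e3, e4⟩ := hprop
      have hrel : ∀ w, σ (h w q) * h v q + h v r * σ (h w r) = 0 := fun w => by
        have := hK v w e1 e2
        rw [e3, zero_mul, zero_add] at this
        linear_combination this
      have hr' : h v r ≠ 0 := fun e => by
        have := hrel v
        rw [e, zero_mul, add_zero, norm_fix hF e4] at this
        exact one_ne_zero this
      by_cases eq : h vp q = 0
      · have := hrel vp
        rw [eq, map_zero, zero_mul, zero_add] at this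
        have er : h vp r = 0 := by simpa [hr'] using this
        have := hK vp vp hp1 hp2
        simp only [eq, er, zero_mul, add_zero, norm_one hF hp3] at this
        exact one_ne_zero this
      · refine parity vp hp1 hp2 ⟨hp3, eq, fun er => ?_⟩
        have := hrel vp
        rw [er, map_zero, mul_zero, add_zero] at this
        simp [eq, e4] at this
  have key : ∀ a ∈ [p, q, r], ∀ v, h v x = 0 → h v y = 0 → h v a = 0 := by
    rcases one with ho | ho | ho
    · have k := two q r p hq hq0 hr hr0 hqrne hsum ho fun v w e1 e2 => by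
        have := hK v w e1 e2; rw [ho v e1 e2, zero_mul, zero_add] at this; exact this
      intro a ha v e1 e2
      simp only [List.mem_cons, List.not_mem_nil, or_false] at ha
      rcases ha with rfl | rfl | rfl
      · exact ho v e1 e2
      · by_contra hne'
        have := hK v v e1 e2
        simp only [ho v e1 e2, k v e1 e2, zero_mul, zero_add, add_zero, norm_one hF hne'] at this
        exact one_ne_zero this
      · exact k v e1 e2
    · have k := two p r q hp hp0 hr hr0 hprne (fun v => by rw [← hsum v]; abel) ho fun v w e1 e2 => by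
        have := hK v w e1 e2; rw [ho v e1 e2, zero_mul, add_zero] at this; exact this
      intro a ha v e1 e2
      simp only [List.mem_cons, List.not_mem_nil, or_false] at ha
      rcases ha with rfl | rfl | rfl
      · by_contra hne'
        have := hK v v e1 e2
        simp only [ho v e1 e2, k v e1 e2, zero_mul, add_zero, norm_one hF hne'] at this
        exact one_ne_zero this
      · exact ho v e1 e2
      · exact k v e1 e2
    · have k := two p q r hp hp0 hq hq0 hpqne (fun v => by rw [← hsum v]; abel) ho fun v w e1 e2 => by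
        have := hK v w e1 e2; rw [ho v e1 e2, zero_mul, add_zero] at this; exact this
      intro a ha v e1 e2
      simp only [List.mem_cons, List.not_mem_nil, or_false] at ha
      rcases ha with rfl | rfl | rfl
      · by_contra hne'
        have := hK v v e1 e2
        simp only [ho v e1 e2, k v e1 e2, zero_mul, add_zero, norm_one hF hne'] at this
        exact one_ne_zero this
      · exact k v e1 e2
      · exact ho v e1 e2
  exact fun a ha => hker a (key a ha)

/-- Up to scalars a line has five points. -/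
theorem line_points {x y a : V} {c d : F} (hx : h x x = 0) (hy : h y y = 0) (hxy : h x y = 0) (ha0 : a ≠ 0)
    (e : a = c • x + d • y) :
    π (tu hF a) = π (tu hF x) ∨ π (tu hF a) = π (tu hF y) ∨
      ∃ f : F, f ≠ 0 ∧ π (tu hF a) = π (tu hF (x + f • y)) := by
  by_cases hd : d = 0
  · left
    rw [hd, zero_smul, add_zero] at e
    have hc : c ≠ 0 := fun h0 => ha0 (by rw [e, h0, zero_smul])
    rw [e, tu_smul hF hx hc]
  by_cases hc : c = 0
  · right; left
    rw [hc, zero_smul, zero_add] at e
    rw [e, tu_smul hF hy hd]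
  refine Or.inr (Or.inr ⟨d / c, div_ne_zero hd hc, ?_⟩)
  have hiso : h (x + (d / c) • y) (x + (d / c) • y) = 0 := by
    have hyx : h y x = 0 := by rw [← h_swap hF x y, hxy, map_zero]
    simp [h_add_left, h_add_right hF, h_smul_left, h_smul_right hF, hx, hy, hxy, hyx]
  rw [e, ← tu_smul hF hiso hc, smul_add, smul_smul, mul_div_cancel₀ _ hc]

/-- Two lists of three further points of a line agree. -/
theorem line_unique {x y p q r : V} (hx : h x x = 0) (hy : h y y = 0) (hxy : h x y = 0)
    (hnd : [π (tu hF x), π (tu hF y), π (tu hF p), π (tu hF q), π (tu hF r)].Nodup) (hp0 : p ≠ 0) (hq0 : q ≠ 0)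
    (hr0 : r ≠ 0) (hline : ∀ a ∈ [p, q, r], ∃ c d : F, a = c • x + d • y) {a : V} (ha0 : a ≠ 0)
    (ha : ∃ c d : F, a = c • x + d • y) (hax : π (tu hF a) ≠ π (tu hF x)) (hay : π (tu hF a) ≠ π (tu hF y)) :
    π (tu hF a) ∈ [π (tu hF p), π (tu hF q), π (tu hF r)] := by
  classical
  set Φ : Fˣ → Cfsg.PSU 6 F 2 := fun f => π (tu hF (x + (f : F) • y))
  have hcard : Fintype.card Fˣ = 3 := by rw [Fintype.card_units, hF]; norm_num
  have hmem : ∀ b : V, b ≠ 0 → (∃ c d : F, b = c • x + d • y) → π (tu hF b) ≠ π (tu hF x) →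
      π (tu hF b) ≠ π (tu hF y) → π (tu hF b) ∈ Finset.univ.image Φ := by
    rintro b hb0 ⟨c, d, e⟩ h1 h2
    rcases line_points hF hx hy hxy hb0 e with h3 | h3 | ⟨f, hf, h3⟩
    · exact absurd h3 h1
    · exact absurd h3 h2
    · exact Finset.mem_image.mpr ⟨Units.mk0 f hf, Finset.mem_univ _, h3.symm⟩
  simp only [List.nodup_cons, List.mem_cons, List.not_mem_nil, or_false, not_or, List.nodup_nil, and_true] at hnd
  obtain ⟨⟨-, nxp, nxq, nxr⟩, ⟨nyp, nyq, nyr⟩, ⟨npq, npr⟩, nqr, -⟩ := hnd
  set T : Finset (Cfsg.PSU 6 F 2) := {π (tu hF p), π (tu hF q), π (tu hF r)} with hT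
  have hsub : T ⊆ Finset.univ.image Φ := by
    intro t ht
    simp only [hT, Finset.mem_insert, Finset.mem_singleton] at ht
    rcases ht with rfl | rfl | rfl
    · exact hmem p hp0 (hline p (by simp)) (Ne.symm nxp) (Ne.symm nyp)
    · exact hmem q hq0 (hline q (by simp)) (Ne.symm nxq) (Ne.symm nyq)
    · exact hmem r hr0 (hline r (by simp)) (Ne.symm nxr) (Ne.symm nyr)
  have hTc : T.card = 3 := by
    rw [hT, Finset.card_insert_of_notMem (by
      rw [Finset.mem_insert, Finset.mem_singleton]; exact not_or.mpr ⟨npq, npr⟩), Finset.card_pair nqr]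
  have heq : T = Finset.univ.image Φ := Finset.eq_of_subset_of_card_le hsub (by
    rw [hTc]; exact Finset.card_image_le.trans (by rw [Finset.card_univ, hcard]))
  have := hmem a ha0 ha hax hay
  rw [← heq, hT] at this
  simpa using this

theorem card_SU : ¬ 49 ∣ Nat.card (Cfsg.SU 6 F 2) ∧ 7 * Nat.card {v : V // v ≠ 0 ∧ h v v = 0} ≠ 0 ∧
    7 ∣ Nat.card {v : V // v ≠ 0 ∧ h v v = 0} := by
  classical
  have hgu := UnitaryOrder.card_GU_eq (n := 6) hF (by norm_num)
  rw [UnitaryOrder.card_GU hF 6] at hgu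
  norm_num [Finset.prod_range_succ, Nat.even_iff, -Nat.card_eq_fintype_card] at hgu
  refine ⟨fun h49 => by obtain ⟨k, hk⟩ := h49; omega, ?_⟩
  have hA := HermCount.q_mul_A0 hF 6
  norm_num [-Nat.card_eq_fintype_card] at hA
  have hcard : Nat.card {v : V // v ≠ 0 ∧ h v v = 0} + 1 = HermCount.A0 F 2 6 := by
    unfold HermCount.A0
    rw [Nat.card_eq_fintype_card, Nat.card_eq_fintype_card, Fintype.card_subtype, Fintype.card_subtype,
      show (Finset.univ.filter fun v : V => h v v = 0) = insert 0 (Finset.univ.filter fun v : V => v ≠ 0 ∧ h v v = 0) by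
        ext v
        by_cases hv : v = 0
        · subst hv; simp [h_zero_left hF]
        · simp [hv],
      Finset.card_insert_of_notMem (by simp)]
  omega

/-- No element of order seven fixes an isotropic vector. -/
theorem no_seven {u : V} (hu0 : u ≠ 0) (hu : h u u = 0) {g : Cfsg.SU 6 F 2} (hg7 : g ^ 7 = 1)
    (hgu : mat g *ᵥ u = u) : g = 1 := by
  classical
  by_contra hg1
  haveI : Fact (Nat.Prime 7) := ⟨by norm_num⟩
  letI : MulAction (Cfsg.SU 6 F 2) V :=
    { smul := fun g v => mat g *ᵥ v
      one_smul := fun v => by show mat (1 : Cfsg.SU 6 F 2) *ᵥ v = v; rw [mat_one, one_mulVec]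
      mul_smul := fun a b v => by show mat (a * b) *ᵥ v = _; rw [mat_mul, ← mulVec_mulVec]; rfl }
  have h1 : 7 ∣ Nat.card (MulAction.stabilizer (Cfsg.SU 6 F 2) u) := by
    have ho := orderOf_eq_prime (p := 7) hg7 hg1
    have := Subgroup.orderOf_dvd_natCard (MulAction.stabilizer (Cfsg.SU 6 F 2) u) (show g ∈ _ from hgu)
    rwa [ho] at this
  have horb : Nat.card (MulAction.orbit (Cfsg.SU 6 F 2) u) = Nat.card {v : V // v ≠ 0 ∧ h v v = 0} := by
    refine Nat.card_congr (Equiv.setCongr (Set.ext fun v => ⟨?_, fun hv => ?_⟩))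
    · rintro ⟨k, rfl⟩
      exact ⟨mat_ne_zero _ hu0, by show h (mat k *ᵥ u) (mat k *ᵥ u) = 0; rw [su_h, hu]⟩
    · obtain ⟨k, hk⟩ := UnitaryTransConj.su_trans hF (by norm_num) hu0 hv.1 hu hv.2
      exact ⟨k, hk⟩
  have h49 := Nat.mul_dvd_mul h1 (card_SU hF).2.2
  have hidx : (MulAction.stabilizer (Cfsg.SU 6 F 2) u).index = Nat.card (MulAction.orbit (Cfsg.SU 6 F 2) u) := by
    exact (Nat.card_congr (MulAction.orbitEquivQuotientStabilizer (Cfsg.SU 6 F 2) u)).symm
  rw [← horb, ← hidx, Subgroup.card_mul_index] at h49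
  exact (card_SU hF).1 h49

/-- The centraliser of a transvection has no element of order seven. -/
theorem psu_no_seven {u : V} (hu0 : u ≠ 0) (hu : h u u = 0) {e : Cfsg.PSU 6 F 2} (he : e ^ 7 = 1)
    (hc : Commute e (π (tu hF u))) : e = 1 := by
  obtain ⟨g, rfl⟩ := QuotientGroup.mk'_surjective _ e
  have hz : g ^ 7 ∈ Subgroup.center (Cfsg.SU 6 F 2) := (QuotientGroup.eq_one_iff _).mp (by rw [← map_pow] at he; exact he)
  have hg21 : (g ^ 7) ^ 3 = 1 := center_cube hF hz
  have hk7 : (g ^ 15) ^ 7 = 1 := by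
    rw [← pow_mul, show 15 * 7 = 7 * 3 * 5 from rfl, pow_mul, pow_mul, hg21, one_pow]
  have hek : π (g ^ 15) = π g := by
    rw [map_pow, show 15 = 7 * 2 + 1 from rfl, pow_succ, pow_mul, he, one_pow, one_mul]
  have hcg := of_mk_commute hF (tu_sq hF hu) (g := g ^ 15) (k := tu hF u) (by rw [hek]; exact hc)
  have h1 : tu hF (mat (g ^ 15) *ᵥ u) = tu hF u := by rw [← tu_conj hF _ hu, hcg.eq, mul_inv_cancel_right]
  obtain ⟨a, ha⟩ := tu_point hF (by rw [su_h, hu]) (mat_ne_zero _ hu0) hu h1
  have hpow : ∀ n : ℕ, mat ((g ^ 15) ^ n) *ᵥ u = a ^ n • u := by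
    intro n
    induction n with
    | zero => rw [pow_zero, pow_zero, mat_one, one_mulVec, one_smul]
    | succ n ih => rw [pow_succ', mat_mul, ← mulVec_mulVec, ih, mulVec_smul, ha, smul_smul, ← pow_succ]
  have h7 := hpow 7
  rw [hk7, mat_one, one_mulVec] at h7
  have ha7 : a ^ 7 = 1 := by
    have := sub_smul (1 : F) (a ^ 7) u
    rw [one_smul, ← h7, sub_self] at this
    exact (sub_eq_zero.mp ((smul_eq_zero.mp this).resolve_right hu0)).symm
  have ha0 : a ≠ 0 := fun e => by rw [e] at ha7; norm_num at ha7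
  have ha1 : a = 1 := by
    have := cube hF ha0
    rw [show 7 = 3 * 2 + 1 from rfl, pow_succ, pow_mul, this, one_pow, one_mul] at ha7
    exact ha7
  rw [← hek, no_seven hF hu0 hu hk7 (by rw [ha, ha1, one_smul]), map_one]

end CfsgThreeTrans.M22
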