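/-
Factorisations into two or three commuting transpositions in groups of type M(22).
-/
import Cfsg.Agent.Lib.ThreeTrans.TypeM
import Cfsg.Agent.Lib.ThreeTrans.M22.Lines
import Cfsg.Agent.Lib.ThreeTrans.M22.Seven

set_option autoImplicit false
set_option linter.style.haveILetI false

namespace CfsgThreeTrans.M22

open Cfsg CfsgLib

universe u

variable {G : Type u} [Group G] [Finite G] {D : Set G}

/-- An element centralising a transposition, its partners and one further member is central. -/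
theorem central_of_commute (hD : IsThreeTranspositionClass D) (hp : IsPrimitiveUnderConj D)
    (hw : ∃ a ∈ D, ∃ b ∈ D, a ≠ b ∧ Commute a b) {t v z : G} (ht : t ∈ D) (hv : v ∈ D) (htv : ¬ Commute t v)
    (hzt : Commute z t) (hzv : Commute z v) (hzD : ∀ y ∈ Ds D t, Commute z y) : z ∈ Subgroup.center G := by
  set X : Set G := insert v {y : G | y ∈ D ∧ Commute t y} with hX
  have hXD : X ⊆ D := Set.insert_subset_iff.mpr ⟨hv, fun y hy => hy.1⟩
  have htop : Subgroup.closure X = ⊤ := by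
    rcases (partner_subgroup_maximal hD hp hw ht).2 (Subgroup.closure X)
      (le_antisymm ((Subgroup.closure_le _).mpr fun y hy => hy.2)
        ((Subgroup.closure_le _).mpr fun y hy => Subgroup.subset_closure ⟨hXD hy, Subgroup.subset_closure hy⟩))
      (Subgroup.closure_mono (Set.subset_insert _ _)) with h | h
    · exfalso
      have hle : Subgroup.closure {y : G | y ∈ D ∧ Commute t y} ≤ Subgroup.centralizer ({t} : Set G) :=
        (Subgroup.closure_le _).mpr fun y hy => Subgroup.mem_centralizer_singleton_iff.mpr hy.2.eq.symm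
      exact htv (Subgroup.mem_centralizer_singleton_iff.mp
        (hle (h ▸ Subgroup.subset_closure (Set.mem_insert v _))) : Commute v t).symm
    · exact h
  have hle : Subgroup.closure X ≤ Subgroup.centralizer ({z} : Set G) := by
    refine (Subgroup.closure_le _).mpr fun y hy => Subgroup.mem_centralizer_singleton_iff.mpr ?_
    rcases hy with rfl | ⟨hy, hty⟩
    · exact hzv.eq.symm
    · by_cases e : y = t
      · subst e; exact hzt.eq.symm
      · exact (hzD y ⟨hy, e, hty⟩).eq.symm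
  exact Subgroup.mem_center_iff.mpr fun g =>
    Subgroup.mem_centralizer_singleton_iff.mp (hle (htop ▸ Subgroup.mem_top g))

/-- The local data at the transposition `t`. -/
structure Data (D : Set G) (F : Type) [Field F] [Fintype F] [DecidableEq F] (hF : Fintype.card F = 2 ^ 2) where
  t : G
  c : G
  ht : t ∈ D
  hc : c ∈ D
  htc : ¬ Commute t c
  φ : ↥(Subgroup.closure (Ds D t)) →* PSU 6 F 2
  ker_φ : φ.ker = Subgroup.center ↥(Subgroup.closure (Ds D t))
  sur : Function.Surjective φ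
  seven : 7 ∣ Nat.card (↥(Subgroup.closure (Ds D t ∩ Ds D c)) ⧸
    Subgroup.center ↥(Subgroup.closure (Ds D t ∩ Ds D c)))
  comm : ∀ y ∈ Ds D t, ∀ y' ∈ Ds D t, ∀ (hy : y ∈ Subgroup.closure (Ds D t))
    (hy' : y' ∈ Subgroup.closure (Ds D t)), Commute (φ ⟨y, hy⟩) (φ ⟨y', hy'⟩) → Commute y y'
  inj : ∀ y ∈ Ds D t, ∀ y' ∈ Ds D t, ∀ (hy : y ∈ Subgroup.closure (Ds D t))
    (hy' : y' ∈ Subgroup.closure (Ds D t)), φ ⟨y, hy⟩ = φ ⟨y', hy'⟩ → y = y'
  pt : ∀ y ∈ Ds D t, ∀ hy : y ∈ Subgroup.closure (Ds D t),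
    ∃ u : Fin 6 → F, u ≠ 0 ∧ hermForm 6 F 2 u u = 0 ∧ φ ⟨y, hy⟩ = QuotientGroup.mk (tu hF u)
  lift : ∀ u : Fin 6 → F, u ≠ 0 → hermForm 6 F 2 u u = 0 →
    ∃ y, ∃ hy : y ∈ Subgroup.closure (Ds D t), y ∈ Ds D t ∧ φ ⟨y, hy⟩ = QuotientGroup.mk (tu hF u)

theorem exists_iso {F : Type} [Field F] [Fintype F] [DecidableEq F] (hF : Fintype.card F = 2 ^ 2) :
    ∃ u : Fin 6 → F, u ≠ 0 ∧ hermForm 6 F 2 u u = 0 :=
  UnitarySimple.exists_isotropic hF (by norm_num)

theorem exists_data (hD : IsThreeTranspositionClass D) (hp : IsPrimitiveUnderConj D) {d₀ : G} (hd₀ : d₀ ∈ D)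
    (h3 : pCore 3 ↥(Subgroup.closure (Ds D d₀)) ≤ Subgroup.center ↥(Subgroup.closure (Ds D d₀)))
    (h2 : pCore 2 ↥(Subgroup.closure (Ds D d₀)) ≤ Subgroup.center ↥(Subgroup.closure (Ds D d₀)))
    (h : IsOfTypeM22 G D) :
    ∃ (F : Type) (_ : Field F) (_ : Fintype F) (_ : DecidableEq F) (hF : Fintype.card F = 2 ^ 2),
      Nonempty (Data D F hF) := by
  obtain ⟨-, t, ht, c, hc, htc, ⟨F, iF, iFt, hF, ⟨e⟩⟩, c₃, hc₃, Q, -, hQ, ⟨eL⟩⟩ := h
  classical
  have hF' : Fintype.card F = 2 ^ 2 := by rw [hF]; norm_num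
  have hna : ∃ x ∈ Ds D t, ∃ y ∈ Ds D t, ¬ Commute x y := by
    refine noncommute_of_quot ?_
    obtain ⟨x, y, hxy⟩ := psu_not_commutative hF
    exact ⟨e.symm x, e.symm y, fun hh => hxy (e.symm.injective (by rw [map_mul, map_mul]; exact hh))⟩
  have hw : ∃ a ∈ D, ∃ b ∈ D, a ≠ b ∧ Commute a b := by
    obtain ⟨x, hx, -⟩ := hna
    exact ⟨_, ht, x, hx.1, hx.2.1.symm, hx.2.2⟩
  obtain ⟨c2, c3⟩ := cores_of_prim hD hp hw
  have hcls := partner_class hD (Ds_transitive_of_cores hD c2 c3 ht) (by obtain ⟨x, hx, -⟩ := hna; exact ⟨x, hx⟩)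
  have k2 := core_transfer hD hd₀ ht 2 h2
  set φ : ↥(Subgroup.closure (Ds D t)) →* PSU 6 F 2 :=
    e.toMonoidHom.comp (QuotientGroup.mk' (Subgroup.center ↥(Subgroup.closure (Ds D t)))) with hφ
  have hker : φ.ker = Subgroup.center ↥(Subgroup.closure (Ds D t)) := by
    ext x
    simp [hφ, MonoidHom.mem_ker, QuotientGroup.eq_one_iff]
  have hsur : Function.Surjective φ := e.surjective.comp (QuotientGroup.mk'_surjective _)
  have hne : ∀ a ∈ {x : ↥(Subgroup.closure (Ds D t)) | (x : G) ∈ Ds D t}, φ a ≠ 1 := fun a ha h1 =>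
    image_ne_one hcls hna a ha (e.injective (by rw [map_one]; exact h1))
  have hbar := map_class hcls φ hsur hne
  obtain ⟨hpt, hlift⟩ := class_transvections hF' hbar.1 (fun g a ha => cls_conj hbar g ha) hbar.2.2
  have hcomm : ∀ y ∈ Ds D t, ∀ y' ∈ Ds D t, ∀ (hy : y ∈ Subgroup.closure (Ds D t))
      (hy' : y' ∈ Subgroup.closure (Ds D t)), Commute (φ ⟨y, hy⟩) (φ ⟨y', hy'⟩) → Commute y y' := by
    intro y hy y' hy' my my' hc'
    by_contra hnc
    set Y : ↥(Subgroup.closure (Ds D t)) := ⟨y, my⟩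
    set Y' : ↥(Subgroup.closure (Ds D t)) := ⟨y', my'⟩
    have h3' : (Y * Y') ^ 3 = 1 := Subtype.ext (pow_three hD.1 hy.1 hy'.1 hnc)
    have hz : Y * Y' ∈ Subgroup.center ↥(Subgroup.closure (Ds D t)) := by
      rw [← hker, MonoidHom.mem_ker]
      have e2 : φ (Y * Y') ^ 2 = 1 := by
        rw [map_mul, hc'.mul_pow, ← map_pow, ← map_pow, show Y ^ 2 = 1 from Subtype.ext (by
          rw [pow_two]; exact mul_self hD.1 hy.1), show Y' ^ 2 = 1 from Subtype.ext (by
          rw [pow_two]; exact mul_self hD.1 hy'.1), map_one, one_mul]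
      have e3 : φ (Y * Y') ^ 3 = 1 := by rw [← map_pow, h3', map_one]
      rwa [pow_succ, e2, one_mul] at e3
    have := congrArg Subtype.val (Subgroup.mem_center_iff.mp hz Y)
    simp only [Y, Y', Subgroup.coe_mul] at this
    rw [← mul_assoc, mul_self hD.1 hy.1, one_mul] at this
    refine hnc ?_
    show y * y' = y' * y
    conv_rhs => rw [this]
    simp only [mul_assoc, mul_self hD.1 hy.1, mul_one]
  refine ⟨F, iF, iFt, Classical.decEq F, hF', ⟨⟨t, c, ht, hc, htc, φ, hker, hsur, ?_, hcomm, ?_, ?_, ?_⟩⟩⟩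
  · rw [Nat.card_congr eL.toEquiv]
    exact exists_seven Q hQ c₃ hc₃
  · intro y hy y' hy' my my' heq
    have hE2 : ∃ x ∈ {x : ↥(Subgroup.closure (Ds D t)) | (x : G) ∈ Ds D t},
        ∃ y ∈ {x : ↥(Subgroup.closure (Ds D t)) | (x : G) ∈ Ds D t}, x ≠ y := by
      obtain ⟨x, hx, y, hy, hxy⟩ := hna
      exact ⟨⟨x, Subgroup.subset_closure hx⟩, hx, ⟨y, Subgroup.subset_closure hy⟩, hy,
        fun h => hxy (by have e : x = y := congrArg Subtype.val h; rw [e])⟩
    refine congrArg Subtype.val (eq_of_mul_central (x := (⟨y, my⟩ : ↥(Subgroup.closure (Ds D t)))) (y := ⟨y', my'⟩)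
      hcls hE2 k2 hy hy' (Subtype.ext (hcomm y hy y' hy' my my' (by rw [heq])).eq) ?_)
    rw [← hker, MonoidHom.mem_ker, map_mul, heq, ← map_mul, show (⟨y', my'⟩ : ↥(Subgroup.closure (Ds D t))) *
      ⟨y', my'⟩ = 1 from Subtype.ext (mul_self hD.1 hy'.1), map_one]
  · intro y hy my
    obtain ⟨u, h0, h1, h4⟩ := hpt _ ⟨⟨y, my⟩, hy, rfl⟩
    exact ⟨u, h0, h1, h4⟩
  · intro u h0 h1
    obtain ⟨⟨y, my⟩, hy, hy'⟩ := hlift u h0 h1
    exact ⟨y, my, hy, hy'⟩

variable {F : Type} [Field F] [Fintype F] [DecidableEq F] {hF : Fintype.card F = 2 ^ 2}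

/-- A partner commuting with all common partners of `t` and `c` is one of them. -/
theorem no_extra (A : Data D F hF) {x : G} (hx : x ∈ Ds D A.t)
    (hall : ∀ y ∈ Ds D A.t ∩ Ds D A.c, Commute x y) : False := by
  set L := Subgroup.closure (Ds D A.t ∩ Ds D A.c)
  have hLK : L ≤ Subgroup.closure (Ds D A.t) := Subgroup.closure_mono Set.inter_subset_left
  set ψ : L →* PSU 6 F 2 := A.φ.comp (Subgroup.inclusion hLK)
  have hker : ψ.ker ≤ Subgroup.center L := fun a ha => by
    rw [MonoidHom.mem_ker] at ha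
    have h1 : Subgroup.inclusion hLK a ∈ Subgroup.center ↥(Subgroup.closure (Ds D A.t)) := A.ker_φ ▸ ha
    refine Subgroup.mem_center_iff.mpr fun b => Subgroup.inclusion_injective hLK ?_
    rw [map_mul, map_mul]
    exact Subgroup.mem_center_iff.mp h1 (Subgroup.inclusion hLK b)
  have h7 : 7 ∣ Nat.card ψ.range := by
    rw [← Subgroup.index_ker]
    exact dvd_trans A.seven (Subgroup.index_dvd_of_le hker)
  haveI : Fact (Nat.Prime 7) := ⟨by norm_num⟩
  obtain ⟨⟨e, a, rfl⟩, he⟩ := exists_prime_orderOf_dvd_card' (G := ψ.range) 7 h7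
  rw [← Subgroup.orderOf_coe] at he
  change orderOf (ψ a) = 7 at he
  obtain ⟨u, hu0, hu, hux⟩ := A.pt x hx (Subgroup.subset_closure hx)
  have hle : L ≤ Subgroup.centralizer ({x} : Set G) :=
    (Subgroup.closure_le _).mpr fun y hy => Subgroup.mem_centralizer_singleton_iff.mpr (hall y hy).eq.symm
  have hax : Commute (Subgroup.inclusion hLK a) ⟨x, Subgroup.subset_closure hx⟩ :=
    Subtype.ext (Subgroup.mem_centralizer_singleton_iff.mp (hle a.2))
  have h1 := psu_no_seven hF hu0 hu (e := ψ a) (by rw [← he]; exact pow_orderOf_eq_one _)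
    (by have := hax.map A.φ; rw [hux] at this; exact this)
  rw [h1, orderOf_one] at he
  norm_num at he

/-- The central involution of the partner group is the transposition. -/
theorem central_eq (hD : IsThreeTranspositionClass D) (hp : IsPrimitiveUnderConj D) (hZ : Subgroup.center G = ⊥)
    (A : Data D F hF) {z : G} (hz : z ∈ Subgroup.closure (Ds D A.t))
    (hzc : ∀ y ∈ Ds D A.t, Commute z y) (hz2 : z * z = 1) (hz1 : z ≠ 1) : z = A.t := by
  have ht := A.ht
  have hc := A.hc
  have htc := A.htc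
  set t := A.t
  set c := A.c
  have hzt : Commute z t := closure_Ds_commute hz
  have hw : ∃ a ∈ D, ∃ b ∈ D, a ≠ b ∧ Commute a b := by
    obtain ⟨y, my, hy, -⟩ := A.lift _ (exists_iso hF).choose_spec.1 (exists_iso hF).choose_spec.2
    exact ⟨t, ht, y, hy.1, hy.2.1.symm, hy.2.2⟩
  have hcen : ∀ v ∈ D, ¬ Commute t v → ∀ w, Commute w t → Commute w v → (∀ y ∈ Ds D t, Commute w y) → w = 1 :=
    fun v hv htv w h1 h2 h3 => Subgroup.mem_bot.mp (hZ ▸ central_of_commute hD hp hw ht hv htv h1 h2 h3)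
  have hzi : z⁻¹ = z := inv_eq_of_mul_eq_one_right hz2
  have htt := mul_self hD.1 ht
  have hcc := mul_self hD.1 hc
  set u := z * c * z⁻¹ with hu
  have huD : u ∈ D := cls_conj hD z hc
  have htu : ¬ Commute t u := fun h => htc (by
    have := (Commute.conj_iff z⁻¹).mpr h
    rwa [show z⁻¹ * t * z⁻¹⁻¹ = t by rw [inv_inv, mul_assoc, ← hzt.eq, inv_mul_cancel_left],
      show z⁻¹ * u * z⁻¹⁻¹ = c by rw [hu]; group] at this)
  have hS : ∀ y ∈ Ds D t ∩ Ds D c, Commute u y := fun y hy => by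
    have := (Commute.conj_iff z).mpr hy.2.2.2
    rwa [show z * y * z⁻¹ = y by rw [(hzc y hy.1).eq, mul_inv_cancel_right]] at this
  by_cases huc : u = c
  · exfalso
    refine hz1 (hcen c hc htc z hzt ?_ hzc)
    show z * c = c * z
    exact mul_inv_eq_iff_eq_mul.mp huc
  by_cases hutc : u = t * c * t
  · have h1 := hcen c hc htc (t * z) ((Commute.refl t).mul_left hzt) ?_
      (fun y hy => hy.2.2.mul_left (hzc y hy))
    · exact (by rw [← inv_self hD.1 ht]; exact (inv_eq_of_mul_eq_one_right h1).symm)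
    · show t * z * c = c * (t * z)
      have e1 : z * c = u * z := by rw [hu]; group
      rw [mul_assoc, e1, hutc, show t * (t * c * t * z) = (t * t) * c * (t * z) by simp only [mul_assoc], htt, one_mul]
  exfalso
  by_cases hcu : Commute u c
  · set e := t * c * t
    have htct : t * c * t * c * t = c := by
      have h3 := pow_three hD.1 ht hc htc
      have : (t * c * t * c * t) * c = 1 := by rw [← h3, pow_succ, pow_two]; simp only [mul_assoc]
      rw [eq_inv_of_mul_eq_one_left this, inv_self hD.1 hc]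
    have hee : e * e = 1 := by
      show t * c * t * (t * c * t) = 1
      simp only [mul_assoc, mul_mul_cancel_self htt, mul_mul_cancel_self hcc, htt]
    have hei : e⁻¹ = e := inv_eq_of_mul_eq_one_right hee
    have het : e * t * e⁻¹ = c := by
      rw [hei]
      show t * c * t * t * (t * c * t) = c
      conv_rhs => rw [← htct]
      simp only [mul_assoc, mul_mul_cancel_self htt]
    have hec : e * c * e⁻¹ = t := by
      conv_lhs => rw [← het, hei]
      calc e * (e * t * e) * e = (e * e) * t * (e * e) := by simp only [mul_assoc]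
        _ = t := by rw [hee, one_mul, mul_one]
    refine no_extra A (x := e * u * e⁻¹) ⟨cls_conj hD e huD, fun h => huc ?_, ?_⟩ fun y hy => ?_
    · exact cj_injective e (h.trans hec.symm)
    · have := (Commute.conj_iff e).mpr hcu.symm
      rwa [hec] at this
    · have hey : Commute e y := ((hy.1.2.2).mul_left hy.2.2.2).mul_left hy.1.2.2
      have := (Commute.conj_iff e).mpr (hS y hy)
      rwa [show e * y * e⁻¹ = y by rw [hey.eq, mul_inv_cancel_right]] at this
  · set v := c * u * c⁻¹ with hv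
    have hvD : v ∈ D := cls_conj hD c huD
    have hvS : ∀ y ∈ Ds D t ∩ Ds D c, Commute v y := fun y hy => by
      have := (Commute.conj_iff c).mpr (hS y hy)
      rwa [show c * y * c⁻¹ = y by rw [(hy.2.2.2 : Commute c y).eq, mul_inv_cancel_right]] at this
    have hvt : v ≠ t := fun h => hutc (by
      have hbr := braid hD.1 ht hc htc
      rw [hv, inv_self hD.1 hc] at h
      rw [hbr, ← h]
      simp only [mul_assoc, mul_mul_cancel_self hcc, hcc, mul_one])
    by_cases htv : Commute t v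
    · exact no_extra A (x := v) ⟨hvD, hvt, htv⟩ hvS
    · refine hz1 (hcen v hvD htv z hzt ?_ hzc)
      have h1 : z * v * z⁻¹ = u * c * u := by
        rw [hv, inv_self hD.1 hc, hu, hzi]
        simp only [mul_assoc, mul_mul_cancel_self hz2, hz2, mul_one]
      rw [braid hD.1 huD hc hcu] at h1
      exact mul_inv_eq_iff_eq_mul.mp (h1.trans (by rw [hv, inv_self hD.1 hc]))

end CfsgThreeTrans.M22
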