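/-
Two factorisations of a product of three commuting transpositions in type M(22).
-/
import Cfsg.Agent.Lib.ThreeTrans.M22.Main

set_option autoImplicit false

namespace CfsgThreeTrans.M22

open Cfsg CfsgLib

universe u

variable {G : Type u} [Group G] [Finite G] {D : Set G}

theorem five_sq {a b c d e : G} (hD : IsThreeTranspositionSet D) (ha : a ∈ D) (hb : b ∈ D) (hc : c ∈ D) (hd : d ∈ D)
    (he : e ∈ D) (hcom : ∀ x ∈ [a, b, c, d, e], ∀ y ∈ [a, b, c, d, e], Commute x y) :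
    (a * b * c * d * e) * (a * b * c * d * e) = 1 := by
  have cc : ∀ x y, x ∈ [a, b, c, d, e] → y ∈ [a, b, c, d, e] → Commute x y := fun x y hx hy => hcom x hx y hy
  have k1 : Commute a b := cc a b (by simp) (by simp)
  have k2 : Commute (a * b) c := (cc a c (by simp) (by simp)).mul_left (cc b c (by simp) (by simp))
  have k3 : Commute (a * b * c) d :=
    ((cc a d (by simp) (by simp)).mul_left (cc b d (by simp) (by simp))).mul_left (cc c d (by simp) (by simp))
  have k4 : Commute (a * b * c * d) e :=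
    (((cc a e (by simp) (by simp)).mul_left (cc b e (by simp) (by simp))).mul_left
      (cc c e (by simp) (by simp))).mul_left (cc d e (by simp) (by simp))
  rw [← pow_two, k4.mul_pow, k3.mul_pow, k2.mul_pow, k1.mul_pow]
  simp [pow_two, mul_self hD ha, mul_self hD hb, mul_self hD hc, mul_self hD hd, mul_self hD he]

variable {F : Type} [Field F] [Fintype F] [DecidableEq F] {hF : Fintype.card F = 2 ^ 2}

/-- The line at the transposition `t`. -/
theorem at_t (hD : IsThreeTranspositionClass D) (hp : IsPrimitiveUnderConj D) (hloc : ∃ d ∈ D, LocalOK D d)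
    (hZ : Subgroup.center G = ⊥) (A : Data D F hF) {B C : G} (hB : B ∈ Ds D A.t) (hC : C ∈ Ds D A.t) (hBC : B ≠ C)
    (cBC : Commute B C) :
    ∃ P Q R : G, P ∈ Ds D A.t ∧ Q ∈ Ds D A.t ∧ R ∈ Ds D A.t ∧ [B, C, P, Q, R].Nodup ∧
      (∀ x ∈ [B, C, P, Q, R], ∀ y ∈ [B, C, P, Q, R], Commute x y) ∧ A.t * B * C = P * Q * R ∧
      ∀ P' Q' R' : G, P' ∈ Ds D A.t → Q' ∈ Ds D A.t → R' ∈ Ds D A.t → [B, C, P', Q', R'].Nodup →
        (∀ x ∈ [B, C, P', Q', R'], ∀ y ∈ [B, C, P', Q', R'], Commute x y) → A.t * B * C = P' * Q' * R' →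
        ∀ x ∈ [P', Q', R'], x ∈ [P, Q, R] := by
  set t := A.t with ht
  set K := Subgroup.closure (Ds D t)
  have hw : ∃ a ∈ D, ∃ b ∈ D, a ≠ b ∧ Commute a b := ⟨B, hB.1, C, hC.1, hBC, cBC⟩
  obtain ⟨c2, c3⟩ := cores_of_prim hD hp hw
  have mB : B ∈ K := Subgroup.subset_closure hB
  have mC : C ∈ K := Subgroup.subset_closure hC
  obtain ⟨u, u0, uu, hu⟩ := A.pt B hB mB
  obtain ⟨w, w0, ww, hw'⟩ := A.pt C hC mC
  have hne : QuotientGroup.mk' (Subgroup.center (Cfsg.SU 6 F 2)) (tu hF u) ≠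
      QuotientGroup.mk' (Subgroup.center (Cfsg.SU 6 F 2)) (tu hF w) := fun e =>
    hBC (A.inj B hB C hC mB mC (hu.trans (e.trans hw'.symm)))
  have huw : hermForm 6 F 2 u w = 0 := by
    refine of_mk_tu_commute hF uu u0 ww ?_
    have := (show Commute (⟨B, mB⟩ : K) ⟨C, mC⟩ from Subtype.ext cBC.eq).map A.φ
    rw [hu, hw'] at this
    exact this
  obtain ⟨p, q, r, hall, hpq, hpr, hqr, hnd, hprod⟩ := line_exists hF uu ww huw u0 w0 hne
  obtain ⟨p0, pp, hup, hwp⟩ := hall p (by simp)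
  obtain ⟨q0, qq, huq, hwq⟩ := hall q (by simp)
  obtain ⟨r0, rr, hur, hwr⟩ := hall r (by simp)
  obtain ⟨P, mP, hP, hP'⟩ := A.lift p p0 pp
  obtain ⟨Q, mQ, hQ, hQ'⟩ := A.lift q q0 qq
  obtain ⟨R, mR, hR, hR'⟩ := A.lift r r0 rr
  have lc : ∀ X Y (hX : X ∈ Ds D t) (hY : Y ∈ Ds D t) (mX : X ∈ K) (mY : Y ∈ K) (a b : Fin 6 → F),
      A.φ ⟨X, mX⟩ = QuotientGroup.mk (tu hF a) → A.φ ⟨Y, mY⟩ = QuotientGroup.mk (tu hF b) →
      hermForm 6 F 2 a a = 0 → hermForm 6 F 2 b b = 0 → hermForm 6 F 2 a b = 0 → Commute X Y := by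
    intro X Y hX hY mX mY a b ea eb ha hb hab
    refine A.comm X hX Y hY mX mY ?_
    rw [ea, eb]
    exact (tu_commute hF ha hb hab).map (QuotientGroup.mk' _)
  have cBP := lc B P hB hP mB mP u p hu hP' uu pp hup
  have cBQ := lc B Q hB hQ mB mQ u q hu hQ' uu qq huq
  have cBR := lc B R hB hR mB mR u r hu hR' uu rr hur
  have cCP := lc C P hC hP mC mP w p hw' hP' ww pp hwp
  have cCQ := lc C Q hC hQ mC mQ w q hw' hQ' ww qq hwq
  have cCR := lc C R hC hR mC mR w r hw' hR' ww rr hwr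
  have cPQ := lc P Q hP hQ mP mQ p q hP' hQ' pp qq hpq
  have cPR := lc P R hP hR mP mR p r hP' hR' pp rr hpr
  have cQR := lc Q R hQ hR mQ mR q r hQ' hR' qq rr hqr
  have hcom : ∀ x ∈ [B, C, P, Q, R], ∀ y ∈ [B, C, P, Q, R], Commute x y := by
    intro x hx y hy
    simp only [List.mem_cons, List.not_mem_nil, or_false] at hx hy
    rcases hx with rfl | rfl | rfl | rfl | rfl <;> rcases hy with rfl | rfl | rfl | rfl | rfl <;>
      first | exact Commute.refl _ | assumption | exact Commute.symm (by assumption)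
  have eqs : ∀ X Y (mX : X ∈ K) (mY : Y ∈ K), X = Y → A.φ ⟨X, mX⟩ = A.φ ⟨Y, mY⟩ := by
    rintro X Y mX mY rfl; rfl
  have hndl : [B, C, P, Q, R].Nodup := by
    simp only [List.nodup_cons, List.mem_cons, List.not_mem_nil, or_false, not_or, List.nodup_nil, and_true,
      not_false_iff, QuotientGroup.mk'_apply] at hnd ⊢
    obtain ⟨⟨n1, n2, n3, n4⟩, ⟨n5, n6, n7⟩, ⟨n8, n9⟩, n10⟩ := hnd
    refine ⟨⟨fun e => n1 ?_, fun e => n2 ?_, fun e => n3 ?_, fun e => n4 ?_⟩,
      ⟨fun e => n5 ?_, fun e => n6 ?_, fun e => n7 ?_⟩, ⟨fun e => n8 ?_, fun e => n9 ?_⟩, fun e => n10 ?_⟩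
    · rw [← hu, ← hw']; exact eqs _ _ _ _ e
    · rw [← hu, ← hP']; exact eqs _ _ _ _ e
    · rw [← hu, ← hQ']; exact eqs _ _ _ _ e
    · rw [← hu, ← hR']; exact eqs _ _ _ _ e
    · rw [← hw', ← hP']; exact eqs _ _ _ _ e
    · rw [← hw', ← hQ']; exact eqs _ _ _ _ e
    · rw [← hw', ← hR']; exact eqs _ _ _ _ e
    · rw [← hP', ← hQ']; exact eqs _ _ _ _ e
    · rw [← hP', ← hR']; exact eqs _ _ _ _ e
    · rw [← hQ', ← hR']; exact eqs _ _ _ _ e
  set z : K := ⟨B, mB⟩ * ⟨C, mC⟩ * ⟨P, mP⟩ * ⟨Q, mQ⟩ * ⟨R, mR⟩ with hzdef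
  have hφz : A.φ z = 1 := by
    rw [hzdef, map_mul, map_mul, map_mul, map_mul, hu, hw', hP', hQ', hR', ← QuotientGroup.mk_mul,
      ← QuotientGroup.mk_mul, ← QuotientGroup.mk_mul, ← QuotientGroup.mk_mul, hprod, QuotientGroup.mk_one]
  have hzc : z ∈ Subgroup.center K := A.ker_φ ▸ (MonoidHom.mem_ker.mpr hφz)
  have hzt : (z : G) = t := by
    refine central_eq hD hp hZ A z.2 (fun y hy => ?_) ?_ fun h1 => ?_
    · exact (congrArg Subtype.val (Subgroup.mem_center_iff.mp hzc ⟨y, Subgroup.subset_closure hy⟩)).symm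
    · exact five_sq hD.1 hB.1 hC.1 hP.1 hQ.1 hR.1 hcom
    · exact five_false hD c2 c3 hloc hB.1 hC.1 hP.1 hQ.1 hR.1 hndl hcom h1
  have hbc : B * C * (B * C) = 1 := by
    rw [← pow_two, cBC.mul_pow, pow_two, pow_two, mul_self hD.1 hB.1, mul_self hD.1 hC.1, one_mul]
  refine ⟨P, Q, R, hP, hQ, hR, hndl, hcom, ?_, ?_⟩
  · have e : B * C * P * Q * R = t := hzt
    have hcomm : Commute t (B * C) := hB.2.2.mul_right hC.2.2
    calc t * B * C = B * C * t := by rw [mul_assoc, hcomm.eq]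
      _ = P * Q * R := by
        rw [← e]
        calc B * C * (B * C * P * Q * R) = (B * C * (B * C)) * (P * Q * R) := by simp only [mul_assoc]
          _ = P * Q * R := by rw [hbc, one_mul]
  intro P' Q' R' hP1 hQ1 hR1 hnd1 hcom1 heq
  have mP' : P' ∈ K := Subgroup.subset_closure hP1
  have mQ' : Q' ∈ K := Subgroup.subset_closure hQ1
  have mR' : R' ∈ K := Subgroup.subset_closure hR1
  obtain ⟨p', p0', pp', eP⟩ := A.pt P' hP1 mP'
  obtain ⟨q', q0', qq', eQ⟩ := A.pt Q' hQ1 mQ'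
  obtain ⟨r', r0', rr', eR⟩ := A.pt R' hR1 mR'
  have ho : ∀ X Y (mX : X ∈ K) (mY : Y ∈ K) (a b : Fin 6 → F), Commute X Y →
      A.φ ⟨X, mX⟩ = QuotientGroup.mk (tu hF a) → A.φ ⟨Y, mY⟩ = QuotientGroup.mk (tu hF b) →
      hermForm 6 F 2 a a = 0 → a ≠ 0 → hermForm 6 F 2 b b = 0 → hermForm 6 F 2 a b = 0 := by
    intro X Y mX mY a b hXY ea eb ha ha0 hb
    refine of_mk_tu_commute hF ha ha0 hb ?_
    have := (show Commute (⟨X, mX⟩ : K) ⟨Y, mY⟩ from Subtype.ext hXY.eq).map A.φ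
    rw [ea, eb] at this
    exact this
  have cc : ∀ X Y, X ∈ [B, C, P', Q', R'] → Y ∈ [B, C, P', Q', R'] → Commute X Y := fun X Y hX hY => hcom1 X hX Y hY
  have hup' := ho B P' mB mP' u p' (cc _ _ (by simp) (by simp)) hu eP uu u0 pp'
  have huq' := ho B Q' mB mQ' u q' (cc _ _ (by simp) (by simp)) hu eQ uu u0 qq'
  have hur' := ho B R' mB mR' u r' (cc _ _ (by simp) (by simp)) hu eR uu u0 rr'
  have hwp' := ho C P' mC mP' w p' (cc _ _ (by simp) (by simp)) hw' eP ww w0 pp'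
  have hwq' := ho C Q' mC mQ' w q' (cc _ _ (by simp) (by simp)) hw' eQ ww w0 qq'
  have hwr' := ho C R' mC mR' w r' (cc _ _ (by simp) (by simp)) hw' eR ww w0 rr'
  have hpq' := ho P' Q' mP' mQ' p' q' (cc _ _ (by simp) (by simp)) eP eQ pp' p0' qq'
  have hpr' := ho P' R' mP' mR' p' r' (cc _ _ (by simp) (by simp)) eP eR pp' p0' rr'
  have hqr' := ho Q' R' mQ' mR' q' r' (cc _ _ (by simp) (by simp)) eQ eR qq' q0' rr'
  simp only [List.nodup_cons, List.mem_cons, List.not_mem_nil, or_false, not_or, List.nodup_nil, and_true] at hnd1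
  obtain ⟨⟨-, nBP, nBQ, nBR⟩, ⟨nCP, nCQ, nCR⟩, ⟨nPQ, nPR⟩, nQR, -⟩ := hnd1
  have ne' : ∀ X Y (hX : X ∈ Ds D t) (hY : Y ∈ Ds D t) (mX : X ∈ K) (mY : Y ∈ K) (a b : Fin 6 → F), X ≠ Y →
      A.φ ⟨X, mX⟩ = QuotientGroup.mk (tu hF a) → A.φ ⟨Y, mY⟩ = QuotientGroup.mk (tu hF b) →
      QuotientGroup.mk' (Subgroup.center (Cfsg.SU 6 F 2)) (tu hF a) ≠
        QuotientGroup.mk' (Subgroup.center (Cfsg.SU 6 F 2)) (tu hF b) :=
    fun X Y hX hY mX mY a b hXY ea eb e => hXY (A.inj X hX Y hY mX mY (ea.trans (e.trans eb.symm)))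
  have hz' : A.φ (⟨B, mB⟩ * ⟨C, mC⟩ * ⟨P', mP'⟩ * ⟨Q', mQ'⟩ * ⟨R', mR'⟩ : K) = 1 := by
    rw [show (⟨B, mB⟩ * ⟨C, mC⟩ * ⟨P', mP'⟩ * ⟨Q', mQ'⟩ * ⟨R', mR'⟩ : K) = z from Subtype.ext ?_, hφz]
    show B * C * P' * Q' * R' = (z : G)
    have hcomm : Commute t (B * C) := hB.2.2.mul_right hC.2.2
    rw [hzt, show B * C * P' * Q' * R' = B * C * (P' * Q' * R') by simp only [mul_assoc], ← heq,
      mul_assoc t B C, hcomm.eq, ← mul_assoc, hbc, one_mul]
  rw [map_mul, map_mul, map_mul, map_mul, hu, hw', eP, eQ, eR, ← QuotientGroup.mk_mul, ← QuotientGroup.mk_mul,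
    ← QuotientGroup.mk_mul, ← QuotientGroup.mk_mul] at hz'
  have honline := line_only hF uu ww pp' qq' rr' huw hup' huq' hur' hwp' hwq' hwr' hpq' hpr' hqr' u0 hne w0 p0' q0'
    r0' (ne' P' Q' hP1 hQ1 mP' mQ' p' q' nPQ eP eQ) (ne' P' R' hP1 hR1 mP' mR' p' r' nPR eP eR)
    (ne' Q' R' hQ1 hR1 mQ' mR' q' r' nQR eQ eR) hz'
  have hline : ∀ a ∈ [p, q, r], ∃ c d : F, a = c • u + d • w := by
    simp only [List.nodup_cons, List.mem_cons, List.not_mem_nil, or_false, not_or, List.nodup_nil, and_true] at hnd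
    exact line_only hF uu ww pp qq rr huw hup huq hur hwp hwq hwr hpq hpr hqr u0 hne w0 p0 q0 r0 hnd.2.2.1.1
      hnd.2.2.1.2 hnd.2.2.2.1 (by rw [hprod, map_one])
  have fin : ∀ X (hX : X ∈ Ds D t) (mX : X ∈ K) (a : Fin 6 → F), A.φ ⟨X, mX⟩ = QuotientGroup.mk (tu hF a) →
      a ≠ 0 → (∃ c d : F, a = c • u + d • w) → X ≠ B → X ≠ C → X ∈ [P, Q, R] := by
    intro X hX mX a ea ha0 hal hXB hXC
    have := line_unique hF uu ww huw hnd p0 q0 r0 hline ha0 hal (ne' X B hX hB mX mB a u hXB ea hu)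
      (ne' X C hX hC mX mC a w hXC ea hw')
    simp only [List.mem_cons, List.not_mem_nil, or_false, QuotientGroup.mk'_apply] at this ⊢
    rcases this with e | e | e
    · exact Or.inl (A.inj X hX P hP mX mP (ea.trans (e.trans hP'.symm)))
    · exact Or.inr (Or.inl (A.inj X hX Q hQ mX mQ (ea.trans (e.trans hQ'.symm))))
    · exact Or.inr (Or.inr (A.inj X hX R hR mX mR (ea.trans (e.trans hR'.symm))))
  intro x hx
  simp only [List.mem_cons, List.not_mem_nil, or_false] at hx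
  rcases hx with rfl | rfl | rfl
  · exact fin _ hP1 mP' p' eP p0' (honline p' (by simp)) (Ne.symm nBP) (Ne.symm nCP)
  · exact fin _ hQ1 mQ' q' eQ q0' (honline q' (by simp)) (Ne.symm nBQ) (Ne.symm nCQ)
  · exact fin _ hR1 mR' r' eR r0' (honline r' (by simp)) (Ne.symm nBR) (Ne.symm nCR)

/-- An admissible list. -/
abbrev IsFac (D : Set G) (j : G) (m : ℕ) (l : List G) : Prop :=
  l.Nodup ∧ l.length = m ∧ (∀ a ∈ l, a ∈ D) ∧ (∀ a ∈ l, ∀ b ∈ l, Commute a b) ∧ l.prod = j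

theorem two_unique (hD : IsThreeTranspositionClass D) (hp : IsPrimitiveUnderConj D) {j : G} {l l' : List G}
    (hl : IsFac D j 2 l) (hl' : IsFac D j 2 l') : ∀ x : G, x ∈ l ↔ x ∈ l' := by
  obtain ⟨hn, hlen, hmem, hc, hprod⟩ := hl
  obtain ⟨hn', hlen', hmem', hc', hprod'⟩ := hl'
  obtain ⟨a, b, rfl⟩ := List.length_eq_two.mp hlen
  obtain ⟨c, d, rfl⟩ := List.length_eq_two.mp hlen'
  simp only [List.prod_cons, List.prod_nil, mul_one] at hprod hprod'
  have hab : a ≠ b := by simpa using hn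
  have hcd : c ≠ d := by simpa using hn'
  have ca := hc a (by simp) b (by simp)
  have hw : ∃ a ∈ D, ∃ b ∈ D, a ≠ b ∧ Commute a b := ⟨a, hmem a (by simp), b, hmem b (by simp), hab, ca⟩
  rcases pair_unique hD (cores_of_prim hD hp hw).1 (hmem a (by simp)) (hmem b (by simp))
    (hmem' c (by simp)) (hmem' d (by simp)) hab hcd ca (hc' c (by simp) d (by simp)) (hprod.trans hprod'.symm)
    with ⟨rfl, rfl⟩ | ⟨rfl, rfl⟩ <;> intro x <;> simp [or_comm]

/-- Either the same factors or six different commuting ones. -/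
theorem three_cases (hD : IsThreeTranspositionClass D) (hp : IsPrimitiveUnderConj D) {a b c d e f : G}
    (hl : IsFac D (a * b * c) 3 [a, b, c]) (hl' : IsFac D (a * b * c) 3 [d, e, f]) :
    (∀ x, x ∈ [d, e, f] ↔ x ∈ [a, b, c]) ∨
      ([a, b, c, d, e, f].Nodup ∧ ∀ x ∈ [a, b, c, d, e, f], ∀ y ∈ [a, b, c, d, e, f], Commute x y) := by
  obtain ⟨hn, -, hmem, hc, -⟩ := hl
  obtain ⟨hn', -, hmem', hc', hprod'⟩ := hl'
  simp only [List.nodup_cons, List.mem_cons, List.not_mem_nil, or_false, not_or, List.nodup_nil, and_true] at hn hn'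
  obtain ⟨⟨hab, hac⟩, hbc, -⟩ := hn
  obtain ⟨⟨hde, hdf⟩, hef, -⟩ := hn'
  have mA : a ∈ D := hmem a (by simp)
  have mB : b ∈ D := hmem b (by simp)
  have mC : c ∈ D := hmem c (by simp)
  have mD : d ∈ D := hmem' d (by simp)
  have mE : e ∈ D := hmem' e (by simp)
  have mF : f ∈ D := hmem' f (by simp)
  have cab := hc a (by simp) b (by simp)
  have cac := hc a (by simp) c (by simp)
  have cbc := hc b (by simp) c (by simp)
  have cde := hc' d (by simp) e (by simp)
  have cdf := hc' d (by simp) f (by simp)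
  have cef := hc' e (by simp) f (by simp)
  have c2 := (cores_of_prim hD hp ⟨a, mA, b, mB, hab, cab⟩).1
  simp only [List.prod_cons, List.prod_nil, mul_one] at hprod'
  have habc : a * b * c = d * e * f := by rw [← hprod', mul_assoc d e f]
  have hcross : ∀ y ∈ [d, e, f], ∀ x ∈ [a, b, c], Commute y x := by
    intro y hy x hx
    have hyc : Commute y (a * b * c) := by
      rw [habc]
      exact ((hc' y hy d (by simp)).mul_right (hc' y hy e (by simp))).mul_right (hc' y hy f (by simp))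
    obtain ⟨h1, h2', h3'⟩ := (commute_mul3_iff hD.1 mA mB mC (hmem' y hy) hab hac hbc cab cac cbc).mp hyc
    simp only [List.mem_cons, List.not_mem_nil, or_false] at hx
    rcases hx with rfl | rfl | rfl <;> assumption
  have shared : ∀ p q r s t : G, q ∈ D → r ∈ D → s ∈ D → t ∈ D → q ≠ r → s ≠ t → Commute q r → Commute s t →
      p * q * r = p * s * t → ∀ x : G, (x = p ∨ x = q ∨ x = r) ↔ (x = p ∨ x = s ∨ x = t) := by
    intro p q r s t hq hr hs ht hqr hst cqr cst heq x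
    rw [mul_assoc, mul_assoc p s t] at heq
    rcases pair_unique hD c2 hq hr hs ht hqr hst cqr cst (mul_left_cancel heq) with ⟨rfl, rfl⟩ | ⟨rfl, rfl⟩ <;> tauto
  have first : ∀ p q r : G, q ∈ D → r ∈ D → q ≠ r → Commute q r → p * q * r = d * e * f → p ∈ [d, e, f] →
      ∀ x : G, (x = p ∨ x = q ∨ x = r) ↔ (x = d ∨ x = e ∨ x = f) := by
    intro p q r hq hr hqr cqr heq hp x
    simp only [List.mem_cons, List.not_mem_nil, or_false] at hp
    rcases hp with rfl | rfl | rfl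
    · exact shared p q r e f hq hr mE mF hqr hef cqr cef heq x
    · rw [cde.eq] at heq
      rw [shared p q r d f hq hr mD mF hqr hdf cqr cdf heq x]; tauto
    · rw [mul_assoc d e, cef.eq, ← mul_assoc, cdf.eq] at heq
      rw [shared p q r d e hq hr mD mE hqr hde cqr cde heq x]; tauto
  by_cases hA : a ∈ [d, e, f]
  · left; intro x
    simp only [List.mem_cons, List.not_mem_nil, or_false]
    exact (first a b c mB mC hbc cbc habc hA x).symm
  by_cases hB : b ∈ [d, e, f]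
  · left; intro x
    simp only [List.mem_cons, List.not_mem_nil, or_false]
    rw [cab.eq] at habc
    rw [← first b a c mA mC hac cac habc hB x]; tauto
  by_cases hC : c ∈ [d, e, f]
  · left; intro x
    simp only [List.mem_cons, List.not_mem_nil, or_false]
    rw [mul_assoc a b, cbc.eq, ← mul_assoc, cac.eq] at habc
    rw [← first c a b mA mB hab cab habc hC x]; tauto
  right
  constructor
  · simp only [List.mem_cons, List.not_mem_nil, or_false, not_or] at hA hB hC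
    simp [hab, hac, hbc, hde, hdf, hef, hA, hB, hC]
  · intro p hp' q hq'
    have split : ∀ y ∈ [a, b, c, d, e, f], y ∈ [a, b, c] ∨ y ∈ [d, e, f] := by
      intro y hy
      simp only [List.mem_cons, List.not_mem_nil, or_false] at hy ⊢
      tauto
    rcases split p hp' with h1 | h1 <;> rcases split q hq' with h2' | h2'
    exacts [hc p h1 q h2', (hcross q h2' p h1).symm, hcross p h1 q h2', hc' p h1 q h2']

theorem factorizations (hG : IsThreeTranspositionGroup D) (hp : IsPrimitiveUnderConj D) {d₀ : G} (hd₀ : d₀ ∈ D)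
    (h3 : pCore 3 ↥(Subgroup.closure (Ds D d₀)) ≤ Subgroup.center ↥(Subgroup.closure (Ds D d₀)))
    (h2 : pCore 2 ↥(Subgroup.closure (Ds D d₀)) ≤ Subgroup.center ↥(Subgroup.closure (Ds D d₀)))
    (h : IsOfTypeM22 G D) :
    (∀ (j : G) (l l' : List G), IsFac D j 2 l → IsFac D j 2 l' → ∀ x : G, x ∈ l ↔ x ∈ l') ∧
    ∀ (j : G) (l₀ : List G), IsFac D j 3 l₀ → ∃ l₁ l₂ : List G, IsFac D j 3 l₁ ∧ IsFac D j 3 l₂ ∧
      ¬ (∀ x : G, x ∈ l₁ ↔ x ∈ l₂) ∧
      ∀ l : List G, IsFac D j 3 l → (∀ x : G, x ∈ l ↔ x ∈ l₁) ∨ (∀ x : G, x ∈ l ↔ x ∈ l₂) := by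
  have hD := cls_of_group_prim hG hp
  refine ⟨fun j l l' => two_unique hD hp, fun j l₀ hl => ?_⟩
  obtain ⟨F, iF, iFt, iDec, hF, ⟨A⟩⟩ := exists_data hD hp hd₀ h3 h2 h
  obtain ⟨a, b, c, rfl⟩ := List.length_eq_three.mp hl.2.1
  have hj : j = a * b * c := by rw [← hl.2.2.2.2]; simp [mul_assoc]
  subst hj
  obtain ⟨hn, -, hmem, hc, -⟩ := id hl
  simp only [List.nodup_cons, List.mem_cons, List.not_mem_nil, or_false, not_or, List.nodup_nil, and_true] at hn
  obtain ⟨⟨hab, hac⟩, hbc, -⟩ := hn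
  obtain ⟨g, hg⟩ := cls_exists_conj hD (hmem a (by simp)) A.ht
  set B := g * b * g⁻¹ with hBdef
  set C := g * c * g⁻¹ with hCdef
  have hB : B ∈ Ds D A.t := ⟨cls_conj hD g (hmem b (by simp)),
    fun e => hab (cj_injective g (hg.trans e.symm)), hg ▸ (commute_cj_iff g).mpr (hc a (by simp) b (by simp))⟩
  have hC : C ∈ Ds D A.t := ⟨cls_conj hD g (hmem c (by simp)),
    fun e => hac (cj_injective g (hg.trans e.symm)), hg ▸ (commute_cj_iff g).mpr (hc a (by simp) c (by simp))⟩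
  obtain ⟨P, Q, R, hP, hQ, hR, hnd, hcom, heq, huniq⟩ := at_t hD hp (local_of_M22 h) h.1 A hB hC
    (fun e => hbc (cj_injective g e)) ((commute_cj_iff g).mpr (hc b (by simp) c (by simp)))
  have back : ∀ x : G, g * (g⁻¹ * x * g) * g⁻¹ = x := fun x => by group
  set p := g⁻¹ * P * g
  set q := g⁻¹ * Q * g
  set r := g⁻¹ * R * g
  simp only [List.nodup_cons, List.mem_cons, List.not_mem_nil, or_false, not_or, List.nodup_nil, and_true] at hnd
  obtain ⟨⟨-, nBP, nBQ, nBR⟩, ⟨nCP, nCQ, nCR⟩, ⟨nPQ, nPR⟩, nQR, -⟩ := hnd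
  have hinj : ∀ {x y : G}, g⁻¹ * x * g = g⁻¹ * y * g → x = y := fun {x y} e => mul_left_cancel (mul_right_cancel e)
  have hl2 : IsFac D (a * b * c) 3 [p, q, r] := by
    refine ⟨?_, rfl, ?_, ?_, ?_⟩
    · simp only [List.nodup_cons, List.mem_cons, List.not_mem_nil, or_false, not_or, List.nodup_nil, and_true,
        not_false_iff]
      exact ⟨⟨fun e => nPQ (hinj e), fun e => nPR (hinj e)⟩, fun e => nQR (hinj e)⟩
    · intro x hx
      simp only [List.mem_cons, List.not_mem_nil, or_false] at hx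
      have := fun y (hy : y ∈ D) => cls_conj hD g⁻¹ hy
      simp only [inv_inv] at this
      rcases hx with rfl | rfl | rfl
      exacts [this _ hP.1, this _ hQ.1, this _ hR.1]
    · intro x hx y hy
      rw [← commute_cj_iff g]
      simp only [List.mem_cons, List.not_mem_nil, or_false] at hx hy
      rcases hx with rfl | rfl | rfl <;> rcases hy with rfl | rfl | rfl <;> simp only [p, q, r, back] <;>
        exact hcom _ (by simp) _ (by simp)
    · simp only [List.prod_cons, List.prod_nil, mul_one, p, q, r]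
      have : g * a * g⁻¹ * (g * b * g⁻¹) * (g * c * g⁻¹) = P * Q * R := by rw [hg]; exact heq
      rw [show g⁻¹ * P * g * (g⁻¹ * Q * g * (g⁻¹ * R * g)) = g⁻¹ * (P * Q * R) * g by group, ← this]
      group
  refine ⟨[a, b, c], [p, q, r], hl, hl2, fun hh => ?_, fun l hl' => ?_⟩
  · have := (hh p).mpr (List.mem_cons_self ..)
    simp only [List.mem_cons, List.not_mem_nil, or_false] at this
    rcases this with e | e | e
    · exact hP.2.1 (by rw [← hg, ← e, back])
    · exact nBP (by rw [hBdef, ← e, back])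
    · exact nCP (by rw [hCdef, ← e, back])
  obtain ⟨d, e, f, rfl⟩ := List.length_eq_three.mp hl'.2.1
  rcases three_cases hD hp hl hl' with hs | ⟨hnd6, hcom6⟩
  · exact Or.inl hs
  right
  have mem6 : ∀ x ∈ [d, e, f], g * x * g⁻¹ ∈ Ds D A.t := fun x hx =>
    ⟨cls_conj hD g (hl'.2.2.1 x hx), fun e' => by
        have := cj_injective g (e'.trans hg.symm)
        subst this
        exact (List.nodup_cons.mp hnd6).1 (List.mem_cons_of_mem _ (List.mem_cons_of_mem _ hx)),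
      hg ▸ (commute_cj_iff g).mpr (hcom6 a (List.mem_cons_self ..) x
        (List.mem_cons_of_mem _ (List.mem_cons_of_mem _ (List.mem_cons_of_mem _ hx))))⟩
  have hu := huniq _ _ _ (mem6 d (by simp)) (mem6 e (by simp)) (mem6 f (by simp))
    ((List.nodup_cons.mp hnd6).2.map (f := fun x => g * x * g⁻¹) (cj_injective g))
    (by
      intro x hx y hy
      have hx' : x ∈ [b, c, d, e, f].map (fun z => g * z * g⁻¹) := hx
      have hy' : y ∈ [b, c, d, e, f].map (fun z => g * z * g⁻¹) := hy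
      obtain ⟨x', hx'', rfl⟩ := List.mem_map.mp hx'
      obtain ⟨y', hy'', rfl⟩ := List.mem_map.mp hy'
      exact (commute_cj_iff g).mpr (hcom6 x' (List.mem_cons_of_mem _ hx'') y' (List.mem_cons_of_mem _ hy'')))
    (by
      have hd : d * (e * f) = a * b * c := by simpa using hl'.2.2.2.2
      have h1 : g * a * g⁻¹ * (g * b * g⁻¹) * (g * c * g⁻¹) = g * (a * b * c) * g⁻¹ := by group
      rw [hg] at h1
      rw [h1, ← hd]
      group)
  have hsub : ∀ x ∈ [d, e, f], x ∈ [p, q, r] := by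
    intro x hx
    have hgx : g * x * g⁻¹ ∈ [P, Q, R] := hu _ (List.mem_map_of_mem (f := fun z => g * z * g⁻¹) hx)
    simp only [List.mem_cons, List.not_mem_nil, or_false, p, q, r] at hgx ⊢
    rcases hgx with h' | h' | h'
    · exact Or.inl (by rw [← h']; group)
    · exact Or.inr (Or.inl (by rw [← h']; group))
    · exact Or.inr (Or.inr (by rw [← h']; group))
  intro x
  refine ⟨hsub x, fun hx => ?_⟩
  classical
  have heqs : ([d, e, f] : List G).toFinset = [p, q, r].toFinset := Finset.eq_of_subset_of_card_le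
    (fun y hy => List.mem_toFinset.mpr (hsub y (List.mem_toFinset.mp hy))) (by
      rw [List.toFinset_card_of_nodup hl2.1, List.toFinset_card_of_nodup hl'.1]; simp)
  exact List.mem_toFinset.mp (heqs ▸ List.mem_toFinset.mpr hx)

end CfsgThreeTrans.M22
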