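/-
Isotropic points of the six-dimensional hermitian space over four elements, and the stabiliser of a point.
-/
import Cfsg.Agent.Lib.ThreeTrans.M22.Lines
import Cfsg.Agent.Lib.SpectrumPowers.UnitaryMain

set_option autoImplicit false
set_option linter.unusedSectionVars false

namespace CfsgThreeTrans.M22.Points

open Matrix CfsgLib CfsgLib.UnitaryTransvection CfsgLib.UnitarySimple CfsgThreeTrans.M22

variable {F : Type} [Field F] [Fintype F] [DecidableEq F] (hF : Fintype.card F = 2 ^ 2)

local notation "h" => Cfsg.hermForm 6 F 2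
local notation "h4" => Cfsg.hermForm 4 F 2
local notation "σ" => frob hF
local notation "π" => QuotientGroup.mk' (Subgroup.center (Cfsg.SU 6 F 2))

/-- The standard point. -/
def u₀ (F : Type) [Field F] : Fin 6 → F := Fin.cons 1 (Fin.cons 1 0)

/-- Pad a tail with two coordinates. -/
def pad (a b : F) (y : Fin 4 → F) : Fin 6 → F := Fin.cons a (Fin.cons b y)

theorem pad_eta (x : Fin 6 → F) : x = pad (x 0) (x 1) (Fin.tail (Fin.tail x)) := by
  unfold pad
  have h1 : x 1 = Fin.tail x 0 := rfl
  rw [h1, Fin.cons_self_tail, Fin.cons_self_tail]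

theorem herm_pad (a b c d : F) (y w : Fin 4 → F) :
    h (pad a b y) (pad c d w) = a * c ^ 2 + b * d ^ 2 + h4 y w := by
  unfold pad
  rw [UnitaryOrder.herm_cons, UnitaryOrder.herm_cons, add_assoc]

theorem u0_eq : u₀ F = pad (1 : F) 1 0 := rfl

include hF

theorem herm4_self (y : Fin 4 → F) :
    h4 y y = (((Finset.univ.filter fun i => y i ≠ 0).card : ℕ) : F) := by
  rw [Finset.natCast_card_filter, Cfsg.hermForm]
  refine Finset.sum_congr rfl fun i _ => ?_
  by_cases hy : y i = 0
  · simp [hy]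
  · rw [← pow_succ', cube hF hy, if_pos hy]

theorem cast_eq_zero (n : ℕ) : ((n : ℕ) : F) = 0 ↔ n % 2 = 0 := by
  conv_lhs => rw [← Nat.div_add_mod n 2]
  push_cast
  rw [two_zero hF, zero_mul, zero_add]
  rcases Nat.mod_two_eq_zero_or_one n with e | e <;> rw [e] <;> simp

theorem herm4_zero_iff (y : Fin 4 → F) :
    h4 y y = 0 ↔ (Finset.univ.filter fun i => y i ≠ 0).card % 2 = 0 := by
  rw [herm4_self hF, cast_eq_zero hF]

theorem herm4_cases (y : Fin 4 → F) : h4 y y = 0 ∨ h4 y y = 1 := by
  refine fixed hF ?_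
  rw [herm4_self hF, map_natCast]

theorem card_tail : Nat.card {y : Fin 4 → F // h4 y y = 0} = 136 := by
  classical
  obtain ⟨e⟩ : Nonempty (F ≃ Fin 4) := ⟨Fintype.equivFinOfCardEq (by rw [hF]; norm_num)⟩
  let e' : F ≃ Fin 4 := e.trans (Equiv.swap (e 0) 0)
  have he' : ∀ a, e' a = 0 ↔ a = 0 := fun a => by
    rw [show (0 : Fin 4) = e' 0 from (Equiv.swap_apply_left (e 0) 0).symm]
    exact e'.injective.eq_iff
  rw [Nat.card_congr ((Equiv.piCongrRight fun _ : Fin 4 => e').subtypeEquiv
    (q := fun w : Fin 4 → Fin 4 => (Finset.univ.filter fun i => w i ≠ 0).card % 2 = 0) fun y => by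
      rw [herm4_zero_iff hF]
      simp only [Equiv.piCongrRight_apply, Pi.map_apply, ne_eq, he']),
    Nat.card_eq_fintype_card]
  decide +kernel

theorem u0_iso : h (u₀ F) (u₀ F) = 0 := by
  rw [u0_eq, herm_pad]
  simp only [Cfsg.hermForm, Pi.zero_apply, zero_mul, Finset.sum_const_zero, add_zero, one_pow, mul_one]
  exact add_self hF 1

theorem u0_ne : u₀ F ≠ 0 := fun e => one_ne_zero (α := F) (by simpa [u₀] using congrFun e 0)

theorem perp_u0 (a b : F) (y : Fin 4 → F) : h (pad a b y) (u₀ F) = a + b := by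
  rw [u0_eq, herm_pad]
  simp [Cfsg.hermForm]

theorem herm_pad_self (a b : F) (y : Fin 4 → F) (hab : a = b) : h (pad a b y) (pad a b y) = h4 y y := by
  subst hab
  rw [herm_pad, add_self hF, zero_add]

theorem card_perp :
    Nat.card {x : Fin 6 → F // h x x = 0 ∧ h x (u₀ F) = 0} = 544 := by
  rw [Nat.card_congr (α := {x : Fin 6 → F // h x x = 0 ∧ h x (u₀ F) = 0}) (β := F × {y : Fin 4 → F // h4 y y = 0})
    { toFun := fun x => (x.1 0, ⟨Fin.tail (Fin.tail x.1), by
        have h1 := x.2.1
        have h2 := x.2.2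
        rw [pad_eta x.1, perp_u0 hF] at h2
        rw [pad_eta x.1, herm_pad_self hF _ _ _ (by
          have := congrArg (· + x.1 1) h2
          simpa [add_assoc, add_self hF] using this)] at h1
        exact h1⟩)
      invFun := fun p => ⟨pad p.1 p.1 p.2.1, by rw [herm_pad_self hF _ _ _ rfl]; exact p.2.2,
        by rw [perp_u0 hF]; exact add_self hF _⟩
      left_inv := fun x => Subtype.ext (by
        have h2 := x.2.2
        rw [pad_eta x.1, perp_u0 hF] at h2
        have e : x.1 0 = x.1 1 := by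
          have := congrArg (· + x.1 1) h2
          simpa [add_assoc, add_self hF] using this
        show pad (x.1 0) (x.1 0) _ = _
        conv_rhs => rw [pad_eta x.1, ← e])
      right_inv := fun p => by simp [pad] }]
  rw [Nat.card_prod, card_tail hF, Nat.card_eq_fintype_card, hF]
  norm_num

/-- A partner of the standard point. -/
theorem exists_v0 : ∃ a b : F, h (pad a b 0) (pad a b 0) = 0 ∧ h (u₀ F) (pad a b 0) = 1 ∧ a + b = 1 ∧
    a ≠ 0 ∧ b ≠ 0 := by
  obtain ⟨z, z0, z1, hz, hs, -⟩ := exists_zeta hF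
  refine ⟨z, z * z, ?_, ?_, ?_, z0, mul_ne_zero z0 z0⟩
  · rw [herm_pad]
    have h3 := cube hF z0
    simp only [Cfsg.hermForm, Pi.zero_apply, zero_mul, Finset.sum_const_zero, add_zero]
    linear_combination (1 + z ^ 3 + 1) * h3 + two_zero hF
  · rw [u0_eq, herm_pad]
    simp only [Cfsg.hermForm, Pi.zero_apply, zero_mul, Finset.sum_const_zero, add_zero, one_mul]
    linear_combination hz + z * (cube hF z0) - two_zero hF
  · linear_combination hz - two_zero hF

theorem card_common {a b : F} (hu : h (u₀ F) (pad a b 0) = 1) :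
    Nat.card {x : Fin 6 → F // h x x = 0 ∧ h x (u₀ F) = 0 ∧ h x (pad a b 0) = 0} = 136 := by
  have key : ∀ x : Fin 6 → F, h x (u₀ F) = 0 → h x (pad a b 0) = 0 → x 0 = 0 ∧ x 1 = 0 := by
    intro x h1 h2
    rw [pad_eta x, perp_u0 hF] at h1
    have e : x 0 = x 1 := by
      have := congrArg (· + x 1) h1
      simpa [add_assoc, add_self hF] using this
    rw [pad_eta x, herm_pad, ← e] at h2
    rw [u0_eq, herm_pad] at hu
    simp only [Cfsg.hermForm, Pi.zero_apply, zero_pow two_ne_zero, mul_zero, Finset.sum_const_zero, add_zero,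
      one_mul, ← mul_add] at h2 hu
    rw [hu, mul_one] at h2
    exact ⟨h2, e ▸ h2⟩
  rw [Nat.card_congr (α := {x : Fin 6 → F // h x x = 0 ∧ h x (u₀ F) = 0 ∧ h x (pad a b 0) = 0})
    (β := {y : Fin 4 → F // h4 y y = 0})
    { toFun := fun x => ⟨Fin.tail (Fin.tail x.1), by
        obtain ⟨e0, e1⟩ := key x.1 x.2.2.1 x.2.2.2
        have h1 := x.2.1
        rwa [pad_eta x.1, herm_pad_self hF _ _ _ (e0.trans e1.symm)] at h1⟩
      invFun := fun y => ⟨pad 0 0 y.1, by rw [herm_pad_self hF _ _ _ rfl]; exact y.2,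
        by rw [perp_u0 hF, add_zero], by rw [herm_pad]; simp [Cfsg.hermForm]⟩
      left_inv := fun x => Subtype.ext (by
        obtain ⟨e0, e1⟩ := key x.1 x.2.2.1 x.2.2.2
        show pad 0 0 _ = _
        conv_rhs => rw [pad_eta x.1, e0, e1])
      right_inv := fun y => by simp [pad] }, card_tail hF]

/-- Transvections in points perpendicular to the standard point. -/
def W : Subgroup (Cfsg.SU 6 F 2) :=
  Subgroup.closure {g | ∃ w, w ≠ 0 ∧ h w w = 0 ∧ h w (u₀ F) = 0 ∧ g = tu hF w}

theorem tu_mem_W {w : Fin 6 → F} (hw : h w w = 0) (hwu : h w (u₀ F) = 0) : tu hF w ∈ W hF := by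
  by_cases h0 : w = 0
  · subst h0
    have : tu hF (0 : Fin 6 → F) = 1 := su_ext fun x => by
      rw [tu_mulVec hF hw, mat_one, one_mulVec, smul_zero, add_zero]
    rw [this]
    exact one_mem _
  · exact Subgroup.subset_closure ⟨w, h0, hw, hwu, rfl⟩

/-- One step between two partners of the standard point. -/
theorem step {v v' : Fin 6 → F} (hv : h v v = 0) (hv' : h v' v' = 0) (h1 : h (u₀ F) v = 1)
    (h1' : h (u₀ F) v' = 1) (hvv : h v v' = 1) : ∃ w ∈ W hF, mat w *ᵥ v = v' := by
  have hd : h (v + v') (v + v') = 0 := by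
    rw [h_add_left, h_add_right hF, h_add_right hF, hv, hv', hvv, ← h_swap hF v v', hvv, map_one, zero_add, add_zero,
      add_self hF]
  refine ⟨tu hF (v + v'), tu_mem_W hF hd ?_, ?_⟩
  · rw [← h_swap hF (u₀ F), h_add_right hF, h1, h1', add_self hF, map_zero]
  · rw [tu_mulVec hF hd, h_add_right hF, hv, hvv, zero_add, one_smul, ← add_assoc, vadd_self hF, zero_add]

/-- Two nonzero coordinates of a partner are the two roots. -/
theorem pair_root {a b : F} (h2 : a ^ 2 + b ^ 2 = 1) (h3 : a * a ^ 2 + b * b ^ 2 = 0) :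
    a + b = 1 ∧ a * a + a + 1 = 0 := by
  have two := two_zero hF
  have hsum : a + b = 1 := by
    have : (a + b - 1) * (a + b - 1) = 0 := by linear_combination h2 + (a * b - a - b + 1) * two
    exact sub_eq_zero.mp (mul_self_eq_zero.mp this)
  refine ⟨hsum, ?_⟩
  have hb : b = 1 - a := by linear_combination hsum
  subst hb
  linear_combination h3 + (2 * a - a * a) * two

theorem move {a b : F} (hv : h (pad a b 0) (pad a b 0) = 0) (h1 : h (u₀ F) (pad a b 0) = 1) {v' : Fin 6 → F}
    (hv' : h v' v' = 0) (h1' : h (u₀ F) v' = 1) : ∃ w ∈ W hF, mat w *ᵥ (pad a b 0) = v' := by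
  classical
  set v := pad a b (0 : Fin 4 → F) with hvdef
  by_cases hr1 : h v v' = 1
  · exact step hF hv hv' h1 h1' hr1
  set r := h v v'
  suffices ∃ e0 : Fin 4 → F, h4 e0 e0 = 0 ∧ h (pad 0 0 e0) v' = r by
    obtain ⟨e0, he0, he0r⟩ := this
    have hu0 := u0_iso hF
    set e := pad 0 0 e0
    have hee : h e e = 0 := by rw [herm_pad_self hF _ _ _ rfl]; exact he0
    have heu : h e (u₀ F) = 0 := by rw [perp_u0 hF, add_zero]
    have hev : h e v = 0 := by
      rw [hvdef, herm_pad]
      simp [Cfsg.hermForm]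
    have hve : h v e = 0 := by rw [← h_swap hF e v, hev, map_zero]
    have hue : h (u₀ F) e = 0 := by rw [← h_swap hF e (u₀ F), heu, map_zero]
    have hvu : h v (u₀ F) = 1 := by rw [← h_swap hF (u₀ F) v, h1, map_one]
    set m := v + (u₀ F) + e
    have hmm : h m m = 0 := by
      simp only [m, h_add_left, h_add_right hF, hv, hu0, hee, heu, hev, hve, hue, h1, hvu, zero_add, add_zero,
        add_self hF]
    have hum : h (u₀ F) m = 1 := by
      simp only [m, h_add_right hF, h1, hu0, hue, add_zero]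
    have hvm : h v m = 1 := by
      simp only [m, h_add_right hF, hv, hvu, hve, zero_add, add_zero]
    have hmv : h m v' = 1 := by
      simp only [m, h_add_left, he0r, h1']
      rw [add_comm r 1, add_assoc, add_self hF, add_zero]
    obtain ⟨w, hw, hwv⟩ := step hF hv hmm h1 hum hvm
    obtain ⟨w', hw', hwm⟩ := step hF hmm hv' hum h1' hmv
    exact ⟨w' * w, mul_mem hw' hw, by rw [mat_mul, ← mulVec_mulVec, hwv, hwm]⟩
  by_cases hr0 : r = 0
  · exact ⟨0, by simp [Cfsg.hermForm], by rw [hr0, pad_eta v', herm_pad]; simp [Cfsg.hermForm]⟩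
  set y := Fin.tail (Fin.tail v')
  have hy : h4 y y = 1 := by
    refine (herm4_cases hF y).resolve_left fun hy0 => ?_
    -- a zero tail norm forces the product to be zero or one
    set c := v' 0
    set d := v' 1
    have e1 : h (u₀ F) v' = c ^ 2 + d ^ 2 := by
      rw [pad_eta v', u0_eq, herm_pad]
      simp [Cfsg.hermForm, c, d]
    have e2 : c * c ^ 2 + d * d ^ 2 = 0 := by
      have := hv'
      rw [pad_eta v', herm_pad] at this
      simpa [y, c, d, hy0] using this
    have e3 : r = a * c ^ 2 + b * d ^ 2 := by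
      show h v v' = _
      rw [hvdef, pad_eta v', herm_pad]
      simp [Cfsg.hermForm, c, d]
    have e4 : a * a ^ 2 + b * b ^ 2 = 0 := by
      have := hv
      rw [hvdef, herm_pad] at this
      simpa [Cfsg.hermForm] using this
    have e5 : a ^ 2 + b ^ 2 = 1 := by
      have := h1
      rw [u0_eq, hvdef, herm_pad] at this
      simpa [Cfsg.hermForm] using this
    rw [h1'] at e1
    obtain ⟨hab, qa⟩ := pair_root hF e5 e4
    obtain ⟨hcd, qc⟩ := pair_root hF e1.symm e2
    have two := two_zero hF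
    have : (c - a) * (c - b) = 0 := by linear_combination qc - qa + a * hab - c * hab + (a - c) * two
    rcases mul_eq_zero.mp this with e | e
    · have ec : c = a := sub_eq_zero.mp e
      have ed : d = b := by linear_combination hcd - hab - ec
      rw [ec, ed, e4] at e3
      exact hr0 e3
    · have ec : c = b := sub_eq_zero.mp e
      have ed : d = a := by linear_combination hcd - hab - ec
      rw [ec, ed] at e3
      exact hr1 (e3.trans (by linear_combination (a * b) * hab - qa + a * hab + a * two))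
  obtain ⟨i, hi⟩ : ∃ i, y i ≠ 0 := by
    by_contra hall
    push Not at hall
    rw [herm4_self hF] at hy
    simp [hall] at hy
  obtain ⟨j, hj⟩ : ∃ j, y j = 0 := by
    by_contra hall
    push Not at hall
    rw [herm4_self hF, Finset.filter_true_of_mem fun x _ => hall x] at hy
    rw [Finset.card_univ, Fintype.card_fin, (cast_eq_zero hF 4).2 rfl] at hy
    exact zero_ne_one hy
  have hij : i ≠ j := fun e => hi (e ▸ hj)
  refine ⟨Pi.single i (r * y i) + Pi.single j 1, ?_, ?_⟩
  · rw [herm4_zero_iff hF, show (Finset.univ.filter fun k =>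
        (Pi.single i (r * y i) + Pi.single j 1 : Fin 4 → F) k ≠ 0) = {i, j} from ?_, Finset.card_pair hij]
    ext k
    by_cases ki : k = i
    · subst ki; simp [hij, hr0, hi]
    · by_cases kj : k = j
      · subst kj; simp [ki]
      · simp [ki, kj]
  · rw [pad_eta v', herm_pad]
    simp only [zero_mul, zero_add, Cfsg.hermForm]
    rw [Finset.sum_eq_single i]
    · simp only [Pi.add_apply, Pi.single_eq_same, Pi.single_eq_of_ne hij, add_zero]
      rw [mul_assoc, ← pow_succ', cube hF hi, mul_one]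
    · intro k _ hk
      by_cases kj : k = j
      · subst kj; show _ * (y k) ^ 2 = 0; rw [hj]; simp
      · simp [hk, kj]
    · simp

/-- The embedding of the four-dimensional group. -/
theorem fixer {a b : F} (h1 : h (u₀ F) (pad a b 0) = 1) {g : Cfsg.SU 6 F 2} (hgu : mat g *ᵥ u₀ F = u₀ F)
    (hgv : mat g *ᵥ pad a b 0 = pad a b 0) : g ∈ W hF := by
  classical
  have lowS : ∀ (k : Cfsg.SU 4 F 2) (x y : Fin 6 → F),
      h (UnitaryOrder.ext1 (UnitaryOrder.ext1 (mat k)) *ᵥ x) (UnitaryOrder.ext1 (UnitaryOrder.ext1 (mat k)) *ᵥ y)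
        = h x y := by
    intro k x y
    rw [UnitaryOrder.ext1_mulVec, UnitaryOrder.ext1_mulVec, UnitaryOrder.ext1_mulVec, UnitaryOrder.ext1_mulVec]
    show h (pad _ _ _) (pad _ _ _) = _
    conv_rhs => rw [pad_eta x, pad_eta y]
    rw [herm_pad, herm_pad, su_h]
    rfl
  let Φ : Cfsg.SU 4 F 2 →* Cfsg.SU 6 F 2 :=
    { toFun := fun k => mkSU (UnitaryOrder.ext1 (UnitaryOrder.ext1 (mat k))) (lowS k)
        (by rw [SpectrumPowers.det_ext1, SpectrumPowers.det_ext1]; exact k.1.2)
      map_one' := su_ext fun x => by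
        show UnitaryOrder.ext1 (UnitaryOrder.ext1 (mat (1 : Cfsg.SU 4 F 2))) *ᵥ x = mat (1 : Cfsg.SU 6 F 2) *ᵥ x
        rw [mat_one, UnitaryOrder.ext1_one, UnitaryOrder.ext1_one]
        rfl
      map_mul' := fun p q => su_ext fun x => by
        show UnitaryOrder.ext1 (UnitaryOrder.ext1 (mat (p * q))) *ᵥ x = _
        rw [mat_mul, UnitaryOrder.ext1_mul, UnitaryOrder.ext1_mul]
        rfl }
  have hΦ : ∀ k x, mat (Φ k) *ᵥ x = pad (x 0) (x 1) (mat k *ᵥ Fin.tail (Fin.tail x)) := fun k x => by
    show UnitaryOrder.ext1 (UnitaryOrder.ext1 (mat k)) *ᵥ x = _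
    rw [UnitaryOrder.ext1_mulVec, UnitaryOrder.ext1_mulVec]
    rfl
  have hrange : ∀ k, Φ k ∈ W hF := by
    intro k
    have hk : k ∈ Subgroup.closure (TSet (F := F) (q := 2) (n := 4)) := by
      rw [generated hF (by norm_num) (by norm_num)]; trivial
    refine (?_ : Subgroup.closure (TSet (F := F) (q := 2) (n := 4)) ≤ (W hF).comap Φ) hk
    rw [Subgroup.closure_le]
    rintro A ⟨v, c, hv, hA⟩
    show Φ A ∈ W hF
    by_cases hv0 : v = 0
    · subst hv0
      rw [show A = 1 from su_ext fun x => by rw [hA, tmat_zero, mat_one, one_mulVec], map_one]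
      exact one_mem _
    have hc : σ c = c := by
      have := skew_of_tmat hF hv hv0 (c := c) fun p q => by rw [← hA]; exact su_h A p q
      have := congrArg (c + ·) this
      simpa [← add_assoc, add_self hF] using this
    rcases fixed hF hc with rfl | rfl
    · rw [show A = 1 from su_ext fun x => by rw [hA, tmat_mulVec, zero_mul, zero_smul, add_zero, mat_one, one_mulVec],
        map_one]
      exact one_mem _
    set w := pad 0 0 v
    have hw : h w w = 0 := by rw [herm_pad_self hF _ _ _ rfl]; exact hv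
    rw [show Φ A = tu hF w from su_ext fun x => ?_]
    · exact tu_mem_W hF hw (by rw [perp_u0 hF, add_zero])
    rw [hΦ, hA, tmat_mulVec, tu_mulVec hF hw, one_mul]
    conv_rhs => rw [pad_eta x]
    rw [herm_pad]
    simp only [zero_pow two_ne_zero, mul_zero, zero_add]
    funext i
    refine Fin.cases ?_ (fun i => Fin.cases ?_ (fun i => ?_) i) i <;> simp [w, pad]
  -- the element fixes the first two coordinates
  have hgi : ∀ x, mat g *ᵥ x = pad (x 0) (x 1) (Fin.tail (Fin.tail (mat g *ᵥ pad 0 0 (Fin.tail (Fin.tail x))))) := by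
    intro x
    set y := Fin.tail (Fin.tail x)
    have e1 : h (mat g *ᵥ pad 0 0 y) (u₀ F) = 0 := by
      conv_lhs => rw [← hgu]
      rw [su_h, perp_u0 hF, add_zero]
    have e2 : h (mat g *ᵥ pad 0 0 y) (pad a b 0) = 0 := by
      conv_lhs => rw [← hgv]
      rw [su_h, herm_pad]
      simp [Cfsg.hermForm]
    obtain ⟨z0, z1⟩ : (mat g *ᵥ pad 0 0 y) 0 = 0 ∧ (mat g *ᵥ pad 0 0 y) 1 = 0 := by
      generalize mat g *ᵥ pad 0 0 y = z at e1 e2
      rw [pad_eta z, perp_u0 hF] at e1
      have e : z 0 = z 1 := by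
        have := congrArg (· + z 1) e1
        simpa [add_assoc, add_self hF] using this
      rw [pad_eta z, herm_pad, ← e] at e2
      rw [u0_eq, herm_pad] at h1
      simp only [Cfsg.hermForm, Pi.zero_apply, zero_pow two_ne_zero, mul_zero, Finset.sum_const_zero, add_zero,
        one_mul, ← mul_add] at e2 h1
      rw [h1, mul_one] at e2
      exact ⟨e2, e ▸ e2⟩
    obtain ⟨p, q, hpq, hpq'⟩ : ∃ p q : F, p + q * a = x 0 ∧ p + q * b = x 1 := by
      have hab : a + b = 1 := by
        have := h1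
        rw [u0_eq, herm_pad] at this
        simp only [Cfsg.hermForm, Pi.zero_apply, zero_pow two_ne_zero, mul_zero, Finset.sum_const_zero, add_zero,
          one_mul] at this
        have e : (a + b) * (a + b) = 1 := by linear_combination this + (a * b) * two_zero hF
        have : (a + b - 1) * (a + b - 1) = 0 := by linear_combination e - (a + b - 1) * two_zero hF
        exact sub_eq_zero.mp (mul_self_eq_zero.mp this)
      refine ⟨x 0 + (x 0 + x 1) * a, x 0 + x 1, ?_, ?_⟩
      · rw [add_assoc, add_self hF, add_zero]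
      · linear_combination (x 0 + x 1) * hab + x 0 * two_zero hF
    have hx : x = p • u₀ F + q • pad a b 0 + pad 0 0 y := by
      conv_lhs => rw [pad_eta x, ← hpq, ← hpq']
      funext i
      refine Fin.cases ?_ (fun i => Fin.cases ?_ (fun i => ?_) i) i <;>
        simp [pad, u₀, y, Pi.add_apply, Pi.smul_apply]
    conv_lhs => rw [hx, mulVec_add, mulVec_add, mulVec_smul, mulVec_smul, hgu, hgv,
      pad_eta (mat g *ᵥ pad 0 0 y), z0, z1]
    funext i
    refine Fin.cases ?_ (fun i => Fin.cases ?_ (fun i => ?_) i) i <;>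
      simp [pad, u₀, Pi.add_apply, Pi.smul_apply, hpq, ← hpq']
  set M : Matrix (Fin 4) (Fin 4) F := Matrix.of fun i j => mat g i.succ.succ j.succ.succ with hM
  have hMv : ∀ y, M *ᵥ y = Fin.tail (Fin.tail (mat g *ᵥ pad 0 0 y)) := by
    intro y
    funext i
    simp [hM, mulVec, dotProduct, Fin.tail, pad, Fin.sum_univ_succ]
  have hgM : mat g = UnitaryOrder.ext1 (UnitaryOrder.ext1 M) := Matrix.ext_of_mulVec_single fun j => by
    rw [hgi, ← hMv, UnitaryOrder.ext1_mulVec, UnitaryOrder.ext1_mulVec]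
    rfl
  have hMiso : ∀ p q, h4 (M *ᵥ p) (M *ᵥ q) = h4 p q := by
    intro p q
    have := su_h g (pad 0 0 p) (pad 0 0 q)
    rw [hgi, hgi (pad 0 0 q), herm_pad, herm_pad] at this
    simpa [hMv, pad] using this
  have hMd : M.det = 1 := by
    have : (mat g).det = 1 := g.1.2
    rwa [hgM, SpectrumPowers.det_ext1, SpectrumPowers.det_ext1] at this
  rw [show g = Φ (mkSU M hMiso hMd) from su_ext fun x => by rw [hgM]; rfl]
  exact hrange _

/-- An element fixing the standard point is a product of perpendicular transvections modulo scalars. -/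
theorem stabilizer {g : Cfsg.SU 6 F 2} {l : F} (hgu : mat g *ᵥ u₀ F = l • u₀ F) :
    π g ∈ (W hF).map π := by
  classical
  have hl : l ≠ 0 := fun e => mat_ne_zero g (u0_ne hF) (by rw [hgu, e, zero_smul])
  set S : Cfsg.SU 6 F 2 := mkSU ((l⁻¹) • (1 : Matrix (Fin 6) (Fin 6) F))
    (fun x y => by
      rw [smul_mulVec, one_mulVec, smul_mulVec, one_mulVec, h_smul_left, h_smul_right hF, ← mul_assoc,
        norm_one hF (inv_ne_zero hl), one_mul])
    (by
      rw [det_smul, det_one, mul_one, Fintype.card_fin, show 6 = 3 * 2 from rfl, pow_mul,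
        cube hF (inv_ne_zero hl), one_pow]) with hS
  have hSv : ∀ x, mat S *ᵥ x = l⁻¹ • x := fun x => by
    show (l⁻¹ • (1 : Matrix (Fin 6) (Fin 6) F)) *ᵥ x = _
    rw [smul_mulVec, one_mulVec]
  have hSc : S ∈ Subgroup.center (Cfsg.SU 6 F 2) := Subgroup.mem_center_iff.mpr fun k => su_ext fun x => by
    rw [mat_mul, mat_mul, ← mulVec_mulVec, ← mulVec_mulVec, hSv, hSv, mulVec_smul]
  have hπ : π (S * g) = π g := by
    rw [map_mul, show π S = 1 from (QuotientGroup.eq_one_iff _).mpr hSc, one_mul]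
  rw [← hπ]
  set g' := S * g
  have hg' : mat g' *ᵥ u₀ F = u₀ F := by
    rw [mat_mul, ← mulVec_mulVec, hgu, hSv, smul_smul, inv_mul_cancel₀ hl, one_smul]
  obtain ⟨a, b, hv, h1, -, -, -⟩ := exists_v0 hF
  obtain ⟨w, hw, hwv⟩ := move hF hv h1 (v' := mat g' *ᵥ pad a b 0) (by rw [su_h, hv])
    (by conv_lhs => rw [← hg']
        rw [su_h, h1])
  have hwu : mat w *ᵥ u₀ F = u₀ F := by
    refine Subgroup.closure_induction (p := fun k _ => mat k *ᵥ u₀ F = u₀ F) ?_ ?_ ?_ ?_ hw
    · rintro _ ⟨v, -, hv, hvu, rfl⟩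
      rw [tu_mulVec hF hv, ← h_swap hF v, hvu, map_zero, zero_smul, add_zero]
    · rw [mat_one, one_mulVec]
    · intro p q _ _ hp hq
      rw [mat_mul, ← mulVec_mulVec, hq, hp]
    · intro p _ hp
      conv_lhs => rw [← hp]
      rw [mat_inv_mulVec']
  have hfix : w⁻¹ * g' ∈ W hF := fixer hF h1 (by rw [mat_mul, ← mulVec_mulVec, hg']; conv_lhs => rw [← hwu, mat_inv_mulVec'])
    (by rw [mat_mul, ← mulVec_mulVec, ← hwv, mat_inv_mulVec'])
  have := mul_mem hw hfix
  rw [mul_inv_cancel_left] at this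
  exact Subgroup.mem_map_of_mem _ this

end CfsgThreeTrans.M22.Points
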