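/-
The partner group of a transposition in type M(22) as the geometry of isotropic points.
-/
import Cfsg.Agent.Lib.ThreeTrans.M22.Main
import Cfsg.Agent.Lib.ThreeTrans.M22.Points

set_option autoImplicit false
set_option linter.unusedSectionVars false

namespace CfsgThreeTrans.M22

open Matrix Cfsg CfsgLib CfsgLib.UnitaryTransvection CfsgLib.UnitarySimple CfsgThreeTrans.M22.Points

universe u

variable {G : Type u} [Group G] [Finite G] {D : Set G}
variable {F : Type} [Field F] [Fintype F] [DecidableEq F] {hF : Fintype.card F = 2 ^ 2}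

local notation "h" => Cfsg.hermForm 6 F 2
local notation "π" => QuotientGroup.mk' (Subgroup.center (Cfsg.SU 6 F 2))

/-- The nonzero isotropic vectors. -/
abbrev Iso (F : Type) [Field F] : Type := {x : Fin 6 → F // x ≠ 0 ∧ Cfsg.hermForm 6 F 2 x x = 0}

/-- The partner given by an isotropic vector. -/
noncomputable def point (A : Data D F hF) (x : Iso F) : G := (A.lift x.1 x.2.1 x.2.2).choose

theorem point_mem (A : Data D F hF) (x : Iso F) : point A x ∈ Ds D A.t :=
  (A.lift x.1 x.2.1 x.2.2).choose_spec.choose_spec.1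

theorem point_mem' (A : Data D F hF) (x : Iso F) : point A x ∈ Subgroup.closure (Ds D A.t) :=
  Subgroup.subset_closure (point_mem A x)

theorem point_φ (A : Data D F hF) (x : Iso F) : A.φ ⟨point A x, point_mem' A x⟩ = π (tu hF x.1) :=
  (A.lift x.1 x.2.1 x.2.2).choose_spec.choose_spec.2

theorem point_surj (A : Data D F hF) {B : G} (hB : B ∈ Ds D A.t) : ∃ x : Iso F, point A x = B := by
  obtain ⟨u, u0, uu, hu⟩ := A.pt B hB (Subgroup.subset_closure hB)
  exact ⟨⟨u, u0, uu⟩, A.inj _ (point_mem A _) _ hB _ _ ((point_φ A _).trans hu.symm)⟩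

theorem point_eq_iff (A : Data D F hF) (x y : Iso F) : point A x = point A y ↔ ∃ a : F, a ≠ 0 ∧ x.1 = a • y.1 := by
  refine ⟨fun e => ?_, fun ⟨a, ha, e⟩ => ?_⟩
  · have e1 : π (tu hF x.1) = π (tu hF y.1) := by
      rw [← point_φ A x, ← point_φ A y]
      exact congrArg A.φ (Subtype.ext e)
    obtain ⟨a, ha⟩ := tu_point hF x.2.2 x.2.1 y.2.2 (mk_inj hF (tu_sq hF x.2.2) (tu_sq hF y.2.2) e1)
    exact ⟨a, fun e0 => x.2.1 (by rw [ha, e0, zero_smul]), ha⟩
  · refine A.inj _ (point_mem A x) _ (point_mem A y) (point_mem' A x) (point_mem' A y) ?_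
    rw [point_φ, point_φ, e, tu_smul hF y.2.2 ha]

theorem point_commute_iff (A : Data D F hF) (x y : Iso F) :
    Commute (point A x) (point A y) ↔ h x.1 y.1 = 0 := by
  refine ⟨fun e => ?_, fun e => ?_⟩
  · refine of_mk_tu_commute hF x.2.2 x.2.1 y.2.2 ?_
    have := (show Commute (⟨_, point_mem' A x⟩ : Subgroup.closure (Ds D A.t)) ⟨_, point_mem' A y⟩ from
      Subtype.ext e.eq).map A.φ
    rwa [point_φ, point_φ] at this
  · refine A.comm _ (point_mem A x) _ (point_mem A y) (point_mem' A x) (point_mem' A y) ?_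
    rw [point_φ, point_φ]
    exact (tu_commute hF x.2.2 y.2.2 e).map (QuotientGroup.mk' _)

theorem pad_zero : pad (0 : F) 0 0 = 0 := by
  funext j
  refine Fin.cases ?_ (fun j => Fin.cases ?_ (fun j => ?_) j) j <;> simp [pad]

/-- The standard point. -/
def std (hF : Fintype.card F = 2 ^ 2) : Iso F := ⟨u₀ F, u0_ne hF, u0_iso hF⟩

/-- The points over a set of partners are three times as many. -/
theorem card_pre (A : Data D F hF) {S : Set G} (hS : S ⊆ Ds D A.t) :
    Nat.card {x : Iso F // point A x ∈ S} = 3 * S.ncard := by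
  classical
  haveI := Fintype.ofFinite G
  rw [Nat.card_eq_fintype_card, Fintype.card_subtype, Set.ncard_eq_toFinset_card', mul_comm, ← smul_eq_mul]
  rw [Finset.card_eq_sum_card_fiberwise (f := point A) (t := S.toFinset) (fun x hx => by simpa using hx)]
  refine Finset.sum_const_nat (m := 3) fun B hB => ?_
  obtain ⟨x, rfl⟩ := point_surj A (hS (Set.mem_toFinset.mp hB))
  let f : {a : F // a ≠ 0} → Iso F := fun a => ⟨a.1 • x.1, smul_ne_zero a.2 x.2.1, by
    rw [h_smul_left, h_smul_right hF, x.2.2, mul_zero, mul_zero]⟩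
  have hf : Function.Injective f := fun a b e =>
    Subtype.ext (smul_left_injective F x.2.1 (congrArg Subtype.val e))
  rw [show ((Finset.univ.filter fun y : Iso F => point A y ∈ S).filter fun y => point A y = point A x) =
    Finset.univ.image f from ?_]
  · rw [Finset.card_image_of_injective _ hf, Finset.card_univ, Fintype.card_subtype_compl, Fintype.card_subtype_eq, hF]
    norm_num
  refine Finset.ext fun y => ?_
  simp only [Finset.mem_filter, Finset.mem_univ, true_and, Finset.mem_image, f]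
  refine ⟨fun ⟨_, e⟩ => ?_, fun ⟨a, ha⟩ => ?_⟩
  · obtain ⟨a, ha, e'⟩ := (point_eq_iff A y x).mp e
    exact ⟨⟨a, ha⟩, Subtype.ext e'.symm⟩
  · have e : point A y = point A x := (point_eq_iff A y x).mpr ⟨a.1, a.2, by rw [← ha]⟩
    exact ⟨e ▸ Set.mem_toFinset.mp hB, e⟩

/-- Point counts inside a perpendicular condition. -/
theorem card_points (A : Data D F hF) {S : Set G} (hS : S ⊆ Ds D A.t) (P : (Fin 6 → F) → Prop)
    (hP0 : P 0) (hP : ∀ x : Iso F, point A x ∈ S ∨ point A x = point A (std hF) ↔ P x.1) :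
    3 * (S ∪ {point A (std hF)}).ncard + 1 = Nat.card {x : Fin 6 → F // h x x = 0 ∧ P x} := by
  classical
  rw [← card_pre A (Set.union_subset hS (Set.singleton_subset_iff.mpr (point_mem A _)))]
  rw [← Finite.card_option]
  refine Nat.card_congr (Equiv.ofBijective
    (fun o : Option {x : Iso F // point A x ∈ S ∪ {point A (std hF)}} =>
      (o.elim ⟨0, by simp [Cfsg.hermForm], hP0⟩ fun x => ⟨x.1.1, x.1.2.2, (hP x.1).mp x.2⟩ :
        {x : Fin 6 → F // h x x = 0 ∧ P x})) ⟨?_, fun x => ?_⟩)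
  · rintro (_ | a) (_ | b) e <;> simp only [Option.elim, Subtype.ext_iff] at e
    · rfl
    · exact absurd e.symm b.1.2.1
    · exact absurd e a.1.2.1
    · exact congrArg some (Subtype.ext (Subtype.ext e))
  · by_cases h0 : x.1 = 0
    · exact ⟨none, Subtype.ext h0.symm⟩
    · exact ⟨some ⟨⟨x.1, h0, x.2.1⟩, (hP ⟨x.1, h0, x.2.1⟩).mpr x.2.2⟩, rfl⟩

theorem ncard_partners (A : Data D F hF) : (Ds D A.t).ncard = 693 := by
  classical
  have e := card_pre A (S := Ds D A.t) subset_rfl
  rw [Nat.card_congr (Equiv.subtypeUnivEquiv fun x => point_mem A x)] at e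
  have hA := HermCount.q_mul_A0 hF 6
  norm_num [-Nat.card_eq_fintype_card] at hA
  have hcard : Nat.card (Iso F) + 1 = HermCount.A0 F 2 6 := by
    unfold HermCount.A0
    rw [Nat.card_eq_fintype_card, Nat.card_eq_fintype_card, Fintype.card_subtype, Fintype.card_subtype,
      show (Finset.univ.filter fun v : Fin 6 → F => h v v = 0) =
          insert 0 (Finset.univ.filter fun v : Fin 6 → F => v ≠ 0 ∧ h v v = 0) by
        ext v
        by_cases hv : v = 0
        · subst hv; simp [h_zero_left hF]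
        · simp [hv],
      Finset.card_insert_of_notMem (by simp)]
  omega

theorem ncard_perp_std (A : Data D F hF) :
    (Ds D A.t ∩ Ds D (point A (std hF))).ncard = 180 := by
  have e := card_points A (S := Ds D A.t ∩ Ds D (point A (std hF))) Set.inter_subset_left
    (fun x => h x (u₀ F) = 0) (h_zero_left hF _) fun x => ?_
  · rw [card_perp hF, Set.union_singleton, Set.ncard_insert_of_notMem (fun h' => h'.2.2.1 rfl)] at e
    omega
  refine ⟨?_, fun hx => ?_⟩
  · rintro (hx | hx)
    · exact (point_commute_iff A x (std hF)).mp hx.2.2.2.symm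
    · exact (point_commute_iff A x (std hF)).mp (by rw [hx])
  · by_cases e : point A x = point A (std hF)
    · exact Or.inr e
    · exact Or.inl ⟨point_mem A x, (point_mem A x).1, e, ((point_commute_iff A x (std hF)).mpr hx).symm⟩

/-- Conjugation in the partner group is the linear action. -/
theorem cj_point (hD : IsThreeTranspositionClass D) (A : Data D F hF) {g : G}
    (hg : g ∈ Subgroup.closure (Ds D A.t)) {k : Cfsg.SU 6 F 2} (hk : A.φ ⟨g, hg⟩ = π k) (x : Iso F) :
    ∃ y : Iso F, y.1 = mat k *ᵥ x.1 ∧ g * point A x * g⁻¹ = point A y := by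
  refine ⟨⟨mat k *ᵥ x.1, mat_ne_zero _ x.2.1, by rw [su_h, x.2.2]⟩, rfl, ?_⟩
  have hmem : g * point A x * g⁻¹ ∈ Ds D A.t := by
    have hgt := closure_Ds_commute hg
    have e : g * A.t * g⁻¹ = A.t := by rw [hgt.eq, mul_inv_cancel_right]
    refine ⟨cls_conj hD g (point_mem A x).1, fun e' => (point_mem A x).2.1 (cj_injective g (e'.trans e.symm)), ?_⟩
    have := (commute_cj_iff g).mpr (point_mem A x).2.2
    rwa [e] at this
  refine A.inj _ hmem _ (point_mem A _) (Subgroup.subset_closure hmem) (point_mem' A _) ?_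
  rw [point_φ, show (⟨g * point A x * g⁻¹, Subgroup.subset_closure hmem⟩ : Subgroup.closure (Ds D A.t)) =
    ⟨g, hg⟩ * ⟨_, point_mem' A x⟩ * ⟨g, hg⟩⁻¹ from rfl, map_mul, map_mul, map_inv, hk, point_φ, ← map_inv,
    ← map_mul, ← map_mul, tu_conj hF _ x.2.2]

theorem move_point (hD : IsThreeTranspositionClass D) (A : Data D F hF) (x : Iso F) :
    ∃ g ∈ Subgroup.closure (Ds D A.t), g * point A (std hF) * g⁻¹ = point A x := by
  obtain ⟨k, hk⟩ := UnitaryTransConj.su_trans hF (by norm_num) (u0_ne hF) x.2.1 (u0_iso hF) x.2.2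
  obtain ⟨⟨g, hg⟩, hgk⟩ := A.sur (π k)
  obtain ⟨y, hy, hgy⟩ := cj_point hD A hg hgk (std hF)
  exact ⟨g, hg, hgy.trans (congrArg (point A) (Subtype.ext (hy.trans hk)))⟩

/-- Conjugation by an element of the partner group preserves common partner sets. -/
theorem cj_inter (hD : IsThreeTranspositionClass D) {t g : G} (hg : g ∈ Subgroup.closure (Ds D t)) (B : G) :
    (fun z => g * z * g⁻¹) '' (Ds D t ∩ Ds D B) = Ds D t ∩ Ds D (g * B * g⁻¹) := by
  have e : g * t * g⁻¹ = t := by rw [(closure_Ds_commute hg).eq, mul_inv_cancel_right]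
  rw [Set.image_inter (cj_injective g), cj_Ds hD, cj_Ds hD, e]

theorem ncard_perp (hD : IsThreeTranspositionClass D) (A : Data D F hF) {B : G} (hB : B ∈ Ds D A.t) :
    (Ds D A.t ∩ Ds D B).ncard = 180 := by
  obtain ⟨x, rfl⟩ := point_surj A hB
  obtain ⟨g, hg, e⟩ := move_point hD A x
  rw [← e, ← cj_inter hD hg, Set.ncard_image_of_injective _ (cj_injective g), ncard_perp_std A]

theorem ncard_nonperp (hD : IsThreeTranspositionClass D) (A : Data D F hF) {B C : G} (hB : B ∈ Ds D A.t)
    (hC : C ∈ Ds D A.t) (hBC : ¬ Commute B C) : (Ds D A.t ∩ Ds D B ∩ Ds D C).ncard = 45 := by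
  classical
  obtain ⟨a, b, hv, h1, -, -, -⟩ := exists_v0 hF
  set v₀ : Iso F := ⟨pad a b 0, fun e => one_ne_zero (α := F) (by rw [← h1, e, h_zero_right hF]), hv⟩
  set S₀ := Ds D A.t ∩ Ds D (point A (std hF)) ∩ Ds D (point A v₀)
  have hS₀ : S₀.ncard = 45 := by
    have hne : ¬ Commute (point A (std hF)) (point A v₀) := fun hc =>
      one_ne_zero (α := F) (h1.symm.trans ((point_commute_iff A _ _).mp hc))
    have e := card_pre A (S := S₀) fun _ hx => hx.1.1
    have e' : Nat.card {x : Iso F // point A x ∈ S₀} + 1 = 136 := by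
      rw [← card_common hF h1, ← Finite.card_option]
      refine Nat.card_congr (Equiv.ofBijective
        (fun o : Option {x : Iso F // point A x ∈ S₀} =>
          (o.elim ⟨0, by simp [Cfsg.hermForm], h_zero_left hF _, h_zero_left hF _⟩ fun x =>
            ⟨x.1.1, x.1.2.2, (point_commute_iff A x.1 (std hF)).mp x.2.1.2.2.2.symm,
              (point_commute_iff A x.1 v₀).mp x.2.2.2.2.symm⟩ :
            {x : Fin 6 → F // h x x = 0 ∧ h x (u₀ F) = 0 ∧ h x (pad a b 0) = 0})) ⟨?_, fun x => ?_⟩)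
      · rintro (_ | p) (_ | q) e <;> simp only [Option.elim, Subtype.ext_iff] at e
        · rfl
        · exact absurd e.symm q.1.2.1
        · exact absurd e p.1.2.1
        · exact congrArg some (Subtype.ext (Subtype.ext e))
      · by_cases h0 : x.1 = 0
        · exact ⟨none, Subtype.ext h0.symm⟩
        · set y : Iso F := ⟨x.1, h0, x.2.1⟩
          have c1 := (point_commute_iff A y (std hF)).mpr x.2.2.1
          have c2 := (point_commute_iff A y v₀).mpr x.2.2.2
          have n1 : point A y ≠ point A (std hF) := fun e => hne (e ▸ c2)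
          have n2 : point A y ≠ point A v₀ := fun e => hne (e ▸ c1).symm
          exact ⟨some ⟨y, ⟨point_mem A y, (point_mem A y).1, n1, c1.symm⟩, (point_mem A y).1, n2, c2.symm⟩, rfl⟩
    omega
  obtain ⟨x, rfl⟩ := point_surj A hB
  obtain ⟨g, hg, hgx⟩ := move_point hD A x
  rw [← hgx] at hBC ⊢
  obtain ⟨y, hy⟩ := point_surj A hC
  have hgi := inv_mem hg
  obtain ⟨k, hk⟩ := QuotientGroup.mk'_surjective _ (A.φ ⟨g⁻¹, hgi⟩)
  obtain ⟨y', -, hy'⟩ := cj_point hD A hgi hk.symm y
  have hne : h (u₀ F) y'.1 ≠ 0 := fun e => hBC (by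
    have := (commute_cj_iff g).mpr ((point_commute_iff A (std hF) y').mpr e)
    rwa [← hy', hy, show g * (g⁻¹ * C * g⁻¹⁻¹) * g⁻¹ = C from cj_inv g C] at this)
  set r := h (u₀ F) y'.1
  have hr : frob hF r ≠ 0 := by simpa using hne
  set y'' : Iso F := ⟨frob hF r⁻¹ • y'.1, smul_ne_zero (by simpa using hne) y'.2.1, by
    rw [h_smul_left, h_smul_right hF, y'.2.2, mul_zero, mul_zero]⟩
  have hy'' : point A y'' = point A y' := (point_eq_iff A y'' y').mpr ⟨_, by simpa using hne, rfl⟩
  have h1' : h (u₀ F) y''.1 = 1 := by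
    show h (u₀ F) (frob hF r⁻¹ • y'.1) = 1
    rw [h_smul_right hF, show frob hF (frob hF r⁻¹) = r⁻¹ from frob_frob hF _]
    exact inv_mul_cancel₀ hne
  obtain ⟨w, hw, hwv⟩ := move hF hv h1 y''.2.2 h1'
  have hwu : mat w *ᵥ u₀ F = u₀ F := by
    refine Subgroup.closure_induction (p := fun k _ => mat k *ᵥ u₀ F = u₀ F) ?_ ?_ ?_ ?_ hw
    · rintro _ ⟨v, -, hv, hvu, rfl⟩
      rw [tu_mulVec hF hv, ← h_swap hF v, hvu, map_zero, zero_smul, add_zero]
    · rw [mat_one, one_mulVec]
    · intro p q _ _ hp hq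
      rw [mat_mul, ← mulVec_mulVec, hq, hp]
    · intro p _ hp
      conv_lhs => rw [← hp]
      rw [mat_inv_mulVec']
  obtain ⟨⟨l, hl⟩, hlk⟩ := A.sur (π w)
  obtain ⟨p, hp, hlp⟩ := cj_point hD A hl hlk (std hF)
  obtain ⟨p', hp', hlp'⟩ := cj_point hD A hl hlk v₀
  rw [show p = std hF from Subtype.ext (hp.trans hwu)] at hlp
  rw [show p' = y'' from Subtype.ext (hp'.trans hwv), hy'', ← hy', hy] at hlp'
  have hgl : g * l ∈ Subgroup.closure (Ds D A.t) := mul_mem hg hl
  have e1 : g * l * point A (std hF) * (g * l)⁻¹ = g * point A (std hF) * g⁻¹ := by rw [← cj_cj, hlp]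
  have e2 : g * l * point A v₀ * (g * l)⁻¹ = C := by rw [← cj_cj, hlp', cj_inv]
  have e3 : (fun z => g * l * z * (g * l)⁻¹) '' S₀ = Ds D A.t ∩ Ds D (g * point A (std hF) * g⁻¹) ∩ Ds D C := by
    rw [Set.image_inter (cj_injective _), cj_inter hD hgl, cj_Ds hD, e1, e2]
  rw [← e3, Set.ncard_image_of_injective _ (cj_injective _), hS₀]

theorem ncard_two_perp_le (hD : IsThreeTranspositionClass D) (A : Data D F hF) {B C : G} (hB : B ∈ Ds D A.t)
    (hC : C ∈ Ds D A.t) (hne : B ≠ C) (hBC : Commute B C) : (Ds D A.t ∩ Ds D B ∩ Ds D C).ncard ≤ 85 := by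
  classical
  obtain ⟨x, rfl⟩ := point_surj A hB
  obtain ⟨g, hg, hgx⟩ := move_point hD A x
  rw [← hgx] at hne hBC ⊢
  have hgi := inv_mem hg
  obtain ⟨y, hy⟩ := point_surj A hC
  obtain ⟨k, hk⟩ := QuotientGroup.mk'_surjective _ (A.φ ⟨g⁻¹, hgi⟩)
  obtain ⟨y', -, hy'⟩ := cj_point hD A hgi hk.symm y
  have hgy : g * point A y' * g⁻¹ = C := by rw [← hy', hy, cj_inv]
  have hcom : h y'.1 (u₀ F) = 0 := (point_commute_iff A y' (std hF)).mp
    ((commute_cj_iff g).mp (hgy.symm ▸ hBC.symm))
  have hny : point A y' ≠ point A (std hF) := fun e => hne (by rw [← hgy, e])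
  rw [← hgy, show Ds D A.t ∩ Ds D (g * point A (std hF) * g⁻¹) ∩ Ds D (g * point A y' * g⁻¹) =
    (fun z => g * z * g⁻¹) '' (Ds D A.t ∩ Ds D (point A (std hF)) ∩ Ds D (point A y')) by
      rw [Set.image_inter (cj_injective _), cj_inter hD hg, cj_Ds hD],
    Set.ncard_image_of_injective _ (cj_injective g)]
  have hyt : y'.1 0 = y'.1 1 := by
    have := hcom
    rw [pad_eta y'.1, perp_u0 hF] at this
    have := congrArg (· + y'.1 1) this
    simpa [add_assoc, add_self hF] using this
  obtain ⟨i, hi⟩ : ∃ i, Fin.tail (Fin.tail y'.1) i ≠ 0 := by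
    by_contra hall
    push Not at hall
    refine hny ((point_eq_iff A y' (std hF)).mpr ⟨y'.1 0, fun e0 => y'.2.1 ?_, ?_⟩)
    · rw [pad_eta y'.1, ← hyt, e0, show Fin.tail (Fin.tail y'.1) = 0 from funext hall]
      exact pad_zero
    · show y'.1 = y'.1 0 • u₀ F
      conv_lhs => rw [pad_eta y'.1, ← hyt, show Fin.tail (Fin.tail y'.1) = 0 from funext hall]
      funext j
      refine Fin.cases ?_ (fun j => Fin.cases ?_ (fun j => ?_) j) j <;> simp [pad, u₀]
  set S := Ds D A.t ∩ Ds D (point A (std hF)) ∩ Ds D (point A y')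
  have e := card_pre A (S := S) fun _ hx => hx.1.1
  let f : Option {x : Iso F // point A x ∈ S} → F × (Fin 3 → F) := fun o =>
    o.elim (0, 0) fun x => (x.1.1 0, fun j => Fin.tail (Fin.tail x.1.1) (i.succAbove j))
  have hf : Function.Injective f := by
    have key : ∀ p : Fin 6 → F, h p (u₀ F) = 0 → h p y'.1 = 0 →
        (p 0, fun j => Fin.tail (Fin.tail p) (i.succAbove j)) = (0, 0) → p = 0 := by
      intro p hp1 hp2 hp
      obtain ⟨h0, hr⟩ := Prod.mk.inj hp
      rw [pad_eta p, perp_u0 hF, h0, zero_add] at hp1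
      rw [pad_eta p, pad_eta y'.1, herm_pad, h0, hp1, zero_mul, zero_mul, zero_add, zero_add] at hp2
      unfold Cfsg.hermForm at hp2
      rw [Fin.sum_univ_succAbove _ i] at hp2
      simp only [show ∀ j, Fin.tail (Fin.tail p) (i.succAbove j) = 0 from fun j => congrFun hr j, zero_mul,
        Finset.sum_const_zero, add_zero] at hp2
      have hi0 := (mul_eq_zero.mp hp2).resolve_right (pow_ne_zero 2 hi)
      rw [pad_eta p, h0, hp1, show Fin.tail (Fin.tail p) = 0 from funext fun j => by
        rcases Fin.eq_self_or_eq_succAbove i j with rfl | ⟨m, rfl⟩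
        exacts [hi0, congrFun hr m]]
      exact pad_zero
    have per : ∀ x : {x : Iso F // point A x ∈ S}, h x.1.1 (u₀ F) = 0 ∧ h x.1.1 y'.1 = 0 := fun x =>
      ⟨(point_commute_iff A x.1 (std hF)).mp x.2.1.2.2.2.symm, (point_commute_iff A x.1 y').mp x.2.2.2.2.symm⟩
    rintro (_ | p) (_ | q) e' <;> simp only [f, Option.elim] at e'
    · rfl
    · exact absurd (key _ (per q).1 (per q).2 e'.symm) q.1.2.1
    · exact absurd (key _ (per p).1 (per p).2 e') p.1.2.1
    · obtain ⟨h0, hr⟩ := Prod.mk.inj e'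
      refine congrArg some (Subtype.ext (Subtype.ext ?_))
      have hd : p.1.1 - q.1.1 = 0 := key _ (by rw [sub_eq_add_neg, ← neg_one_smul F q.1.1, h_add_left, h_smul_left,
          (per p).1, (per q).1, mul_zero, add_zero])
        (by rw [sub_eq_add_neg, ← neg_one_smul F q.1.1, h_add_left, h_smul_left, (per p).2, (per q).2, mul_zero,
          add_zero])
        (Prod.ext (by simp [h0]) (funext fun j => by
          have := congrFun hr j
          simp [Fin.tail] at this ⊢
          rw [this, sub_self]))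
      exact sub_eq_zero.mp hd
  have hle := Nat.card_le_card_of_injective f hf
  rw [Finite.card_option, e, Nat.card_prod, Nat.card_fun, Nat.card_eq_fintype_card, hF, Nat.card_eq_fintype_card,
    Fintype.card_fin] at hle
  omega

end CfsgThreeTrans.M22
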