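/-
The parameters of the commuting relation in type M(22).
-/
import Cfsg.Agent.Lib.ThreeTrans.M22.Geom
import Cfsg.Agent.Lib.ThreeTrans.Srg

set_option autoImplicit false
set_option linter.unusedSectionVars false

namespace CfsgThreeTrans.M22

open Cfsg CfsgLib

universe u

variable {G : Type u} [Group G] [Finite G] {D : Set G}
variable {F : Type} [Field F] [Fintype F] [DecidableEq F] {hF : Fintype.card F = 2 ^ 2}

theorem has_pair (A : Data D F hF) : ∃ a ∈ D, ∃ b ∈ D, a ≠ b ∧ Commute a b := by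
  obtain ⟨y, my, hy, -⟩ := A.lift _ (exists_iso hF).choose_spec.1 (exists_iso hF).choose_spec.2
  exact ⟨A.t, A.ht, y, hy.1, hy.2.1.symm, hy.2.2⟩

theorem ncard_Ds (hD : IsThreeTranspositionClass D) (A : Data D F hF) {d : G} (hd : d ∈ D) :
    (Ds D d).ncard = 693 := by
  obtain ⟨g, rfl⟩ := cls_exists_conj hD A.ht hd
  rw [← cj_Ds hD, Set.ncard_image_of_injective _ (cj_injective g), ncard_partners A]

theorem ncard_near (hD : IsThreeTranspositionClass D) (A : Data D F hF) {a b : G} (ha : a ∈ D) (hb : b ∈ Ds D a) :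
    (Ds D a ∩ Ds D b).ncard = 180 := by
  obtain ⟨g, rfl⟩ := cls_exists_conj hD A.ht ha
  have hb' : g⁻¹ * b * g⁻¹⁻¹ ∈ Ds D A.t := by
    refine ⟨cls_conj hD _ hb.1, fun e => hb.2.1 ?_, ?_⟩
    · rw [← e]; group
    · have := (commute_cj_iff g⁻¹).mpr hb.2.2
      rwa [show g⁻¹ * (g * A.t * g⁻¹) * g⁻¹⁻¹ = A.t by group] at this
  rw [← cj_inv g b, ← cj_Ds hD g A.t, ← cj_Ds hD g, ← Set.image_inter (cj_injective g),
    Set.ncard_image_of_injective _ (cj_injective g), ncard_perp hD A hb']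

theorem far_const (hD : IsThreeTranspositionClass D) (hp : IsPrimitiveUnderConj D)
    (hw : ∃ a ∈ D, ∃ b ∈ D, a ≠ b ∧ Commute a b) {a b a' b' : G} (ha : a ∈ D) (hb : b ∈ D) (hab : ¬ Commute a b)
    (ha' : a' ∈ D) (hb' : b' ∈ D) (hab' : ¬ Commute a' b') :
    (Ds D a' ∩ Ds D b').ncard = (Ds D a ∩ Ds D b).ncard := by
  obtain ⟨g, rfl⟩ := cls_exists_conj hD ha ha'
  obtain ⟨k, hk, hkb⟩ := rank_three_far hD hp hw ha' (g * b * g⁻¹) (cls_conj hD g hb)
    (fun h => hab ((commute_cj_iff g).mp h)) b' hb' hab'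
  have e : k * (g * a * g⁻¹) * k⁻¹ = g * a * g⁻¹ := by rw [hk.eq, mul_inv_cancel_right]
  rw [← hkb, ← e, ← cj_Ds hD k, ← cj_Ds hD k, ← Set.image_inter (cj_injective k),
    Set.ncard_image_of_injective _ (cj_injective k), ← cj_Ds hD g, ← cj_Ds hD g, ← Set.image_inter (cj_injective g),
    Set.ncard_image_of_injective _ (cj_injective g)]

/-- Common partners of the two base members: a number divisible by seven, below 693. -/
theorem far_seven (hD : IsThreeTranspositionClass D) (hp : IsPrimitiveUnderConj D) (A : Data D F hF) :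
    7 ∣ (Ds D A.t ∩ Ds D A.c).ncard ∧ (Ds D A.t ∩ Ds D A.c).ncard < 693 := by
  classical
  set S := Ds D A.t ∩ Ds D A.c with hS
  refine ⟨?_, ?_⟩
  swap
  · rw [← ncard_partners A]
    refine Set.ncard_lt_ncard ⟨Set.inter_subset_left, fun hsub => A.htc ?_⟩ (Set.toFinite _)
    have hcard : (Ds D A.c).ncard ≤ (Ds D A.t).ncard := by rw [ncard_partners A, ncard_Ds hD A A.hc]
    have hcW : A.c ∈ Ws D A.t :=
      ⟨A.hc, Set.eq_of_subset_of_ncard_le (fun x hx => (hsub hx).2) hcard⟩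
    rw [Ws_trivial hD hp (has_pair A) A.ht, Set.mem_singleton_iff] at hcW
    rw [hcW]
  set L := Subgroup.closure (Ds D A.t ∩ Ds D A.c)
  have hLK : L ≤ Subgroup.closure (Ds D A.t) := Subgroup.closure_mono Set.inter_subset_left
  set ψ : L →* PSU 6 F 2 := A.φ.comp (Subgroup.inclusion hLK)
  have hker : ψ.ker ≤ Subgroup.center L := fun a ha => by
    rw [MonoidHom.mem_ker] at ha
    have h1 : Subgroup.inclusion hLK a ∈ Subgroup.center ↥(Subgroup.closure (Ds D A.t)) := A.ker_φ ▸ ha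
    refine Subgroup.mem_center_iff.mpr fun b => Subgroup.inclusion_injective hLK ?_
    rw [map_mul, map_mul]
    exact Subgroup.mem_center_iff.mp h1 (Subgroup.inclusion hLK b)
  have h7 : 7 ∣ Nat.card ψ.range := by
    rw [← Subgroup.index_ker]
    exact dvd_trans A.seven (Subgroup.index_dvd_of_le hker)
  haveI : Fact (Nat.Prime 7) := ⟨by norm_num⟩
  obtain ⟨⟨e, a, rfl⟩, he⟩ := exists_prime_orderOf_dvd_card' (G := ψ.range) 7 h7
  rw [← Subgroup.orderOf_coe] at he
  change orderOf (ψ a) = 7 at he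
  have hLc : ∀ y ∈ L, Commute y A.t ∧ Commute y A.c := fun y hy =>
    ⟨closure_Ds_commute (Subgroup.closure_mono Set.inter_subset_left hy),
      closure_Ds_commute (Subgroup.closure_mono Set.inter_subset_right hy)⟩
  have hSmem : ∀ g : G, g ∈ L → ∀ x ∈ S, g * x * g⁻¹ ∈ S := by
    intro g hg x hx
    have e1 : g * A.t * g⁻¹ = A.t := by rw [(hLc g hg).1.eq, mul_inv_cancel_right]
    have e2 : g * A.c * g⁻¹ = A.c := by rw [(hLc g hg).2.eq, mul_inv_cancel_right]
    have h1 : g * x * g⁻¹ ∈ (fun z => g * z * g⁻¹) '' Ds D A.t := ⟨x, hx.1, rfl⟩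
    have h2 : g * x * g⁻¹ ∈ (fun z => g * z * g⁻¹) '' Ds D A.c := ⟨x, hx.2, rfl⟩
    rw [cj_Ds hD, e1] at h1
    rw [cj_Ds hD, e2] at h2
    exact ⟨h1, h2⟩
  let σ : Equiv.Perm S :=
    { toFun := fun x => ⟨(a : G) * x.1 * (a : G)⁻¹, hSmem _ a.2 _ x.2⟩
      invFun := fun x => ⟨(a : G)⁻¹ * x.1 * (a : G)⁻¹⁻¹, hSmem _ (inv_mem a.2) _ x.2⟩
      left_inv := fun x => Subtype.ext (by simp only; group)
      right_inv := fun x => Subtype.ext (cj_inv _ _) }
  have hpow : ∀ n : ℕ, ∀ x : S, ((σ ^ n) x : G) = (a : G) ^ n * x.1 * ((a : G) ^ n)⁻¹ := by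
    intro n
    induction n with
    | zero => intro x; simp
    | succ n ih =>
      intro x
      rw [pow_succ', Equiv.Perm.mul_apply, pow_succ' (a : G) n, ← cj_cj, ← ih x]
      rfl
  have h7' : σ ^ (7 ^ 1) = 1 := by
    refine Equiv.ext fun x => Subtype.ext ?_
    rw [pow_one, hpow]
    have hz : (Subgroup.inclusion hLK a) ^ 7 ∈ Subgroup.center ↥(Subgroup.closure (Ds D A.t)) := by
      rw [← A.ker_φ, MonoidHom.mem_ker, map_pow]
      show ψ a ^ 7 = 1
      rw [← he, pow_orderOf_eq_one]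
    have hc := congrArg Subtype.val (Subgroup.mem_center_iff.mp hz ⟨x.1, Subgroup.subset_closure x.2.1⟩)
    simp only [Subgroup.coe_mul, SubmonoidClass.coe_pow, Subgroup.coe_inclusion] at hc
    show (a : G) ^ 7 * x.1 * ((a : G) ^ 7)⁻¹ = x.1
    rw [← hc, mul_inv_cancel_right]
  haveI : Fintype S := Fintype.ofFinite S
  have hfree : ∀ x : S, σ x ≠ x := by
    intro x hx
    obtain ⟨u, hu0, hu, hux⟩ := A.pt x.1 x.2.1 (Subgroup.subset_closure x.2.1)
    have hax : Commute (Subgroup.inclusion hLK a) ⟨x.1, Subgroup.subset_closure x.2.1⟩ :=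
      Subtype.ext (mul_inv_eq_iff_eq_mul.mp (congrArg Subtype.val hx))
    have h1 := psu_no_seven hF hu0 hu (e := ψ a) (by rw [← he]; exact pow_orderOf_eq_one _)
      (by have := hax.map A.φ; rw [hux] at this; exact this)
    rw [h1, orderOf_one] at he
    norm_num at he
  have hmod := Equiv.Perm.card_fixedPoints_modEq (f := (⇑σ : Function.End S)) (p := 7) (n := 1)
    (show (σ : S → S)^[7 ^ 1] = id by rw [← Equiv.Perm.coe_pow, h7']; rfl)
  rw [show Fintype.card (Function.fixedPoints (σ : S → S)) = 0 from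
    Fintype.card_eq_zero_iff.mpr ⟨fun x => hfree x.1 x.2⟩, Nat.modEq_zero_iff_dvd,
    ← Nat.card_eq_fintype_card, Nat.card_coe_set_eq] at hmod
  exact hmod

/-- The relation of commuting and being different. -/
abbrev Adj (D : Set G) (x y : D) : Prop := (y : G) ∈ Ds D (x : G)

theorem card_filter_eq (P : G → Prop) [DecidablePred P] [Fintype D] (hP : ∀ y, P y → y ∈ D) :
    (Finset.univ.filter fun y : D => P y).card = {y : G | P y}.ncard := by
  classical
  rw [← Set.ncard_coe_finset, ← Set.ncard_image_of_injective _ (Subtype.val_injective (p := (· ∈ D)))]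
  congr 1
  ext y
  simp only [Finset.coe_filter, Finset.mem_univ, true_and, Set.mem_image, Set.mem_setOf_eq]
  exact ⟨fun ⟨z, hz, e⟩ => e ▸ hz, fun hy => ⟨⟨y, hP y hy⟩, hy, rfl⟩⟩

/-- The parameters. -/
theorem params (hD : IsThreeTranspositionClass D) (hp : IsPrimitiveUnderConj D) (A : Data D F hF) :
    D.ncard = 3510 ∧ ∀ a ∈ D, ∀ b ∈ D, ¬ Commute a b → (Ds D a ∩ Ds D b).ncard = 126 := by
  classical
  haveI : Fintype D := Fintype.ofFinite D
  haveI : Nonempty D := ⟨⟨A.t, A.ht⟩⟩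
  obtain ⟨h7, hlt⟩ := far_seven hD hp A
  set m := (Ds D A.t ∩ Ds D A.c).ncard
  have hfar : ∀ a ∈ D, ∀ b ∈ D, ¬ Commute a b → (Ds D a ∩ Ds D b).ncard = m := fun a ha b hb hab =>
    far_const hD hp (has_pair A) A.ht A.hc A.htc ha hb hab
  have hreg : Srg.IsReg (Adj D) 693 180 m := by
    refine ⟨fun x y h => ⟨x.2, fun e => h.2.1 e.symm, h.2.2.symm⟩, fun x h => h.2.1 rfl, fun x => ?_,
      fun x y h => ?_, fun x y hne h => ?_⟩
    · rw [← ncard_Ds hD A x.2]
      exact card_filter_eq (fun y => y ∈ Ds D x.1) fun y h => h.1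
    · rw [← ncard_near hD A x.2 h]
      exact card_filter_eq (fun z => z ∈ Ds D x.1 ∧ z ∈ Ds D y.1) fun y h => h.1.1
    · rw [← hfar x.1 x.2 y.1 y.2 fun hc => h ⟨y.2, fun e => hne (Subtype.ext e.symm), hc⟩]
      exact card_filter_eq (fun z => z ∈ Ds D x.1 ∧ z ∈ Ds D y.1) fun y h => h.1.1
  have hv : D.ncard = Fintype.card D := by rw [← Nat.card_coe_set_eq, Nat.card_eq_fintype_card]
  have hcount := Srg.count hreg
  rw [← hv] at hcount
  set v := D.ncard
  have hvm : (m : ℤ) * (v - 694) = 354816 := by push_cast at hcount; linarith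
  have hv694 : 694 ≤ v := by
    rcases Nat.lt_or_ge v 694 with hlt' | hge
    · exfalso
      have : (m : ℤ) * ((v : ℤ) - 694) ≤ 0 :=
        mul_nonpos_of_nonneg_of_nonpos (by positivity) (by omega)
      omega
    · exact hge
  have hvm' : m * (v - 694) = 354816 := by
    have : ((m * (v - 694) : ℕ) : ℤ) = 354816 := by push_cast [Nat.cast_sub hv694]; exact hvm
    exact_mod_cast this
  obtain ⟨j, hj⟩ := h7
  have hodd : Odd (Fintype.card D - 1) := by
    rw [← hv]
    by_contra hcon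
    rw [Nat.not_odd_iff_even] at hcon
    have h1 : Odd (v - 694) := by
      rw [Nat.odd_iff]
      have := Nat.even_iff.mp hcon
      omega
    have h512 : 512 ∣ j := by
      have : 512 ∣ j * (7 * (v - 694)) := ⟨693, by rw [← mul_assoc, mul_comm j 7, ← hj, hvm']⟩
      refine (Nat.Coprime.dvd_of_dvd_mul_right ?_ this)
      rw [show 512 = 2 ^ 9 from rfl, Nat.coprime_pow_left_iff (by norm_num), Nat.coprime_two_left]
      exact (show Odd 7 by decide).mul h1
    rcases Nat.eq_zero_or_pos j with rfl | hpos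
    · rw [hj, mul_zero, zero_mul] at hvm'
      omega
    · have := Nat.le_of_dvd hpos h512
      omega
  have hsq := Srg.discr_square hreg hodd (by push_cast; omega)
  have key : ∀ j < 99, 354816 % (7 * j) = 0 → IsSquare ((7 * j) * (7 * j) + 35172 - 364 * (7 * j)) → j = 18 := by
    decide +kernel
  have hsq' : IsSquare (m * m + 35172 - 364 * m) := by
    have hle : 364 * m ≤ m * m + 35172 := by
      rcases Nat.lt_or_ge m 97 with h | h
      · omega
      · zify
        nlinarith [sq_nonneg ((m : ℤ) - 182)]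
    rw [← Int.isSquare_natCast_iff]
    convert hsq using 1
    push_cast [Nat.cast_sub hle]
    ring
  have hj18 : j = 18 := key j (by omega) (Nat.mod_eq_zero_of_dvd ⟨v - 694, by rw [← hj]; exact hvm'.symm⟩)
    (hj ▸ hsq')
  subst hj18
  refine ⟨?_, fun a ha b hb hab => (hfar a ha b hb hab).trans hj⟩
  have : m = 126 := hj
  rw [this] at hvm'
  omega

end CfsgThreeTrans.M22
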