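/-
The centraliser of a transposition in type M(22), and the order of the group.
-/
import Cfsg.Agent.Lib.ThreeTrans.M22.Params
import Cfsg.Agent.Lib.ThreeTrans.M22.Fact
import Cfsg.Agent.Lib.ThreeTrans.Local

set_option autoImplicit false
set_option linter.unusedSectionVars false

namespace CfsgThreeTrans.M22

open Matrix Cfsg CfsgLib CfsgLib.UnitarySimple CfsgThreeTrans.M22.Points

universe u

variable {G : Type u} [Group G] [Finite G] {D : Set G}
variable {F : Type} [Field F] [Fintype F] [DecidableEq F] {hF : Fintype.card F = 2 ^ 2}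

/-- Move a partner pair to the base transposition. -/
theorem to_base (hD : IsThreeTranspositionClass D) (A : Data D F hF) {a : G} (ha : a ∈ D) :
    ∃ g : G, g * A.t * g⁻¹ = a ∧ ∀ {B : G}, B ∈ Ds D a → g⁻¹ * B * g⁻¹⁻¹ ∈ Ds D A.t := by
  obtain ⟨g, hg⟩ := cls_exists_conj hD A.ht ha
  refine ⟨g, hg, fun {B} hB => ⟨cls_conj hD _ hB.1, fun e => hB.2.1 ?_, ?_⟩⟩
  · rw [← hg, ← e]; group
  · have := (commute_cj_iff g⁻¹).mpr hB.2.2
    rwa [← hg, show g⁻¹ * (g * A.t * g⁻¹) * g⁻¹⁻¹ = A.t by group] at this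

theorem ncard_three (hD : IsThreeTranspositionClass D) (A : Data D F hF) {a B C : G} (ha : a ∈ D) (hB : B ∈ Ds D a)
    (hC : C ∈ Ds D a) :
    (¬ Commute B C → (Ds D a ∩ Ds D B ∩ Ds D C).ncard = 45) ∧
      (B ≠ C → Commute B C → (Ds D a ∩ Ds D B ∩ Ds D C).ncard ≤ 85) := by
  obtain ⟨g, hg, hin⟩ := to_base hD A ha
  have e : Ds D a ∩ Ds D B ∩ Ds D C = (fun z => g * z * g⁻¹) ''
      (Ds D A.t ∩ Ds D (g⁻¹ * B * g⁻¹⁻¹) ∩ Ds D (g⁻¹ * C * g⁻¹⁻¹)) := by
    rw [Set.image_inter (cj_injective g), Set.image_inter (cj_injective g), cj_Ds hD, cj_Ds hD, cj_Ds hD, hg,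
      cj_inv, cj_inv]
  rw [e, Set.ncard_image_of_injective _ (cj_injective g)]
  exact ⟨fun hn => ncard_nonperp hD A (hin hB) (hin hC) fun hc => hn ((commute_cj_iff g⁻¹).mp hc),
    fun hne hc => ncard_two_perp_le hD A (hin hB) (hin hC) (fun e' => hne (cj_injective g⁻¹ e'))
      ((commute_cj_iff g⁻¹).mpr hc)⟩

open Classical in
/-- The number of members of `{t, c, tct}` seen by `x`. -/
noncomputable def seen (t c x : G) : ℕ :=
  ((if Commute x t then 1 else 0) + (if Commute x c then 1 else 0)) + if Commute x (t * c * t) then 1 else 0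

theorem seen_le (t c x : G) : seen t c x ≤ 3 := by
  unfold seen
  split <;> split <;> split <;> omega

theorem third {t c : G} (hD : IsThreeTranspositionClass D) (ht : t ∈ D) (hc : c ∈ D) (htc : ¬ Commute t c) :
    t * c * t ∈ D ∧ ¬ Commute t (t * c * t) ∧ ¬ Commute c (t * c * t) ∧ t * c * t ≠ t ∧ t * c * t ≠ c ∧
      ∀ x, Commute x t → Commute x c → Commute x (t * c * t) := by
  have htt := mul_self hD.1 ht
  have hcc := mul_self hD.1 hc
  have e1 : t * c * t = t * c * t⁻¹ := by rw [inv_self hD.1 ht]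
  have e2 : t * c * t = c * t * c⁻¹ := by rw [inv_self hD.1 hc, braid hD.1 ht hc htc]
  have h1 : ¬ Commute t (t * c * t) := fun h => htc (by
    have := (commute_cj_iff t).mp (show Commute (t * t * t⁻¹) (t * c * t⁻¹) by rwa [mul_inv_cancel_right, ← e1])
    exact this)
  have h2 : ¬ Commute c (t * c * t) := fun h => htc (by
    have := (commute_cj_iff c).mp (show Commute (c * c * c⁻¹) (c * t * c⁻¹) by rwa [mul_inv_cancel_right, ← e2])
    exact this.symm)
  exact ⟨e1 ▸ cls_conj hD t hc, h1, h2, fun e => h1 (by rw [e]), fun e => h2 (by rw [e]),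
    fun x hxt hxc => (hxt.mul_right hxc).mul_right hxt⟩

/-- The common partners seen by an outside member. -/
theorem triple (hD : IsThreeTranspositionClass D) (hp : IsPrimitiveUnderConj D) (A : Data D F hF) {t c x : G}
    (ht : t ∈ D) (hc : c ∈ D) (htc : ¬ Commute t c) (hx : x ∈ D) (hxS : x ∉ Ds D t ∩ Ds D c) (hxt : x ≠ t)
    (hxc : x ≠ c) (hxe : x ≠ t * c * t) :
    (Ds D t ∩ Ds D c ∩ Ds D x).ncard = 18 + 12 * seen t c x := by
  classical
  haveI : Fintype D := Fintype.ofFinite D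
  obtain ⟨hv, hmu⟩ := params hD hp A
  have hfar : ∀ a ∈ D, ∀ b ∈ D, ¬ Commute a b → (Ds D a ∩ Ds D b).ncard = 126 := hmu
  have hreg : Srg.IsReg (Adj D) 693 180 126 := by
    refine ⟨fun x y h => ⟨x.2, fun e => h.2.1 e.symm, h.2.2.symm⟩, fun x h => h.2.1 rfl, fun x => ?_,
      fun x y h => ?_, fun x y hne h => ?_⟩
    · rw [← ncard_Ds hD A x.2]
      exact card_filter_eq (fun y => y ∈ Ds D x.1) fun y h => h.1
    · rw [← ncard_near hD A x.2 h]
      exact card_filter_eq (fun z => z ∈ Ds D x.1 ∧ z ∈ Ds D y.1) fun y h => h.1.1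
    · rw [← hfar x.1 x.2 y.1 y.2 fun hc => h ⟨y.2, fun e => hne (Subtype.ext e.symm), hc⟩]
      exact card_filter_eq (fun z => z ∈ Ds D x.1 ∧ z ∈ Ds D y.1) fun y h => h.1.1
  obtain ⟨he, hte, hce, het, hec, hall⟩ := third hD ht hc htc
  set S := Ds D t ∩ Ds D c with hS
  set e := t * c * t
  let d : G → D → ℤ := fun p z => if (z : G) = p then 1 else 0
  let y : D → ℤ := fun z => (if (z : G) ∈ S then 1 else 0) - 12 * (d t z + d c z + d e z)
  have hcard : ∀ q : G → Prop, (∀ z, q z → z ∈ D) →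
      (∑ z : D, if q z then (1 : ℤ) else 0) = ({z : G | q z}.ncard : ℤ) := fun q hq => by
    rw [Finset.sum_boole, card_filter_eq q hq]
  let E : D → ℤ := fun z => 5 * ((S ∩ Ds D z.1).ncard : ℤ) + 45 * (if (z : G) ∈ S then 1 else 0) - (S.ncard : ℤ)
  let P : G → D → ℤ := fun p z => 5 * (if p ∈ Ds D z.1 then 1 else 0) + 45 * (if (z : G) = p then 1 else 0) - 1
  have hcomp : ∀ z : D, (Srg.comb (Adj D) 5 45 *ᵥ y) z = E z - 12 * (P t z + P c z + P e z) := by
    intro z
    have hP : ∀ p, p ∈ D → (∑ w : D, Srg.comb (Adj D) 5 45 z w * d p w) = P p z := fun p hp' => by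
      rw [Finset.sum_eq_single (⟨p, hp'⟩ : D) (fun w _ hw => by simp [d, show (w : G) ≠ p from
        fun e' => hw (Subtype.ext e')]) (by simp)]
      simp only [d, if_pos, mul_one, P, Srg.comb, Srg.adjM, Srg.allOne, Matrix.sub_apply, Matrix.add_apply,
        Matrix.smul_apply, Matrix.of_apply, Matrix.one_apply, smul_eq_mul, Subtype.ext_iff, Adj]
    have hE : (∑ w : D, Srg.comb (Adj D) 5 45 z w * (if (w : G) ∈ S then 1 else 0)) = E z := by
      simp only [Srg.comb, Srg.adjM, Srg.allOne, Matrix.sub_apply, Matrix.add_apply, Matrix.smul_apply,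
        Matrix.of_apply, Matrix.one_apply, smul_eq_mul, sub_mul, add_mul, mul_assoc, Finset.sum_sub_distrib,
        Finset.sum_add_distrib, ← Finset.mul_sum, one_mul, ite_mul, zero_mul]
      rw [Finset.sum_ite_eq Finset.univ z (fun w : D => if (w : G) ∈ S then (1 : ℤ) else 0),
        if_pos (Finset.mem_univ z)]
      have e1 : (∑ w : D, if Adj D z w then (if (w : G) ∈ S then (1 : ℤ) else 0) else 0) =
          ((S ∩ Ds D z.1).ncard : ℤ) := by
        refine Eq.trans (Finset.sum_congr rfl fun w _ => ?_) (hcard (fun w => w ∈ S ∩ Ds D z.1) fun w h => h.2.1)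
        by_cases h1 : (w : G) ∈ S <;> by_cases h2 : (w : G) ∈ Ds D z.1 <;> simp [Adj, h1, h2]
      have e2 : (∑ w : D, if (w : G) ∈ S then (1 : ℤ) else 0) = (S.ncard : ℤ) :=
        Eq.trans (Finset.sum_congr rfl fun w _ => by split <;> simp [*]) (hcard (fun w => w ∈ S) fun w h => h.1.1)
      simp only [E]
      linear_combination 5 * e1 - e2
    simp only [Matrix.mulVec, dotProduct, y, mul_sub, Finset.sum_sub_distrib, hE]
    congr 1
    rw [← hP t ht, ← hP c hc, ← hP e he, ← Finset.sum_add_distrib, ← Finset.sum_add_distrib, Finset.mul_sum]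
    exact Finset.sum_congr rfl fun w _ => by ring
  have hSn : S.ncard = 126 := hfar t ht c hc htc
  have hSd : ∀ a ∈ S, (S ∩ Ds D a).ncard = 45 := fun a ha => by
    have h45 := (ncard_three hD A ha.1.1 (B := t) (C := c) ⟨ht, fun e' => ha.1.2.1 e'.symm, ha.1.2.2.symm⟩
      ⟨hc, fun e' => ha.2.2.1 e'.symm, ha.2.2.2.symm⟩).1 htc
    rwa [show Ds D a ∩ Ds D t ∩ Ds D c = S ∩ Ds D a by rw [hS, Set.inter_comm S, Set.inter_assoc]] at h45
  have hsub : ∀ p, p = t ∨ p = c ∨ p = e → p ∉ S ∧ S ⊆ Ds D p := by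
    rintro p (rfl | rfl | rfl)
    · exact ⟨fun h => h.1.2.1 rfl, fun a ha => ha.1⟩
    · exact ⟨fun h => h.2.2.1 rfl, fun a ha => ha.2⟩
    · refine ⟨fun h => hte h.1.2.2, fun a ha => ⟨ha.1.1, fun e' => hte (e' ▸ ha.1.2.2), ?_⟩⟩
      exact (hall a ha.1.2.2.symm ha.2.2.2.symm).symm
  have hzero : ∀ z : D, y z ≠ 0 → (Srg.comb (Adj D) 5 45 *ᵥ y) z = 0 := by
    intro z hz
    rw [hcomp]
    simp only [E, P, hSn]
    by_cases hzS : (z : G) ∈ S
    · have a1 : t ∈ Ds D z.1 := ⟨ht, fun e' => hzS.1.2.1 e'.symm, hzS.1.2.2.symm⟩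
      have a2 : c ∈ Ds D z.1 := ⟨hc, fun e' => hzS.2.2.1 e'.symm, hzS.2.2.2.symm⟩
      have n3 : (z : G) ≠ e := fun e' => (hsub e (Or.inr (Or.inr rfl))).1 (e' ▸ hzS)
      have a3 : e ∈ Ds D z.1 := ⟨he, fun e' => n3 e'.symm, hall z hzS.1.2.2.symm hzS.2.2.2.symm⟩
      simp only [hSd z hzS, if_pos hzS, if_pos a1, if_pos a2, if_pos a3, if_neg hzS.1.2.1, if_neg hzS.2.2.1,
        if_neg n3]
      norm_num
    · have hz3 : (z : G) = t ∨ (z : G) = c ∨ (z : G) = e := by
        by_contra h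
        push Not at h
        exact hz (by simp [y, d, hzS, h.1, h.2.1, h.2.2])
      have hfull : (S ∩ Ds D z.1).ncard = 126 := by
        rw [Set.inter_eq_left.mpr (hsub z hz3).2, hSn]
      simp only [hfull, if_neg hzS]
      rcases hz3 with e' | e' | e' <;> rw [e']
      · rw [if_neg (fun h : t ∈ Ds D t => h.2.1 rfl), if_neg (fun h : c ∈ Ds D t => htc h.2.2),
          if_neg (fun h : e ∈ Ds D t => hte h.2.2), if_pos rfl, if_neg (fun h : t = c => htc (by rw [h])),
          if_neg het.symm]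
        norm_num
      · rw [if_neg (fun h : t ∈ Ds D c => htc h.2.2.symm), if_neg (fun h : c ∈ Ds D c => h.2.1 rfl),
          if_neg (fun h : e ∈ Ds D c => hce h.2.2), if_neg (fun h : c = t => htc (by rw [h])), if_pos rfl,
          if_neg hec.symm]
        norm_num
      · rw [if_neg (fun h : t ∈ Ds D e => hte h.2.2.symm), if_neg (fun h : c ∈ Ds D e => hce h.2.2.symm),
          if_neg (fun h : e ∈ Ds D e => h.2.1 rfl), if_neg het, if_neg hec, if_pos rfl]
        norm_num
  have hker : Srg.comb (Adj D) 5 45 *ᵥ y = 0 := by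
    refine Srg.tight hreg (a := 5) (b := 45) (c := 360) (by norm_num) (by norm_num) ?_ ?_
    · rw [← Nat.card_eq_fintype_card, Nat.card_coe_set_eq, hv]
      norm_num
    · refine Finset.sum_eq_zero fun z _ => ?_
      by_cases hz : y z = 0
      · rw [hz, zero_mul]
      · rw [hzero z hz, mul_zero]
  have := congrFun hker ⟨x, hx⟩
  rw [hcomp] at this
  simp only [E, P, hSn, if_neg hxS, if_neg hxt, if_neg hxc, if_neg hxe, Pi.zero_apply] at this
  have k : ∀ p : G, p ∈ D → x ≠ p → (p ∈ Ds D x ↔ Commute x p) := fun p hp' hne =>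
    ⟨fun h => h.2.2, fun h => ⟨hp', fun e' => hne e'.symm, h⟩⟩
  simp only [k t ht hxt, k c hc hxc, k e he hxe] at this
  have h5 : (5 : ℤ) * ((S ∩ Ds D x).ncard : ℤ) = 5 * ((18 + 12 * seen t c x : ℕ) : ℤ) := by
    unfold seen
    simp only [e] at this
    push_cast
    linear_combination this
  exact_mod_cast mul_left_cancel₀ (by norm_num) h5

/-- The kernel of the action of a centraliser on the partners. -/
theorem kernel_eq (hD : IsThreeTranspositionClass D) (hp : IsPrimitiveUnderConj D) (hZ : Subgroup.center G = ⊥)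
    (A : Data D F hF) {t z : G} (ht : t ∈ D) (hzt : Commute z t) (hzD : ∀ y ∈ Ds D t, Commute z y) :
    z = 1 ∨ z = t := by
  obtain ⟨c, hc, htc⟩ := exists_noncommute hD hp.2.1 ht
  have hw := has_pair A
  have hcen : ∀ w, Commute w t → Commute w c → (∀ y ∈ Ds D t, Commute w y) → w = 1 :=
    fun w h1 h2 h3 => Subgroup.mem_bot.mp (hZ ▸ central_of_commute hD hp hw ht hc htc h1 h2 h3)
  obtain ⟨he, -, -, -, -, -⟩ := third hD ht hc htc
  set u := z * c * z⁻¹ with hu
  have huD : u ∈ D := cls_conj hD z hc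
  have htu : ¬ Commute t u := fun h => htc ((commute_cj_iff z).mp (by
    rw [show z * t * z⁻¹ = t by rw [hzt.eq, mul_inv_cancel_right]]; exact h))
  by_cases huc : u = c
  · exact Or.inl (hcen z hzt (mul_inv_eq_iff_eq_mul.mp huc) hzD)
  by_cases hue : u = t * c * t
  · right
    have h1 := hcen (t * z) ((Commute.refl t).mul_left hzt) ?_ fun y hy => hy.2.2.mul_left (hzD y hy)
    · rw [← inv_self hD.1 ht]
      exact (inv_eq_of_mul_eq_one_right h1).symm
    · show t * z * c = c * (t * z)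
      have e1 : z * c = u * z := by rw [hu]; group
      rw [mul_assoc, e1, hue, show t * (t * c * t * z) = (t * t) * c * (t * z) by simp only [mul_assoc],
        mul_self hD.1 ht, one_mul]
  exfalso
  have hsub : Ds D t ∩ Ds D c ⊆ Ds D u := fun y hy => by
    have hy' : z * y * z⁻¹ = y := by rw [(hzD y hy.1).eq, mul_inv_cancel_right]
    refine ⟨hy.1.1, fun e => hy.2.2.1 (cj_injective z (show z * y * z⁻¹ = z * c * z⁻¹ by rw [hy', e, hu])), ?_⟩
    have := (commute_cj_iff z).mpr hy.2.2.2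
    rwa [hy'] at this
  have := triple hD hp A ht hc htc huD (fun h => htu h.1.2.2) (fun e => htu (by rw [e])) huc hue
  rw [Set.inter_eq_left.mpr hsub, (params hD hp A).2 t ht c hc htc] at this
  have := seen_le t c u
  omega

theorem self_mem (hD : IsThreeTranspositionClass D) (hp : IsPrimitiveUnderConj D) (hloc : ∃ d ∈ D, LocalOK D d)
    (hZ : Subgroup.center G = ⊥) (A : Data D F hF) {t : G} (ht : t ∈ D) : t ∈ Subgroup.closure (Ds D t) := by
  have hbase : A.t ∈ Subgroup.closure (Ds D A.t) := by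
    set B := point A (std hF)
    have hB : B ∈ Ds D A.t := point_mem A _
    obtain ⟨C, hC⟩ : (Ds D A.t ∩ Ds D B).Nonempty := by
      rw [← Set.ncard_pos, ncard_perp hD A hB]
      norm_num
    obtain ⟨P, Q, R, hP, hQ, hR, -, -, heq, -⟩ := at_t hD hp hloc hZ A hB hC.1 hC.2.2.1.symm hC.2.2.2
    have e : A.t = P * Q * R * C⁻¹ * B⁻¹ := by rw [← heq]; group
    have hmem := mul_mem (mul_mem (mul_mem (mul_mem (Subgroup.subset_closure hP : P ∈ Subgroup.closure (Ds D A.t))
      (Subgroup.subset_closure hQ)) (Subgroup.subset_closure hR)) (inv_mem (Subgroup.subset_closure hC.1)))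
      (inv_mem (Subgroup.subset_closure hB))
    rwa [← e] at hmem
  obtain ⟨g, rfl⟩ := cls_exists_conj hD A.ht ht
  have := Subgroup.mem_map_of_mem (MulAut.conj g).toMonoidHom hbase
  rw [MonoidHom.map_closure] at this
  rw [← cj_Ds hD g A.t]
  exact this

/-- The centraliser of a point in the partner group. -/
theorem base_std (hD : IsThreeTranspositionClass D) (hp : IsPrimitiveUnderConj D) (hZ : Subgroup.center G = ⊥)
    (A : Data D F hF) {g : G} (hg : g ∈ Subgroup.closure (Ds D A.t)) (hgu : Commute g (point A (std hF))) :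
    g ∈ Subgroup.closure ((Ds D A.t ∩ Ds D (point A (std hF))) ∪ {A.t, point A (std hF)}) := by
  set B := point A (std hF)
  set T := Subgroup.closure ((Ds D A.t ∩ Ds D B) ∪ {A.t, B})
  obtain ⟨k, hk⟩ := QuotientGroup.mk'_surjective _ (A.φ ⟨g, hg⟩)
  obtain ⟨y, hy, hgy⟩ := cj_point hD A hg hk.symm (std hF)
  rw [hgu.eq, mul_inv_cancel_right] at hgy
  obtain ⟨a, -, ha⟩ := (point_eq_iff A y (std hF)).mp hgy.symm
  obtain ⟨w, hw, hwk⟩ := stabilizer hF (g := k) (l := a) (hy.symm.trans ha)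
  set H := Subgroup.closure (Ds D A.t)
  have hle : (Points.W hF).map (QuotientGroup.mk' _) ≤ (T.subgroupOf H).map A.φ := by
    rw [Points.W, MonoidHom.map_closure, Subgroup.closure_le]
    rintro _ ⟨_, ⟨v, v0, hv, hvu, rfl⟩, rfl⟩
    set x : Iso F := ⟨v, v0, hv⟩
    refine ⟨⟨point A x, point_mem' A x⟩, ?_, point_φ A x⟩
    show point A x ∈ T
    by_cases e : point A x = B
    · exact Subgroup.subset_closure (Or.inr (Or.inr e))
    · exact Subgroup.subset_closure (Or.inl
        ⟨point_mem A x, (point_mem A x).1, e, ((point_commute_iff A x (std hF)).mpr hvu).symm⟩)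
  obtain ⟨⟨g', hg'H⟩, hg', hgg'⟩ := hle ⟨w, hw, rfl⟩
  have hker : (⟨g, hg⟩ * ⟨g', hg'H⟩⁻¹ : H) ∈ A.φ.ker := by
    rw [MonoidHom.mem_ker, map_mul, map_inv, hgg', hwk, hk, mul_inv_cancel]
  rw [A.ker_φ, Subgroup.mem_center_iff] at hker
  have hz : g * g'⁻¹ = 1 ∨ g * g'⁻¹ = A.t := by
    refine kernel_eq hD hp hZ A A.ht (closure_Ds_commute (mul_mem hg (inv_mem hg'H))) fun x hx => ?_
    exact (congrArg Subtype.val (hker ⟨x, Subgroup.subset_closure hx⟩)).symm
  have hgT : g * g'⁻¹ ∈ T := by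
    rcases hz with e | e <;> rw [e]
    · exact one_mem _
    · exact Subgroup.subset_closure (Or.inr (Or.inl rfl))
  simpa using mul_mem hgT hg'

theorem localHyp (hD : IsThreeTranspositionClass D) (hp : IsPrimitiveUnderConj D) (hloc : ∃ d ∈ D, LocalOK D d)
    (hZ : Subgroup.center G = ⊥) (A : Data D F hF) : LocalHyp D := by
  obtain ⟨hv, hmu⟩ := params hD hp A
  refine ⟨fun t ht => self_mem hD hp hloc hZ A ht, ?_, ?_, ?_⟩
  · intro t ht u hu g hg hgu
    obtain ⟨k, hk, hin⟩ := to_base hD A ht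
    obtain ⟨x, hx⟩ := point_surj A (hin hu)
    obtain ⟨l, hl, hlx⟩ := move_point hD A x
    -- the combined conjugation carries the standard configuration to the given one
    set m := k * l
    have hmt : m * A.t * m⁻¹ = t := by
      rw [← cj_cj, show l * A.t * l⁻¹ = A.t by rw [(closure_Ds_commute hl).eq, mul_inv_cancel_right], hk]
    have hmu' : m * point A (std hF) * m⁻¹ = u := by rw [← cj_cj, hlx, hx, cj_inv]
    have hg' : m⁻¹ * g * m⁻¹⁻¹ ∈ Subgroup.closure (Ds D A.t) := by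
      have h := Subgroup.mem_map_of_mem (MulAut.conj m⁻¹).toMonoidHom hg
      rw [MonoidHom.map_closure] at h
      have e : (MulAut.conj m⁻¹).toMonoidHom '' Ds D t = Ds D A.t := by
        show (fun z => m⁻¹ * z * m⁻¹⁻¹) '' Ds D t = _
        rw [cj_Ds hD, ← hmt]
        congr 1
        group
      rwa [e] at h
    have hcomm : Commute (m⁻¹ * g * m⁻¹⁻¹) (point A (std hF)) := by
      have := (commute_cj_iff m⁻¹).mpr hgu
      rwa [show m⁻¹ * u * m⁻¹⁻¹ = point A (std hF) by rw [← hmu']; group] at this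
    have h := Subgroup.mem_map_of_mem (MulAut.conj m).toMonoidHom (base_std hD hp hZ A hg' hcomm)
    rw [MonoidHom.map_closure, show (MulAut.conj m).toMonoidHom (m⁻¹ * g * m⁻¹⁻¹) = g from cj_inv m g] at h
    refine (Subgroup.closure_mono ?_) h
    rintro _ ⟨z, hz | rfl | rfl, rfl⟩
    · left
      have h1 : m * z * m⁻¹ ∈ (fun z => m * z * m⁻¹) '' (Ds D A.t ∩ Ds D (point A (std hF))) := ⟨z, hz, rfl⟩
      rw [Set.image_inter (cj_injective m), cj_Ds hD, cj_Ds hD, hmt, hmu'] at h1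
      exact h1
    · exact Or.inr (Or.inl hmt)
    · exact Or.inr (Or.inr hmu')
  · intro t ht y hy b hb b' hb' hne
    set U := Ds D b ∩ Ds D b'
    set T₁ := Ds D t ∩ Ds D b ∩ Ds D b'
    set T₂ := Ds D y ∩ Ds D b ∩ Ds D b'
    have hcard : T₁.ncard + T₂.ncard + 2 < U.ncard := by
      by_cases hc : Commute b b'
      · have h1 := (ncard_three hD A ht hb.1 hb'.1).2 hne hc
        have h2 := (ncard_three hD A hy.1 hb.2 hb'.2).2 hne hc
        change T₁.ncard ≤ 85 at h1
        change T₂.ncard ≤ 85 at h2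
        rw [show U.ncard = 180 from ncard_near hD A hb.1.1 ⟨hb'.1.1, hne.symm, hc⟩]
        omega
      · have h1 := (ncard_three hD A ht hb.1 hb'.1).1 hc
        have h2 := (ncard_three hD A hy.1 hb.2 hb'.2).1 hc
        change T₁.ncard = 45 at h1
        change T₂.ncard = 45 at h2
        rw [show U.ncard = 126 from hmu b hb.1.1 b' hb'.1.1 hc]
        omega
    obtain ⟨f, hfU, hfT⟩ : ∃ f ∈ U, f ∉ T₁ ∪ T₂ ∪ {t, y} := by
      refine Set.exists_mem_notMem_of_ncard_lt_ncard (lt_of_le_of_lt ?_ hcard) (Set.toFinite _)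
      refine (Set.ncard_union_le _ _).trans (Nat.add_le_add (Set.ncard_union_le _ _) ?_)
      exact (Set.ncard_insert_le _ _).trans (by simp)
    refine ⟨f, hfU.1.1, hfU.1.2.2, hfU.2.2.2, fun h => hfT ?_, fun h => hfT ?_⟩
    · by_cases e : f = t
      · exact Or.inr (Or.inl e)
      · exact Or.inl (Or.inl ⟨⟨⟨hfU.1.1, e, h⟩, hfU.1⟩, hfU.2⟩)
    · by_cases e : f = y
      · exact Or.inr (Or.inr e)
      · exact Or.inl (Or.inr ⟨⟨⟨hfU.1.1, e, h⟩, hfU.1⟩, hfU.2⟩)
  · intro t ht c hc htc y hy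
    set S := Ds D t ∩ Ds D c
    obtain ⟨a₀, ha₀⟩ : S.Nonempty := by
      rw [← Set.ncard_pos, show S.ncard = 126 from hmu t ht c hc htc]
      norm_num
    obtain ⟨-, hte, -, -, -, hall⟩ := third hD ht hc htc
    by_cases hyS : y ∈ S
    · obtain ⟨a, ha⟩ : (Ds D y ∩ Ds D t ∩ Ds D c).Nonempty := by
        rw [← Set.ncard_pos, (ncard_three hD A hy ⟨ht, fun e => hyS.1.2.1 e.symm, hyS.1.2.2.symm⟩
          ⟨hc, fun e => hyS.2.2.1 e.symm, hyS.2.2.2.symm⟩).1 htc]
        norm_num
      exact ⟨a, ⟨ha.1.2, ha.2⟩, ha.1.1.2.1, ha.1.1.2.2.symm⟩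
    by_cases h3 : y = t ∨ y = c ∨ y = t * c * t
    · refine ⟨a₀, ha₀, fun e => hyS (e ▸ ha₀), ?_⟩
      rcases h3 with rfl | rfl | rfl
      · exact ha₀.1.2.2.symm
      · exact ha₀.2.2.2.symm
      · exact hall a₀ ha₀.1.2.2.symm ha₀.2.2.2.symm
    · push Not at h3
      obtain ⟨a, ha⟩ : (S ∩ Ds D y).Nonempty := by
        rw [← Set.ncard_pos, triple hD hp A ht hc htc hy hyS h3.1 h3.2.1 h3.2.2]
        omega
      exact ⟨a, ha.1, ha.2.2.1, ha.2.2.2.symm⟩

/-- The centraliser of a transposition is generated by its partners. -/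
theorem centralizer_eq (hD : IsThreeTranspositionClass D) (hp : IsPrimitiveUnderConj D)
    (hloc : ∃ d ∈ D, LocalOK D d) (hZ : Subgroup.center G = ⊥) (A : Data D F hF) {t : G} (ht : t ∈ D) :
    Subgroup.centralizer ({t} : Set G) = Subgroup.closure (Ds D t) := by
  refine le_antisymm (fun g hg => centralizer_eq_closure hD hp (has_pair A) (localHyp hD hp hloc hZ A) ht
    (Subgroup.mem_centralizer_singleton_iff.mp hg)) ?_
  exact (Subgroup.closure_le _).mpr fun y hy => Subgroup.mem_centralizer_singleton_iff.mpr hy.2.2.eq.symm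

/-- The centre of the partner group. -/
theorem center_closure (hD : IsThreeTranspositionClass D) (hp : IsPrimitiveUnderConj D)
    (hloc : ∃ d ∈ D, LocalOK D d) (hZ : Subgroup.center G = ⊥) (A : Data D F hF) {t : G} (ht : t ∈ D) :
    Subgroup.center ↥(Subgroup.closure (Ds D t)) = (Subgroup.zpowers t).subgroupOf (Subgroup.closure (Ds D t)) := by
  set H := Subgroup.closure (Ds D t)
  refine le_antisymm (fun z hz => ?_) fun z hz => ?_
  · rcases kernel_eq hD hp hZ A ht (closure_Ds_commute z.2) fun y hy =>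
      (congrArg Subtype.val (Subgroup.mem_center_iff.mp hz ⟨y, Subgroup.subset_closure hy⟩)).symm with e | e <;>
      rw [Subgroup.mem_subgroupOf, e]
    · exact one_mem _
    · exact Subgroup.mem_zpowers t
  · obtain ⟨n, hn⟩ := Subgroup.mem_zpowers_iff.mp hz
    refine Subgroup.mem_center_iff.mpr fun w => Subtype.ext ?_
    show (w : G) * z = z * w
    rw [show (z : G) = t ^ n from hn.symm]
    exact ((closure_Ds_commute w.2).zpow_right n).eq

theorem card_centralizer (hD : IsThreeTranspositionClass D) (hp : IsPrimitiveUnderConj D)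
    (hloc : ∃ d ∈ D, LocalOK D d) (hZ : Subgroup.center G = ⊥) (A : Data D F hF) {t : G} (ht : t ∈ D) :
    Nat.card ↥(Subgroup.centralizer ({t} : Set G)) = 2 * Nat.card (PSU 6 F 2) := by
  have hbase : Nat.card ↥(Subgroup.centralizer ({A.t} : Set G)) = 2 * Nat.card (PSU 6 F 2) := by
    rw [centralizer_eq hD hp hloc hZ A A.ht, Subgroup.card_eq_card_quotient_mul_card_subgroup A.φ.ker,
      Nat.card_congr (QuotientGroup.quotientKerEquivOfSurjective A.φ A.sur).toEquiv, A.ker_φ,
      center_closure hD hp hloc hZ A A.ht, Nat.card_congr (Subgroup.subgroupOfEquivOfLe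
        (Subgroup.zpowers_le.mpr (self_mem hD hp hloc hZ A A.ht))).toEquiv, Nat.card_zpowers, hD.1.1 A.t A.ht,
      mul_comm]
  obtain ⟨g, rfl⟩ := cls_exists_conj hD A.ht ht
  rw [← hbase]
  refine (Nat.card_congr ((Subgroup.centralizer ({A.t} : Set G)).equivMapOfInjective
    (MulAut.conj g).toMonoidHom (MulAut.conj g).injective).toEquiv).trans ?_ |>.symm
  congr 2
  ext x
  simp only [Subgroup.mem_map, Subgroup.mem_centralizer_singleton_iff]
  constructor
  · rintro ⟨y, hy, rfl⟩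
    exact ((commute_cj_iff g).mpr (hy : Commute y A.t)).eq
  · intro hx
    refine ⟨g⁻¹ * x * g⁻¹⁻¹, ?_, cj_inv g x⟩
    have := (commute_cj_iff g⁻¹).mpr (hx : Commute x (g * A.t * g⁻¹))
    rwa [show g⁻¹ * (g * A.t * g⁻¹) * g⁻¹⁻¹ = A.t by group] at this

theorem card_psu : Nat.card (PSU 6 F 2) ∣ Nat.card (Cfsg.SU 6 F 2) :=
  Subgroup.card_quotient_dvd_card _

theorem index_centralizer (hD : IsThreeTranspositionClass D) {t : G} (ht : t ∈ D) :
    (Subgroup.centralizer ({t} : Set G)).index = D.ncard := by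
  rw [Subgroup.index, ← Nat.card_coe_set_eq]
  refine Nat.card_eq_of_bijective (fun q => Quotient.liftOn' q (fun g => (⟨g * t * g⁻¹, cls_conj hD g ht⟩ : D))
    fun g k hgk => Subtype.ext ?_) ⟨?_, fun x => ?_⟩
  · have hc : Commute (g⁻¹ * k) t := Subgroup.mem_centralizer_singleton_iff.mp (QuotientGroup.leftRel_apply.mp hgk)
    calc g * t * g⁻¹ = g * ((g⁻¹ * k) * t * (g⁻¹ * k)⁻¹) * g⁻¹ := by rw [hc.eq, mul_inv_cancel_right]
      _ = k * t * k⁻¹ := by group
  · intro p q
    refine Quotient.inductionOn₂' p q fun g k e => Quotient.sound' (QuotientGroup.leftRel_apply.mpr ?_)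
    have e' : g * t * g⁻¹ = k * t * k⁻¹ := congrArg Subtype.val e
    refine Subgroup.mem_centralizer_singleton_iff.mpr ?_
    calc g⁻¹ * k * t = g⁻¹ * (k * t * k⁻¹) * k := by group
      _ = g⁻¹ * (g * t * g⁻¹) * k := by rw [e']
      _ = t * (g⁻¹ * k) := by group
  · obtain ⟨g, hg⟩ := cls_exists_conj hD ht x.2
    exact ⟨QuotientGroup.mk g, Subtype.ext hg⟩

theorem card_group (hD : IsThreeTranspositionClass D) (hp : IsPrimitiveUnderConj D)
    (hloc : ∃ d ∈ D, LocalOK D d) (hZ : Subgroup.center G = ⊥) (A : Data D F hF) :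
    Nat.card G = 3510 * (2 * Nat.card (PSU 6 F 2)) := by
  rw [← card_centralizer hD hp hloc hZ A A.ht, ← (params hD hp A).1, ← index_centralizer hD A.ht,
    Subgroup.index_mul_card]

end CfsgThreeTrans.M22
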