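/-
Perfectness, simplicity, the width and the order in type M(22).
-/
import Cfsg.Agent.Lib.ThreeTrans.M22.Centraliser
import Cfsg.Agent.Lib.ThreeTrans.Fischer
import Cfsg.Agent.Lib.SUCover.Basic
import Cfsg.Agent.Lib.IsotropicHerm

set_option autoImplicit false
set_option linter.unusedSectionVars false

namespace CfsgThreeTrans.M22

open Matrix Cfsg CfsgLib CfsgLib.UnitaryTransvection CfsgLib.UnitarySimple CfsgThreeTrans.M22.Points

universe u

variable {G : Type u} [Group G] [Finite G] {D : Set G}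
variable {F : Type} [Field F] [Fintype F] [DecidableEq F] {hF : Fintype.card F = 2 ^ 2}

local notation "h" => Cfsg.hermForm 6 F 2
local notation "π" => QuotientGroup.mk' (Subgroup.center (Cfsg.SU 6 F 2))

theorem card_psu_eq (hF : Fintype.card F = 2 ^ 2) : Nat.card (PSU 6 F 2) = 9196830720 := by
  have hgu := UnitaryOrder.card_GU_eq (n := 6) hF (by norm_num)
  rw [UnitaryOrder.card_GU hF 6] at hgu
  norm_num [Finset.prod_range_succ, Nat.even_iff, -Nat.card_eq_fintype_card] at hgu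
  have hc := (SUCover.center_cyclic hF (n := 6) (by norm_num)).2
  norm_num [-Nat.card_eq_fintype_card] at hc
  have := Subgroup.card_eq_card_quotient_mul_card_subgroup (Subgroup.center (Cfsg.SU 6 F 2))
  rw [hc] at this
  change Nat.card (Cfsg.SU 6 F 2) = Nat.card (PSU 6 F 2) * 3 at this
  omega

/-- The vector with doubled coordinates. -/
def dbl (a b c : F) : Fin 6 → F := ![a, a, b, b, c, c]

theorem herm_dbl (hF : Fintype.card F = 2 ^ 2) (x : Fin 6 → F) (a b c : F) :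
    h x (dbl a b c) = (x 0 + x 1) * a ^ 2 + (x 2 + x 3) * b ^ 2 + (x 4 + x 5) * c ^ 2 := by
  simp [Cfsg.hermForm, Fin.sum_univ_six, dbl]
  ring

theorem dbl_perp (hF : Fintype.card F = 2 ^ 2) (a b c a' b' c' : F) : h (dbl a' b' c') (dbl a b c) = 0 := by
  rw [herm_dbl hF]
  simp [dbl, add_self hF]

/-- The doubled isotropic vector. -/
def dv (hF : Fintype.card F = 2 ^ 2) (a b c : F) (hn : a ≠ 0 ∨ b ≠ 0 ∨ c ≠ 0) : Iso F :=
  ⟨dbl a b c, fun e => by
    have h0 := congrFun e 0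
    have h2 := congrFun e 2
    have h4 := congrFun e 4
    simp [dbl] at h0 h2 h4
    exact (hn.elim (· h0) fun hh => hh.elim (· h2) (· h4)), dbl_perp hF a b c a b c⟩

/-- The point of a doubled vector. -/
noncomputable def dp (A : Data D F hF) (a b c : F) (hn : a ≠ 0 ∨ b ≠ 0 ∨ c ≠ 0) : G := point A (dv hF a b c hn)

theorem dp_commute (A : Data D F hF) (a b c a' b' c' : F) (hn) (hn') :
    Commute (dp A a b c hn) (dp A a' b' c' hn') :=
  (point_commute_iff A _ _).mpr (dbl_perp hF _ _ _ _ _ _)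

theorem dp_eq (A : Data D F hF) {a b c a' b' c' : F} {hn} {hn'}
    (e : dp A a b c hn = dp A a' b' c' hn') : ∃ l : F, l ≠ 0 ∧ a = l * a' ∧ b = l * b' ∧ c = l * c' := by
  obtain ⟨l, hl, e'⟩ := (point_eq_iff A _ _).mp e
  refine ⟨l, hl, ?_, ?_, ?_⟩
  · simpa [dv, dbl] using congrFun e' 0
  · simpa [dv, dbl] using congrFun e' 2
  · simpa [dv, dbl] using congrFun e' 4

theorem prod_tu_six (hF : Fintype.card F = 2 ^ 2) (u₁ u₂ u₃ u₄ u₅ u₆ : Fin 6 → F)
    (hp : ∀ u ∈ [u₁, u₂, u₃, u₄, u₅, u₆], ∀ w ∈ [u₁, u₂, u₃, u₄, u₅, u₆], h u w = 0)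
    (hs : ∀ x, h x u₁ • u₁ + h x u₂ • u₂ + h x u₃ • u₃ + h x u₄ • u₄ + h x u₅ • u₅ + h x u₆ • u₆ = 0) :
    tu hF u₁ * tu hF u₂ * tu hF u₃ * tu hF u₄ * tu hF u₅ * tu hF u₆ = 1 := by
  have p : ∀ u w, u ∈ [u₁, u₂, u₃, u₄, u₅, u₆] → w ∈ [u₁, u₂, u₃, u₄, u₅, u₆] → h u w = 0 :=
    fun u w hu hw => hp u hu w hw
  have q1 := p u₁ u₁ (by simp) (by simp)
  have q2 := p u₂ u₂ (by simp) (by simp)
  have q3 := p u₃ u₃ (by simp) (by simp)
  have q4 := p u₄ u₄ (by simp) (by simp)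
  have q5 := p u₅ u₅ (by simp) (by simp)
  have q6 := p u₆ u₆ (by simp) (by simp)
  refine su_ext fun x => ?_
  simp only [mat_mul, ← mulVec_mulVec, mat_one, one_mulVec, tu_mulVec hF q1, tu_mulVec hF q2, tu_mulVec hF q3,
    tu_mulVec hF q4, tu_mulVec hF q5, tu_mulVec hF q6, h_add_left, h_smul_left,
    p u₆ u₁ (by simp) (by simp), p u₅ u₁ (by simp) (by simp), p u₄ u₁ (by simp) (by simp),
    p u₃ u₁ (by simp) (by simp), p u₂ u₁ (by simp) (by simp), p u₆ u₂ (by simp) (by simp),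
    p u₅ u₂ (by simp) (by simp), p u₄ u₂ (by simp) (by simp), p u₃ u₂ (by simp) (by simp),
    p u₆ u₃ (by simp) (by simp), p u₅ u₃ (by simp) (by simp), p u₄ u₃ (by simp) (by simp),
    p u₆ u₄ (by simp) (by simp), p u₅ u₄ (by simp) (by simp), p u₆ u₅ (by simp) (by simp), mul_zero, add_zero]
  conv_rhs => rw [← add_zero x, ← hs x]
  abel

theorem lift_six (hD : IsThreeTranspositionClass D) (hp : IsPrimitiveUnderConj D) (hZ : Subgroup.center G = ⊥)
    (A : Data D F hF) (v₁ v₂ v₃ v₄ v₅ v₆ : Iso F)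
    (h6 : tu hF v₁.1 * tu hF v₂.1 * tu hF v₃.1 * tu hF v₄.1 * tu hF v₅.1 * tu hF v₆.1 = 1) :
    point A v₁ * point A v₂ * point A v₃ * point A v₄ * point A v₅ * point A v₆ = 1 ∨
      point A v₁ * point A v₂ * point A v₃ * point A v₄ * point A v₅ * point A v₆ = A.t := by
  set K := Subgroup.closure (Ds D A.t)
  let q : Iso F → K := fun v => ⟨point A v, point_mem' A v⟩
  have hker : q v₁ * q v₂ * q v₃ * q v₄ * q v₅ * q v₆ ∈ A.φ.ker := by
    rw [MonoidHom.mem_ker, map_mul, map_mul, map_mul, map_mul, map_mul, show A.φ (q v₁) = _ from point_φ A v₁,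
      show A.φ (q v₂) = _ from point_φ A v₂, show A.φ (q v₃) = _ from point_φ A v₃,
      show A.φ (q v₄) = _ from point_φ A v₄, show A.φ (q v₅) = _ from point_φ A v₅,
      show A.φ (q v₆) = _ from point_φ A v₆, ← map_mul, ← map_mul, ← map_mul, ← map_mul, ← map_mul, h6, map_one]
  rw [A.ker_φ, Subgroup.mem_center_iff] at hker
  refine kernel_eq hD hp hZ A A.ht (closure_Ds_commute (q v₁ * q v₂ * q v₃ * q v₄ * q v₅ * q v₆).2)
    fun x hx => ?_
  exact (congrArg Subtype.val (hker ⟨x, Subgroup.subset_closure hx⟩)).symm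

/-- The transposition is a product of a standard frame and three further partners. -/
theorem six_std (hG : IsThreeTranspositionGroup D) (hp : IsPrimitiveUnderConj D) {d₀ : G} (hd₀ : d₀ ∈ D)
    (h3 : pCore 3 ↥(Subgroup.closure (Ds D d₀)) ≤ Subgroup.center ↥(Subgroup.closure (Ds D d₀)))
    (h2 : pCore 2 ↥(Subgroup.closure (Ds D d₀)) ≤ Subgroup.center ↥(Subgroup.closure (Ds D d₀)))
    (h22 : IsOfTypeM22 G D) (A : Data D F hF) :
    ∃ d e f, d ∈ Ds D A.t ∧ e ∈ Ds D A.t ∧ f ∈ Ds D A.t ∧ d ≠ e ∧ d ≠ f ∧ e ≠ f ∧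
      Commute d e ∧ Commute d f ∧ Commute e f ∧
      dp A 1 0 0 (Or.inl one_ne_zero) * dp A 0 1 0 (Or.inr (Or.inl one_ne_zero)) *
        dp A 0 0 1 (Or.inr (Or.inr one_ne_zero)) * d * e * f = A.t := by
  classical
  have hD := cls_of_group_prim hG hp
  obtain ⟨z, z0, z1, hz, hs, -⟩ := exists_zeta hF
  have zz : z * z ≠ 0 := mul_ne_zero z0 z0
  have hz3 := cube hF z0
  have two := two_zero hF
  have zz1 : z * z ≠ 1 := fun e => z1 (by linear_combination z * (-1 : F) * e + hz3)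
  have zzz : z * z ≠ z := fun e => z1 (mul_left_cancel₀ z0 (by rw [e, mul_one]))
  set a := dp A 1 0 0 (Or.inl one_ne_zero) with hadef
  set b := dp A 0 1 0 (Or.inr (Or.inl one_ne_zero)) with hbdef
  set c := dp A 0 0 1 (Or.inr (Or.inr one_ne_zero)) with hcdef
  set d := dp A 1 1 1 (Or.inl one_ne_zero) with hddef
  set e := dp A 1 z (z * z) (Or.inl one_ne_zero) with hedef
  set f := dp A 1 (z * z) z (Or.inl one_ne_zero) with hfdef
  set d' := dp A 1 1 z (Or.inl one_ne_zero) with hd'def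
  set e' := dp A 1 z 1 (Or.inl one_ne_zero) with he'def
  set f' := dp A 1 (z * z) (z * z) (Or.inl one_ne_zero) with hf'def
  have hmem : ∀ p q r hn, dp A p q r hn ∈ Ds D A.t := fun _ _ _ _ => point_mem A _
  have sum1 : ∀ x : Fin 6 → F, h x (dbl 1 0 0) • dbl 1 0 0 + h x (dbl 0 1 0) • dbl 0 1 0 +
      h x (dbl 0 0 1) • dbl 0 0 1 + h x (dbl (1 : F) 1 1) • dbl (1 : F) 1 1 +
      h x (dbl 1 z (z * z)) • dbl 1 z (z * z) + h x (dbl 1 (z * z) z) • dbl 1 (z * z) z = 0 := by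
    intro x
    simp only [herm_dbl hF]
    funext i
    fin_cases i <;> simp [dbl] <;> grind
  have sum2 : ∀ x : Fin 6 → F, h x (dbl 1 0 0) • dbl 1 0 0 + h x (dbl 0 1 0) • dbl 0 1 0 +
      h x (dbl 0 0 1) • dbl 0 0 1 + h x (dbl (1 : F) 1 z) • dbl (1 : F) 1 z +
      h x (dbl 1 z 1) • dbl 1 z 1 + h x (dbl 1 (z * z) (z * z)) • dbl 1 (z * z) (z * z) = 0 := by
    intro x
    simp only [herm_dbl hF]
    funext i
    fin_cases i <;> simp [dbl] <;> grind
  have hperp : ∀ v₁ v₂ v₃ v₄ v₅ v₆ : Fin 6 → F, (∀ v ∈ [v₁, v₂, v₃, v₄, v₅, v₆], ∃ p q r, v = dbl p q r) →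
      ∀ u ∈ [v₁, v₂, v₃, v₄, v₅, v₆], ∀ w ∈ [v₁, v₂, v₃, v₄, v₅, v₆], h u w = 0 := by
    intro v₁ v₂ v₃ v₄ v₅ v₆ hv u hu w hw
    obtain ⟨p, q, r, rfl⟩ := hv u hu
    obtain ⟨p', q', r', rfl⟩ := hv w hw
    exact dbl_perp hF _ _ _ _ _ _
  have l1 := lift_six hD hp h22.1 A (dv hF 1 0 0 (Or.inl one_ne_zero)) (dv hF 0 1 0 (Or.inr (Or.inl one_ne_zero)))
    (dv hF 0 0 1 (Or.inr (Or.inr one_ne_zero))) (dv hF 1 1 1 (Or.inl one_ne_zero))
    (dv hF 1 z (z * z) (Or.inl one_ne_zero)) (dv hF 1 (z * z) z (Or.inl one_ne_zero))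
    (prod_tu_six hF _ _ _ _ _ _ (hperp _ _ _ _ _ _ (by simp [dv])) sum1)
  have l2 := lift_six hD hp h22.1 A (dv hF 1 0 0 (Or.inl one_ne_zero)) (dv hF 0 1 0 (Or.inr (Or.inl one_ne_zero)))
    (dv hF 0 0 1 (Or.inr (Or.inr one_ne_zero))) (dv hF 1 1 z (Or.inl one_ne_zero))
    (dv hF 1 z 1 (Or.inl one_ne_zero)) (dv hF 1 (z * z) (z * z) (Or.inl one_ne_zero))
    (prod_tu_six hF _ _ _ _ _ _ (hperp _ _ _ _ _ _ (by simp [dv])) sum2)
  change a * b * c * d * e * f = 1 ∨ a * b * c * d * e * f = A.t at l1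
  change a * b * c * d' * e' * f' = 1 ∨ a * b * c * d' * e' * f' = A.t at l2
  have cm : ∀ p q r p' q' r' hn hn', Commute (dp A p q r hn) (dp A p' q' r' hn') := fun p q r p' q' r' hn hn' =>
    dp_commute A p q r p' q' r' hn hn'
  have inv3 : ∀ x y w : G, x ∈ D → y ∈ D → w ∈ D → Commute x y → Commute x w → Commute y w →
      (x * y * w) * (x * y * w) = 1 := by
    intro x y w hx hy hw' cxy cxw cyw
    rw [← pow_two, (cxw.mul_left cyw).mul_pow, cxy.mul_pow, pow_two, pow_two, pow_two, mul_self hD.1 hx,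
      mul_self hD.1 hy, mul_self hD.1 hw', one_mul, one_mul]
  have eq3 : ∀ x y w : G, x ∈ D → y ∈ D → w ∈ D → Commute x y → Commute x w → Commute y w →
      a * b * c * x * y * w = 1 → x * y * w = a * b * c := by
    intro x y w hx hy hw' cxy cxw cyw he
    have h1 : (a * b * c) * (x * y * w) = 1 := by rw [← he]; simp only [mul_assoc]
    rw [← inv_eq_of_mul_eq_one_right h1]
    exact inv_eq_of_mul_eq_one_right (inv3 a b c (hmem ..).1 (hmem ..).1 (hmem ..).1 (cm ..) (cm ..) (cm ..))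
  have nab : a ≠ b := fun e0 => by obtain ⟨l, hl, h1, -, -⟩ := dp_eq A e0; simp at h1
  have nac : a ≠ c := fun e0 => by obtain ⟨l, hl, h1, -, -⟩ := dp_eq A e0; simp at h1
  have nbc : b ≠ c := fun e0 => by obtain ⟨l, hl, -, h1, -⟩ := dp_eq A e0; simp at h1
  have mk3 : ∀ x y w : G, x ∈ D → y ∈ D → w ∈ D → x ≠ y → x ≠ w → y ≠ w → Commute x y → Commute x w →
      Commute y w → x * y * w = a * b * c → IsFac D (a * b * c) 3 [x, y, w] := by
    intro x y w hx hy hw' n1 n2 n3 c1 c2 c3 he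
    refine ⟨by simp [n1, n2, n3], rfl, ?_, ?_, by simpa [mul_assoc] using he⟩
    · intro q hq
      simp only [List.mem_cons, List.not_mem_nil, or_false] at hq
      rcases hq with rfl | rfl | rfl <;> assumption
    · intro q hq q' hq'
      simp only [List.mem_cons, List.not_mem_nil, or_false] at hq hq'
      rcases hq with rfl | rfl | rfl <;> rcases hq' with rfl | rfl | rfl <;>
        first | exact Commute.refl _ | assumption | exact c1.symm | exact c2.symm | exact c3.symm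
  have nde : d ≠ e := fun e0 => by
    obtain ⟨l, hl, h1, h2', -⟩ := dp_eq A e0
    exact z1 (mul_left_cancel₀ hl (by rw [← h2', mul_one]; linear_combination h1))
  have ndf : d ≠ f := fun e0 => by
    obtain ⟨l, hl, h1, h2', -⟩ := dp_eq A e0
    exact zz1 (mul_left_cancel₀ hl (by rw [← h2', mul_one]; linear_combination h1))
  have nef : e ≠ f := fun e0 => by
    obtain ⟨l, hl, h1, h2', -⟩ := dp_eq A e0
    rw [mul_one] at h1
    rw [← h1, one_mul] at h2'
    exact zzz h2'.symm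
  have nde' : d' ≠ e' := fun e0 => by
    obtain ⟨l, hl, h1, h2', -⟩ := dp_eq A e0
    exact z1 (mul_left_cancel₀ hl (by rw [← h2', mul_one]; linear_combination h1))
  have ndf' : d' ≠ f' := fun e0 => by
    obtain ⟨l, hl, h1, h2', -⟩ := dp_eq A e0
    exact zz1 (mul_left_cancel₀ hl (by rw [← h2', mul_one]; linear_combination h1))
  have nef' : e' ≠ f' := fun e0 => by
    obtain ⟨l, hl, h1, h2', -⟩ := dp_eq A e0
    rw [mul_one] at h1
    rw [← h1, one_mul] at h2'
    exact zzz h2'.symm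
  rcases l1 with l1 | l1
  swap
  · exact ⟨d, e, f, hmem .., hmem .., hmem .., nde, ndf, nef, cm .., cm .., cm .., l1⟩
  rcases l2 with l2 | l2
  swap
  · exact ⟨d', e', f', hmem .., hmem .., hmem .., nde', ndf', nef', cm .., cm .., cm .., l2⟩
  exfalso
  have f0 := mk3 a b c (hmem ..).1 (hmem ..).1 (hmem ..).1 nab nac nbc (cm ..) (cm ..) (cm ..) rfl
  have f1 := mk3 d e f (hmem ..).1 (hmem ..).1 (hmem ..).1 nde ndf nef (cm ..) (cm ..) (cm ..)
    (eq3 d e f (hmem ..).1 (hmem ..).1 (hmem ..).1 (cm ..) (cm ..) (cm ..) l1)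
  have f2 := mk3 d' e' f' (hmem ..).1 (hmem ..).1 (hmem ..).1 nde' ndf' nef' (cm ..) (cm ..) (cm ..)
    (eq3 d' e' f' (hmem ..).1 (hmem ..).1 (hmem ..).1 (cm ..) (cm ..) (cm ..) l2)
  obtain ⟨L₁, L₂, -, -, -, hall⟩ := (factorizations hG hp hd₀ h3 h2 h22).2 _ _ f0
  have nx : ∀ (p q r : F) hn, p ≠ 0 → q ≠ 0 → r ≠ 0 → ¬ dp A p q r hn ∈ [a, b, c] := by
    intro p q r hn hp' hq' hr' hin
    simp only [List.mem_cons, List.not_mem_nil, or_false] at hin
    rcases hin with e0 | e0 | e0 <;> obtain ⟨l, -, h1, h2', h3'⟩ := dp_eq A e0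
    · exact hq' (by rw [h2', mul_zero])
    · exact hp' (by rw [h1, mul_zero])
    · exact hp' (by rw [h1, mul_zero])
  have nd : ¬ d ∈ [d', e', f'] := by
    intro hin
    simp only [List.mem_cons, List.not_mem_nil, or_false] at hin
    rcases hin with e0 | e0 | e0 <;> obtain ⟨l, -, h1, h2', h3'⟩ := dp_eq A e0 <;> rw [mul_one] at h1 <;>
      subst h1 <;> rw [one_mul] at h2' h3'
    · exact z1 h3'.symm
    · exact z1 h2'.symm
    · exact zz1 h2'.symm
  have nd0 := nx 1 1 1 (Or.inl one_ne_zero) one_ne_zero one_ne_zero one_ne_zero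
  have nd0' := nx 1 1 z (Or.inl one_ne_zero) one_ne_zero one_ne_zero z0
  rcases hall _ f0 with g0 | g0 <;> rcases hall _ f1 with g1 | g1 <;> rcases hall _ f2 with g2 | g2
  all_goals first
    | exact nd0 ((g0 d).mpr ((g1 d).mp (by simp)))
    | exact nd0' ((g0 d').mpr ((g2 d').mp (by simp)))
    | exact nd ((g2 d).mpr ((g1 d).mp (by simp)))

/-- The transposition is a product of six of its partners. -/
theorem six_rel (hG : IsThreeTranspositionGroup D) (hp : IsPrimitiveUnderConj D) {d₀ : G} (hd₀ : d₀ ∈ D)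
    (h3 : pCore 3 ↥(Subgroup.closure (Ds D d₀)) ≤ Subgroup.center ↥(Subgroup.closure (Ds D d₀)))
    (h2 : pCore 2 ↥(Subgroup.closure (Ds D d₀)) ≤ Subgroup.center ↥(Subgroup.closure (Ds D d₀)))
    (h22 : IsOfTypeM22 G D) (A : Data D F hF) :
    ∃ b₁ b₂ b₃ b₄ b₅ b₆, b₁ ∈ Ds D A.t ∧ b₂ ∈ Ds D A.t ∧ b₃ ∈ Ds D A.t ∧ b₄ ∈ Ds D A.t ∧ b₅ ∈ Ds D A.t ∧
      b₆ ∈ Ds D A.t ∧ b₁ * b₂ * b₃ * b₄ * b₅ * b₆ = A.t := by
  obtain ⟨d, e, f, hd, he, hf, -, -, -, -, -, -, hprod⟩ := six_std hG hp hd₀ h3 h2 h22 A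
  exact ⟨_, _, _, d, e, f, point_mem A _, point_mem A _, point_mem A _, hd, he, hf, hprod⟩

theorem pair_mem_commutator (hD : IsThreeTranspositionClass D) {t : G} {b : Fin 6 → G} (hb : ∀ i, b i ∈ D)
    (hprod : b 0 * b 1 * b 2 * b 3 * b 4 * b 5 = t) : t ∈ commutator G := by
  rw [← hprod]
  have := mul_mem (mul_mem (mul_mem_commutator hD (hb 0) (hb 1)) (mul_mem_commutator hD (hb 2) (hb 3)))
    (mul_mem_commutator hD (hb 4) (hb 5))
  simpa only [inv_self hD.1 (hb 0), inv_self hD.1 (hb 2), inv_self hD.1 (hb 4), mul_assoc] using this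

/-- Cores of the partner group in type M(22). -/
theorem cores (hG : IsThreeTranspositionGroup D) (hty : IsOfTypeM22 G D) :
    ∃ t ∈ D, pCore 3 ↥(Subgroup.closure (Ds D t)) ≤ Subgroup.center ↥(Subgroup.closure (Ds D t)) ∧
      pCore 2 ↥(Subgroup.closure (Ds D t)) ≤ Subgroup.center ↥(Subgroup.closure (Ds D t)) := by
  obtain ⟨-, t, ht, c, -, -, ⟨K, iK, iKt, hK, ⟨e⟩⟩, -⟩ := hty
  classical
  haveI : IsSimpleGroup (PSU 6 K 2) :=
    UnitarySimple.simple (F := K) (q := 2) (by rw [hK]; norm_num) (by norm_num) (by norm_num)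
  obtain ⟨x, y, hxy⟩ := psu_not_commutative hK
  refine ⟨t, ht, ?_, core_of_quot_bot ?_⟩
  · haveI : Fact (Nat.Prime 3) := ⟨Nat.prime_three⟩
    have h0 : pCore 3 (PSU 6 K 2) = ⊥ := by
      rcases IsSimpleGroup.eq_bot_or_eq_top_of_normal (pCore 3 (PSU 6 K 2)) inferInstance with e0 | e0
      · exact e0
      exfalso
      haveI := (isPGroup_pCore (G := PSU 6 K 2) 3).isNilpotent
      haveI : Group.IsSolvable ↥(pCore 3 (PSU 6 K 2)) := inferInstance
      have hs : Group.IsSolvable (PSU 6 K 2) := by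
        rw [e0] at this
        exact Group.isSolvable_of_surjective (f := (⊤ : Subgroup (PSU 6 K 2)).subtype) fun g => ⟨⟨g, trivial⟩, rfl⟩
      exact hxy ((IsSimpleGroup.comm_iff_isSolvable (G := PSU 6 K 2)).mpr hs x y)
    have h1 := pCore_map_equiv 3 e.symm
    rw [h0, Subgroup.map_bot] at h1
    set q := QuotientGroup.mk' (Subgroup.center ↥(Subgroup.closure (Ds D t)))
    haveI : ((pCore 3 ↥(Subgroup.closure (Ds D t))).map q).Normal :=
      Subgroup.Normal.map inferInstance q (QuotientGroup.mk'_surjective _)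
    intro x hx
    have h2 : q x ∈ (⊥ : Subgroup _) :=
      h1.symm ▸ le_pCore ((isPGroup_pCore 3).map q) (Subgroup.mem_map_of_mem q hx)
    exact (QuotientGroup.eq_one_iff x).mp (Subgroup.mem_bot.mp h2)
  · have h1 := pCore_map_equiv 2 e.symm
    rw [psu_core hK, Subgroup.map_bot] at h1
    exact h1.symm

theorem perfect_top (hG : IsThreeTranspositionGroup D) (hp : IsPrimitiveUnderConj D) {d₀ : G} (hd₀ : d₀ ∈ D)
    (h3 : pCore 3 ↥(Subgroup.closure (Ds D d₀)) ≤ Subgroup.center ↥(Subgroup.closure (Ds D d₀)))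
    (h2 : pCore 2 ↥(Subgroup.closure (Ds D d₀)) ≤ Subgroup.center ↥(Subgroup.closure (Ds D d₀)))
    (h22 : IsOfTypeM22 G D) (A : Data D F hF) : commutator G = ⊤ := by
  have hD := cls_of_group_prim hG hp
  obtain ⟨b₁, b₂, b₃, b₄, b₅, b₆, m1, m2, m3, m4, m5, m6, hb⟩ := six_rel hG hp hd₀ h3 h2 h22 A
  have ht : A.t ∈ commutator G := pair_mem_commutator hD (b := ![b₁, b₂, b₃, b₄, b₅, b₆])
    (by intro i; fin_cases i <;> [exact m1.1; exact m2.1; exact m3.1; exact m4.1; exact m5.1; exact m6.1]) hb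
  rw [eq_top_iff, ← hD.2.2, Subgroup.closure_le]
  intro x hx
  obtain ⟨g, rfl⟩ := cls_exists_conj hD A.ht hx
  exact (inferInstance : (commutator G).Normal).conj_mem _ ht g

theorem simple_group (hG : IsThreeTranspositionGroup D) (hp : IsPrimitiveUnderConj D) {d₀ : G} (hd₀ : d₀ ∈ D)
    (h3 : pCore 3 ↥(Subgroup.closure (Ds D d₀)) ≤ Subgroup.center ↥(Subgroup.closure (Ds D d₀)))
    (h2 : pCore 2 ↥(Subgroup.closure (Ds D d₀)) ≤ Subgroup.center ↥(Subgroup.closure (Ds D d₀)))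
    (h22 : IsOfTypeM22 G D) (A : Data D F hF) : IsSimpleGroup G := by
  have hD := cls_of_group_prim hG hp
  have hs := (equivalences hD h22.1 (has_pair A)).1.mpr hp
  haveI : IsSimpleGroup (⊤ : Subgroup G) := perfect_top hG hp hd₀ h3 h2 h22 A ▸ hs
  haveI : Nontrivial G := ⟨⟨A.t, 1, fun e => by
    have := hD.1.1 A.t A.ht
    rw [e, orderOf_one] at this
    exact absurd this (by norm_num)⟩⟩
  exact IsSimpleGroup.isSimpleGroup_of_surjective (f := (Subgroup.topEquiv (G := G)).toMonoidHom)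
    (Subgroup.topEquiv (G := G)).surjective

theorem quasisimple_partners (hG : IsThreeTranspositionGroup D) (hp : IsPrimitiveUnderConj D) {d₀ : G}
    (hd₀ : d₀ ∈ D) (h3 : pCore 3 ↥(Subgroup.closure (Ds D d₀)) ≤ Subgroup.center ↥(Subgroup.closure (Ds D d₀)))
    (h2 : pCore 2 ↥(Subgroup.closure (Ds D d₀)) ≤ Subgroup.center ↥(Subgroup.closure (Ds D d₀)))
    (h22 : IsOfTypeM22 G D) (A : Data D F hF) : IsQuasisimple ↥(Subgroup.closure (Ds D A.t)) := by
  have hD := cls_of_group_prim hG hp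
  set K := Subgroup.closure (Ds D A.t)
  have hw := has_pair A
  obtain ⟨c2, c3⟩ := cores_of_prim hD hp hw
  have hcls := partner_class hD (Ds_transitive_of_cores hD c2 c3 A.ht) ⟨_, point_mem A (std hF)⟩
  have hloc := local_of_M22 h22
  set B := point A (std hF)
  have hB : B ∈ Ds D A.t := point_mem A _
  obtain ⟨C, hC⟩ : (Ds D A.t ∩ Ds D B).Nonempty := by
    rw [← Set.ncard_pos, ncard_perp hD A hB]
    norm_num
  obtain ⟨P, Q, R, hP, hQ, hR, -, hcom, heq, -⟩ := at_t hD hp hloc h22.1 A hB hC.1 hC.2.2.1.symm hC.2.2.2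
  obtain ⟨b₁, b₂, b₃, b₄, b₅, b₆, m1, m2, m3, m4, m5, m6, hb⟩ := six_rel hG hp hd₀ h3 h2 h22 A
  set T : K := ⟨A.t, self_mem hD hp hloc h22.1 A A.ht⟩
  let q : ∀ x, x ∈ Ds D A.t → K := fun x hx => ⟨x, Subgroup.subset_closure hx⟩
  have hT : T ∈ commutator K := pair_mem_commutator hcls
    (b := ![q b₁ m1, q b₂ m2, q b₃ m3, q b₄ m4, q b₅ m5, q b₆ m6])
    (by intro i; fin_cases i <;> [exact m1; exact m2; exact m3; exact m4; exact m5; exact m6]) (Subtype.ext hb)
  have hR' : q R hR ∈ commutator K := by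
    have e : q R hR = (q P hP * q Q hQ)⁻¹ * (T * (q B hB * q C hC.1)) := Subtype.ext (by
      show R = (P * Q)⁻¹ * (A.t * (B * C))
      rw [← mul_assoc A.t B C, heq]
      group)
    rw [e]
    have h1 := mul_mem_commutator hcls (show q P hP ∈ _ from hP) (show q Q hQ ∈ _ from hQ)
    have h2' := mul_mem_commutator hcls (show q B hB ∈ _ from hB) (show q C hC.1 ∈ _ from hC.1)
    rw [inv_self hcls.1 (show q P hP ∈ _ from hP)] at h1
    rw [inv_self hcls.1 (show q B hB ∈ _ from hB)] at h2'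
    exact mul_mem (inv_mem h1) (mul_mem hT h2')
  have htop : commutator K = ⊤ := by
    rw [eq_top_iff, ← hcls.2.2, Subgroup.closure_le]
    intro x hx
    obtain ⟨g, rfl⟩ := cls_exists_conj hcls (show q R hR ∈ _ from hR) hx
    exact (inferInstance : (commutator K).Normal).conj_mem _ hR' g
  refine ⟨⟨htop⟩, ?_⟩
  haveI : IsSimpleGroup (PSU 6 F 2) :=
    UnitarySimple.simple (F := F) (q := 2) hF (by norm_num) (by norm_num)
  have e : (K ⧸ Subgroup.center K) ≃* PSU 6 F 2 :=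
    (QuotientGroup.quotientMulEquivOfEq A.ker_φ.symm).trans
      (QuotientGroup.quotientKerEquivOfSurjective A.φ A.sur)
  exact e.isSimpleGroup

theorem iso_clique_card (hF : Fintype.card F = 2 ^ 2) (S : Set (Fin 6 → F))
    (hS : ∀ u ∈ S, ∀ w ∈ S, h u w = 0) : Nat.card (Submodule.span F S) ≤ 64 := by
  classical
  set W := Submodule.span F S
  have hW : ∀ u ∈ W, ∀ w ∈ W, h u w = 0 := IsotropicCount.herm_span2 (q := 2) hF S hS
  let Φ : (Fin 6 → F) →+ Module.Dual F W :=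
    AddMonoidHom.mk' (fun x =>
      { toFun := fun w => h w.1 x
        map_add' := fun p q => h_add_left _ _ _
        map_smul' := fun c p => h_smul_left _ _ _ })
      fun x y => LinearMap.ext fun w => h_add_right hF _ _ _
  have hsur : Function.Surjective Φ := by
    intro f
    obtain ⟨g, hg⟩ := f.exists_extend
    refine ⟨fun i => frob hF (g (Pi.single i 1)), LinearMap.ext fun w => ?_⟩
    show h w.1 (fun i => frob hF (g (Pi.single i 1))) = f w
    rw [← hg, LinearMap.comp_apply, W.subtype_apply]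
    conv_rhs => rw [pi_eq_sum_univ' w.1, map_sum]
    simp only [map_smul, smul_eq_mul, Cfsg.hermForm]
    refine Finset.sum_congr rfl fun i _ => ?_
    rw [← frob_apply hF, frob_frob hF]
  have hle : Nat.card W ≤ Nat.card Φ.ker := Nat.card_le_card_of_injective
    (fun w => (⟨w.1, LinearMap.ext fun v => hW v.1 v.2 w.1 w.2⟩ : Φ.ker))
    fun p q e => Subtype.ext (congrArg (fun x : Φ.ker => (x : Fin 6 → F)) e)
  have htot := AddSubgroup.card_eq_card_quotient_mul_card_addSubgroup Φ.ker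
  rw [Nat.card_congr (QuotientAddGroup.quotientKerEquivOfSurjective Φ hsur).toEquiv] at htot
  have hdual : Nat.card (Module.Dual F W) = Nat.card W :=
    Nat.card_congr (Module.Free.chooseBasis F W).toDualEquiv.toEquiv.symm
  rw [hdual, Nat.card_fun, Nat.card_eq_fintype_card (α := F), hF, Nat.card_eq_fintype_card (α := Fin 6),
    Fintype.card_fin] at htot
  by_contra hlt
  have := Nat.mul_le_mul (le_of_lt (not_le.mp hlt)) hle
  nlinarith [not_le.mp hlt, hle]

theorem width (hD : IsThreeTranspositionClass D) (A : Data D F hF) : commutingWidth D = 22 := by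
  classical
  have hupper : ∀ n, (∃ E : Set G, E ⊆ D ∧ E.Finite ∧ (∀ a ∈ E, ∀ b ∈ E, Commute a b) ∧ E.ncard = n) → n ≤ 22 := by
    rintro n ⟨E, hED, -, hcom, rfl⟩
    rcases E.eq_empty_or_nonempty with rfl | ⟨s, hs⟩
    · simp
    obtain ⟨g, hg, hin⟩ := to_base hD A (hED hs)
    set S : Set G := (fun z => g⁻¹ * z * g⁻¹⁻¹) '' (E \ {s})
    have hS : S ⊆ Ds D A.t := by
      rintro _ ⟨z, ⟨hz, hzs⟩, rfl⟩
      exact hin ⟨hED hz, hzs, hcom s hs z hz⟩
    have hSn : S.ncard + 1 = E.ncard := by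
      rw [Set.ncard_image_of_injective _ (cj_injective g⁻¹), Set.ncard_diff_singleton_add_one hs]
    set P : Set (Fin 6 → F) := {v | ∃ x : Iso F, x.1 = v ∧ point A x ∈ S}
    have hP : ∀ u ∈ P, ∀ w ∈ P, h u w = 0 := by
      rintro _ ⟨x, rfl, hx⟩ _ ⟨y, rfl, hy⟩
      refine (point_commute_iff A x y).mp ?_
      obtain ⟨z, hz, ez⟩ := hx
      obtain ⟨z', hz', ez'⟩ := hy
      rw [← ez, ← ez']
      exact (commute_cj_iff g⁻¹).mpr (hcom z hz.1 z' hz'.1)
    have hle : Nat.card (Option {x : Iso F // point A x ∈ S}) ≤ Nat.card (Submodule.span F P) := by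
      refine Nat.card_le_card_of_injective (fun o => o.elim (0 : Submodule.span F P)
        fun x => ⟨x.1.1, Submodule.subset_span ⟨x.1, rfl, x.2⟩⟩) ?_
      rintro (_ | p) (_ | q) e <;> simp only [Option.elim, Subtype.ext_iff] at e
      · rfl
      · exact absurd e.symm q.1.2.1
      · exact absurd e p.1.2.1
      · exact congrArg some (Subtype.ext (Subtype.ext e))
    rw [Finite.card_option, card_pre A hS] at hle
    have := hle.trans (iso_clique_card hF P hP)
    omega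
  refine le_antisymm (csSup_le' hupper) ?_
  let X := {v : Fin 3 → F // v ≠ 0}
  let f : X → Iso F := fun v => dv hF (v.1 0) (v.1 1) (v.1 2) (by
    by_contra hh
    push Not at hh
    exact v.2 (funext fun i => by fin_cases i <;> simp [hh]))
  set S : Set G := Set.range fun v => point A (f v)
  have hS : S ⊆ Ds D A.t := by rintro _ ⟨v, rfl⟩; exact point_mem A _
  have hS21 : 21 ≤ S.ncard := by
    have h1 : Nat.card X ≤ Nat.card {x : Iso F // point A x ∈ S} := by
      refine Nat.card_le_card_of_injective (fun v => ⟨f v, v, rfl⟩) fun p q e => Subtype.ext (funext fun i => ?_)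
      have e' : dbl (p.1 0) (p.1 1) (p.1 2) = dbl (q.1 0) (q.1 1) (q.1 2) :=
        congrArg (fun x : {x : Iso F // point A x ∈ S} => x.1.1) e
      fin_cases i
      · simpa [dbl] using congrFun e' 0
      · simpa [dbl] using congrFun e' 2
      · simpa [dbl] using congrFun e' 4
    rw [card_pre A hS, Nat.card_eq_fintype_card, Fintype.card_subtype_compl, Fintype.card_fun,
      Fintype.card_subtype_eq, hF, Fintype.card_fin] at h1
    norm_num at h1
    omega
  refine le_trans ?_ (le_csSup ⟨22, hupper⟩ (a := (insert A.t S).ncard) ⟨insert A.t S, ?_, Set.toFinite _, ?_, rfl⟩)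
  · rw [Set.ncard_insert_of_notMem fun hh => (hS hh).2.1 rfl]
    omega
  · exact Set.insert_subset_iff.mpr ⟨A.ht, fun x hx => (hS hx).1⟩
  · rintro x (rfl | ⟨v, rfl⟩) y (rfl | ⟨w, rfl⟩)
    · exact Commute.refl _
    · exact (point_mem A _).2.2
    · exact (point_mem A _).2.2.symm
    · exact (point_commute_iff A _ _).mpr (dbl_perp hF _ _ _ _ _ _)

theorem quasisimple_at (hG : IsThreeTranspositionGroup D) (hp : IsPrimitiveUnderConj D) {d₀ : G}
    (hd₀ : d₀ ∈ D) (h3 : pCore 3 ↥(Subgroup.closure (Ds D d₀)) ≤ Subgroup.center ↥(Subgroup.closure (Ds D d₀)))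
    (h2 : pCore 2 ↥(Subgroup.closure (Ds D d₀)) ≤ Subgroup.center ↥(Subgroup.closure (Ds D d₀)))
    (h22 : IsOfTypeM22 G D) (A : Data D F hF) {d : G} (hd : d ∈ D) :
    IsQuasisimple ↥(Subgroup.closure (Ds D d)) := by
  have hD := cls_of_group_prim hG hp
  obtain ⟨g, rfl⟩ := cls_exists_conj hD A.ht hd
  have hmap : (Subgroup.closure (Ds D A.t)).map (MulAut.conj g).toMonoidHom =
      Subgroup.closure (Ds D (g * A.t * g⁻¹)) := by
    rw [MonoidHom.map_closure, ← cj_Ds hD]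
    rfl
  exact CfsgLib.isQuasisimple_of_equiv
    (((MulAut.conj g).subgroupMap (Subgroup.closure (Ds D A.t))).trans (MulEquiv.subgroupCongr hmap))
    (quasisimple_partners hG hp hd₀ h3 h2 h22 A)

omit [Field F] [Fintype F] [DecidableEq F] in
/-- The data of a group of type M(22). -/
theorem exists_full (hG : IsThreeTranspositionGroup D) (hp : IsPrimitiveUnderConj D) (h22 : IsOfTypeM22 G D) :
    ∃ t ∈ D, pCore 3 ↥(Subgroup.closure (Ds D t)) ≤ Subgroup.center ↥(Subgroup.closure (Ds D t)) ∧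
      pCore 2 ↥(Subgroup.closure (Ds D t)) ≤ Subgroup.center ↥(Subgroup.closure (Ds D t)) ∧
      ∃ (K : Type) (_ : Field K) (_ : Fintype K) (_ : DecidableEq K) (hK : Fintype.card K = 2 ^ 2),
        Nonempty (Data D K hK) := by
  obtain ⟨t, ht, h3, h2⟩ := cores hG h22
  exact ⟨t, ht, h3, h2, exists_data (cls_of_group_prim hG hp) hp ht h3 h2 h22⟩

end CfsgThreeTrans.M22
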