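/-
The stabiliser of an isotropic vector in SU6(2), and its action on the four-dimensional section.
-/
import Cfsg.Agent.Lib.ThreeTrans.M22.Points
import Cfsg.Agent.Lib.SUCover.Basic

set_option autoImplicit false
set_option linter.unusedSectionVars false

namespace CfsgThreeTrans.M22.Parabolic

open Matrix CfsgLib CfsgLib.UnitaryTransvection CfsgLib.UnitarySimple CfsgThreeTrans.M22 CfsgThreeTrans.M22.Points

variable {F : Type} [Field F] [Fintype F] [DecidableEq F] (hF : Fintype.card F = 2 ^ 2)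

local notation "h" => Cfsg.hermForm 6 F 2
local notation "h4" => Cfsg.hermForm 4 F 2
local notation "σ" => frob hF
local notation "π" => QuotientGroup.mk' (Subgroup.center (Cfsg.SU 6 F 2))

/-- The stabiliser of the standard vector. -/
def Stab : Subgroup (Cfsg.SU 6 F 2) where
  carrier := {g | mat g *ᵥ u₀ F = u₀ F}
  one_mem' := by simp [mat_one]
  mul_mem' := fun {a b} ha hb => by
    show mat (a * b) *ᵥ u₀ F = u₀ F
    rw [mat_mul, ← mulVec_mulVec, hb, ha]
  inv_mem' := fun {a} ha => by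
    show mat a⁻¹ *ᵥ u₀ F = u₀ F
    conv_lhs => arg 2; rw [← ha]
    rw [mat_inv_mulVec']

theorem mem_Stab {g : Cfsg.SU 6 F 2} : g ∈ Stab (F := F) ↔ mat g *ᵥ u₀ F = u₀ F := Iff.rfl

theorem tail_pad (a b : F) (y : Fin 4 → F) : Fin.tail (Fin.tail (pad a b y)) = y := by
  unfold pad
  rw [Fin.tail_cons, Fin.tail_cons]

theorem pad_add (a b c d : F) (y w : Fin 4 → F) : pad a b y + pad c d w = pad (a + c) (b + d) (y + w) := by
  funext i
  refine Fin.cases ?_ (fun i => Fin.cases ?_ (fun i => ?_) i) i <;> simp [pad]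

theorem pad_smul (k a b : F) (y : Fin 4 → F) : k • pad a b y = pad (k * a) (k * b) (k • y) := by
  funext i
  refine Fin.cases ?_ (fun i => Fin.cases ?_ (fun i => ?_) i) i <;> simp [pad]

theorem pad_inj {a b c d : F} {y w : Fin 4 → F} (e : pad a b y = pad c d w) : a = c ∧ b = d ∧ y = w := by
  unfold pad at e
  exact ⟨(Fin.cons_inj.mp e).1, (Fin.cons_inj.mp (Fin.cons_inj.mp e).2).1, (Fin.cons_inj.mp (Fin.cons_inj.mp e).2).2⟩

include hF

/-- Vectors perpendicular to the standard one. -/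
theorem perp_form {x : Fin 6 → F} (hx : h x (u₀ F) = 0) : x = pad (x 0) (x 0) (Fin.tail (Fin.tail x)) := by
  rw [pad_eta x, perp_u0 hF] at hx
  have e : x 0 = x 1 := by
    have := congrArg (· + x 1) hx
    simpa [add_assoc, add_self hF] using this
  conv_lhs => rw [pad_eta x, ← e]

theorem stab_perp {g : Cfsg.SU 6 F 2} (hg : g ∈ Stab) (y : Fin 4 → F) :
    ∃ c, mat g *ᵥ pad 0 0 y = pad c c (Fin.tail (Fin.tail (mat g *ᵥ pad 0 0 y))) := by
  refine ⟨_, perp_form hF ?_⟩
  conv_lhs => rw [← mem_Stab.mp hg]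
  rw [su_h, perp_u0 hF, add_zero]

theorem stab_perp' {g : Cfsg.SU 6 F 2} (hg : g ∈ Stab) (c : F) (y : Fin 4 → F) :
    mat g *ᵥ pad c c y = c • u₀ F + mat g *ᵥ pad 0 0 y := by
  have e : pad c c y = c • u₀ F + pad 0 0 y := by rw [u0_eq, pad_smul, pad_add]; simp
  rw [e, mulVec_add, mulVec_smul, mem_Stab.mp hg]

omit hF in
/-- The matrix on the section. -/
def low (g : Cfsg.SU 6 F 2) : Matrix (Fin 4) (Fin 4) F := Matrix.of fun i j => mat g i.succ.succ j.succ.succ

omit hF in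
theorem low_mulVec (g : Cfsg.SU 6 F 2) (y : Fin 4 → F) :
    low g *ᵥ y = Fin.tail (Fin.tail (mat g *ᵥ pad 0 0 y)) := by
  funext i
  simp [low, mulVec, dotProduct, Fin.tail, pad, Fin.sum_univ_succ]

theorem low_tail {g : Cfsg.SU 6 F 2} (hg : g ∈ Stab) (c : F) (y : Fin 4 → F) :
    Fin.tail (Fin.tail (mat g *ᵥ pad c c y)) = low g *ᵥ y := by
  obtain ⟨d, hd⟩ := stab_perp hF hg y
  rw [stab_perp' hF hg, low_mulVec, hd, u0_eq, pad_smul, pad_add]
  simp [tail_pad]

theorem low_mul {g k : Cfsg.SU 6 F 2} (hg : g ∈ Stab) (hk : k ∈ Stab) : low (g * k) = low g * low k :=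
  Matrix.ext_of_mulVec_single fun i => by
    rw [low_mulVec, ← mulVec_mulVec, low_mulVec k]
    obtain ⟨d, hd⟩ := stab_perp hF hk (Pi.single i 1)
    rw [mat_mul, ← mulVec_mulVec, hd, low_tail hF hg, tail_pad]

omit hF in
theorem low_one : low (1 : Cfsg.SU 6 F 2) = 1 :=
  Matrix.ext_of_mulVec_single fun i => by rw [low_mulVec, mat_one, one_mulVec, tail_pad, one_mulVec]

theorem low_iso {g : Cfsg.SU 6 F 2} (hg : g ∈ Stab) (p q : Fin 4 → F) :
    h4 (low g *ᵥ p) (low g *ᵥ q) = h4 p q := by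
  have e := su_h g (pad 0 0 p) (pad 0 0 q)
  obtain ⟨c, hc⟩ := stab_perp hF hg p
  obtain ⟨d, hd⟩ := stab_perp hF hg q
  rw [hc, hd, herm_pad, herm_pad, add_self hF, zero_add, ← low_mulVec, ← low_mulVec] at e
  simpa using e

theorem stab_eq_W : Stab = W hF := by
  refine le_antisymm (fun g hg => ?_) ?_
  · obtain ⟨a, b, hv, h1, -, -, -⟩ := exists_v0 hF
    obtain ⟨w, hw, hwv⟩ := move hF hv h1 (v' := mat g *ᵥ pad a b 0) (by rw [su_h, hv])
      (by conv_lhs => rw [← mem_Stab.mp hg]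
          rw [su_h, h1])
    have hwu : w ∈ Stab := by
      refine (Subgroup.closure_le _).mpr ?_ hw
      rintro _ ⟨v, -, hv, hvu, rfl⟩
      show mat _ *ᵥ _ = _
      rw [tu_mulVec hF hv, ← h_swap hF v, hvu, map_zero, zero_smul, add_zero]
    have hfix : w⁻¹ * g ∈ W hF := fixer hF h1 (mem_Stab.mp (mul_mem (inv_mem hwu) hg))
      (by rw [mat_mul, ← mulVec_mulVec, ← hwv, mat_inv_mulVec'])
    have := mul_mem hw hfix
    rwa [mul_inv_cancel_left] at this
  · refine (Subgroup.closure_le _).mpr ?_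
    rintro _ ⟨v, -, hv, hvu, rfl⟩
    show mat _ *ᵥ _ = _
    rw [tu_mulVec hF hv, ← h_swap hF v, hvu, map_zero, zero_smul, add_zero]

theorem det_low {g : Cfsg.SU 6 F 2} (hg : g ∈ Stab) : (low g).det = 1 := by
  have key : ∀ k ∈ W hF, k ∈ Stab ∧ (low k).det = 1 := by
    intro k hk
    refine ⟨stab_eq_W hF ▸ hk, ?_⟩
    induction hk using Subgroup.closure_induction with
    | mem x hx =>
      obtain ⟨v, -, hv, hvu, rfl⟩ := hx
      have hs : tu hF v ∈ Stab := stab_eq_W hF ▸ tu_mem_W hF hv hvu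
      have e := congrArg Matrix.det (low_mul hF hs hs)
      rw [tu_sq hF hv, low_one, det_one, det_mul] at e
      exact sub_eq_zero.mp (mul_self_eq_zero.mp (by
        linear_combination -e - ((low (tu hF v)).det - 1) * two_zero hF))
    | one => rw [low_one, det_one]
    | mul x y hx hy ihx ihy => rw [low_mul hF (stab_eq_W hF ▸ hx) (stab_eq_W hF ▸ hy), det_mul, ihx, ihy, one_mul]
    | inv x hx ih =>
      have hxS : x ∈ Stab := by rw [stab_eq_W hF]; exact hx
      have e := congrArg Matrix.det (low_mul hF (inv_mem hxS) hxS)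
      rw [inv_mul_cancel, low_one, det_one, det_mul, ih, mul_one] at e
      exact e.symm
  exact (key g (stab_eq_W hF ▸ hg)).2

/-- The action on the section. -/
def χ₀ : Stab (F := F) →* Cfsg.SU 4 F 2 where
  toFun g := mkSU (low g.1) (low_iso hF g.2) (det_low hF g.2)
  map_one' := Subtype.ext (Subtype.ext low_one)
  map_mul' g k := Subtype.ext (Subtype.ext (low_mul hF g.2 k.2))

theorem mat_χ₀ (g : Stab (F := F)) : mat (χ₀ hF g) = low g.1 := rfl

theorem χ₀_surj : Function.Surjective (χ₀ hF) := by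
  intro k
  have lowS : ∀ x y : Fin 6 → F,
      h (UnitaryOrder.ext1 (UnitaryOrder.ext1 (mat k)) *ᵥ x) (UnitaryOrder.ext1 (UnitaryOrder.ext1 (mat k)) *ᵥ y)
        = h x y := by
    intro x y
    rw [UnitaryOrder.ext1_mulVec, UnitaryOrder.ext1_mulVec, UnitaryOrder.ext1_mulVec, UnitaryOrder.ext1_mulVec]
    show h (pad _ _ _) (pad _ _ _) = _
    conv_rhs => rw [pad_eta x, pad_eta y]
    rw [herm_pad, herm_pad, su_h]
    rfl
  set g := mkSU (UnitaryOrder.ext1 (UnitaryOrder.ext1 (mat k))) lowS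
    (by rw [SpectrumPowers.det_ext1, SpectrumPowers.det_ext1]; exact k.1.2) with hgdef
  have hg : ∀ x, mat g *ᵥ x = pad (x 0) (x 1) (mat k *ᵥ Fin.tail (Fin.tail x)) := fun x => by
    show UnitaryOrder.ext1 (UnitaryOrder.ext1 (mat k)) *ᵥ x = _
    rw [UnitaryOrder.ext1_mulVec, UnitaryOrder.ext1_mulVec]
    rfl
  refine ⟨⟨g, ?_⟩, su_ext fun y => ?_⟩
  · show mat g *ᵥ u₀ F = u₀ F
    rw [hg, u0_eq, tail_pad, mulVec_zero]
    simp [pad]
  · rw [mat_χ₀, low_mulVec, hg, tail_pad, tail_pad]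

theorem χ₀_ker {g : Stab (F := F)} (hg : χ₀ hF g = 1) (y : Fin 4 → F) :
    ∃ c, mat g.1 *ᵥ pad 0 0 y = pad c c y := by
  obtain ⟨c, hc⟩ := stab_perp hF g.2 y
  refine ⟨c, hc.trans ?_⟩
  rw [← low_mulVec, ← mat_χ₀ hF, hg, mat_one, one_mulVec]

theorem u0_tu_mem : tu hF (u₀ F) ∈ Stab := by
  show mat _ *ᵥ _ = _
  rw [tu_mulVec hF (u0_iso hF), u0_iso hF, zero_smul, add_zero]

theorem tu_mem {y : Fin 4 → F} (hy : h4 y y = 0) (c : F) : tu hF (pad c c y) ∈ Stab :=
  stab_eq_W hF ▸ tu_mem_W hF (by rw [herm_pad_self hF _ _ _ rfl, hy]) (by rw [perp_u0 hF, add_self hF])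

theorem χ₀_tu {y : Fin 4 → F} (hy : h4 y y = 0) (c : F) (x : Fin 4 → F) :
    mat (χ₀ hF ⟨_, tu_mem hF hy c⟩) *ᵥ x = x + h4 x y • y := by
  rw [mat_χ₀, low_mulVec, tu_mulVec hF (by rw [herm_pad_self hF _ _ _ rfl, hy]), herm_pad, pad_smul, pad_add,
    tail_pad]
  simp

/-- An element fixing the perpendicular space pointwise. -/
theorem fix_perp {g : Cfsg.SU 6 F 2} (hg : g ∈ Stab) (hy : ∀ y : Fin 4 → F, mat g *ᵥ pad 0 0 y = pad 0 0 y) :
    g = 1 ∨ g = tu hF (u₀ F) := by
  obtain ⟨a, b, hv, h1, hab, ha, hb⟩ := exists_v0 hF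
  set v := pad a b (0 : Fin 4 → F) with hvdef
  set w := mat g *ᵥ v with hwdef
  set d := Fin.tail (Fin.tail w)
  have hd : ∀ y, h4 d y = 0 := by
    intro y
    have e : h (mat g *ᵥ v) (mat g *ᵥ pad 0 0 y) = h v (pad 0 0 y) := su_h g _ _
    rw [hy, ← hwdef, pad_eta w, hvdef, herm_pad, herm_pad] at e
    simpa [Cfsg.hermForm] using e
  have hd0 : d = 0 := by
    funext i
    have := hd (Pi.single i 1)
    simpa [Cfsg.hermForm, Fin.sum_univ_succ, Pi.single_apply, Finset.sum_ite_eq'] using this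
  have e1 : h (u₀ F) w = 1 := by rw [← mem_Stab.mp hg, hwdef, su_h, h1]
  have e2 : h w w = 0 := by rw [hwdef, su_h, hv]
  rw [pad_eta w] at e1 e2
  rw [show Fin.tail (Fin.tail w) = 0 from hd0, herm_pad] at e2
  rw [show Fin.tail (Fin.tail w) = 0 from hd0, u0_eq, herm_pad] at e1
  simp only [Cfsg.hermForm, Pi.zero_apply, zero_mul, Finset.sum_const_zero, add_zero, one_mul] at e1 e2
  have hu := h1
  rw [u0_eq, herm_pad] at hu
  have hv' := hv
  rw [herm_pad] at hv'
  simp only [Cfsg.hermForm, Pi.zero_apply, zero_mul, Finset.sum_const_zero, add_zero, one_mul] at hu hv'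
  obtain ⟨hpq, qp⟩ := pair_root hF e1 e2
  obtain ⟨-, qa⟩ := pair_root hF hu hv'
  have two := two_zero hF
  have hw : w = v ∨ w = v + u₀ F := by
    have : (w 0 - a) * (w 0 - b) = 0 := by
      linear_combination qp - qa + a * hab - w 0 * hab + (a - w 0) * two
    rw [pad_eta w, show Fin.tail (Fin.tail w) = 0 from hd0, u0_eq, hvdef, pad_add]
    rcases mul_eq_zero.mp this with e | e
    · have ec : w 0 = a := sub_eq_zero.mp e
      exact Or.inl (by rw [ec, show w 1 = b by linear_combination hpq - hab - ec])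
    · have ec : w 0 = b := sub_eq_zero.mp e
      refine Or.inr ?_
      rw [ec, show w 1 = b + 1 by linear_combination hpq - ec - b * two,
        show b = a + 1 by linear_combination hab - a * two]
      simp
  have key : ∀ k : Cfsg.SU 6 F 2, k ∈ Stab → (∀ y, mat k *ᵥ pad 0 0 y = pad 0 0 y) → mat k *ᵥ v = w → g = k := by
    intro k hk hky hkv
    refine su_ext fun x => ?_
    have hx : x = (x 0 + (x 0 + x 1) * a) • u₀ F + (x 0 + x 1) • v + pad 0 0 (Fin.tail (Fin.tail x)) := by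
      rw [u0_eq, hvdef, pad_smul, pad_smul, pad_add, pad_add]
      conv_lhs => rw [pad_eta x]
      congr 1
      · linear_combination -((x 0 + x 1) * a) * two
      · linear_combination -(x 0 + x 1) * hab - x 0 * two
      · simp
    rw [hx, mulVec_add, mulVec_add, mulVec_smul (mat g), mulVec_smul (mat g), mulVec_add (A := mat k), mulVec_add (A := mat k),
      mulVec_smul (mat k), mulVec_smul (mat k), hy, hky, mem_Stab.mp hg, mem_Stab.mp hk, ← hwdef, hkv]
  rcases hw with e | e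
  · exact Or.inl (key 1 (one_mem _) (fun y => by rw [mat_one, one_mulVec]) (by rw [mat_one, one_mulVec, e]))
  · refine Or.inr (key _ (u0_tu_mem hF) (fun y => ?_) ?_)
    · rw [tu_mulVec hF (u0_iso hF), perp_u0 hF, add_zero, zero_smul, add_zero]
    · rw [tu_mulVec hF (u0_iso hF), ← h_swap hF (u₀ F) v, h1, map_one, one_smul, e]

/-- Kernel elements have commutators and squares in the root group. -/
theorem ker_comm {g k : Stab (F := F)} (hg : χ₀ hF g = 1) (hk : χ₀ hF k = 1) :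
    ((g * k * g⁻¹ * k⁻¹ : Stab (F := F)) : Cfsg.SU 6 F 2) ∈ ({1, tu hF (u₀ F)} : Set _) ∧
      ((g ^ 2 : Stab (F := F)) : Cfsg.SU 6 F 2) ∈ ({1, tu hF (u₀ F)} : Set _) := by
  have hmul : ∀ {p q : Stab (F := F)}, χ₀ hF p = 1 → χ₀ hF q = 1 → ∀ y, ∀ {c d : F},
      mat p.1 *ᵥ pad 0 0 y = pad c c y → mat q.1 *ᵥ pad 0 0 y = pad d d y →
        mat (p * q).1 *ᵥ pad 0 0 y = pad (d + c) (d + c) y := by
    intro p q _ _ y c d hc hd
    show mat (p.1 * q.1) *ᵥ _ = _
    rw [mat_mul, ← mulVec_mulVec, hd, stab_perp' hF p.2, hc, u0_eq, pad_smul, pad_add]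
    simp
  have hinv : ∀ {p : Stab (F := F)}, χ₀ hF p = 1 → ∀ y, ∀ {c : F},
      mat p.1 *ᵥ pad 0 0 y = pad c c y → mat (p⁻¹).1 *ᵥ pad 0 0 y = pad c c y := by
    intro p hp y c hc
    obtain ⟨d, hd⟩ := χ₀_ker hF (g := p⁻¹) (by rw [map_inv, hp, inv_one]) y
    have e := hmul (q := p⁻¹) hp (by rw [map_inv, hp, inv_one]) y hc hd
    rw [mul_inv_cancel, OneMemClass.coe_one, mat_one, one_mulVec] at e
    rw [hd, show d = c by linear_combination -(pad_inj e).1 - c * two_zero hF]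
  refine ⟨fix_perp hF (Subtype.prop _) fun y => ?_, fix_perp hF (Subtype.prop _) fun y => ?_⟩
  · obtain ⟨c, hc⟩ := χ₀_ker hF hg y
    obtain ⟨d, hd⟩ := χ₀_ker hF hk y
    rw [hmul (by simp [hg, hk]) (by simp [hk]) y (hmul (by simp [hg, hk]) (by simp [hg]) y (hmul hg hk y hc hd)
      (hinv hg y hc)) (hinv hk y hd)]
    rw [show d + (c + (d + c)) = 0 by linear_combination (c + d) * two_zero hF]
  · obtain ⟨c, hc⟩ := χ₀_ker hF hg y
    rw [pow_two, hmul hg hg y hc hc, add_self hF]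

/-- The centre of the section group is trivial. -/
theorem center_SU4 : Subgroup.center (Cfsg.SU 4 F 2) = ⊥ := by
  have hc := (SUCover.center_cyclic hF (n := 4) (by norm_num)).2
  norm_num [-Nat.card_eq_fintype_card] at hc
  exact hc

/-- The centre of the stabiliser is the root group. -/
theorem center_stab {g : Stab (F := F)} (hg : g ∈ Subgroup.center (Stab (F := F))) :
    (g : Cfsg.SU 6 F 2) = 1 ∨ (g : Cfsg.SU 6 F 2) = tu hF (u₀ F) := by
  have hχ : χ₀ hF g = 1 := by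
    refine Subgroup.mem_bot.mp (center_SU4 hF ▸ Subgroup.mem_center_iff.mpr fun k => ?_)
    obtain ⟨k, rfl⟩ := χ₀_surj hF k
    rw [← map_mul, ← map_mul, Subgroup.mem_center_iff.mp hg]
  have hfix : ∀ y : Fin 4 → F, h4 y y = 0 → mat g.1 *ᵥ pad 0 0 y = pad 0 0 y := by
    intro y hy
    by_cases hy0 : y = 0
    · subst hy0; rw [show pad (0 : F) 0 0 = 0 from funext fun j => by
        refine Fin.cases ?_ (fun j => Fin.cases ?_ (fun j => ?_) j) j <;> simp [pad]]
      exact mulVec_zero _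
    have hw : h (pad 0 0 y) (pad 0 0 y) = 0 := by rw [herm_pad_self hF _ _ _ rfl, hy]
    have e : tu hF (mat g.1 *ᵥ pad 0 0 y) = tu hF (pad 0 0 y) := by
      rw [← tu_conj hF _ hw, mul_inv_eq_iff_eq_mul]
      exact congrArg Subtype.val (Subgroup.mem_center_iff.mp hg ⟨_, tu_mem hF hy 0⟩).symm
    obtain ⟨a, ha⟩ := tu_point hF (by rw [su_h, hw]) (mat_ne_zero _ fun e' => hy0 (pad_inj (e'.trans (show
      (0 : Fin 6 → F) = pad 0 0 0 from funext fun j => by
        refine Fin.cases ?_ (fun j => Fin.cases ?_ (fun j => ?_) j) j <;> simp [pad]))).2.2) hw e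
    obtain ⟨c, hc⟩ := χ₀_ker hF hχ y
    rw [hc, pad_smul, mul_zero] at ha
    obtain ⟨hc0, -, hay⟩ := pad_inj ha
    rw [hc, hc0]
  refine fix_perp hF g.2 fun y => ?_
  obtain ⟨z, z0, z1, hz, -, -⟩ := exists_zeta hF
  have hbase : ∀ j : Fin 4, mat g.1 *ᵥ pad 0 0 (Pi.single j 1) = pad 0 0 (Pi.single j 1) := by
    intro j
    obtain ⟨i, hij⟩ : ∃ i, i ≠ j := ⟨j + 1, by revert j; decide⟩
    have hiso : ∀ a : F, a ≠ 0 → h4 (Pi.single i 1 + Pi.single j a) (Pi.single i 1 + Pi.single j a) = 0 := by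
      intro a ha
      rw [herm4_zero_iff hF, show (Finset.univ.filter fun k => (Pi.single i 1 + Pi.single j a : Fin 4 → F) k ≠ 0)
        = {i, j} from ?_, Finset.card_pair hij]
      ext k
      by_cases ki : k = i
      · subst ki; simp [hij]
      · by_cases kj : k = j
        · subst kj; simp [ki, ha]
        · simp [ki, kj]
    have hs : pad (0 : F) 0 (Pi.single j 1) =
        (1 + z)⁻¹ • (pad 0 0 (Pi.single i 1 + Pi.single j 1) + pad 0 0 (Pi.single i 1 + Pi.single j z)) := by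
      rw [pad_add, pad_smul, show (Pi.single i (1 : F) + Pi.single j 1 + (Pi.single i 1 + Pi.single j z) :
        Fin 4 → F) = (1 + z) • Pi.single j 1 from ?_, smul_smul, inv_mul_cancel₀, one_smul]
      · simp
      · intro e; exact z1 (by linear_combination e - two_zero hF)
      · rw [add_add_add_comm, vadd_self4, zero_add, ← Pi.single_add, ← Pi.single_smul, smul_eq_mul, mul_one]
    rw [hs, mulVec_smul, mulVec_add, hfix _ (hiso 1 one_ne_zero), hfix _ (hiso z z0)]
  have hy : pad (0 : F) 0 y = ∑ j, y j • pad 0 0 (Pi.single j 1) := by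
    funext k
    refine Fin.cases ?_ (fun k => Fin.cases ?_ (fun k => ?_) k) k <;>
      simp [pad, Finset.sum_apply, Pi.single_apply]
  rw [hy, mulVec_sum]
  exact Finset.sum_congr rfl fun j _ => by rw [mulVec_smul, hbase]
where
  vadd_self4 {a : Fin 4 → F} : a + a = 0 := funext fun _ => add_self hF _

/-- The projection is injective on the stabiliser. -/
theorem π_inj {g k : Cfsg.SU 6 F 2} (hg : g ∈ Stab) (hk : k ∈ Stab) (e : π g = π k) : g = k := by
  set z := g⁻¹ * k
  have hz : z ∈ Subgroup.center (Cfsg.SU 6 F 2) := (QuotientGroup.eq_one_iff _).mp (by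
    show π z = 1
    rw [map_mul, map_inv, e, inv_mul_cancel])
  obtain ⟨c, hc⟩ := SUCover.center_scalar hF (by norm_num) hz
  have hu : mat z *ᵥ u₀ F = u₀ F := mem_Stab.mp (mul_mem (inv_mem hg) hk)
  have hc1 : c = 1 := by simpa [hc, u₀, mulVec_diagonal] using congrFun hu 0
  exact inv_mul_eq_one.mp (su_ext fun x => by rw [hc, hc1, map_one, mat_one])

theorem card_psu4 : Nat.card (Cfsg.PSU 4 F 2) = 25920 := by
  have hgu := UnitaryOrder.card_GU_eq (n := 4) hF (by norm_num)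
  rw [UnitaryOrder.card_GU hF 4] at hgu
  norm_num [Finset.prod_range_succ, Nat.even_iff, -Nat.card_eq_fintype_card] at hgu
  have := Subgroup.card_eq_card_quotient_mul_card_subgroup (Subgroup.center (Cfsg.SU 4 F 2))
  rw [(Subgroup.card_eq_one (H := Subgroup.center (Cfsg.SU 4 F 2))).mpr (center_SU4 hF), mul_one] at this
  change Nat.card (Cfsg.SU 4 F 2) = Nat.card (Cfsg.PSU 4 F 2) at this
  omega

end CfsgThreeTrans.M22.Parabolic
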