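/-
Group theory for the generalised Fitting subgroup of the centraliser of a two-transposition product in type M(22).
-/
import Cfsg.Agent.Lib.Comp.Layer
import Cfsg.Agent.Lib.POmegaCard
import Cfsg.Agent.Lib.OrthOrderBase
import Cfsg.Agent.Lib.H1Small.Cases
import Cfsg.Agent.S0303
import Cfsg.Agent.S0815
import Cfsg.Agent.Lib.ThreeTrans.M22.Parabolic

set_option autoImplicit false

namespace CfsgThreeTrans.M22.ProductFitting

open Subgroup Cfsg
open scoped commutatorElement Matrix

universe u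

/-- The automorphism group of a non-abelian simple group has no nilpotent normal subgroup. -/
theorem aut_nilpotent_bot {S : Type u} [Group S] [IsSimpleGroup S] (hS : Subgroup.center S = ⊥)
    (N : Subgroup (MulAut S)) [N.Normal] (hN : Group.IsNilpotent N) : N = ⊥ := by
  haveI := hN
  set M := N.comap (MulAut.conj : S →* MulAut S)
  have hinj : Function.Injective (MulAut.conj : S →* MulAut S) := by
    rw [injective_iff_map_eq_one]
    intro s hs
    refine Subgroup.mem_bot.mp (hS ▸ Subgroup.mem_center_iff.mpr fun t => ?_)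
    have := congrArg (fun α : MulAut S => α t) hs
    simp only [MulAut.conj_apply, MulAut.one_apply] at this
    exact (mul_inv_eq_iff_eq_mul.mp this).symm
  haveI : Group.IsSolvable M := Group.isSolvable_of_isSolvable_injective
    (f := ((MulAut.conj : S →* MulAut S).comp M.subtype).codRestrict N fun x => x.2)
    (fun a b h => Subtype.ext (hinj (congrArg Subtype.val h)))
  haveI : M.Normal := Subgroup.Normal.comap inferInstance _
  have hM : M = ⊥ := by
    refine (IsSimpleGroup.eq_bot_or_eq_top_of_normal M inferInstance).resolve_right fun htop => ?_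
    have : Group.IsSolvable S := Group.isSolvable_of_surjective
      (f := (M.subtype : M →* S)) (fun s => ⟨⟨s, htop ▸ Subgroup.mem_top s⟩, rfl⟩)
    have hall : ∀ x : S, x ∈ Subgroup.center S := fun x =>
      Subgroup.mem_center_iff.mpr fun y => IsSimpleGroup.comm_iff_isSolvable.mpr this y x
    obtain ⟨x, hx⟩ := exists_ne (1 : S)
    exact hx (Subgroup.mem_bot.mp (hS ▸ hall x))
  refine (Subgroup.eq_bot_iff_forall N).mpr fun α hα => ?_
  refine MulEquiv.ext fun s => ?_
  have hc : α * MulAut.conj s * α⁻¹ * (MulAut.conj s)⁻¹ ∈ N := by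
    rw [mul_assoc α, mul_assoc α]
    exact mul_mem hα ((inferInstance : N.Normal).conj_mem _ (inv_mem hα) _)
  have he : α * MulAut.conj s * α⁻¹ * (MulAut.conj s)⁻¹ = MulAut.conj (α s * s⁻¹) := by
    rw [map_mul, map_inv]
    congr 1
    ext t
    simp
  rw [he] at hc
  have : α s * s⁻¹ ∈ M := hc
  rw [hM, Subgroup.mem_bot, mul_inv_eq_one] at this
  exact this

/-- A copy of a finite group in the lowest universe. -/
theorem small_copy (X : Type u) [Group X] [Finite X] :
    ∃ (E : Type) (_ : Group E) (_ : Finite E), Nonempty (X ≃* E) := by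
  obtain ⟨n, ⟨e⟩⟩ := Finite.exists_equiv_fin X
  let e' : {_i : Fin n // True} ≃ X := (Equiv.subtypeUnivEquiv fun _ => trivial).trans e.symm
  letI := e'.group
  exact ⟨{_i : Fin n // True}, inferInstance, inferInstance, ⟨e'.mulEquiv.symm⟩⟩

/-- Being extraspecial is preserved by isomorphisms. -/
theorem extraspecial_congr {X : Type u} {Y : Type} [Group X] [Group Y] {p : ℕ} (e : X ≃* Y)
    (h : IsExtraspecial p X) : IsExtraspecial p Y := by
  obtain ⟨⟨hp, hf, hd⟩, hc⟩ := h
  have hcen : (Subgroup.center X).map e.toMonoidHom = Subgroup.center Y := by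
    ext y
    rw [Subgroup.mem_map_equiv, Subgroup.mem_center_iff, Subgroup.mem_center_iff]
    constructor
    · intro hh z
      apply e.symm.injective
      rw [map_mul, map_mul]
      exact hh _
    · intro hh z
      apply e.injective
      simp only [map_mul, MulEquiv.apply_symm_apply]
      exact hh _
  have hfr : (frattini X).map e.toMonoidHom = frattini Y := by
    refine le_antisymm ?_ ?_
    · exact Subgroup.map_le_iff_le_comap.mpr (frattini_le_comap_frattini_of_surjective e.surjective)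
    · intro y hy
      rw [Subgroup.mem_map_equiv]
      exact frattini_le_comap_frattini_of_surjective (φ := e.symm.toMonoidHom) e.symm.surjective hy
  refine ⟨⟨hp.of_equiv e, ?_, ?_⟩, ?_⟩
  · rw [← hfr, hf, hcen]
  · rw [← hcen, ← hd, _root_.commutator_def, _root_.commutator_def, Subgroup.map_commutator,
      Subgroup.map_top_of_surjective e.toMonoidHom e.surjective]
  · rw [← hcen, Subgroup.card_map_of_injective (f := e.toMonoidHom) e.injective, hc]

section TwoGroup

variable {E : Type u} [Group E] [Finite E] {j : E}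

theorem exists_index_two (hsq : ∀ x : E, x ^ 2 = 1 ∨ x ^ 2 = j)
    (hcom : ∀ x y : E, x * y * x⁻¹ * y⁻¹ = 1 ∨ x * y * x⁻¹ * y⁻¹ = j) {a : E} (ha : a ≠ 1) (hj2 : j ^ 2 = 1)
    (haj : a ≠ j) : ∃ M : Subgroup E, j ∈ M ∧ a ∉ M ∧ ∀ x : E, x ∈ M ∨ ∃ m ∈ M, x = a * m := by
  classical
  let s : Set (Subgroup E) := {M | j ∈ M ∧ a ∉ M}
  have hs : s.Nonempty := ⟨Subgroup.zpowers j, Subgroup.mem_zpowers j, fun h => by
    obtain ⟨k, hk⟩ := Subgroup.mem_zpowers_iff.mp h
    rcases Int.even_or_odd k with ⟨l, rfl⟩ | ⟨l, rfl⟩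
    · exact ha (by rw [← hk, ← two_mul, zpow_mul, zpow_two, ← pow_two, hj2, one_zpow])
    · exact haj (by rw [← hk, zpow_add, zpow_mul, zpow_two, ← pow_two, hj2, one_zpow, one_mul, zpow_one])⟩
  obtain ⟨M, hM⟩ := (Set.toFinite s).exists_maximal hs
  obtain ⟨hjM, haM⟩ := hM.prop
  refine ⟨M, hjM, haM, fun x => ?_⟩
  by_cases hx : x ∈ M
  · exact Or.inl hx
  refine Or.inr ?_
  have hnorm : ∀ y : E, ∀ m ∈ M, y * m * y⁻¹ ∈ M := fun y m hm => by
    have h1 : y * m * y⁻¹ * m⁻¹ ∈ M := by
      rcases hcom y m with e | e <;> rw [e]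
      exacts [one_mem _, hjM]
    simpa using mul_mem h1 hm
  have hxx : x * x ∈ M := by
    rw [← pow_two]
    rcases hsq x with e | e <;> rw [e]
    exacts [one_mem _, hjM]
  let M' : Subgroup E :=
    { carrier := {z | z ∈ M ∨ x⁻¹ * z ∈ M}
      one_mem' := Or.inl (one_mem _)
      mul_mem' := fun {p q} hp hq => by
        rcases hp with hp | hp <;> rcases hq with hq | hq
        · exact Or.inl (mul_mem hp hq)
        · refine Or.inr ?_
          have := mul_mem (hnorm x⁻¹ p hp) hq
          simpa [mul_assoc] using this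
        · refine Or.inr ?_
          rw [← mul_assoc]
          exact mul_mem hp hq
        · refine Or.inl ?_
          have := mul_mem (mul_mem (hnorm x (x⁻¹ * p) hp) hxx) hq
          simpa [mul_assoc] using this
      inv_mem' := fun {p} hp => by
        rcases hp with hp | hp
        · exact Or.inl (inv_mem hp)
        · refine Or.inr ?_
          have := mul_mem (inv_mem hxx) (hnorm x _ (inv_mem hp))
          simpa [mul_assoc] using this }
  have hlt : M < M' := lt_of_le_of_ne (fun z hz => Or.inl hz) fun e =>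
    hx (e.symm ▸ (show x ∈ M' from Or.inr (by rw [inv_mul_cancel]; exact one_mem _)))
  have haM' : a ∈ M' := by
    by_contra hn
    exact hM.not_gt (show M' ∈ s from ⟨Or.inl hjM, hn⟩) hlt
  rcases haM' with h | h
  · exact absurd h haM
  · exact ⟨a⁻¹ * x, by simpa using inv_mem h, by group⟩

/-- Splitting off a central involution from a group with derived group and squares of order two. -/
theorem split {a b : E} (hab : a * b = j) (hca : ∀ x : E, Commute a x) (hcb : ∀ x : E, Commute b x)
    (ha2 : a * a = 1) (hb2 : b * b = 1) (hne : a ≠ b) (ha : a ≠ 1) (hb : b ≠ 1) (hsq : ∀ x : E, x ^ 2 = 1 ∨ x ^ 2 = j)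
    (hcom : ∀ x y : E, x * y * x⁻¹ * y⁻¹ = 1 ∨ x * y * x⁻¹ * y⁻¹ = j) (hwit : ∃ x y : E, x * y * x⁻¹ * y⁻¹ = j)
    (hcen : ∀ x : E, (∀ y, Commute x y) → x ∈ Subgroup.closure ({a, b} : Set E)) {n : ℕ}
    (hcard : Nat.card E = 2 ^ (n + 1)) :
    ∃ M : Subgroup E, IsExtraspecial 2 M ∧ Nat.card M = 2 ^ n ∧ Nonempty (E ≃* Multiplicative (ZMod 2) × M) := by
  classical
  haveI : Fact (Nat.Prime 2) := ⟨Nat.prime_two⟩
  have hcj : ∀ x : E, Commute j x := fun x => hab ▸ (hca x).mul_left (hcb x)
  have hj1 : j ≠ 1 := fun e => hne ((eq_inv_of_mul_eq_one_left (hab.trans e)).trans (inv_eq_of_mul_eq_one_left hb2))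
  have hj2 : j ^ 2 = 1 := by rw [pow_two, ← hab, mul_assoc, ← mul_assoc b, ← (hca b).eq, mul_assoc a, hb2, mul_one, ha2]
  have haj : a ≠ j := fun e => hb (by rw [← hab] at e; exact left_eq_mul.mp e)
  obtain ⟨M, hjM, haM, hcov⟩ := exists_index_two hsq hcom ha hj2 haj
  have hbM : b ∉ M := fun h => haM (by
    have := mul_mem hjM (inv_mem h)
    rwa [← hab, mul_inv_cancel_right] at this)
  set Z := Subgroup.zpowers (⟨j, hjM⟩ : M)
  have hoZ : orderOf (⟨j, hjM⟩ : M) = 2 := orderOf_eq_prime (Subtype.ext hj2) fun e => hj1 (congrArg Subtype.val e)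
  have hZmem : ∀ z : M, (z : E) = 1 ∨ (z : E) = j → z ∈ Z := fun z hz => by
    rcases hz with e | e
    · rw [show z = 1 from Subtype.ext e]; exact one_mem _
    · rw [show z = ⟨j, hjM⟩ from Subtype.ext e]; exact Subgroup.mem_zpowers _
  have hred : ∀ x : E, ∃ m : M, x = m ∨ x = a * m := fun x => by
    rcases hcov x with h | ⟨m, hm, e⟩
    exacts [⟨⟨x, h⟩, Or.inl rfl⟩, ⟨⟨m, hm⟩, Or.inr e⟩]
  have hwitM : ∃ m m' : M, (m : E) * m' * (m : E)⁻¹ * (m' : E)⁻¹ = j := by
    obtain ⟨x, y, hxy⟩ := hwit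
    have key : ∀ p q : E, (a * p) * q * (a * p)⁻¹ * q⁻¹ = p * q * p⁻¹ * q⁻¹ ∧
        p * (a * q) * p⁻¹ * (a * q)⁻¹ = p * q * p⁻¹ * q⁻¹ := fun p q => by
      constructor
      · rw [show (a * p) * q * (a * p)⁻¹ = a * (p * q * p⁻¹) * a⁻¹ by group, (hca (p * q * p⁻¹)).eq,
          mul_inv_cancel_right]
      · rw [(hca q).eq, show p * (q * a) * p⁻¹ * (q * a)⁻¹ = p * q * (a * p⁻¹ * a⁻¹) * q⁻¹ by group,
          (hca p⁻¹).eq, mul_inv_cancel_right]
    obtain ⟨m, hm⟩ := hred x
    obtain ⟨m', hm'⟩ := hred y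
    refine ⟨m, m', ?_⟩
    rcases hm with rfl | rfl <;> rcases hm' with rfl | rfl <;> rw [← hxy]
    · rw [(key _ _).2]
    · rw [(key _ _).1]
    · rw [(key _ _).1, (key _ _).2]
  have hZle : ∀ z ∈ Z, ∀ x : M, Commute z x := fun z hz x => by
    obtain ⟨k, rfl⟩ := Subgroup.mem_zpowers_iff.mp hz
    exact (show Commute (⟨j, hjM⟩ : M) x from Subtype.ext (hcj x).eq).zpow_left k
  have hcenM : Subgroup.center M = Z := by
    refine le_antisymm (fun z hz => hZmem z ?_) (fun z hz => Subgroup.mem_center_iff.mpr fun x => (hZle z hz x).eq.symm)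
    have hzc : ∀ y : E, Commute (z : E) y := fun y => by
      obtain ⟨m, rfl | rfl⟩ := hred y
      · exact (congrArg Subtype.val (Subgroup.mem_center_iff.mp hz m)).symm
      · exact (hca z).symm.mul_right (congrArg Subtype.val (Subgroup.mem_center_iff.mp hz m)).symm
    have hmem : ∀ w ∈ Subgroup.closure ({a, b} : Set E), w = 1 ∨ w = a ∨ w = b ∨ w = j := fun w hw => by
      induction hw using Subgroup.closure_induction with
      | mem v hv => rcases hv with rfl | rfl <;> simp
      | one => simp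
      | mul p q _ _ ih ih' =>
        have e1 : b * a = j := by rw [← (hca b).eq, hab]
        have e2 : a * j = b := by rw [← hab, ← mul_assoc, ha2, one_mul]
        have e3 : j * a = b := by rw [(hcj a).eq, e2]
        have e4 : j * b = a := by rw [← hab, mul_assoc, hb2, mul_one]
        have e5 : b * j = a := by rw [← (hcj b).eq, e4]
        rcases ih with rfl | rfl | rfl | rfl <;> rcases ih' with rfl | rfl | rfl | rfl <;>
          simp [ha2, hb2, hab, e1, e2, e3, e4, e5, ← pow_two, hj2]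
      | inv p _ ih =>
        rcases ih with rfl | rfl | rfl | rfl
        · simp
        · exact Or.inr (Or.inl (inv_eq_of_mul_eq_one_left ha2))
        · exact Or.inr (Or.inr (Or.inl (inv_eq_of_mul_eq_one_left hb2)))
        · exact Or.inr (Or.inr (Or.inr (inv_eq_of_mul_eq_one_left (by rw [← pow_two, hj2]))))
    rcases hmem _ (hcen z hzc) with e | e | e | e
    · exact Or.inl e
    · exact absurd (e ▸ z.2) haM
    · exact absurd (e ▸ z.2) hbM
    · exact Or.inr e
  have hderM : commutator M = Z := by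
    refine le_antisymm ?_ ((Subgroup.zpowers_le).mpr ?_)
    · rw [_root_.commutator_def, Subgroup.commutator_le]
      intro p _ q _
      refine hZmem _ ?_
      rw [commutatorElement_def]
      exact hcom p q
    · obtain ⟨m, m', e⟩ := hwitM
      rw [show (⟨j, hjM⟩ : M) = ⁅m, m'⁆ from Subtype.ext e.symm, _root_.commutator_def]
      exact Subgroup.commutator_mem_commutator (Subgroup.mem_top _) (Subgroup.mem_top _)
  have hfrM : frattini M = Z := by
    refine le_antisymm (fun z hz => ?_) ((Subgroup.zpowers_le).mpr ?_)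
    · by_contra hn
      have hn1 : z ≠ 1 := fun e => hn (e ▸ one_mem _)
      have hnj : z ≠ ⟨j, hjM⟩ := fun e => hn (e ▸ Subgroup.mem_zpowers _)
      obtain ⟨K, hjK, hzK, hK⟩ := exists_index_two (E := M) (j := ⟨j, hjM⟩)
        (fun x => (hsq x).imp (fun e => Subtype.ext e) (fun e => Subtype.ext e))
        (fun x y => (hcom x y).imp (fun e => Subtype.ext e) (fun e => Subtype.ext e)) hn1 (Subtype.ext hj2) hnj
      have hcoatom : IsCoatom K := by
        refine ⟨fun e => hzK (e ▸ Subgroup.mem_top z), fun L hL => ?_⟩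
        obtain ⟨l, hlL, hlK⟩ := SetLike.exists_of_lt hL
        have hzL : z ∈ L := by
          obtain ⟨m, hm, e⟩ := (hK l).resolve_left hlK
          have := mul_mem hlL (inv_mem (hL.le hm))
          rwa [e, mul_inv_cancel_right] at this
        refine eq_top_iff.mpr fun x _ => ?_
        rcases hK x with h | ⟨m, hm, rfl⟩
        exacts [hL.le h, mul_mem hzL (hL.le hm)]
      exact hzK (frattini_le_coatom hcoatom hz)
    · refine (le_iInf₂ fun K hK => ?_ : Subgroup.zpowers (⟨j, hjM⟩ : M) ≤ frattini M)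
        (Subgroup.mem_zpowers _)
      rw [Subgroup.zpowers_le]
      by_contra hn
      obtain ⟨m, m', e⟩ := hwitM
      let L : Subgroup M :=
        { carrier := {x | x ∈ K ∨ x * ⟨j, hjM⟩ ∈ K}
          one_mem' := Or.inl (one_mem _)
          mul_mem' := fun {p q} hp hq => by
            have hjj : (⟨j, hjM⟩ : M) * ⟨j, hjM⟩ = 1 := by rw [← pow_two]; exact Subtype.ext hj2
            have hc := (hZle _ (Subgroup.mem_zpowers (⟨j, hjM⟩ : M)) q).eq
            rcases hp with hp | hp <;> rcases hq with hq | hq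
            · exact Or.inl (mul_mem hp hq)
            · exact Or.inr (by rw [mul_assoc]; exact mul_mem hp hq)
            · refine Or.inr ?_
              rw [mul_assoc, ← hc, ← mul_assoc]
              exact mul_mem hp hq
            · refine Or.inl ?_
              have := mul_mem hp hq
              rwa [← mul_assoc, mul_assoc p, hc, mul_assoc p, mul_assoc q, hjj, mul_one] at this
          inv_mem' := fun {p} hp => by
            rcases hp with hp | hp
            · exact Or.inl (inv_mem hp)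
            · refine Or.inr ?_
              have := inv_mem hp
              rwa [_root_.mul_inv_rev, (hZle _ (inv_mem (Subgroup.mem_zpowers (⟨j, hjM⟩ : M))) p⁻¹).eq,
                show (⟨j, hjM⟩ : M)⁻¹ = ⟨j, hjM⟩ from inv_eq_of_mul_eq_one_left (by rw [← pow_two]; exact Subtype.ext hj2)] at this }
      have hjj : (⟨j, hjM⟩ : M) * ⟨j, hjM⟩ = 1 := by rw [← pow_two]; exact Subtype.ext hj2
      have hL : L = ⊤ := hK.2 _ (lt_of_le_of_ne (fun x hx => Or.inl hx) fun e' =>
        hn (e' ▸ (show (⟨j, hjM⟩ : M) ∈ L from Or.inr (hjj ▸ one_mem _))))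
      have hsplit : ∀ x : M, ∃ k ∈ K, ∀ y : M, (x : E) * y * (x : E)⁻¹ * (y : E)⁻¹ = (k : E) * y * (k : E)⁻¹ * (y : E)⁻¹ ∧
          (y : E) * x * (y : E)⁻¹ * (x : E)⁻¹ = (y : E) * k * (y : E)⁻¹ * (k : E)⁻¹ := fun x => by
        rcases (hL ▸ Subgroup.mem_top x : x ∈ L) with h | h
        · exact ⟨x, h, fun y => ⟨rfl, rfl⟩⟩
        · refine ⟨_, h, fun y => ⟨?_, ?_⟩⟩ <;> simp only [Subgroup.coe_mul, _root_.mul_inv_rev]
          · rw [mul_assoc (x : E) j, (hcj (y : E)).eq]; group
          · rw [← mul_assoc (y : E), mul_assoc ((y : E) * x) j, (hcj (y : E)⁻¹).eq]; group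
      obtain ⟨k, hk, hk'⟩ := hsplit m
      obtain ⟨k', hkk, hkk'⟩ := hsplit m'
      rw [(hk' m').1, (hkk' k).2] at e
      apply hn
      rw [show (⟨j, hjM⟩ : M) = k * k' * k⁻¹ * k'⁻¹ from Subtype.ext e.symm]
      exact mul_mem (mul_mem (mul_mem hk hkk) (inv_mem hk)) (inv_mem hkk)
  have hidx : M.index = 2 := by
    rw [Subgroup.index_eq_two_iff]
    refine ⟨a, fun x => ?_⟩
    rcases hcov x with h | ⟨m, hm, rfl⟩
    · refine Or.inr ⟨h, fun h' => haM ?_⟩
      have := mul_mem (inv_mem h) h'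
      rwa [inv_mul_cancel_left] at this
    · refine Or.inl ⟨?_, fun h' => haM ?_⟩
      · rwa [(hca m).eq, mul_assoc, ha2, mul_one]
      · have := mul_mem h' (inv_mem hm)
        rwa [mul_inv_cancel_right] at this
  have hMcard : Nat.card M = 2 ^ n := by
    have e := Subgroup.card_mul_index M
    rw [hidx, hcard, pow_succ] at e
    omega
  have h2E : IsPGroup 2 E := IsPGroup.of_card hcard
  refine ⟨M, ⟨⟨h2E.to_subgroup M, hfrM.trans hcenM.symm, hderM.trans hcenM.symm⟩, ?_⟩, hMcard, ?_⟩
  · rw [hcenM, Nat.card_zpowers, hoZ]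
  have hoa : orderOf a = 2 := orderOf_eq_prime (by rw [pow_two, ha2]) ha
  have hcA : Nat.card (Subgroup.zpowers a) = 2 := by rw [Nat.card_zpowers, hoa]
  let ι : Multiplicative (ZMod 2) ≃* Subgroup.zpowers a :=
    mulEquivOfPrimeCardEq (p := 2) (by simp) hcA
  let φ : Multiplicative (ZMod 2) × M →* E :=
    MonoidHom.noncommCoprod ((Subgroup.zpowers a).subtype.comp ι.toMonoidHom) M.subtype fun i m => by
      obtain ⟨k, hk⟩ := Subgroup.mem_zpowers_iff.mp (ι i).2
      show Commute (ι i : E) m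
      rw [← hk]; exact (hca m).zpow_left k
  have hφ : Function.Surjective φ := fun x => by
    rcases hred x with ⟨m, rfl | rfl⟩
    · exact ⟨(1, m), by simp [φ]⟩
    · exact ⟨(ι.symm ⟨a, Subgroup.mem_zpowers a⟩, m), by simp [φ]⟩
  refine ⟨(MulEquiv.ofBijective φ (hφ.bijective_of_nat_card_le ?_)).symm⟩
  rw [Nat.card_prod, hMcard, hcard, pow_succ]
  simp [mul_comm]

end TwoGroup

/-- The six dimensional orthogonal group of minus type over two elements. -/
theorem o6minus_aut {K : Type} [Field K] [Fintype K] (hK : Fintype.card K = 2 ^ 2) :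
    Nonempty (Cfsg.isometryGroup (ZMod 2) (Cfsg.quadFormMinus 2 (ZMod 2) 1 1) ≃* MulAut (Cfsg.PSU 4 K 2)) := by
  classical
  have hab : ∀ z₁ z₂ : ZMod 2, z₁ ^ 2 + 1 * z₁ * z₂ + 1 * z₂ ^ 2 = 0 → z₁ = 0 ∧ z₂ = 0 := by decide
  obtain ⟨e⟩ := Cfsg.Agent.S0303.result (F := ZMod 2) (K := K) (q := 2) (ZMod.card 2) hK 1 1 hab
  set Q := CfsgLib.H1Small.formMinus 2
  set f := Cfsg.quadFormMinus 2 (ZMod 2) 1 1
  have hnd := CfsgLib.H1Small.formMinus_nondeg 2
  have hn : 5 ≤ Fintype.card ((Fin 2 ⊕ Fin 2) ⊕ Fin 2) := by simp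
  have hc1 := (CfsgLib.POmegaCard.card_center Q hn hnd).1 (by decide)
  have hcbot : Subgroup.center (Cfsg.Omega (ZMod 2) f) = ⊥ := Subgroup.eq_bot_of_card_eq _ hc1
  let e' : Cfsg.Omega (ZMod 2) f ≃* Cfsg.PSU 4 K 2 :=
    (QuotientGroup.quotientBot.symm.trans (QuotientGroup.quotientMulEquivOfEq hcbot.symm)).trans e
  set Φ : Cfsg.isometryGroup (ZMod 2) f →* MulAut (Cfsg.PSU 4 K 2) :=
    (MulAut.congr e').toMonoidHom.comp (MulAut.conjNormal (H := Cfsg.Omega (ZMod 2) f))
  have hΦ : Function.Injective Φ := by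
    rw [injective_iff_map_eq_one]
    intro z hz
    have hz' : MulAut.conjNormal (H := Cfsg.Omega (ZMod 2) f) z = 1 :=
      (MulAut.congr e').injective (by rw [map_one]; exact hz)
    obtain ⟨s, hs, hsx⟩ := CfsgLib.OmegaCenter.central_scalar Q hnd (by rwa [Module.finrank_pi])
      (CfsgLib.SpinorMatrix.isoEquiv Q z) fun g g' => by
        obtain ⟨x, rfl⟩ := (CfsgLib.SpinorMatrix.isoEquiv Q).surjective g
        obtain ⟨y, rfl⟩ := (CfsgLib.SpinorMatrix.isoEquiv Q).surjective g'
        rw [← map_commutatorElement]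
        refine Commute.map ?_ _
        have hm : ⁅x, y⁆ ∈ Cfsg.Omega (ZMod 2) f := by
          rw [Cfsg.Omega, commutator_def]
          exact Subgroup.commutator_mem_commutator (Subgroup.mem_top x) (Subgroup.mem_top y)
        have := congrArg (fun α : MulAut (Cfsg.Omega (ZMod 2) f) => ((α ⟨_, hm⟩ : Cfsg.Omega (ZMod 2) f) :
          Cfsg.isometryGroup (ZMod 2) f)) hz'
        simp only [MulAut.one_apply, MulAut.conjNormal_apply] at this
        exact mul_inv_eq_iff_eq_mul.mp this
    have hs1 : s = 1 := (by decide : ∀ t : ZMod 2, t * t = 1 → t = 1) s hs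
    refine Subtype.ext (Units.ext (Matrix.ext_of_mulVec_single fun i => ?_))
    show z.1.1 *ᵥ Pi.single i 1 = (1 : Matrix _ _ (ZMod 2)) *ᵥ Pi.single i 1
    rw [Matrix.one_mulVec]
    exact (hsx (Pi.single i 1)).trans (by rw [hs1, one_smul])
  haveI : Fact (Nat.Prime 2) := ⟨Nat.prime_two⟩
  have hA : Nat.card (MulAut (Cfsg.PSU 4 K 2)) = 51840 := by
    rw [Cfsg.Agent.S0815.result 2 1 le_rfl (q := 2) (by norm_num) hK 4 (by norm_num) (by norm_num),
      CfsgThreeTrans.M22.Parabolic.card_psu4 hK]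
    norm_num
  have hO : Nat.card (Cfsg.isometryGroup (ZMod 2) f) = 51840 := by
    have := CfsgLib.OrthOrder.card_O_minus 3 (by norm_num) (1 : ZMod 2) 1 hab
    rw [show 3 - 1 = 2 by rfl] at this
    rw [this, ZMod.card]
    decide
  exact ⟨MulEquiv.ofBijective Φ (hΦ.bijective_of_nat_card_le (by rw [hA, hO]))⟩

end CfsgThreeTrans.M22.ProductFitting
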