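/-
The centraliser in the automorphism group of a product of two commuting transpositions: an abstract criterion.
-/
import Cfsg.Agent.Lib.SymplecticFrame
import Cfsg.Agent.Lib.Comp.Layer
import Cfsg.Agent.Lib.LargeExtra.Cores
import Cfsg.Agent.Lib.ThreeTrans.M22.ProductFitting

set_option autoImplicit false
set_option linter.unusedSectionVars false

namespace CfsgThreeTrans.M22.PairAut

open Subgroup CfsgLib.SymplecticFrame

universe u v w

variable {G : Type u} [Group G] [Finite G]

/-- The elements generating the radical over the pair. -/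
def eGen (a c : G) (u : Fin 4 × Bool → G) : Set G := insert a (insert c (Set.range u))

/-- The radical. -/
def rad (a c : G) (u : Fin 4 × Bool → G) : Subgroup G := Subgroup.closure (eGen a c u)

/-- The data of a pair with an outer automorphism. -/
structure PairData (a c : G) (θ : MulAut G) (u : Fin 4 × Bool → G) (τ : Set G) (σ : G) : Prop where
  a2 : a * a = 1
  c2 : c * c = 1
  ne : a ≠ c
  ac : a * c = c * a
  θa : θ a = c
  θθ : θ * θ = 1
  cen : ∀ g : G, (∀ x, g * x = x * g) → g = 1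
  inner : ∀ α : MulAut G, ∃ g : G, α = MulAut.conj g ∨ α = MulAut.conj g * θ
  outer : ∀ g : G, θ ≠ MulAut.conj g
  au : ∀ k, a * u k = u k * a
  cu : ∀ k, c * u k = u k * c
  θu : ∀ k, θ (u k) = u k
  uu : ∀ k l, u k * u l * (u k)⁻¹ * (u l)⁻¹ = if k.1 = l.1 ∧ k ≠ l then a * c else 1
  usq : ∀ k, u k * u k = 1 ∨ u k * u k = a * c
  τK : ∀ t ∈ τ, t ∈ Subgroup.centralizer ({a, c} : Set G)
  τn : ∀ k ∈ Subgroup.centralizer ({a, c} : Set G), ∀ t ∈ τ,
    k * t * k⁻¹ ∈ Subgroup.closure (insert a (insert c τ))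
  τu : ∀ t ∈ τ, ∀ k, t * u k * t⁻¹ ∈ rad a c u
  τθ : ∀ t ∈ τ, θ t * t⁻¹ ∈ rad a c u
  σa : σ * a * σ⁻¹ = c
  σc : σ * c * σ⁻¹ = a
  σu : ∀ k, σ * u k * σ⁻¹ ∈ rad a c u
  σθ : θ σ * σ⁻¹ ∈ rad a c u
  split : ∀ x ∈ Subgroup.centralizer ({a * c} : Set G),
    x ∈ Subgroup.centralizer ({a, c} : Set G) ∨ σ⁻¹ * x ∈ Subgroup.centralizer ({a, c} : Set G)
  braid : ∃ t ∈ τ, ∃ t' ∈ τ, t * t = 1 ∧ t' * t' = 1 ∧ t * t' * t = t' * t * t' ∧ t * t' ≠ t' * t
  moves : ∃ t ∈ τ, ∃ k, t * u k * t⁻¹ * (u k)⁻¹ ∉ Subgroup.closure ({a, c} : Set G)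
  wit : ∃ w : G, w * (a * c) * w⁻¹ = u (0, false)

variable {a c : G} {θ : MulAut G} {u : Fin 4 × Bool → G} {τ : Set G} {σ : G}

/-- The joint centraliser of the pair. -/
abbrev pairK (a c : G) : Subgroup G := Subgroup.centralizer ({a, c} : Set G)

theorem mem_pair {k : G} :
    k ∈ Subgroup.centralizer ({a, c} : Set G) ↔ k * a = a * k ∧ k * c = c * k := by
  rw [Subgroup.mem_centralizer_iff]
  refine ⟨fun e => ⟨(e a (Set.mem_insert _ _)).symm, (e c (Set.mem_insert_of_mem _ rfl)).symm⟩, ?_⟩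
  rintro ⟨h1, h2⟩ z (rfl | rfl)
  exacts [h1.symm, h2.symm]

theorem a_mem_rad : a ∈ rad a c u := Subgroup.subset_closure (Set.mem_insert _ _)

theorem c_mem_rad : c ∈ rad a c u := Subgroup.subset_closure (Set.mem_insert_of_mem _ (Set.mem_insert _ _))

theorem u_mem_rad (k : Fin 4 × Bool) : u k ∈ rad a c u :=
  Subgroup.subset_closure (Set.mem_insert_of_mem _ (Set.mem_insert_of_mem _ (Set.mem_range_self k)))

/-- The pairs in the automorphism group. -/
def gens (a : G) (θ : MulAut G) (u : Fin 4 × Bool → G) : Fin 5 × Bool → MulAut G := fun k =>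
  if h : k.1.val < 4 then MulAut.conj (u (⟨k.1.val, h⟩, k.2)) else (if k.2 then θ else MulAut.conj a)

theorem gens_lt (i : Fin 4) (b : Bool) : gens a θ u (i.castSucc, b) = MulAut.conj (u (i, b)) := by
  simp [gens, i.isLt]

theorem gens_last (b : Bool) : gens a θ u (Fin.last 4, b) = if b then θ else MulAut.conj a := by
  simp [gens]

theorem conj_inj (h : ∀ g : G, (∀ x, g * x = x * g) → g = 1) :
    Function.Injective (MulAut.conj : G →* MulAut G) := by
  rw [injective_iff_map_eq_one]
  intro g hg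
  refine h g fun x => ?_
  have := DFunLike.congr_fun hg x
  simp only [MulAut.conj_apply, MulAut.one_apply] at this
  exact mul_inv_eq_iff_eq_mul.mp this

theorem mul_conj (α : MulAut G) (g : G) : α * MulAut.conj g = MulAut.conj (α g) * α :=
  MulEquiv.ext fun x => by simp

theorem PairData.θinv (P : PairData a c θ u τ σ) : θ⁻¹ = θ := inv_eq_of_mul_eq_one_left P.θθ

theorem PairData.θc (P : PairData a c θ u τ σ) : θ c = a := by
  rw [← P.θa, ← MulAut.mul_apply, P.θθ, MulAut.one_apply]

theorem PairData.j2 (P : PairData a c θ u τ σ) : (a * c) * (a * c) = 1 := by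
  rw [show a * c * (a * c) = a * (c * a) * c by group, ← P.ac, ← mul_assoc, P.a2, one_mul, P.c2]

theorem PairData.jne (P : PairData a c θ u τ σ) : a * c ≠ 1 := fun e =>
  P.ne ((mul_eq_one_iff_eq_inv.mp e).trans (inv_eq_of_mul_eq_one_left P.c2))

theorem PairData.frame (P : PairData a c θ u τ σ) :
    IsFrame (MulAut.conj (a * c)) (gens a θ u) where
  jj := by rw [← map_mul, P.j2, map_one]
  jne e := P.jne (conj_inj P.cen (e.trans (map_one MulAut.conj).symm))
  jcomm := by
    intro ⟨i, b⟩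
    induction i using Fin.lastCases with
    | last =>
      rw [gens_last]
      cases b
      · simp only [Bool.false_eq_true, if_false]
        rw [← map_mul, ← map_mul]; congr 1
        rw [mul_assoc, ← P.ac]
      · simp only [if_true]
        rw [mul_conj, map_mul θ, P.θa, P.θc, P.ac]
    | cast i =>
      rw [gens_lt, ← map_mul, ← map_mul]; congr 1
      rw [mul_assoc, P.cu, ← mul_assoc, P.au, mul_assoc]
  sq := by
    intro ⟨i, b⟩
    induction i using Fin.lastCases with
    | last =>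
      rw [gens_last]
      cases b
      · exact Or.inl (by simp only [Bool.false_eq_true, if_false]; rw [← map_mul, P.a2, map_one])
      · exact Or.inl P.θθ
    | cast i =>
      rw [gens_lt, ← map_mul]
      rcases P.usq (i, b) with e | e
      · exact Or.inl (by rw [e, map_one])
      · exact Or.inr (by rw [e])
  comm := by
    have hau : ∀ k, a * u k * a⁻¹ * (u k)⁻¹ = 1 := fun k => by rw [P.au]; group
    have hua : ∀ k, u k * a * (u k)⁻¹ * a⁻¹ = 1 := fun k => by rw [← P.au]; group
    intro ⟨i, b⟩ ⟨i', b'⟩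
    induction i using Fin.lastCases with
    | last =>
      induction i' using Fin.lastCases with
      | last =>
        rw [gens_last, gens_last]
        have e1 : MulAut.conj a * θ * (MulAut.conj a)⁻¹ * θ⁻¹ = MulAut.conj (a * c) := by
          rw [← map_inv MulAut.conj, mul_assoc (MulAut.conj a) θ, mul_conj, ← mul_assoc, mul_inv_cancel_right,
            ← map_mul, map_inv, P.θa, inv_eq_of_mul_eq_one_left P.c2]
        have e2 : θ * MulAut.conj a * θ⁻¹ * (MulAut.conj a)⁻¹ = MulAut.conj (a * c) := by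
          rw [mul_conj, P.θa, mul_inv_cancel_right, ← map_inv, inv_eq_of_mul_eq_one_left P.a2, ← map_mul, P.ac]
        cases b <;> cases b' <;> simp [e1, e2]
      | cast i' =>
        rw [gens_last, gens_lt]
        have hne : ¬ ((Fin.last 4, b).1 = (i'.castSucc, b').1 ∧ (Fin.last 4, b) ≠ (i'.castSucc, b')) := by
          rintro ⟨e, -⟩; exact (Fin.castSucc_ne_last i') e.symm
        cases b
        · simp only [Bool.false_eq_true, if_false]
          rw [if_neg hne, ← map_inv, ← map_inv, ← map_mul, ← map_mul, ← map_mul, hau, map_one]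
        · simp only [if_true]
          rw [if_neg hne, mul_conj, P.θu, mul_inv_cancel_right, mul_inv_cancel]
    | cast i =>
      induction i' using Fin.lastCases with
      | last =>
        rw [gens_last, gens_lt]
        have hne : ¬ ((i.castSucc, b).1 = (Fin.last 4, b').1 ∧ (i.castSucc, b) ≠ (Fin.last 4, b')) := by
          rintro ⟨e, -⟩; exact (Fin.castSucc_ne_last i) e
        cases b'
        · simp only [Bool.false_eq_true, if_false]
          rw [if_neg hne, ← map_inv, ← map_inv, ← map_mul, ← map_mul, ← map_mul, hua, map_one]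
        · simp only [if_true]
          rw [if_neg hne, ← map_inv MulAut.conj, mul_assoc (MulAut.conj _) θ, mul_conj, map_inv θ, P.θu,
            map_inv MulAut.conj, ← mul_assoc, mul_inv_cancel, one_mul, mul_inv_cancel]
      | cast i' =>
        rw [gens_lt, gens_lt, ← map_inv, ← map_inv, ← map_mul, ← map_mul, ← map_mul, P.uu]
        by_cases hc : i = i' ∧ (i, b) ≠ (i', b')
        · rw [if_pos hc, if_pos ⟨by rw [hc.1], fun e => hc.2 (by simpa using e)⟩]
        · rw [if_neg hc, if_neg, map_one]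
          rintro ⟨e1, e2⟩
          exact hc ⟨by simpa using e1, fun e => e2 (by simpa using e)⟩

/-- The large extraspecial subgroup. -/
def radA (a c : G) (θ : MulAut G) (u : Fin 4 × Bool → G) : Subgroup (MulAut G) :=
  span (MulAut.conj (a * c)) (gens a θ u)

theorem conj_a_mem : MulAut.conj a ∈ radA a c θ u := by
  have := g_mem (J := MulAut.conj (a * c)) (g := gens a θ u) (Fin.last 4, false)
  rwa [gens_last] at this

theorem θ_mem : θ ∈ radA a c θ u := by
  have := g_mem (J := MulAut.conj (a * c)) (g := gens a θ u) (Fin.last 4, true)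
  rwa [gens_last] at this

theorem conj_rad_le : (rad a c u).map (MulAut.conj : G →* MulAut G) ≤ radA a c θ u := by
  rw [rad, MonoidHom.map_closure, Subgroup.closure_le]
  rintro _ ⟨x, hx, rfl⟩
  rcases hx with e | e | ⟨⟨i, b⟩, rfl⟩
  · rw [e]; exact conj_a_mem
  · rw [e]
    have h := mul_mem (inv_mem (conj_a_mem (a := a) (c := c) (θ := θ) (u := u))) (j_mem (J := MulAut.conj (a * c)) (g := gens a θ u))
    rwa [← map_inv, ← map_mul, inv_mul_cancel_left] at h
  · have := g_mem (J := MulAut.conj (a * c)) (g := gens a θ u) (i.castSucc, b)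
    rwa [gens_lt] at this

theorem PairData.θ_rad (P : PairData a c θ u τ σ) {x : G} (hx : x ∈ rad a c u) : θ x ∈ rad a c u := by
  have : rad a c u ≤ (rad a c u).comap θ.toMonoidHom := by
    rw [rad, Subgroup.closure_le]
    rintro z (rfl | rfl | ⟨k, rfl⟩)
    · show θ z ∈ rad z c u
      rw [P.θa]; exact c_mem_rad
    · show θ z ∈ rad a z u
      rw [P.θc]; exact a_mem_rad
    · show θ (u k) ∈ rad a c u
      rw [P.θu]; exact u_mem_rad k
  exact this hx

theorem PairData.radA_cases (P : PairData a c θ u τ σ) {α : MulAut G} (hα : α ∈ radA a c θ u) :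
    ∃ x ∈ rad a c u, α = MulAut.conj x ∨ α = MulAut.conj x * θ := by
  induction hα using Subgroup.closure_induction with
  | mem v hv =>
    rcases hv with rfl | ⟨⟨i, b⟩, rfl⟩
    · exact ⟨a * c, mul_mem a_mem_rad c_mem_rad, Or.inl rfl⟩
    · induction i using Fin.lastCases with
      | last =>
        rw [gens_last]
        cases b
        · exact ⟨a, a_mem_rad, Or.inl (by simp)⟩
        · exact ⟨1, one_mem _, Or.inr (by simp)⟩
      | cast i => exact ⟨u (i, b), u_mem_rad _, Or.inl (gens_lt i b)⟩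
  | one => exact ⟨1, one_mem _, Or.inl (map_one _).symm⟩
  | mul p q _ _ ihp ihq =>
    obtain ⟨x, hx, hp⟩ := ihp
    obtain ⟨y, hy, hq⟩ := ihq
    rcases hp with rfl | rfl <;> rcases hq with rfl | rfl
    · exact ⟨x * y, mul_mem hx hy, Or.inl (map_mul _ _ _).symm⟩
    · exact ⟨x * y, mul_mem hx hy, Or.inr (by rw [map_mul, mul_assoc])⟩
    · exact ⟨x * θ y, mul_mem hx (P.θ_rad hy), Or.inr (by rw [map_mul, mul_assoc, mul_conj, ← mul_assoc])⟩
    · refine ⟨x * θ y, mul_mem hx (P.θ_rad hy), Or.inl ?_⟩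
      rw [map_mul, mul_assoc (MulAut.conj x), ← mul_assoc θ, mul_conj, mul_assoc _ θ θ, P.θθ, mul_one]
  | inv p _ ihp =>
    obtain ⟨x, hx, hp⟩ := ihp
    rcases hp with rfl | rfl
    · exact ⟨x⁻¹, inv_mem hx, Or.inl (map_inv _ _).symm⟩
    · refine ⟨θ x⁻¹, P.θ_rad (inv_mem hx), Or.inr ?_⟩
      rw [mul_inv_rev, P.θinv, ← map_inv, mul_conj]

theorem PairData.card_rad (P : PairData a c θ u τ σ) : 1024 ≤ Nat.card (rad a c u) := by
  have h := P.frame.structure'.1
  have hs : (radA a c θ u : Set (MulAut G)) ⊆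
      MulAut.conj '' (rad a c u : Set G) ∪ (fun x => MulAut.conj x * θ) '' (rad a c u : Set G) := by
    intro α hα
    obtain ⟨x, hx, rfl | rfl⟩ := P.radA_cases hα
    exacts [Or.inl ⟨x, hx, rfl⟩, Or.inr ⟨x, hx, rfl⟩]
  have h1 := (Set.ncard_le_ncard hs (Set.toFinite _)).trans (Set.ncard_union_le _ _)
  have h2 := Set.ncard_image_le (f := (MulAut.conj : G → MulAut G)) (Set.toFinite (rad a c u : Set G))
  have h3 := Set.ncard_image_le (f := fun x : G => MulAut.conj x * θ) (Set.toFinite (rad a c u : Set G))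
  have h4 : (rad a c u : Set G).ncard = Nat.card (rad a c u) := (Nat.card_coe_set_eq _).symm
  have h5 : (radA a c θ u : Set (MulAut G)).ncard = Nat.card (radA a c θ u) := (Nat.card_coe_set_eq _).symm
  rw [h4] at h2 h3
  rw [h5] at h1
  have h' : Nat.card (radA a c θ u) = 2 ^ (2 * 5 + 1) := h
  rw [h'] at h1
  norm_num at h1
  omega

theorem PairData.rad_two (P : PairData a c θ u τ σ) : IsPGroup 2 (rad a c u) := by
  have h2 : IsPGroup 2 (radA a c θ u) := IsPGroup.of_card P.frame.structure'.1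
  refine IsPGroup.of_injective h2 ((MulAut.conj.comp (rad a c u).subtype).codRestrict _
    fun x => conj_rad_le ⟨x, x.2, rfl⟩) fun x y e => ?_
  exact Subtype.ext (conj_inj P.cen (congrArg Subtype.val e))

section Main

variable {S : Type v} [Group S] [IsSimpleGroup S] [Finite S]

/-- The identification of the radical with the kernel. -/
theorem PairData.rad_eq (P : PairData a c θ u τ σ) (hS : ¬ IsPGroup 2 S)
    (χ : ↥((pairK a c)) →* S) (hs : Function.Surjective χ)
    (hcard : Nat.card χ.ker = 1024) (hV : ∀ v : ↥((pairK a c)),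
      (v : G) ∈ Subgroup.closure ({a, c} : Set G) → χ v = 1) :
    χ.ker.map ((pairK a c)).subtype = rad a c u ∧
      ∀ x ∈ Subgroup.centralizer ({a * c} : Set G), ∀ y ∈ rad a c u, x * y * x⁻¹ ∈ rad a c u := by
  set T := Subgroup.closure (insert a (insert c τ)) with hT
  have haK : a ∈ (pairK a c) := mem_pair.mpr ⟨rfl, P.ac⟩
  have hcK : c ∈ (pairK a c) := mem_pair.mpr ⟨P.ac.symm, rfl⟩
  have hTK : T ≤ (pairK a c) := by
    rw [hT, Subgroup.closure_le]
    rintro z (rfl | rfl | hz)
    exacts [haK, hcK, P.τK z hz]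
  have hRK : rad a c u ≤ (pairK a c) := by
    rw [rad, Subgroup.closure_le]
    rintro z (rfl | rfl | ⟨k, rfl⟩)
    exacts [haK, hcK, mem_pair.mpr ⟨(P.au k).symm, (P.cu k).symm⟩]
  have h2k : IsPGroup 2 χ.ker := IsPGroup.of_card (n := 10) (by rw [hcard]; norm_num)
  haveI hTn : (T.subgroupOf (pairK a c)).Normal := ⟨fun x hx k => by
    have hle : T ≤ T.comap (MulAut.conj (k : G)).toMonoidHom := by
      conv_lhs => rw [hT]
      rw [Subgroup.closure_le]
      rintro z (rfl | rfl | hz)
      · show (k : G) * z * (k : G)⁻¹ ∈ T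
        rw [(mem_pair.mp k.2).1, mul_inv_cancel_right]
        exact Subgroup.subset_closure (Set.mem_insert _ _)
      · show (k : G) * z * (k : G)⁻¹ ∈ T
        rw [(mem_pair.mp k.2).2, mul_inv_cancel_right]
        exact Subgroup.subset_closure (Set.mem_insert_of_mem _ (Set.mem_insert _ _))
      · exact P.τn k k.2 z hz
    exact hle hx⟩
  have hTtop : (T.subgroupOf (pairK a c)).map χ = ⊤ := by
    haveI : ((T.subgroupOf (pairK a c)).map χ).Normal := Subgroup.Normal.map hTn χ hs
    refine (IsSimpleGroup.eq_bot_or_eq_top_of_normal _ inferInstance).resolve_left fun hb => ?_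
    obtain ⟨t, ht, t', ht', q, q', hbr, hne⟩ := P.braid
    have hk : ∀ z (hz : z ∈ τ), (⟨z, P.τK z hz⟩ : (pairK a c)) ∈ χ.ker := fun z hz =>
      MonoidHom.mem_ker.mpr (Subgroup.mem_bot.mp (hb ▸ Subgroup.mem_map_of_mem χ
        (show (⟨z, P.τK z hz⟩ : (pairK a c)) ∈ T.subgroupOf (pairK a c) from
          Subgroup.subset_closure (Set.mem_insert_of_mem _ (Set.mem_insert_of_mem _ hz)))))
    obtain ⟨n, hn⟩ := IsPGroup.iff_orderOf.mp h2k ⟨_, mul_mem (hk t ht) (hk t' ht')⟩
    have hn' : orderOf (t * t') = 2 ^ n := by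
      rw [← hn, ← Subgroup.orderOf_coe, ← Subgroup.orderOf_coe]; rfl
    have h3 : (t * t') ^ 3 = 1 := by
      rw [show (t * t') ^ 3 = (t * t' * t) * (t' * t * t') by simp [pow_succ, mul_assoc], hbr,
        show t' * t * t' * (t' * t * t') = t' * t * (t' * t') * t * t' by group, q', mul_one,
        show t' * t * t * t' = t' * (t * t) * t' by group, q, mul_one, q']
    have h1 : orderOf (t * t') ∣ 3 := orderOf_dvd_of_pow_eq_one h3
    rw [hn'] at h1
    rcases n with _ | n
    · rw [pow_zero, orderOf_eq_one_iff] at hn'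
      have e : t = t' := (mul_eq_one_iff_eq_inv.mp hn').trans (inv_eq_of_mul_eq_one_left q')
      exact hne (by rw [e])
    · have := (dvd_pow_self 2 n.succ_ne_zero).trans h1
      norm_num at this
  have hTR : ∀ t ∈ T, ∀ y ∈ rad a c u, t * y * t⁻¹ ∈ rad a c u := by
    intro t ht
    induction ht using Subgroup.closure_induction with
    | mem z hz =>
      rcases hz with rfl | rfl | hz
      · intro y hy; exact mul_mem (mul_mem a_mem_rad hy) (inv_mem a_mem_rad)
      · intro y hy; exact mul_mem (mul_mem c_mem_rad hy) (inv_mem c_mem_rad)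
      · have hle : rad a c u ≤ (rad a c u).comap (MulAut.conj z).toMonoidHom := by
          rw [rad, Subgroup.closure_le]
          rintro w (rfl | rfl | ⟨k, rfl⟩)
          · show z * w * z⁻¹ ∈ rad w c u
            rw [(mem_pair.mp (P.τK z hz)).1, mul_inv_cancel_right]; exact a_mem_rad
          · show z * w * z⁻¹ ∈ rad a w u
            rw [(mem_pair.mp (P.τK z hz)).2, mul_inv_cancel_right]; exact c_mem_rad
          · exact P.τu z hz k
        exact fun y hy => hle hy
    | one => intro y hy; simpa using hy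
    | mul p q _ _ ihp ihq =>
      intro y hy
      rw [show p * q * y * (p * q)⁻¹ = p * (q * y * q⁻¹) * p⁻¹ by group]
      exact ihp _ (ihq y hy)
    | inv p _ ihp =>
      intro y hy
      have hle : (rad a c u).map (MulAut.conj p).toMonoidHom ≤ rad a c u := by
        rintro _ ⟨w, hw, rfl⟩; exact ihp w hw
      have heq := Subgroup.eq_of_le_of_card_ge hle
        (Subgroup.card_map_of_injective (f := (MulAut.conj p).toMonoidHom) (MulAut.conj p).injective).ge
      rw [← heq] at hy
      obtain ⟨w, hw, rfl⟩ := hy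
      simpa [mul_assoc] using hw
  have hker : rad a c u ≤ χ.ker.map (pairK a c).subtype := by
    set N := ((rad a c u).subgroupOf (pairK a c)).map χ
    haveI hNn : N.Normal := ⟨by
      rintro _ ⟨y, hy, rfl⟩ s
      have hs' : s ∈ (T.subgroupOf (pairK a c)).map χ := by rw [hTtop]; trivial
      obtain ⟨k, hk, rfl⟩ := hs'
      exact ⟨k * y * k⁻¹, hTR _ hk _ hy, by rw [map_mul, map_mul, map_inv]⟩⟩
    have hN : N = ⊥ := by
      refine (IsSimpleGroup.eq_bot_or_eq_top_of_normal N hNn).resolve_right fun htop => hS ?_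
      have h2 : IsPGroup 2 N := (P.rad_two.of_equiv (Subgroup.subgroupOfEquivOfLe hRK).symm).map χ
      rw [htop] at h2
      exact h2.of_equiv Subgroup.topEquiv
    intro y hy
    refine ⟨⟨y, hRK hy⟩, MonoidHom.mem_ker.mpr (Subgroup.mem_bot.mp (hN ▸ ?_)), rfl⟩
    exact Subgroup.mem_map_of_mem χ (show (⟨y, hRK hy⟩ : (pairK a c)) ∈ (rad a c u).subgroupOf (pairK a c) from hy)
  have heq : χ.ker.map (pairK a c).subtype = rad a c u := by
    refine (Subgroup.eq_of_le_of_card_ge hker ?_).symm
    rw [Subgroup.card_subtype, hcard]; exact P.card_rad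
  refine ⟨heq, fun x hx y hy => ?_⟩
  have hK' : ∀ k ∈ (pairK a c), ∀ y ∈ rad a c u, k * y * k⁻¹ ∈ rad a c u := by
    intro k hk y hy
    rw [← heq] at hy ⊢
    obtain ⟨w, hw, rfl⟩ := hy
    exact ⟨⟨k, hk⟩ * w * ⟨k, hk⟩⁻¹, (MonoidHom.normal_ker χ).conj_mem w hw _, rfl⟩
  have hσ : ∀ y ∈ rad a c u, σ * y * σ⁻¹ ∈ rad a c u := by
    have hle : rad a c u ≤ (rad a c u).comap (MulAut.conj σ).toMonoidHom := by
      rw [rad, Subgroup.closure_le]
      rintro w (rfl | rfl | ⟨k, rfl⟩)
      · show σ * w * σ⁻¹ ∈ rad w c u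
        rw [P.σa]; exact c_mem_rad
      · show σ * w * σ⁻¹ ∈ rad a w u
        rw [P.σc]; exact a_mem_rad
      · exact P.σu k
    exact fun y hy => hle hy
  rcases P.split x hx with h | h
  · exact hK' x h y hy
  · have := hσ _ (hK' _ h y hy)
    simpa [mul_assoc] using this

/-- The generalised Fitting subgroup of the centraliser in the automorphism group and its quotient. -/
theorem PairData.conclusion {S' : Type w} [Group S'] [IsSimpleGroup S'] [Finite S'] (P : PairData a c θ u τ σ)
    (hS : ¬ IsPGroup 2 S) (hScen : Subgroup.center S' = ⊥)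
    (χ : ↥((pairK a c)) →* S) (hs : Function.Surjective χ)
    (hcard : Nat.card χ.ker = 1024) (hV : ∀ v : ↥((pairK a c)),
      (v : G) ∈ Subgroup.closure ({a, c} : Set G) → χ v = 1)
    (E : Subgroup G) (hEC : E ≤ Subgroup.centralizer ({a * c} : Set G)) (hE : Nat.card E = 2 ^ 10)
    [(E.subgroupOf (Subgroup.centralizer ({a * c} : Set G))).Normal]
    (e : ↥(Subgroup.centralizer ({a * c} : Set G)) ⧸ E.subgroupOf (Subgroup.centralizer ({a * c} : Set G)) ≃* MulAut S')
    (Q : Subgroup (MulAut G))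
    (hQ : Q = (Cfsg.generalizedFittingSubgroup
      ↥(Subgroup.centralizer ({MulAut.conj (a * c)} : Set (MulAut G)))).map
        (Subgroup.centralizer ({MulAut.conj (a * c)} : Set (MulAut G))).subtype) :
    Cfsg.IsLargeExtraspecial Q ∧ Nat.card Q = 2 ^ 11 ∧
      Q ≤ Subgroup.centralizer ({MulAut.conj (a * c)} : Set (MulAut G)) ∧
      ∃ (_ : (Q.subgroupOf (Subgroup.centralizer ({MulAut.conj (a * c)} : Set (MulAut G)))).Normal),
        Nonempty (↥(Subgroup.centralizer ({MulAut.conj (a * c)} : Set (MulAut G))) ⧸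
          Q.subgroupOf (Subgroup.centralizer ({MulAut.conj (a * c)} : Set (MulAut G))) ≃* MulAut S') := by
  haveI : Fact (Nat.Prime 2) := ⟨Nat.prime_two⟩
  haveI : Finite (MulAut S') := Finite.of_injective (fun α => (α : S' → S')) DFunLike.coe_injective
  obtain ⟨heq, hnorm⟩ := P.rad_eq hS χ hs hcard hV
  have hinj := conj_inj P.cen
  set C := Subgroup.centralizer ({a * c} : Set G) with hC
  set J := MulAut.conj (a * c) with hJ
  set H := Subgroup.centralizer ({J} : Set (MulAut G)) with hH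
  set R := radA a c θ u with hR
  have hKC : (pairK a c) ≤ C := fun k hk => Subgroup.mem_centralizer_singleton_iff.mpr (by
    rw [← mul_assoc, (mem_pair.mp hk).1, mul_assoc, (mem_pair.mp hk).2, mul_assoc])
  have hEK : rad a c u ≤ (pairK a c) := heq ▸ Subgroup.map_subtype_le _
  haveI hRn : ((rad a c u).subgroupOf C).Normal := ⟨fun y hy x => hnorm x x.2 y hy⟩
  -- the radical is the given normal subgroup
  have hER : E = rad a c u := by
    set N := ((rad a c u).subgroupOf C).map (e.toMonoidHom.comp (QuotientGroup.mk' (E.subgroupOf C)))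
    haveI : N.Normal := Subgroup.Normal.map hRn _ (e.surjective.comp (QuotientGroup.mk'_surjective _))
    have h2 : IsPGroup 2 N := (P.rad_two.of_equiv (Subgroup.subgroupOfEquivOfLe (hEK.trans hKC)).symm).map _
    have hN := CfsgThreeTrans.M22.ProductFitting.aut_nilpotent_bot hScen N h2.isNilpotent
    have hle : rad a c u ≤ E := fun y hy => by
      have h1 : e (QuotientGroup.mk' (E.subgroupOf C) ⟨y, hKC (hEK hy)⟩) = 1 :=
        Subgroup.mem_bot.mp (hN ▸ Subgroup.mem_map_of_mem
          (e.toMonoidHom.comp (QuotientGroup.mk' (E.subgroupOf C)))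
          (show (⟨y, hKC (hEK hy)⟩ : C) ∈ (rad a c u).subgroupOf C from hy))
      rw [MulEquiv.map_eq_one_iff, QuotientGroup.mk'_apply, QuotientGroup.eq_one_iff] at h1
      exact h1
    exact (Subgroup.eq_of_le_of_card_ge hle (by rw [hE]; exact P.card_rad)).symm
  subst hER
  -- automorphisms centralising J
  have hθJ : θ * J = J * θ := by rw [hJ, mul_conj, map_mul θ, P.θa, P.θc, P.ac]
  have hθH : θ ∈ H := Subgroup.mem_centralizer_singleton_iff.mpr hθJ
  have hconjH : ∀ x, MulAut.conj x ∈ H ↔ x ∈ C := fun x => by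
    rw [hH, hC, Subgroup.mem_centralizer_singleton_iff, Subgroup.mem_centralizer_singleton_iff, hJ, ← map_mul,
      ← map_mul, hinj.eq_iff]
  have hcases : ∀ α ∈ H, ∃ x ∈ C, α = MulAut.conj x ∨ α = MulAut.conj x * θ := by
    intro α hα
    obtain ⟨x, rfl | rfl⟩ := P.inner α
    · exact ⟨x, (hconjH x).mp hα, Or.inl rfl⟩
    · refine ⟨x, (hconjH x).mp ?_, Or.inr rfl⟩
      have := mul_mem hα (inv_mem hθH)
      rwa [mul_inv_cancel_right] at this
  -- the diagram automorphism is trivial modulo the radical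
  have hθC : ∀ x ∈ C, θ x * x⁻¹ ∈ rad a c u := by
    let M : Subgroup G :=
      { carrier := {x | x ∈ C ∧ θ x * x⁻¹ ∈ rad a c u}
        one_mem' := ⟨one_mem _, by simp⟩
        mul_mem' := fun {p q} hp hq => ⟨mul_mem hp.1 hq.1, by
          rw [map_mul, show θ p * θ q * (p * q)⁻¹ = (θ p * p⁻¹) * (p * (θ q * q⁻¹) * p⁻¹) by group]
          exact mul_mem hp.2 (hnorm p hp.1 _ hq.2)⟩
        inv_mem' := fun {p} hp => ⟨inv_mem hp.1, by
          rw [map_inv, inv_inv, show (θ p)⁻¹ * p = p⁻¹ * (θ p * p⁻¹)⁻¹ * p⁻¹⁻¹ by group]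
          exact hnorm _ (inv_mem hp.1) _ (inv_mem hp.2)⟩ }
    have hradM : rad a c u ≤ M := fun y hy => ⟨hKC (hEK hy), mul_mem (P.θ_rad hy) (inv_mem hy)⟩
    have hKM : (pairK a c) ≤ M := by
      intro k hk
      have htop : (⊤ : Subgroup S) ≤ (M.subgroupOf (pairK a c)).map χ := by
        haveI := hRn
        intro s _
        obtain ⟨k', rfl⟩ := hs s
        have hT : Subgroup.closure (insert a (insert c τ)) ≤ M := by
          rw [Subgroup.closure_le]
          rintro z (rfl | rfl | hz)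
          · exact hradM a_mem_rad
          · exact hradM c_mem_rad
          · exact ⟨hKC (P.τK z hz), P.τθ z hz⟩
        by_contra hn
        haveI hTn : ((Subgroup.closure (insert a (insert c τ))).subgroupOf (pairK a c)).Normal := ⟨fun x hx k => by
          have hle : Subgroup.closure (insert a (insert c τ)) ≤
              (Subgroup.closure (insert a (insert c τ))).comap (MulAut.conj (k : G)).toMonoidHom := by
            rw [Subgroup.closure_le]
            rintro z (rfl | rfl | hz)
            · rw [SetLike.mem_coe, Subgroup.mem_comap, MulEquiv.coe_toMonoidHom, MulAut.conj_apply]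
              rw [(mem_pair.mp k.2).1, mul_inv_cancel_right]
              exact Subgroup.subset_closure (Set.mem_insert _ _)
            · rw [SetLike.mem_coe, Subgroup.mem_comap, MulEquiv.coe_toMonoidHom, MulAut.conj_apply]
              rw [(mem_pair.mp k.2).2, mul_inv_cancel_right]
              exact Subgroup.subset_closure (Set.mem_insert_of_mem _ (Set.mem_insert _ _))
            · exact P.τn k k.2 z hz
          exact hle hx⟩
        haveI := Subgroup.Normal.map hTn χ hs
        rcases IsSimpleGroup.eq_bot_or_eq_top_of_normal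
          (((Subgroup.closure (insert a (insert c τ))).subgroupOf (pairK a c)).map χ) inferInstance with hb | ht
        · obtain ⟨t, htτ, k0, hk0⟩ := P.moves
          apply hk0
          have htker : (⟨t, P.τK t htτ⟩ : (pairK a c)) ∈ χ.ker := MonoidHom.mem_ker.mpr (Subgroup.mem_bot.mp
            (hb ▸ Subgroup.mem_map_of_mem χ (show (⟨t, P.τK t htτ⟩ : (pairK a c)) ∈ _ from
              Subgroup.subset_closure (Set.mem_insert_of_mem _ (Set.mem_insert_of_mem _ htτ)))))
          have htR : t ∈ rad a c u := heq ▸ ⟨_, htker, rfl⟩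
          have hm := P.frame.comm_all (conj_rad_le ⟨t, htR, rfl⟩) (conj_rad_le ⟨u k0, u_mem_rad k0, rfl⟩)
          rw [← map_inv, ← map_inv, ← map_mul, ← map_mul, ← map_mul] at hm
          rcases (zmem P.frame).mp hm with q | q
          · rw [hinj (q.trans (map_one _).symm)]; exact one_mem _
          · rw [hinj q]
            exact mul_mem (Subgroup.subset_closure (Set.mem_insert _ _))
              (Subgroup.subset_closure (Set.mem_insert_of_mem _ rfl))
        · apply hn
          have : χ k' ∈ ((Subgroup.closure (insert a (insert c τ))).subgroupOf (pairK a c)).map χ := by rw [ht]; trivial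
          obtain ⟨w, hw, hwe⟩ := this
          exact ⟨w, hT hw, hwe⟩
      obtain ⟨w, hw, hwe⟩ := htop (Subgroup.mem_top (χ ⟨k, hk⟩))
      have hd : ((w : G))⁻¹ * k ∈ rad a c u := heq ▸ ⟨w⁻¹ * ⟨k, hk⟩, by
        rw [SetLike.mem_coe, MonoidHom.mem_ker, map_mul, map_inv, hwe, inv_mul_cancel], rfl⟩
      have := M.mul_mem (show (w : G) ∈ M from hw) (hradM hd)
      rwa [mul_inv_cancel_left] at this
    have hσM : σ ∈ M := ⟨Subgroup.mem_centralizer_singleton_iff.mpr (by
      have e1 : σ * (a * c) * σ⁻¹ = a * c := by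
        rw [show σ * (a * c) * σ⁻¹ = (σ * a * σ⁻¹) * (σ * c * σ⁻¹) by group, P.σa, P.σc, P.ac]
      exact mul_inv_eq_iff_eq_mul.mp e1), P.σθ⟩
    intro x hx
    rcases P.split x hx with h | h
    · exact (hKM h).2
    · have := M.mul_mem hσM (hKM h)
      rw [mul_inv_cancel_left] at this
      exact this.2
  have hRH : R ≤ H := by
    intro α hα
    exact Subgroup.mem_centralizer_singleton_iff.mpr (P.frame.j_central hα).symm
  haveI hRHn : (R.subgroupOf H).Normal := ⟨fun r hr h => by
    show (h : MulAut G) * r * (h : MulAut G)⁻¹ ∈ R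
    obtain ⟨y, hy, hr'⟩ := P.radA_cases (show (r : MulAut G) ∈ R from hr)
    have hθR : θ ∈ R := θ_mem
    have key : ∀ x ∈ C, MulAut.conj x * (r : MulAut G) * (MulAut.conj x)⁻¹ ∈ R := by
      intro x hx
      have hxy := conj_rad_le (θ := θ) ⟨_, hnorm x hx y hy, rfl⟩
      rcases hr' with e' | e' <;> rw [e']
      · rwa [← map_inv, ← map_mul, ← map_mul]
      · have h1 := mul_mem (mul_mem hxy (conj_rad_le (θ := θ) ⟨_, inv_mem (hθC x hx), rfl⟩)) hθR
        have e1 : MulAut.conj x * (MulAut.conj y * θ) * (MulAut.conj x)⁻¹ =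
            MulAut.conj (x * y * x⁻¹) * MulAut.conj (θ x * x⁻¹)⁻¹ * θ := by
          rw [← map_inv MulAut.conj x, mul_assoc (MulAut.conj x), mul_assoc (MulAut.conj y), mul_conj,
            ← mul_assoc, ← mul_assoc, ← map_mul, ← map_mul, ← map_mul, map_inv θ]
          congr 2
          group
        rwa [e1]
    obtain ⟨x, hx, e' | e'⟩ := hcases h h.2 <;> rw [e']
    · exact key x hx
    · have h2 : θ * (r : MulAut G) * θ⁻¹ * (r : MulAut G)⁻¹ ∈ R :=
        mul_mem (mul_mem (mul_mem hθR hr) (inv_mem hθR)) (inv_mem hr)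
      have h3 : MulAut.conj x * θ * (r : MulAut G) * (MulAut.conj x * θ)⁻¹ =
          (MulAut.conj x * θ * (r : MulAut G) * θ⁻¹ * (r : MulAut G)⁻¹ * (MulAut.conj x)⁻¹) *
            (MulAut.conj x * (r : MulAut G) * (MulAut.conj x)⁻¹) := by group
      rw [h3]
      refine mul_mem ?_ (key x hx)
      obtain ⟨y', hy', hc'⟩ := P.radA_cases h2
      have hxy := conj_rad_le (θ := θ) ⟨_, hnorm x hx y' hy', rfl⟩
      rw [show MulAut.conj x * θ * (r : MulAut G) * θ⁻¹ * (r : MulAut G)⁻¹ * (MulAut.conj x)⁻¹ =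
        MulAut.conj x * (θ * (r : MulAut G) * θ⁻¹ * (r : MulAut G)⁻¹) * (MulAut.conj x)⁻¹ by group]
      rcases hc' with e'' | e'' <;> rw [e'']
      · rwa [← map_inv, ← map_mul, ← map_mul]
      · have h1 := mul_mem (mul_mem hxy (conj_rad_le (θ := θ) ⟨_, inv_mem (hθC x hx), rfl⟩)) hθR
        have e1 : MulAut.conj x * (MulAut.conj y' * θ) * (MulAut.conj x)⁻¹ =
            MulAut.conj (x * y' * x⁻¹) * MulAut.conj (θ x * x⁻¹)⁻¹ * θ := by
          rw [← map_inv MulAut.conj x, mul_assoc (MulAut.conj x), mul_assoc (MulAut.conj y'), mul_conj,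
            ← mul_assoc, ← mul_assoc, ← map_mul, ← map_mul, ← map_mul, map_inv θ]
          congr 2
          group
        rwa [e1]⟩
  -- the isomorphism
  set f : C →* ↥H ⧸ R.subgroupOf H :=
    (QuotientGroup.mk' (R.subgroupOf H)).comp ((MulAut.conj.comp C.subtype).codRestrict H fun x => (hconjH x).mpr x.2)
    with hf
  have hfs : Function.Surjective f := by
    intro q
    obtain ⟨⟨α, hα⟩, rfl⟩ := QuotientGroup.mk'_surjective _ q
    obtain ⟨x, hx, e'⟩ := hcases α hα
    refine ⟨⟨x, hx⟩, ?_⟩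
    refine QuotientGroup.eq.mpr ?_
    show (MulAut.conj x)⁻¹ * α ∈ R
    rcases e' with rfl | rfl
    · rw [inv_mul_cancel]; exact one_mem _
    · rw [inv_mul_cancel_left]; exact θ_mem
  have hfk : f.ker = (rad a c u).subgroupOf C := by
    ext x
    rw [MonoidHom.mem_ker, Subgroup.mem_subgroupOf, hf, MonoidHom.comp_apply, QuotientGroup.mk'_apply,
      QuotientGroup.eq_one_iff, Subgroup.mem_subgroupOf]
    show MulAut.conj (x : G) ∈ R ↔ _
    refine ⟨fun hx => ?_, fun hx => conj_rad_le ⟨_, hx, rfl⟩⟩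
    obtain ⟨y, hy, e' | e'⟩ := P.radA_cases hx
    · exact (hinj e') ▸ hy
    · exact absurd (by rw [map_mul, map_inv, e', inv_mul_cancel_left] : θ = MulAut.conj (y⁻¹ * (x : G)))
        (P.outer _)
  set iso : ↥H ⧸ R.subgroupOf H ≃* MulAut S' :=
    ((QuotientGroup.quotientKerEquivOfSurjective f hfs).symm.trans
      (QuotientGroup.quotientMulEquivOfEq hfk)).trans e
  -- centraliser of R
  have hN : ∀ x ∈ C, (∀ k, x * u k * x⁻¹ * (u k)⁻¹ ∈ Subgroup.closure ({a, c} : Set G)) → x ∈ rad a c u := by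
    have hVc : ∀ x ∈ C, ∀ v ∈ Subgroup.closure ({a, c} : Set G), x * v * x⁻¹ ∈ Subgroup.closure ({a, c} : Set G) := by
      intro x hx v hv
      have hle : Subgroup.closure ({a, c} : Set G) ≤
          (Subgroup.closure ({a, c} : Set G)).comap (MulAut.conj x).toMonoidHom := by
        rw [Subgroup.closure_le]
        have hma : a ∈ Subgroup.closure ({a, c} : Set G) := Subgroup.subset_closure (Set.mem_insert _ _)
        have hmc : c ∈ Subgroup.closure ({a, c} : Set G) := Subgroup.subset_closure (Set.mem_insert_of_mem _ rfl)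
        rintro z (rfl | rfl) <;> rcases P.split x hx with h | h
        · rw [SetLike.mem_coe, Subgroup.mem_comap, MulEquiv.coe_toMonoidHom, MulAut.conj_apply]
          rw [(mem_pair.mp h).1, mul_inv_cancel_right]; exact hma
        · rw [SetLike.mem_coe, Subgroup.mem_comap, MulEquiv.coe_toMonoidHom, MulAut.conj_apply]
          rw [show x * z * x⁻¹ = σ * ((σ⁻¹ * x) * z * (σ⁻¹ * x)⁻¹) * σ⁻¹ by group, (mem_pair.mp h).1,
            mul_inv_cancel_right, P.σa]
          exact hmc
        · rw [SetLike.mem_coe, Subgroup.mem_comap, MulEquiv.coe_toMonoidHom, MulAut.conj_apply]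
          rw [(mem_pair.mp h).2, mul_inv_cancel_right]; exact hmc
        · rw [SetLike.mem_coe, Subgroup.mem_comap, MulEquiv.coe_toMonoidHom, MulAut.conj_apply]
          rw [show x * z * x⁻¹ = σ * ((σ⁻¹ * x) * z * (σ⁻¹ * x)⁻¹) * σ⁻¹ by group, (mem_pair.mp h).2,
            mul_inv_cancel_right, P.σc]
          exact hma
      exact hle hv
    let N : Subgroup G :=
      { carrier := {x | x ∈ C ∧ ∀ w ∈ rad a c u, x * w * x⁻¹ * w⁻¹ ∈ Subgroup.closure ({a, c} : Set G)}
        one_mem' := ⟨one_mem _, fun w _ => by simp⟩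
        mul_mem' := fun {p q} hp hq => ⟨mul_mem hp.1 hq.1, fun w hw => by
          rw [show p * q * w * (p * q)⁻¹ * w⁻¹ = p * (q * w * q⁻¹ * w⁻¹) * p⁻¹ * (p * w * p⁻¹ * w⁻¹) by group]
          exact mul_mem (hVc p hp.1 _ (hq.2 w hw)) (hp.2 w hw)⟩
        inv_mem' := fun {p} hp => ⟨inv_mem hp.1, fun w hw => by
          rw [show p⁻¹ * w * p⁻¹⁻¹ * w⁻¹ = p⁻¹ * (p * w * p⁻¹ * w⁻¹)⁻¹ * p⁻¹⁻¹ by group]
          exact hVc _ (inv_mem hp.1) _ (inv_mem (hp.2 w hw))⟩ }
    haveI hNn : (N.subgroupOf C).Normal := ⟨fun x hx y => ⟨mul_mem (mul_mem y.2 hx.1) (inv_mem y.2), fun w hw => by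
      show (y : G) * x * (y : G)⁻¹ * w * ((y : G) * x * (y : G)⁻¹)⁻¹ * w⁻¹ ∈ _
      rw [show (y : G) * x * (y : G)⁻¹ * w * ((y : G) * x * (y : G)⁻¹)⁻¹ * w⁻¹ =
        (y : G) * ((x : G) * ((y : G)⁻¹ * w * (y : G)⁻¹⁻¹) * (x : G)⁻¹ * ((y : G)⁻¹ * w * (y : G)⁻¹⁻¹)⁻¹) * (y : G)⁻¹ by group]
      exact hVc y y.2 _ (hx.2 _ (hnorm _ (inv_mem y.2) w hw))⟩⟩
    have hradN : rad a c u ≤ N := fun y hy => ⟨hKC (hEK hy), fun w hw => by
      have hm := P.frame.comm_all (conj_rad_le ⟨y, hy, rfl⟩) (conj_rad_le ⟨w, hw, rfl⟩)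
      rw [← map_inv, ← map_inv, ← map_mul, ← map_mul, ← map_mul] at hm
      rcases (zmem P.frame).mp hm with q | q
      · rw [hinj (q.trans (map_one _).symm)]; exact one_mem _
      · rw [hinj q]
        exact mul_mem (Subgroup.subset_closure (Set.mem_insert _ _))
          (Subgroup.subset_closure (Set.mem_insert_of_mem _ rfl))⟩
    have hNK : ∀ k : (pairK a c), (k : G) ∈ N → (k : G) ∈ rad a c u := by
      haveI : (N.subgroupOf (pairK a c)).Normal := ⟨fun x hx y => by
        exact hNn.conj_mem ⟨x, hKC x.2⟩ hx ⟨y, hKC y.2⟩⟩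
      haveI := Subgroup.Normal.map (inferInstance : (N.subgroupOf (pairK a c)).Normal) χ hs
      have hb : (N.subgroupOf (pairK a c)).map χ = ⊥ := by
        refine (IsSimpleGroup.eq_bot_or_eq_top_of_normal _ inferInstance).resolve_right fun htop => ?_
        obtain ⟨t, htτ, k0, hk0⟩ := P.moves
        have : χ ⟨t, P.τK t htτ⟩ ∈ (N.subgroupOf (pairK a c)).map χ := by rw [htop]; trivial
        obtain ⟨w, hw, hwe⟩ := this
        have hd : ((w : G))⁻¹ * t ∈ rad a c u := heq ▸ ⟨w⁻¹ * ⟨t, P.τK t htτ⟩, by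
          rw [SetLike.mem_coe, MonoidHom.mem_ker, map_mul, map_inv, hwe, inv_mul_cancel], rfl⟩
        have := N.mul_mem (show (w : G) ∈ N from hw) (hradN hd)
        rw [mul_inv_cancel_left] at this
        exact hk0 (this.2 _ (u_mem_rad k0))
      intro k hk
      exact heq ▸ ⟨k, MonoidHom.mem_ker.mpr (Subgroup.mem_bot.mp (hb ▸ Subgroup.mem_map_of_mem χ
        (show k ∈ N.subgroupOf (pairK a c) from hk))), rfl⟩
    intro x hx hxu
    have hxN : x ∈ N := ⟨hx, fun w hw => by
      induction hw using Subgroup.closure_induction with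
      | mem z hz =>
        have hma : a ∈ Subgroup.closure ({a, c} : Set G) := Subgroup.subset_closure (Set.mem_insert _ _)
        have hmc : c ∈ Subgroup.closure ({a, c} : Set G) := Subgroup.subset_closure (Set.mem_insert_of_mem _ rfl)
        rcases hz with rfl | rfl | ⟨k, rfl⟩
        · exact mul_mem (hVc x hx _ hma) (inv_mem hma)
        · exact mul_mem (hVc x hx _ hmc) (inv_mem hmc)
        · exact hxu k
      | one => simp
      | mul p q hp _ ihp ihq =>
        rw [show x * (p * q) * x⁻¹ * (p * q)⁻¹ = (x * p * x⁻¹ * p⁻¹) * (p * (x * q * x⁻¹ * q⁻¹) * p⁻¹) by group]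
        exact mul_mem ihp (hVc p (hKC (hEK hp)) _ ihq)
      | inv p hp ihp =>
        rw [show x * p⁻¹ * x⁻¹ * p⁻¹⁻¹ = p⁻¹ * (x * p * x⁻¹ * p⁻¹)⁻¹ * p⁻¹⁻¹ by group]
        exact hVc _ (inv_mem (hKC (hEK hp))) _ (inv_mem ihp)⟩
    set q := e.toMonoidHom.comp (QuotientGroup.mk' ((rad a c u).subgroupOf C))
    haveI := Subgroup.Normal.map hNn q (e.surjective.comp (QuotientGroup.mk'_surjective _))
    have hcomm : ∀ p ∈ (N.subgroupOf C).map q, ∀ p' ∈ (N.subgroupOf C).map q, p * p' = p' * p := by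
      rintro _ ⟨p, hp, rfl⟩ _ ⟨p', hp', rfl⟩
      rw [← map_mul, ← map_mul]
      refine congrArg e (QuotientGroup.eq.mpr ?_)
      show ((p : G) * (p' : G))⁻¹ * ((p' : G) * (p : G)) ∈ rad a c u
      have hmemN : ((p : G) * (p' : G))⁻¹ * ((p' : G) * (p : G)) ∈ N :=
        mul_mem (inv_mem (mul_mem hp hp')) (mul_mem hp' hp)
      refine hNK ⟨_, ?_⟩ hmemN
      -- the commutator lies in the index two subgroup
      have hσC : σ ∈ C := Subgroup.mem_centralizer_singleton_iff.mpr (by
        have e1 : σ * (a * c) * σ⁻¹ = a * c := by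
          rw [show σ * (a * c) * σ⁻¹ = (σ * a * σ⁻¹) * (σ * c * σ⁻¹) by group, P.σa, P.σc, P.ac]
        exact mul_inv_eq_iff_eq_mul.mp e1)
      have hσK : σ⁻¹ ∉ (pairK a c) := fun hk => by
        have h1 := (mem_pair.mp (inv_mem hk)).1
        rw [inv_inv] at h1
        exact P.ne (by rw [← P.σa, h1, mul_inv_cancel_right])
      have hidx : ((pairK a c).subgroupOf C).index = 2 := by
        rw [Subgroup.index_eq_two_iff']
        refine ⟨⟨σ⁻¹, inv_mem hσC⟩, fun x => ?_⟩
        simp only [Subgroup.mem_subgroupOf, Subgroup.coe_mul]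
        rcases P.split x x.2 with h | h
        · refine Or.inr ⟨h, fun h' => hσK ?_⟩
          have := mul_mem h' (inv_mem h)
          rwa [mul_inv_cancel_right] at this
        · refine Or.inl ⟨h, fun h' => hσK ?_⟩
          have := mul_mem h (inv_mem h')
          rwa [mul_inv_cancel_right] at this
      show (((p * p')⁻¹ * (p' * p) : C) : G) ∈ (pairK a c)
      change ((p * p')⁻¹ * (p' * p)) ∈ (pairK a c).subgroupOf C
      rw [Subgroup.mul_mem_iff_of_index_two hidx, inv_mem_iff, Subgroup.mul_mem_iff_of_index_two hidx,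
        Subgroup.mul_mem_iff_of_index_two hidx]
      tauto
    have hb := CfsgThreeTrans.M22.ProductFitting.aut_nilpotent_bot hScen _ (CfsgLib.Comp.nilpotent_of_comm hcomm)
    have h1 : q ⟨x, hx⟩ = 1 := Subgroup.mem_bot.mp (hb ▸ Subgroup.mem_map_of_mem q
      (show (⟨x, hx⟩ : C) ∈ N.subgroupOf C from hxN))
    rw [MonoidHom.comp_apply, MulEquiv.coe_toMonoidHom, MulEquiv.map_eq_one_iff, QuotientGroup.mk'_apply,
      QuotientGroup.eq_one_iff] at h1
    exact h1
  have hcR : ∀ α : MulAut G, (∀ r ∈ R, α * r = r * α) → α = 1 ∨ α = J := by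
    intro α hα
    refine P.frame.structure'.2 α ?_ fun l => hα _ (g_mem l)
    have hαH : α ∈ H := Subgroup.mem_centralizer_singleton_iff.mpr (hα J j_mem)
    obtain ⟨x, hx, e'⟩ := hcases α hαH
    have hxu : ∀ k, x * u k * x⁻¹ * (u k)⁻¹ ∈ Subgroup.closure ({a, c} : Set G) := by
      intro k
      have h1 := hα _ (conj_rad_le ⟨u k, u_mem_rad k, rfl⟩)
      have h2 : MulAut.conj (x * u k) = MulAut.conj (u k * x) := by
        rcases e' with rfl | rfl
        · rw [map_mul, map_mul]; exact h1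
        · rw [mul_assoc, mul_conj, P.θu, ← mul_assoc, ← mul_assoc] at h1
          rw [map_mul, map_mul]; exact mul_right_cancel h1
      rw [hinj h2]
      simp
    have hxR := conj_rad_le (θ := θ) ⟨x, hN x hx hxu, rfl⟩
    rcases e' with rfl | rfl
    exacts [hxR, mul_mem hxR θ_mem]
  -- the core of the centraliser
  have hR2 : IsPGroup 2 R := IsPGroup.of_card P.frame.structure'.1
  have hle : R.subgroupOf H ≤ Cfsg.pCore 2 H := CfsgLib.le_pCore (hR2.of_equiv (Subgroup.subgroupOfEquivOfLe hRH).symm)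
  have hcore : Cfsg.pCore 2 H = R.subgroupOf H := by
    refine le_antisymm ?_ hle
    set q := iso.toMonoidHom.comp (QuotientGroup.mk' (R.subgroupOf H))
    haveI := Subgroup.Normal.map (inferInstance : (Cfsg.pCore 2 H).Normal) q
      (iso.surjective.comp (QuotientGroup.mk'_surjective _))
    have hb := CfsgThreeTrans.M22.ProductFitting.aut_nilpotent_bot hScen ((Cfsg.pCore 2 H).map q)
      ((CfsgLib.isPGroup_pCore 2).map q).isNilpotent
    intro x hx
    have h1 : q x = 1 := Subgroup.mem_bot.mp (hb ▸ Subgroup.mem_map_of_mem q hx)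
    rw [MonoidHom.comp_apply, MulEquiv.coe_toMonoidHom, MulEquiv.map_eq_one_iff, QuotientGroup.mk'_apply,
      QuotientGroup.eq_one_iff] at h1
    exact h1
  have hgfit : Cfsg.generalizedFittingSubgroup H = Cfsg.pCore 2 H := by
    refine (CfsgLib.Comp.gfit_eq_pCore_iff 2).mpr fun x hx => ?_
    rw [hcore] at hx ⊢
    show (x : MulAut G) ∈ R
    rcases hcR x fun r hr => (congrArg Subtype.val
      (Subgroup.mem_centralizer_iff.mp hx ⟨r, hRH hr⟩ hr)).symm with q | q <;> rw [q]
    exacts [one_mem _, j_mem]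
  have hQR : Q = R := by rw [hQ, hgfit, hcore, Subgroup.map_subgroupOf_eq_of_le hRH]
  subst hQR
  refine ⟨?_, P.frame.structure'.1, hRH, hRHn, ⟨iso⟩⟩
  have hext : Cfsg.IsExtraspecial 2 R := P.frame.extraspecial (by norm_num)
  have hZ : ∀ y, y ∈ (Subgroup.center R).map R.subtype ↔ y = 1 ∨ y = J := by
    intro y
    refine ⟨?_, ?_⟩
    · rintro ⟨v, hv, rfl⟩
      rcases (P.frame.ext2.center_iff v).mp hv with q | q <;> rw [q]
      exacts [Or.inl rfl, Or.inr rfl]
    · rintro (rfl | rfl)
      · exact one_mem _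
      · exact ⟨⟨J, j_mem⟩, (P.frame.ext2.center_iff _).mpr (Or.inr rfl), rfl⟩
  have hL2 : Subgroup.centralizer (R : Set (MulAut G)) = (Subgroup.center R).map R.subtype := by
    ext y
    rw [hZ, Subgroup.mem_centralizer_iff]
    refine ⟨fun h => hcR y fun r hr => (h r hr).symm, ?_⟩
    rintro (rfl | rfl) r hr
    · simp
    · exact (P.frame.j_central hr).symm
  have hL3 : Subgroup.centralizer (((Subgroup.center R).map R.subtype : Subgroup (MulAut G)) : Set (MulAut G)) ≤
      Subgroup.normalizer (R : Set (MulAut G)) := by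
    intro y hy
    have hyH : y ∈ H := Subgroup.mem_centralizer_singleton_iff.mpr
      (Subgroup.mem_centralizer_iff.mp hy J ((hZ J).mpr (Or.inr rfl))).symm
    refine Subgroup.mem_normalizer_iff.mpr fun r => ⟨fun hr => ?_, fun hr => ?_⟩
    · exact hRHn.conj_mem ⟨r, hRH hr⟩ hr ⟨y, hyH⟩
    · have : (y⁻¹ * (y * r * y⁻¹) * y⁻¹⁻¹) ∈ R := hRHn.conj_mem ⟨_, hRH hr⟩ hr (⟨y, hyH⟩⁻¹)
      simpa [mul_assoc] using this
  have hcc : CfsgLargeExtra.coreCent J = R := by
    show (Cfsg.pCore 2 H).map H.subtype = R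
    rw [hcore, Subgroup.map_subgroupOf_eq_of_le hRH]
  obtain ⟨w, hw⟩ := P.wit
  set b := MulAut.conj (u (0, false)) with hb
  have hbg : b = gens a θ u ((0 : Fin 4).castSucc, false) := (gens_lt _ _).symm
  have hbR : b ∈ R := hbg ▸ g_mem _
  have hbJ : b = MulAut.conj w * J * (MulAut.conj w)⁻¹ := by
    rw [hJ, hb, ← map_inv, ← map_mul, ← map_mul, hw]
  have hbZ : b ∉ (Subgroup.center R).map R.subtype := fun h => by
    have h1 := P.frame.comm ((0 : Fin 4).castSucc, false) ((0 : Fin 4).castSucc, true)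
    rw [← hbg, if_pos ⟨rfl, by simp⟩] at h1
    apply P.frame.jne
    rw [← h1]
    rcases (hZ b).mp h with q | q <;> rw [q]
    · simp
    · rw [P.frame.j_central (g_mem _), mul_inv_cancel_right, mul_inv_cancel]
  have hJo : orderOf J = 2 := orderOf_eq_prime (by rw [pow_two]; exact P.frame.jj) P.frame.jne
  refine CfsgLargeExtra.large_of_involution hext hL2 hL3 b hbR hbZ ?_ fun y hy => ?_
  · rw [hbJ, ← hJo, show MulAut.conj w * J * (MulAut.conj w)⁻¹ = MulAut.conj (MulAut.conj w) J from rfl,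
      MulEquiv.orderOf_eq]
  · rcases (hZ y).mp hy with rfl | rfl
    · exact one_mem _
    · rw [hbJ]
      have hC' : Subgroup.centralizer ((CfsgLargeExtra.coreCent J : Subgroup (MulAut G)) : Set (MulAut G)) ≤
          CfsgLargeExtra.coreCent J := by rw [hcc, hL2]; exact Subgroup.map_subtype_le _
      exact CfsgLargeExtra.core_symm _ (fun _ => rfl) hJo (by rw [hcc]; exact hext) hC' _
        (by rw [hcc, ← hbJ]; exact hbR)

end Main

end CfsgThreeTrans.M22.PairAut
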