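/-
Maximal commuting sets, and small intersections of perpendicular sets, in type M(22).
-/
import Cfsg.Agent.Lib.ThreeTrans.M22.Quasi
import Cfsg.Agent.Lib.ThreeTrans.FreeInvolution
import Mathlib.FieldTheory.Finite.Basic
import Mathlib.Algebra.Module.ZMod

set_option autoImplicit false
set_option linter.unusedSectionVars false

namespace CfsgThreeTrans.M22

open Matrix Cfsg CfsgLib CfsgLib.UnitaryTransvection CfsgLib.UnitarySimple CfsgThreeTrans.M22.Points

universe u

variable {G : Type u} [Group G] [Finite G] {D : Set G}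
variable {F : Type} [Field F] [Fintype F] [DecidableEq F] {hF : Fintype.card F = 2 ^ 2}

local notation "h" => Cfsg.hermForm 6 F 2
local notation "h4" => Cfsg.hermForm 4 F 2
local notation "π" => QuotientGroup.mk' (Subgroup.center (Cfsg.SU 6 F 2))

theorem perp_pattern : ∀ s : Fin 4 → Bool, (Finset.univ.filter fun i => s i = true).card % 2 = 0 →
    (∃ i, s i = true) →
    (Finset.univ.filter fun v : Fin 4 → ZMod 2 × ZMod 2 =>
      (Finset.univ.filter fun i => v i ≠ 0).card % 2 = 0 ∧ (∑ i, if s i = true then v i else 0) = 0).card ≤ 40 := by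
  decide +kernel

theorem exists_additive (hF : Fintype.card F = 2 ^ 2) : Nonempty (F ≃+ ZMod 2 × ZMod 2) := by
  letI : Module (ZMod 2) F := AddCommGroup.zmodModule (n := 2) fun x => by rw [two_nsmul]; exact add_self hF x
  have h2 : Module.finrank (ZMod 2) F = 2 := by
    have e := Module.natCard_eq_pow_finrank (K := ZMod 2) (V := F)
    rw [Nat.card_eq_fintype_card, hF, Nat.card_eq_fintype_card, ZMod.card] at e
    exact (Nat.pow_right_injective le_rfl e).symm
  have h3 : Module.finrank (ZMod 2) (ZMod 2 × ZMod 2) = 2 := by simp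
  exact ⟨(LinearEquiv.ofFinrankEq F (ZMod 2 × ZMod 2) (h2.trans h3.symm)).toAddEquiv⟩

/-- Isotropic vectors perpendicular to a given one in four dimensions. -/
theorem card_tail_perp (hF : Fintype.card F = 2 ^ 2) {w : Fin 4 → F} (hw0 : w ≠ 0) (hw : h4 w w = 0) :
    Nat.card {y : Fin 4 → F // h4 y y = 0 ∧ h4 y w = 0} ≤ 40 := by
  classical
  obtain ⟨e⟩ := exists_additive hF
  let c : Fin 4 → F := fun i => if w i = 0 then 1 else w i ^ 2
  have hc : ∀ i, c i ≠ 0 := fun i => by
    show (if w i = 0 then 1 else w i ^ 2) ≠ 0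
    split
    · exact one_ne_zero
    · exact pow_ne_zero 2 ‹_›
  let s : Fin 4 → Bool := fun i => decide (w i ≠ 0)
  have hs : (Finset.univ.filter fun i => s i = true).card % 2 = 0 := by
    simpa [s] using (herm4_zero_iff hF w).mp hw
  have hex : ∃ i, s i = true := by
    obtain ⟨i, hi⟩ := Function.ne_iff.mp hw0
    exact ⟨i, by simpa [s] using hi⟩
  refine le_trans ?_ (perp_pattern s hs hex)
  rw [← Fintype.card_coe, ← Nat.card_eq_fintype_card]
  refine Nat.card_le_card_of_injective (fun y => ⟨fun i => e (y.1 i * c i), ?_⟩) ?_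
  · simp only [Finset.mem_filter, Finset.mem_univ, true_and]
    constructor
    · convert (herm4_zero_iff hF y.1).mp y.2.1 using 4 with i
      simp [hc i]
    · have e1 : ∀ i, (if s i = true then e (y.1 i * c i) else 0) = e (y.1 i * w i ^ 2) := fun i => by
        by_cases hi : w i = 0
        · simp [s, hi]
        · simp [s, c, hi]
      rw [Finset.sum_congr rfl fun i _ => e1 i, ← map_sum, ← map_zero e]
      exact congrArg e y.2.2
  · intro p q hpq
    refine Subtype.ext (funext fun i => ?_)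
    exact mul_right_cancel₀ (hc i) (e.injective (congrFun (congrArg Subtype.val hpq) i))

/-- A non-commuting pair of points can be moved to the standard one. -/
theorem pair_move (hD : IsThreeTranspositionClass D) (A : Data D F hF) {B C : G} (hB : B ∈ Ds D A.t)
    (hC : C ∈ Ds D A.t) (hBC : ¬ Commute B C) {a b : F} (v₀ : Iso F) (hv₀ : v₀.1 = pad a b 0)
    (h1 : h (u₀ F) (pad a b 0) = 1) :
    ∃ g ∈ Subgroup.closure (Ds D A.t), g * point A (std hF) * g⁻¹ = B ∧ g * point A v₀ * g⁻¹ = C := by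
  have hv : h (pad a b 0) (pad a b 0) = 0 := hv₀ ▸ v₀.2.2
  obtain ⟨x, rfl⟩ := point_surj A hB
  obtain ⟨g, hg, hgx⟩ := move_point hD A x
  rw [← hgx] at hBC ⊢
  obtain ⟨y, hy⟩ := point_surj A hC
  have hgi := inv_mem hg
  obtain ⟨k, hk⟩ := QuotientGroup.mk'_surjective _ (A.φ ⟨g⁻¹, hgi⟩)
  obtain ⟨y', -, hy'⟩ := cj_point hD A hgi hk.symm y
  have hne : h (u₀ F) y'.1 ≠ 0 := fun e => hBC (by
    have := (commute_cj_iff g).mpr ((point_commute_iff A (std hF) y').mpr e)
    rwa [← hy', hy, show g * (g⁻¹ * C * g⁻¹⁻¹) * g⁻¹ = C from cj_inv g C] at this)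
  set r := h (u₀ F) y'.1
  have hr : frob hF r ≠ 0 := by simpa using hne
  set y'' : Iso F := ⟨frob hF r⁻¹ • y'.1, smul_ne_zero (by simpa using hne) y'.2.1, by
    rw [h_smul_left, h_smul_right hF, y'.2.2, mul_zero, mul_zero]⟩
  have hy'' : point A y'' = point A y' := (point_eq_iff A y'' y').mpr ⟨_, by simpa using hne, rfl⟩
  have h1' : h (u₀ F) y''.1 = 1 := by
    show h (u₀ F) (frob hF r⁻¹ • y'.1) = 1
    rw [h_smul_right hF, show frob hF (frob hF r⁻¹) = r⁻¹ from frob_frob hF _]
    exact inv_mul_cancel₀ hne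
  obtain ⟨w, hw, hwv⟩ := move hF hv h1 y''.2.2 h1'
  have hwu : mat w *ᵥ u₀ F = u₀ F := by
    refine Subgroup.closure_induction (p := fun k _ => mat k *ᵥ u₀ F = u₀ F) ?_ ?_ ?_ ?_ hw
    · rintro _ ⟨v, -, hv, hvu, rfl⟩
      rw [tu_mulVec hF hv, ← h_swap hF v, hvu, map_zero, zero_smul, add_zero]
    · rw [mat_one, one_mulVec]
    · intro p q _ _ hp hq
      rw [mat_mul, ← mulVec_mulVec, hq, hp]
    · intro p _ hp
      conv_lhs => rw [← hp]
      rw [mat_inv_mulVec']
  obtain ⟨⟨l, hl⟩, hlk⟩ := A.sur (π w)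
  obtain ⟨p, hp, hlp⟩ := cj_point hD A hl hlk (std hF)
  obtain ⟨p', hp', hlp'⟩ := cj_point hD A hl hlk v₀
  rw [show p = std hF from Subtype.ext (hp.trans hwu)] at hlp
  rw [show p' = y'' from Subtype.ext (hp'.trans (hv₀.symm ▸ hwv)), hy'', ← hy', hy] at hlp'
  have hgl : g * l ∈ Subgroup.closure (Ds D A.t) := mul_mem hg hl
  have e1 : g * l * point A (std hF) * (g * l)⁻¹ = g * point A (std hF) * g⁻¹ := by rw [← cj_cj, hlp]
  have e2 : g * l * point A v₀ * (g * l)⁻¹ = C := by rw [← cj_cj, hlp', cj_inv]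
  exact ⟨g * l, hgl, e1, e2⟩

/-- At the base, a commuting pair of common partners of a non-commuting pair. -/
theorem ncard_nonperp_near (hD : IsThreeTranspositionClass D) (A : Data D F hF) {B C q : G} (hB : B ∈ Ds D A.t)
    (hC : C ∈ Ds D A.t) (hBC : ¬ Commute B C) (hq : q ∈ Ds D A.t ∩ Ds D B ∩ Ds D C) :
    (Ds D A.t ∩ Ds D B ∩ Ds D C ∩ Ds D q).ncard ≤ 12 := by
  classical
  obtain ⟨a, b, hv, h1, -, -, -⟩ := exists_v0 hF
  set v₀ : Iso F := ⟨pad a b 0, fun e => one_ne_zero (α := F) (by rw [← h1, e, h_zero_right hF]), hv⟩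
  -- move the non-commuting pair to the standard one
  obtain ⟨x, rfl⟩ := point_surj A hB
  obtain ⟨y, rfl⟩ := point_surj A hC
  obtain ⟨g, hg, g1, g2⟩ : ∃ g ∈ Subgroup.closure (Ds D A.t),
      g * point A (std hF) * g⁻¹ = point A x ∧ g * point A v₀ * g⁻¹ = point A y :=
    pair_move hD A hB hC hBC v₀ rfl h1
  set q' := g⁻¹ * q * g⁻¹⁻¹
  have hgi := inv_mem hg
  have e0 : Ds D A.t ∩ Ds D (point A x) ∩ Ds D (point A y) ∩ Ds D q = (fun z => g * z * g⁻¹) ''
      (Ds D A.t ∩ Ds D (point A (std hF)) ∩ Ds D (point A v₀) ∩ Ds D q') := by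
    rw [Set.image_inter (cj_injective g), Set.image_inter (cj_injective g), cj_inter hD hg, cj_Ds hD, cj_Ds hD,
      g1, g2, cj_inv]
  have hq' : q' ∈ Ds D A.t ∩ Ds D (point A (std hF)) ∩ Ds D (point A v₀) := by
    have : q ∈ (fun z => g * z * g⁻¹) '' (Ds D A.t ∩ Ds D (point A (std hF)) ∩ Ds D (point A v₀)) := by
      rw [Set.image_inter (cj_injective g), cj_inter hD hg, cj_Ds hD, g1, g2]
      exact hq
    obtain ⟨z, hz, rfl⟩ := this
    rwa [show q' = z by simp only [q']; group]
  rw [e0, Set.ncard_image_of_injective _ (cj_injective g)]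
  obtain ⟨p, hp⟩ := point_surj A hq'.1.1
  rw [← hp] at hq' ⊢
  set S := Ds D A.t ∩ Ds D (point A (std hF)) ∩ Ds D (point A v₀) ∩ Ds D (point A p)
  have key : ∀ z : Iso F, h z.1 (u₀ F) = 0 → h z.1 (pad a b 0) = 0 →
      z.1 = pad 0 0 (Fin.tail (Fin.tail z.1)) := by
    intro z z1 z2
    have e01 : z.1 0 = z.1 1 := by
      rw [pad_eta z.1, perp_u0 hF] at z1
      have := congrArg (· + z.1 1) z1
      simpa [add_assoc, add_self hF] using this
    rw [pad_eta z.1, herm_pad, ← e01] at z2
    rw [u0_eq, herm_pad] at h1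
    simp only [Cfsg.hermForm, Pi.zero_apply, zero_pow two_ne_zero, mul_zero, Finset.sum_const_zero, add_zero,
      one_mul, ← mul_add] at z2 h1
    rw [h1, mul_one] at z2
    conv_lhs => rw [pad_eta z.1, ← e01, z2]
  have kp := key p ((point_commute_iff A p (std hF)).mp hq'.1.2.2.2.symm) ((point_commute_iff A p v₀).mp hq'.2.2.2.symm)
  set w := Fin.tail (Fin.tail p.1)
  have hw : h4 w w = 0 := by
    have := p.2.2
    rwa [kp, herm_pad_self hF _ _ _ rfl] at this
  have hw0 : w ≠ 0 := fun e => p.2.1 (by rw [kp, e]; exact pad_zero)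
  have hcard : Nat.card ({z : Iso F // point A z ∈ S} ⊕ F) ≤ Nat.card {y : Fin 4 → F // h4 y y = 0 ∧ h4 y w = 0} := by
    have per : ∀ z : {z : Iso F // point A z ∈ S}, z.1.1 = pad 0 0 (Fin.tail (Fin.tail z.1.1)) ∧
        h4 (Fin.tail (Fin.tail z.1.1)) w = 0 := by
      intro z
      have e := key z.1 ((point_commute_iff A z.1 (std hF)).mp z.2.1.1.2.2.2.symm)
        ((point_commute_iff A z.1 v₀).mp z.2.1.2.2.2.symm)
      refine ⟨e, ?_⟩
      have := (point_commute_iff A z.1 p).mp z.2.2.2.2.symm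
      rw [e, kp, herm_pad] at this
      simpa using this
    refine Nat.card_le_card_of_injective (Sum.elim
      (fun z => ⟨Fin.tail (Fin.tail z.1.1), by
        have := z.1.2.2
        rwa [(per z).1, herm_pad_self hF _ _ _ rfl] at this, (per z).2⟩)
      (fun c => ⟨c • w, by rw [h_smul_left, h_smul_right hF, hw, mul_zero, mul_zero],
        by rw [h_smul_left, hw, mul_zero]⟩)) ?_
    rintro (z | c) (z' | c') e <;> simp only [Sum.elim_inl, Sum.elim_inr, Subtype.ext_iff] at e
    · exact congrArg Sum.inl (Subtype.ext (Subtype.ext (by rw [(per z).1, (per z').1, e])))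
    · exfalso
      by_cases hc : c' = 0
      · exact z.1.2.1 (by rw [(per z).1, e, hc, zero_smul]; exact pad_zero)
      · refine z.2.2.2.1 ((point_eq_iff A z.1 p).mpr ⟨c', hc, ?_⟩)
        conv_lhs => rw [(per z).1, e]
        rw [kp]
        funext i
        refine Fin.cases ?_ (fun i => Fin.cases ?_ (fun i => ?_) i) i <;> simp [pad]
    · exfalso
      by_cases hc : c = 0
      · exact z'.1.2.1 (by rw [(per z').1, ← e, hc, zero_smul]; exact pad_zero)
      · refine z'.2.2.2.1 ((point_eq_iff A z'.1 p).mpr ⟨c, hc, ?_⟩)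
        conv_lhs => rw [(per z').1, ← e]
        rw [kp]
        funext i
        refine Fin.cases ?_ (fun i => Fin.cases ?_ (fun i => ?_) i) i <;> simp [pad]
    · exact congrArg Sum.inr (smul_left_injective F hw0 e)
  rw [Nat.card_sum, card_pre A (fun z hz => hz.1.1.1), Nat.card_eq_fintype_card (α := F), hF] at hcard
  have := hcard.trans (card_tail_perp hF hw0 hw)
  omega

/-- A maximal commuting set has twenty-two members. -/
theorem clique_card (hD : IsThreeTranspositionClass D) (A : Data D F hF) {E : Set G} (hED : E ⊆ D)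
    (hcom : ∀ a ∈ E, ∀ b ∈ E, Commute a b) (hmax : ∀ c ∈ D, (∀ a ∈ E, Commute a c) → c ∈ E) : E.ncard = 22 := by
  classical
  obtain ⟨s, hs⟩ : E.Nonempty := by
    by_contra he
    rw [Set.not_nonempty_iff_eq_empty] at he
    have := hmax A.t A.ht (by simp [he])
    simp [he] at this
  obtain ⟨g, hg, hin⟩ := to_base hD A (hED hs)
  set S : Set G := (fun z => g⁻¹ * z * g⁻¹⁻¹) '' (E \ {s})
  have hS : S ⊆ Ds D A.t := by
    rintro _ ⟨z, ⟨hz, hzs⟩, rfl⟩
    exact hin ⟨hED hz, hzs, hcom s hs z hz⟩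
  have hSn : S.ncard + 1 = E.ncard := by
    rw [Set.ncard_image_of_injective _ (cj_injective g⁻¹), Set.ncard_diff_singleton_add_one hs]
  set P : Set (Fin 6 → F) := {v | ∃ x : Iso F, x.1 = v ∧ point A x ∈ S}
  have hP : ∀ u ∈ P, ∀ w ∈ P, h u w = 0 := by
    rintro _ ⟨x, rfl, hx⟩ _ ⟨y, rfl, hy⟩
    refine (point_commute_iff A x y).mp ?_
    obtain ⟨z, hz, ez⟩ := hx
    obtain ⟨z', hz', ez'⟩ := hy
    rw [← ez, ← ez']
    exact (commute_cj_iff g⁻¹).mpr (hcom z hz.1 z' hz'.1)
  have hclosed : ∀ x : Iso F, (∀ u ∈ P, h u x.1 = 0) → point A x ∈ S := by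
    intro x hx
    have ht' : ∀ a ∈ E, Commute a (g * point A x * g⁻¹) := fun a ha => by
      by_cases e : a = s
      · subst e
        rw [← hg]
        exact (commute_cj_iff g).mpr (point_mem A x).2.2
      · have hmem : g⁻¹ * a * g⁻¹⁻¹ ∈ S := ⟨a, ⟨ha, e⟩, rfl⟩
        obtain ⟨z, hz⟩ := point_surj A (hS hmem)
        rw [← cj_inv g a]
        refine (commute_cj_iff g).mpr ?_
        rw [← hz]
        exact (point_commute_iff A z x).mpr (hx z.1 ⟨z, rfl, hz.symm ▸ hmem⟩)
    have hne : g * point A x * g⁻¹ ≠ s := fun e =>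
      (point_mem A x).2.1 (cj_injective g (e.trans hg.symm))
    exact ⟨_, ⟨hmax _ (cls_conj hD g (point_mem A x).1) ht', hne⟩, by group⟩
  set U := Submodule.span F P
  have hU : ∀ u ∈ U, ∀ w ∈ U, h u w = 0 := IsotropicCount.herm_span2 (q := 2) hF P hP
  let f : Option {x : Iso F // point A x ∈ S} → U := fun o => o.elim (0 : U)
    fun x => ⟨x.1.1, Submodule.subset_span ⟨x.1, rfl, x.2⟩⟩
  have hf : Function.Bijective f := by
    constructor
    · rintro (_ | p) (_ | q) e <;> simp only [f, Option.elim, Subtype.ext_iff] at e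
      · rfl
      · exact absurd e.symm q.1.2.1
      · exact absurd e p.1.2.1
      · exact congrArg some (Subtype.ext (Subtype.ext e))
    · rintro ⟨v, hv⟩
      by_cases h0 : v = 0
      · exact ⟨none, Subtype.ext h0.symm⟩
      · exact ⟨some ⟨⟨v, h0, hU v hv v hv⟩, hclosed _ fun u hu => hU u (Submodule.subset_span hu) v hv⟩, rfl⟩
  have hcard := Nat.card_eq_of_bijective f hf
  rw [Finite.card_option, card_pre A hS, Module.natCard_eq_pow_finrank (K := F), Nat.card_eq_fintype_card, hF]
    at hcard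
  have hle := iso_clique_card hF P hP
  change Nat.card U ≤ 64 at hle
  rw [Module.natCard_eq_pow_finrank (K := F), Nat.card_eq_fintype_card, hF] at hle
  set k := Module.finrank F U with hk
  have hk3 : k ≤ 3 := (Nat.pow_le_pow_iff_right (by norm_num : 1 < 2 ^ 2)).mp (hle.trans (by norm_num))
  have hk3' : ¬ k ≤ 2 := by
    intro hk2
    let L : (Fin 6 → F) →ₗ[F] (Fin k → F) :=
      { toFun := fun x i => h x ((Module.finBasis F U i : U) : Fin 6 → F)
        map_add' := fun p q => funext fun i => h_add_left _ _ _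
        map_smul' := fun c p => funext fun i => h_smul_left _ _ _ }
    have hperp : ∀ x, x ∈ LinearMap.ker L → ∀ v ∈ U, h v x = 0 := by
      intro x hx v hv
      have hi : ∀ i, h ((Module.finBasis F U i : U) : Fin 6 → F) x = 0 := fun i => by
        rw [← h_swap hF x, show h x ((Module.finBasis F U i : U) : Fin 6 → F) = 0 from congrFun hx i, map_zero]
      let T : U →ₗ[F] F :=
        { toFun := fun u => h u.1 x
          map_add' := fun p q => h_add_left _ _ _
          map_smul' := fun c p => h_smul_left _ _ _ }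
      have hT : T = 0 := (Module.finBasis F U).ext fun i => hi i
      exact LinearMap.congr_fun hT ⟨v, hv⟩
    have hker : 6 ≤ Module.finrank F (LinearMap.ker L) + k := by
      have h1 := L.finrank_range_add_finrank_ker
      have h2 := Submodule.finrank_le (LinearMap.range L)
      rw [Module.finrank_fin_fun] at h1 h2
      omega
    have hnoiso : ∀ x ∈ LinearMap.ker L, h x x = 0 → x ∈ U := fun x hx hxx => by
      by_cases h0 : x = 0
      · rw [h0]; exact U.zero_mem
      · exact Submodule.subset_span ⟨⟨x, h0, hxx⟩, rfl, hclosed _ fun u hu => hperp x hx u (Submodule.subset_span hu)⟩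
    have hval : ∀ x ∈ LinearMap.ker L, x ∉ U → h x x = 1 := fun x hx hxU =>
      (fixed hF (h_swap hF x x)).resolve_left fun e => hxU (hnoiso x hx e)
    obtain ⟨u, hu, huU⟩ : ∃ u ∈ LinearMap.ker L, u ∉ U := by
      by_contra hcon
      push Not at hcon
      have := Submodule.finrank_mono (show LinearMap.ker L ≤ U from hcon)
      omega
    have huu := hval u hu huU
    let N : (Fin 6 → F) →ₗ[F] F :=
      { toFun := fun x => h x u, map_add' := fun p q => h_add_left _ _ _, map_smul' := fun c p => h_smul_left _ _ _ }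
    obtain ⟨w, hw, hwN, hwU⟩ : ∃ w ∈ LinearMap.ker L, h w u = 0 ∧ w ∉ U := by
      by_contra hcon
      push Not at hcon
      have h1 := (N.comp (LinearMap.ker L).subtype).finrank_range_add_finrank_ker
      have h2 := Submodule.finrank_le (LinearMap.range (N.comp (LinearMap.ker L).subtype))
      rw [Module.finrank_self] at h2
      have h3 : Module.finrank F (LinearMap.ker (N.comp (LinearMap.ker L).subtype)) ≤ k := by
        refine LinearMap.finrank_le_finrank_of_injective
          (f := ((LinearMap.ker L).subtype.comp (LinearMap.ker (N.comp (LinearMap.ker L).subtype)).subtype).codRestrict U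
            fun x => hcon x.1.1 x.1.2 x.2) ?_
        intro p q e
        have := congrArg (fun z : U => (z : Fin 6 → F)) e
        exact Subtype.ext (Subtype.ext this)
      omega
    have hww := hval w hw hwU
    have huw : h u w = 0 := by rw [← h_swap hF w u, hwN, map_zero]
    have hvv : h (u + w) (u + w) = 0 := by
      rw [h_add_left, h_add_right hF, h_add_right hF, huu, hww, huw, hwN, add_zero, zero_add, add_self hF]
    have h1 : h (u + w) u = 1 := by rw [h_add_left, huu, hwN, add_zero]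
    have := hperp u hu _ (hnoiso _ (Submodule.add_mem _ hu hw) hvv)
    exact one_ne_zero (α := F) (h1.symm.trans this)
  rw [show k = 3 by omega] at hcard
  omega

/-- The commuting graph parameters in type M(22). -/
theorem geo (hD : IsThreeTranspositionClass D) (hp : IsPrimitiveUnderConj D) (A : Data D F hF) :
    FreeInvol.Geo D := by
  obtain ⟨hv, hmu⟩ := params hD hp A
  refine ⟨fun a ha b hb hab => ⟨(third hD ha hb hab).1, braid hD.1 ha hb hab⟩, fun a ha => ncard_Ds hD A ha,
    fun a ha b hb => ncard_near hD A ha hb, fun a ha c hc hac => hmu a ha c hc hac, ?_, ?_,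
    fun E h1 h2 h3 => clique_card hD A h1 h2 h3⟩
  · intro a ha c hc hac p hp'
    rw [show Ds D a ∩ Ds D c ∩ Ds D p = Ds D p ∩ Ds D a ∩ Ds D c by
      rw [Set.inter_comm (Ds D a ∩ Ds D c), Set.inter_assoc]]
    exact (ncard_three hD A hp'.1.1 (FreeInvol.mem_symm ha hp'.1) (FreeInvol.mem_symm hc hp'.2)).1 hac
  · intro a ha c hc hac p hp' q hq
    obtain ⟨g, hg, hin⟩ := to_base hD A hp'.1.1
    have hB := hin (FreeInvol.mem_symm ha hp'.1)
    have hC := hin (FreeInvol.mem_symm hc hp'.2)
    have e : Ds D a ∩ Ds D c ∩ Ds D p ∩ Ds D q = (fun z => g * z * g⁻¹) '' (Ds D A.t ∩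
        Ds D (g⁻¹ * a * g⁻¹⁻¹) ∩ Ds D (g⁻¹ * c * g⁻¹⁻¹) ∩ Ds D (g⁻¹ * q * g⁻¹⁻¹)) := by
      rw [Set.image_inter (cj_injective g), Set.image_inter (cj_injective g), Set.image_inter (cj_injective g),
        cj_Ds hD, cj_Ds hD, cj_Ds hD, cj_Ds hD, hg, cj_inv, cj_inv, cj_inv]
      rw [Set.inter_comm (Ds D a ∩ Ds D c) (Ds D p), ← Set.inter_assoc (Ds D p)]
    rw [e, Set.ncard_image_of_injective _ (cj_injective g)]
    refine ncard_nonperp_near hD A hB hC (fun k => hac ((commute_cj_iff g⁻¹).mp k)) ?_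
    have : q ∈ (fun z => g * z * g⁻¹) '' (Ds D A.t ∩ Ds D (g⁻¹ * a * g⁻¹⁻¹) ∩ Ds D (g⁻¹ * c * g⁻¹⁻¹)) := by
      rw [Set.image_inter (cj_injective g), Set.image_inter (cj_injective g), cj_Ds hD, cj_Ds hD, cj_Ds hD, hg,
        cj_inv, cj_inv]
      exact ⟨⟨hq.2, hq.1.1⟩, hq.1.2⟩
    obtain ⟨z, hz, rfl⟩ := this
    rwa [show g⁻¹ * (g * z * g⁻¹) * g⁻¹⁻¹ = z by group]

end CfsgThreeTrans.M22
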