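/-
Involutions of U6(2) in a double cover.
-/
import Cfsg.Agent.Lib.ThreeTrans.M22.Lines

set_option autoImplicit false
set_option linter.unusedSectionVars false

namespace CfsgThreeTrans.M22

open Matrix CfsgLib CfsgLib.UnitaryTransvection CfsgLib.UnitarySimple

variable {F : Type*} [Field F] [Fintype F] [DecidableEq F] (hF : Fintype.card F = 2 ^ 2)

local notation "h" => Cfsg.hermForm 6 F 2
local notation "σ" => frob hF
local notation "V" => (Fin 6 → F)
local notation "π" => QuotientGroup.mk' (Subgroup.center (Cfsg.SU 6 F 2))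

include hF

/-- A unit vector perpendicular to two orthogonal isotropic vectors. -/
theorem exists_unit_two {x y : V} (hx : h x x = 0) (hy : h y y = 0) (hxy : h x y = 0) (hy0 : y ≠ 0) :
    ∃ a, h a x = 0 ∧ h a y = 0 ∧ h a a = 1 := by
  classical
  by_cases hdep : ∃ c : F, x = c • y
  · obtain ⟨c, rfl⟩ := hdep
    obtain ⟨u, hu, hyu⟩ := UnitaryTransConj.exists_unit_perp (n := 6) hF (by norm_num) hy0
    have huy : h u y = 0 := by rw [← h_swap hF y u, hyu, map_zero]
    exact ⟨u, by rw [h_smul_right hF, huy, mul_zero], huy, hu⟩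
  push Not at hdep
  have hyx : h y x = 0 := by rw [← h_swap hF x y, hxy, map_zero]
  set s : Fin 2 → V := ![![1, 1, 0, 0, 0, 0], ![0, 0, 1, 1, 0, 0]]
  have h2 : (1 : F) + 1 = 0 := add_self hF 1
  have hli : LinearIndependent F s := by
    rw [Fintype.linearIndependent_iff]
    intro g hg i
    have e0 := congrFun hg 0
    have e2 := congrFun hg 2
    fin_cases i <;> simp [s, Fin.sum_univ_two] at e0 e2 ⊢ <;> assumption
  have hiso : ∀ i j, h (s i) (s j) = 0 := by
    intro i j
    fin_cases i <;> fin_cases j <;> simp [s, Cfsg.hermForm, Fin.sum_univ_six, h2]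
  have hlt : LinearIndependent F ![x, y] := by
    rw [Fintype.linearIndependent_iff]
    intro g hg i
    rw [Fin.sum_univ_two] at hg
    simp only [Matrix.cons_val_zero, Matrix.cons_val_one] at hg
    have g0 : g 0 = 0 := by
      by_contra h0
      refine hdep (-((g 0)⁻¹ * g 1)) ?_
      have := congrArg (fun v => (g 0)⁻¹ • v) hg
      simp only [smul_add, smul_smul, inv_mul_cancel₀ h0, one_smul, smul_zero] at this
      rw [neg_smul]
      exact eq_neg_of_add_eq_zero_left this
    rw [g0, zero_smul, zero_add] at hg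
    fin_cases i
    · exact g0
    · exact (smul_eq_zero.mp hg).resolve_right hy0
  have hxys : ∀ i j, h (![x, y] i) (![x, y] j) = 0 := by
    intro i j
    fin_cases i <;> fin_cases j <;> assumption
  obtain ⟨g, hg⟩ := IsotropicCount.herm_trans (n := 6) hF (k := 2) ⟨s, hli, hiso⟩ ⟨![x, y], hlt, hxys⟩
  refine ⟨g.1.1 *ᵥ ![0, 0, 0, 0, 1, 0], ?_, ?_, ?_⟩
  · rw [← show g.1.1 *ᵥ s 0 = x from hg 0, gu_h]
    simp [s, Cfsg.hermForm, Fin.sum_univ_six]
  · rw [← show g.1.1 *ᵥ s 1 = y from hg 1, gu_h]
    simp [s, Cfsg.hermForm, Fin.sum_univ_six]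
  · rw [gu_h]
    simp [Cfsg.hermForm, Fin.sum_univ_six]

/-- Two root elements with commutator and square the transvection. -/
theorem exists_quaternion {x y : V} (hx : h x x = 0) (hy : h y y = 0) (hxy : h x y = 0) (hy0 : y ≠ 0) :
    ∃ U W : Cfsg.SU 6 F 2, U * W = tu hF y * (W * U) ∧ U * U = tu hF y ∧ W * W = tu hF y ∧ mat U *ᵥ x = x ∧ mat W *ᵥ x = x := by
  obtain ⟨a, hax, hay, haa⟩ := exists_unit_two hF hx hy hxy hy0
  obtain ⟨z, z0, z1, hq, hσ, -⟩ := exists_zeta hF
  have h2 := two_zero hF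
  have hxy' : h x y = 0 := hxy
  have hxa : h x a = 0 := by rw [← h_swap hF a x, hax, map_zero]
  have hby : h (z • a) y = 0 := by rw [h_smul_left, hay, mul_zero]
  have h3 := cube hF z0
  have hsa : h a a + z + σ z = 0 := by rw [haa, hσ]; linear_combination hq
  have hsb : h (z • a) (z • a) + z + σ z = 0 := by
    rw [h_smul_left, h_smul_right hF, haa, hσ]; linear_combination hq + h3
  have hmat : ∀ A : Cfsg.SU 6 F 2, ∀ M : Matrix (Fin 6) (Fin 6) F, A.1.1 = M → mat A = M := fun A M e => e
  refine ⟨ru hF hy hay hsa, ru hF hy hby hsb, su_ext fun v => ?_, su_ext fun v => ?_, su_ext fun v => ?_, ?_, ?_⟩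
  · rw [mat_mul, mat_mul, mat_mul, ← mulVec_mulVec _ (mat (tu hF y)), show mat (ru hF hy hay hsa) = umat (q := 2) y a z from rfl,
      show mat (ru hF hy hby hsb) = umat (q := 2) y (z • a) z from rfl, umat_mul hF hy hay hby, umat_mul hF hy hby hay,
      umat_mulVec, umat_mulVec, tu_mulVec hF hy]
    simp only [h_add_left, h_add_right hF, h_sub_left, h_smul_left, h_smul_right hF, hay, hy, haa, hσ, mul_one,
      mul_zero, add_zero, sub_zero]
    ext i
    simp only [Pi.add_apply, Pi.sub_apply, Pi.smul_apply, smul_eq_mul]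
    linear_combination (-(h v y * y i)) * hq + (z * z * h v y * y i) * h2
  · rw [mat_mul, show mat (ru hF hy hay hsa) = umat (q := 2) y a z from rfl, umat_mul hF hy hay hay,
      umat_mulVec, tu_mulVec hF hy]
    simp only [h_add_right hF, haa]
    ext i
    simp only [Pi.add_apply, Pi.sub_apply, Pi.smul_apply, smul_eq_mul]
    linear_combination (a i * h v y - h v a * y i + z * h v y * y i) * h2 - (h v y * y i) * h2
  · rw [mat_mul, show mat (ru hF hy hby hsb) = umat (q := 2) y (z • a) z from rfl, umat_mul hF hy hby hby,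
      umat_mulVec, tu_mulVec hF hy]
    simp only [h_add_right hF, h_smul_left, h_smul_right hF, haa, hσ, mul_one]
    ext i
    simp only [Pi.add_apply, Pi.sub_apply, Pi.smul_apply, smul_eq_mul]
    linear_combination (z * a i * h v y - z * z * h v a * y i + z * h v y * y i) * h2 +
      (-(h v y * y i)) * h3 - (h v y * y i) * h2
  · show umat (q := 2) y a z *ᵥ x = x
    rw [umat_mulVec, hxy', hxa]
    simp
  · show umat (q := 2) y (z • a) z *ᵥ x = x
    rw [umat_mulVec, hxy', h_smul_right hF, hxa]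
    simp

/-- Involutions are products of orthogonal transvections. -/
theorem exists_product (A : Cfsg.SU 6 F 2) (hA : A * A = 1) :
    ∃ l : List V, (∀ u ∈ l, u ≠ 0 ∧ ∃ v, u = mat A *ᵥ v + v) ∧ A = (l.map (tu hF)).prod := by
  classical
  suffices H : ∀ n, ∀ A : Cfsg.SU 6 F 2, A * A = 1 →
      Nat.card (Set.range fun v : V => mat A *ᵥ v + v) ≤ n →
      ∃ l : List V, (∀ u ∈ l, u ≠ 0 ∧ ∃ v, u = mat A *ᵥ v + v) ∧ A = (l.map (tu hF)).prod from H _ A hA le_rfl
  intro n
  induction n with
  | zero =>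
    intro A _ hc
    exfalso
    haveI : Nonempty (Set.range fun v : V => mat A *ᵥ v + v) := ⟨⟨_, 0, rfl⟩⟩
    have := Nat.card_pos (α := Set.range fun v : V => mat A *ᵥ v + v)
    omega
  | succ n ih =>
    intro A hA hc
    have hAA : ∀ v, mat A *ᵥ (mat A *ᵥ v) = v := fun v => by
      rw [mulVec_mulVec, ← mat_mul, hA, mat_one, one_mulVec]
    set N : V → V := fun v => mat A *ᵥ v + v with hN
    have Nsmul : ∀ (l : F) a, N (l • a) = l • N a := fun l a => by simp only [hN, mulVec_smul, smul_add]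
    have Nadd : ∀ a b, N (a + b) = N a + N b := fun a b => by simp only [hN, mulVec_add]; abel
    have hswap : ∀ a b, h (mat A *ᵥ a) b = h a (mat A *ᵥ b) := fun a b => by
      rw [← su_h A (mat A *ᵥ a) b, hAA]
    have Nsym : ∀ a b, h (N a) b = h a (N b) := fun a b => by
      simp only [hN, h_add_left, h_add_right hF, hswap]
    have NN : ∀ a, N (N a) = 0 := fun a => by
      simp only [hN, mulVec_add, hAA]
      rw [add_comm (mat A *ᵥ a) a, vadd_self hF]
    have Niso : ∀ a b, h (N a) (N b) = 0 := fun a b => by rw [Nsym, NN, h_zero_right hF]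
    have hA' : ∀ v, mat A *ᵥ v = v + N v := fun v => by
      simp only [hN]
      rw [add_comm (mat A *ᵥ v) v, ← add_assoc, vadd_self hF, zero_add]
    by_cases h0 : ∀ v, N v = 0
    · exact ⟨[], fun u hu => absurd hu List.not_mem_nil, su_ext fun v => by simp [hA', h0, mat_one]⟩
    push Not at h0
    obtain ⟨v₀, hv₀⟩ := h0
    obtain ⟨e, he⟩ : ∃ e, h (N e) e = 1 := by
      by_contra hcon
      push Not at hcon
      have hz : ∀ a, h (N a) a = 0 := fun a => (fixed hF (by rw [h_swap hF, Nsym])).resolve_right (hcon a)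
      obtain ⟨d, hd⟩ := exists_trace_one hF
      obtain ⟨b, hb⟩ := exists_dual hF hv₀
      have := hz (d • v₀ + b)
      rw [Nadd, Nsmul, h_add_left, h_smul_left, h_add_right hF, h_add_right hF, h_smul_right hF, h_smul_right hF,
        hz v₀, hz b, mul_zero, zero_add, add_zero, show h (N v₀) b = 1 by rw [← h_swap hF, hb, map_one],
        show h (N b) v₀ = 1 by rw [Nsym, hb], mul_one, mul_one, add_comm, hd] at this
      exact one_ne_zero this
    have hu : h (N e) (N e) = 0 := Niso e e
    have hu0 : N e ≠ 0 := fun e0 => one_ne_zero (α := F) (by rw [← he, e0, h_zero_left hF])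
    set A' := tu hF (N e) * A with hA'def
    have hA'v : ∀ v, mat A' *ᵥ v = v + (N v + h v (N e) • N e) := fun v => by
      rw [hA'def, mat_mul, ← mulVec_mulVec, tu_mulVec hF hu, hA', h_add_left, Niso v e, add_zero]
      abel
    have hA'2 : A' * A' = 1 := su_ext fun v => by
      rw [mat_mul, ← mulVec_mulVec, hA'v, hA'v, Nadd, Nadd, Nsmul, NN, NN, smul_zero, add_zero, add_zero,
        h_add_left, h_add_left, h_smul_left, Niso v e, hu, mul_zero, add_zero, add_zero, mat_one, one_mulVec,
        add_assoc, vadd_self hF, add_zero]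
    have hsub : ∀ v, ∃ w, mat A' *ᵥ v + v = N w := fun v => ⟨v + h v (N e) • e, by
      rw [hA'v, Nadd, Nsmul, add_comm v (N v + _), add_assoc, vadd_self hF, add_zero]⟩
    have hperp : ∀ v, h (mat A' *ᵥ v + v) e = 0 := fun v => by
      rw [hA'v, add_comm v (N v + _), add_assoc, vadd_self hF, add_zero, h_add_left, h_smul_left, he, mul_one,
        Nsym, add_self hF]
    have hlt : Nat.card (Set.range fun v : V => mat A' *ᵥ v + v) < Nat.card (Set.range N) := by
      rw [Nat.card_coe_set_eq, Nat.card_coe_set_eq]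
      refine Set.ncard_lt_ncard ⟨?_, fun hsup => ?_⟩ (Set.toFinite _)
      · rintro _ ⟨v, rfl⟩
        obtain ⟨w, hw⟩ := hsub v
        exact ⟨w, hw.symm⟩
      · obtain ⟨v, hv⟩ := hsup ⟨e, rfl⟩
        have := hperp v
        rw [show mat A' *ᵥ v + v = N e from hv, he] at this
        exact one_ne_zero this
    have hle : Nat.card (Set.range N) ≤ n + 1 := hc
    obtain ⟨l, hl, hl'⟩ := ih A' hA'2 (by omega)
    refine ⟨N e :: l, fun u hu' => ?_, ?_⟩
    · rcases List.mem_cons.mp hu' with rfl | hu'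
      · exact ⟨hu0, e, rfl⟩
      · obtain ⟨h1, v, rfl⟩ := hl u hu'
        obtain ⟨w, hw⟩ := hsub v
        exact ⟨h1, w, hw⟩
    · rw [List.map_cons, List.prod_cons, ← hl', hA'def, ← mul_assoc, tu_sq hF hu, one_mul]

variable {C : Type*} [Group C] (ψ : C →* Cfsg.PSU 6 F 2) (hψ : Function.Surjective ψ) {d : C}
  (hker : ∀ a, ψ a = 1 → a = 1 ∨ a = d) (hd2 : d * d = 1) (hdc : ∀ a, Commute d a)

include hψ hker hd2 hdc

/-- Commutators do not depend on the lifts. -/
theorem lift_quaternion {x y : V} (hx : h x x = 0) (hy : h y y = 0) (hxy : h x y = 0) (hy0 : y ≠ 0) {X T : C}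
    (hX : ψ X = π (tu hF x)) (hT : ψ T = π (tu hF y)) : T * T = 1 ∧ Commute X T := by
  obtain ⟨U, W, hUW, hUU, hWW, hUx, hWx⟩ := exists_quaternion hF hx hy hxy hy0
  obtain ⟨u, hu⟩ := hψ (π U)
  obtain ⟨w, hw⟩ := hψ (π W)
  have diff : ∀ {a b : C}, ψ a = ψ b → a = b ∨ a = b * d := fun {a b} e => by
    rcases hker (b⁻¹ * a) (by rw [map_mul, map_inv, e, inv_mul_cancel]) with h1 | h1
    · exact Or.inl (by rwa [inv_mul_eq_one, eq_comm] at h1)
    · exact Or.inr (by rw [← h1, mul_inv_cancel_left])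
  have hdd : ∀ a : C, a * d = d * a := fun a => (hdc a).eq.symm
  set K := u * w * u⁻¹ * w⁻¹ with hK
  have hcomm : ψ K = π (tu hF y) := by
    rw [hK, map_mul, map_mul, map_mul, map_inv, map_inv, hu, hw, ← map_mul, hUW, map_mul, map_mul]
    group
  have hTK : T = K ∨ T = K * d := diff (by rw [hT, hcomm])
  have sq_comm : ∀ a : C, ψ (a * a) = ψ K → Commute K a := fun a e => by
    rcases diff e.symm with e1 | e1
    · rw [e1]; exact (Commute.refl a).mul_left (Commute.refl a)
    · rw [e1]; exact ((Commute.refl a).mul_left (Commute.refl a)).mul_left (hdc a)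
  have hKu : Commute K u := sq_comm u (by rw [hcomm, map_mul, hu, ← map_mul, hUU])
  have hKw : Commute K w := sq_comm w (by rw [hcomm, map_mul, hw, ← map_mul, hWW])
  have huw2 : Commute u (w * w) := by
    rcases diff (show ψ (w * w) = ψ K by rw [hcomm, map_mul, hw, ← map_mul, hWW]) with e1 | e1
    · rw [e1]; exact hKu.symm
    · rw [e1]; exact hKu.symm.mul_right (hdc u).symm
  have hKK : K * K = 1 := by
    have e1 : u * w * u⁻¹ = K * w := by rw [hK]; group
    have e2 : K * K * (w * w) = w * w := by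
      calc K * K * (w * w) = K * (K * w) * w := by simp only [mul_assoc]
        _ = K * (w * K) * w := by rw [hKw.eq]
        _ = (K * w) * (K * w) := by simp only [mul_assoc]
        _ = (u * w * u⁻¹) * (u * w * u⁻¹) := by rw [e1]
        _ = u * (w * w) * u⁻¹ := by group
        _ = w * w := by rw [huw2.eq, mul_inv_cancel_right]
    exact mul_eq_right.mp e2
  have hfix : ∀ (A : Cfsg.SU 6 F 2) (a : C), ψ a = π A → mat A *ᵥ x = x →
      X * a * X⁻¹ = a ∨ X * a * X⁻¹ = a * d := by
    intro A a ha hA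
    refine diff ?_
    have hcA : tu hF x * A = A * tu hF x := by
      have := tu_conj hF A hx
      rw [hA] at this
      exact (mul_inv_eq_iff_eq_mul.mp this).symm
    rw [map_mul, map_mul, map_inv, hX, ha, ← map_mul, hcA, map_mul, mul_inv_cancel_right]
  have hXK : Commute X K := by
    refine mul_inv_eq_iff_eq_mul.mp ?_
    have e : X * K * X⁻¹ = (X * u * X⁻¹) * (X * w * X⁻¹) * (X * u * X⁻¹)⁻¹ * (X * w * X⁻¹)⁻¹ := by rw [hK]; group
    have hdi : d⁻¹ = d := inv_eq_of_mul_eq_one_right hd2
    have mv : ∀ a b : C, d * (a * b) = a * (d * b) := fun a b => by rw [← mul_assoc, (hdc a).eq, mul_assoc]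
    have dd : ∀ a : C, d * (d * a) = a := fun a => by rw [← mul_assoc, hd2, one_mul]
    rw [e, hK]
    rcases hfix U u hu hUx with e1 | e1 <;> rcases hfix W w hw hWx with e2 | e2 <;>
      simp only [e1, e2, _root_.mul_inv_rev, hdi, mul_assoc, mv, dd, hdd]
  rcases hTK with rfl | rfl
  · exact ⟨hKK, hXK⟩
  · refine ⟨?_, hXK.mul_right (hdc X).symm⟩
    rw [mul_assoc K d, ← mul_assoc d K, (hdc K).eq, mul_assoc K d d, hd2, mul_one, hKK]

/-- Every involution lifts to an involution. -/
theorem lift_involution {e : Cfsg.PSU 6 F 2} (he : orderOf e = 2) : ∃ a : C, orderOf a = 2 ∧ ψ a = e := by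
  classical
  have he2 : e * e = 1 := by
    have := pow_orderOf_eq_one e
    rwa [he, pow_two] at this
  obtain ⟨A, hA, rfl⟩ := exists_lift hF he2
  obtain ⟨l, hl, rfl⟩ := exists_product hF A hA
  choose f hf using hψ
  set A := (l.map (tu hF)).prod with hAdef
  have hiso : ∀ u ∈ l, ∀ w ∈ l, h u w = 0 := by
    intro u hu w hw
    obtain ⟨-, a, rfl⟩ := hl u hu
    obtain ⟨-, b, rfl⟩ := hl w hw
    have hswap : ∀ a b, h (mat A *ᵥ a) b = h a (mat A *ᵥ b) := fun a b => by
      rw [← su_h A (mat A *ᵥ a) b, mulVec_mulVec, ← mat_mul, hA, mat_one, one_mulVec]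
    rw [h_add_left, h_add_right hF, h_add_right hF, su_h, hswap a b]
    linear_combination (h a b + h a (mat A *ᵥ b)) * two_zero hF
  have hq : ∀ u ∈ l, ∀ w ∈ l, ∀ (X T : C), ψ X = π (tu hF u) → ψ T = π (tu hF w) → T * T = 1 ∧ Commute X T :=
    fun u hu w hw X T hX hT =>
      lift_quaternion hF ψ (fun e => ⟨f e, hf e⟩) hker hd2 hdc (hiso u hu u hu) (hiso w hw w hw) (hiso u hu w hw)
        (hl w hw).1 hX hT
  set g : V → C := fun u => f (π (tu hF u)) with hg
  have key : ∀ m : List V, (∀ u ∈ m, u ∈ l) →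
      (m.map g).prod * (m.map g).prod = 1 ∧ ψ (m.map g).prod = π (m.map (tu hF)).prod ∧
        ∀ u ∈ l, Commute (g u) (m.map g).prod := by
    intro m
    induction m with
    | nil => intro _; exact ⟨by simp, by simp, fun u _ => by simp⟩
    | cons a m ih =>
      intro hm
      obtain ⟨h1, h2, h3⟩ := ih fun u hu => hm u (List.mem_cons_of_mem _ hu)
      have ha := hm a (List.mem_cons_self ..)
      have hca := h3 a ha
      simp only [List.map_cons, List.prod_cons]
      refine ⟨?_, ?_, fun u hu => ((hq u hu a ha _ _ (hf _) (hf _)).2).mul_right (h3 u hu)⟩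
      · calc g a * (m.map g).prod * (g a * (m.map g).prod) = g a * ((m.map g).prod * g a) * (m.map g).prod := by
              simp only [mul_assoc]
          _ = (g a * g a) * ((m.map g).prod * (m.map g).prod) := by rw [← hca.eq]; simp only [mul_assoc]
          _ = 1 := by rw [h1, (hq a ha a ha _ _ (hf _) (hf _)).1, one_mul]
      · rw [map_mul, h2, map_mul, hg, hf]
  obtain ⟨h1, h2, -⟩ := key l fun u hu => hu
  refine ⟨_, orderOf_eq_prime (by rw [pow_two]; exact h1) (fun e1 => ?_), h2⟩
  rw [e1, map_one] at h2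
  rw [← h2, orderOf_one] at he
  norm_num at he

/-- The central involution is not a square. -/
theorem not_square (hd1 : d ≠ 1) (hψd : ψ d = 1) (g : C) : g * g ≠ d := by
  intro hg
  have h1 : ψ g * ψ g = 1 := by rw [← map_mul, hg, hψd]
  by_cases h0 : ψ g = 1
  · rcases hker g h0 with rfl | rfl
    · exact hd1 (by rw [← hg, one_mul])
    · exact hd1 (hg.symm.trans hd2)
  obtain ⟨a, ha, hag⟩ := lift_involution hF ψ hψ hker hd2 hdc (orderOf_eq_prime (by rw [pow_two]; exact h1) h0)
  have haa : a * a = 1 := by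
    have := pow_orderOf_eq_one a
    rwa [ha, pow_two] at this
  rcases hker (a⁻¹ * g) (by rw [map_mul, map_inv, hag, inv_mul_cancel]) with e | e
  · rw [inv_mul_eq_one] at e
    exact hd1 (by rw [← hg, ← e, haa])
  · have : g = a * d := by rw [← e, mul_inv_cancel_left]
    exact hd1 (by rw [← hg, this, mul_assoc a d, ← mul_assoc d a, (hdc a).eq, mul_assoc a d d, hd2, mul_one, haa])

end CfsgThreeTrans.M22
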