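/-
Products of commuting transpositions and the involutions in type M(22).
-/
import Cfsg.Agent.Lib.ThreeTrans.M22.Quasi
import Cfsg.Agent.Lib.ThreeTrans.M22.Cover

set_option autoImplicit false
set_option linter.unusedSectionVars false

namespace CfsgThreeTrans.M22

open Matrix Cfsg CfsgLib CfsgLib.UnitaryTransvection CfsgLib.UnitarySimple CfsgThreeTrans.M22.Points

universe u

variable {G : Type u} [Group G] [Finite G] {D : Set G}
variable {F : Type} [Field F] [Fintype F] [DecidableEq F] {hF : Fintype.card F = 2 ^ 2}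

local notation "h" => Cfsg.hermForm 6 F 2
local notation "π" => QuotientGroup.mk' (Subgroup.center (Cfsg.SU 6 F 2))

theorem adjust (hF : Fintype.card F = 2 ^ 2) (g : Cfsg.GU 6 F 2) :
    ∃ (k : Cfsg.SU 6 F 2) (μ : F), μ ≠ 0 ∧ mat k *ᵥ dbl 1 0 0 = g.1.1 *ᵥ dbl 1 0 0 ∧
      mat k *ᵥ dbl 0 1 0 = g.1.1 *ᵥ dbl 0 1 0 ∧ mat k *ᵥ dbl 0 0 1 = μ • (g.1.1 *ᵥ dbl 0 0 1) := by
  have hgi : ∀ x y, h (g.1.1 *ᵥ x) (g.1.1 *ᵥ y) = h x y := g.2
  set μ := g.1.1.det with hμdef
  have hμ : μ ≠ 0 := by
    have : IsUnit g.1.1.det := (Matrix.isUnit_iff_isUnit_det _).mp g.1.isUnit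
    exact this.ne_zero
  set d : Fin 6 → F := ![1, 1, 1, 1, μ, μ]
  have hd3 : ∀ i, d i * d i ^ 2 = 1 := by
    intro i
    rw [← pow_succ']
    fin_cases i <;> simp [d, cube hF hμ]
  refine ⟨mkSU (g.1.1 * diagonal d) (fun x y => ?_) ?_, μ, hμ, ?_, ?_, ?_⟩
  · rw [← mulVec_mulVec, ← mulVec_mulVec, hgi]
    simp only [Cfsg.hermForm, mulVec_diagonal]
    refine Finset.sum_congr rfl fun i _ => ?_
    linear_combination (x i * y i ^ 2) * hd3 i
  · rw [det_mul, det_diagonal, Fin.prod_univ_six]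
    simp [d]
    linear_combination cube hF hμ
  all_goals show (g.1.1 * diagonal d) *ᵥ _ = _
  · rw [← mulVec_mulVec]
    congr 1
    funext i
    fin_cases i <;> simp [mulVec_diagonal, d, dbl]
  · rw [← mulVec_mulVec]
    congr 1
    funext i
    fin_cases i <;> simp [mulVec_diagonal, d, dbl]
  · rw [← mulVec_mulVec, ← mulVec_smul]
    congr 1
    funext i
    fin_cases i <;> simp [mulVec_diagonal, d, dbl]

theorem frame_two (hF : Fintype.card F = 2 ^ 2) {u w : Fin 6 → F} (hu : h u u = 0) (hw : h w w = 0)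
    (huw : h u w = 0) (hli : LinearIndependent F ![u, w]) :
    ∃ k : Cfsg.SU 6 F 2, mat k *ᵥ dbl 1 0 0 = u ∧ mat k *ᵥ dbl 0 1 0 = w := by
  have hwu : h w u = 0 := by rw [← h_swap hF u w, huw, map_zero]
  obtain ⟨g, hg⟩ := IsotropicCount.herm_trans (q := 2) hF
    (s := ⟨![dbl 1 0 0, dbl 0 1 0], by
      rw [LinearIndependent.pair_iff]
      intro a b e
      refine ⟨?_, ?_⟩
      · simpa [dbl] using congrFun e 0
      · simpa [dbl] using congrFun e 2, fun i j => by
      fin_cases i <;> fin_cases j <;> exact dbl_perp hF _ _ _ _ _ _⟩)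
    (t := ⟨![u, w], hli, fun i j => by fin_cases i <;> fin_cases j <;> first | exact hu | exact hw | exact huw | exact hwu⟩)
  obtain ⟨k, μ, -, e1, e2, -⟩ := adjust hF g
  exact ⟨k, e1.trans (hg 0), e2.trans (hg 1)⟩

theorem frame_three (hF : Fintype.card F = 2 ^ 2) {u w v : Fin 6 → F} (hu : h u u = 0) (hw : h w w = 0)
    (hv : h v v = 0) (huw : h u w = 0) (huv : h u v = 0) (hwv : h w v = 0)
    (hli : LinearIndependent F ![u, w, v]) :
    ∃ (k : Cfsg.SU 6 F 2) (μ : F), μ ≠ 0 ∧ mat k *ᵥ dbl 1 0 0 = u ∧ mat k *ᵥ dbl 0 1 0 = w ∧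
      mat k *ᵥ dbl 0 0 1 = μ • v := by
  have hwu : h w u = 0 := by rw [← h_swap hF u w, huw, map_zero]
  have hvu : h v u = 0 := by rw [← h_swap hF u v, huv, map_zero]
  have hvw : h v w = 0 := by rw [← h_swap hF w v, hwv, map_zero]
  obtain ⟨g, hg⟩ := IsotropicCount.herm_trans (q := 2) hF
    (s := ⟨![dbl 1 0 0, dbl 0 1 0, dbl 0 0 1], by
      rw [Fintype.linearIndependent_iff]
      intro c e i
      rw [Fin.sum_univ_three] at e
      have e0 := congrFun e 0
      have e2 := congrFun e 2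
      have e4 := congrFun e 4
      simp [dbl] at e0 e2 e4
      fin_cases i <;> assumption, fun i j => by
      fin_cases i <;> fin_cases j <;> exact dbl_perp hF _ _ _ _ _ _⟩)
    (t := ⟨![u, w, v], hli, fun i j => by
      fin_cases i <;> fin_cases j <;> first
        | exact hu | exact hw | exact hv | exact huw | exact hwu | exact huv | exact hvu | exact hwv | exact hvw⟩)
  obtain ⟨k, μ, hμ, e1, e2, e3⟩ := adjust hF g
  exact ⟨k, μ, hμ, e1.trans (hg 0), e2.trans (hg 1), by rw [e3]; exact congrArg (μ • ·) (hg 2)⟩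

/-- The first standard point. -/
noncomputable abbrev q1 (A : Data D F hF) : G := dp A 1 0 0 (Or.inl one_ne_zero)

/-- The second standard point. -/
noncomputable abbrev q2 (A : Data D F hF) : G := dp A 0 1 0 (Or.inr (Or.inl one_ne_zero))

/-- The third standard point. -/
noncomputable abbrev q3 (A : Data D F hF) : G := dp A 0 0 1 (Or.inr (Or.inr one_ne_zero))

theorem point_li (A : Data D F hF) (x y : Iso F) (hne : point A x ≠ point A y) :
    LinearIndependent F ![x.1, y.1] := by
  rw [LinearIndependent.pair_iff]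
  intro a b e
  by_cases ha : a = 0
  · refine ⟨ha, ?_⟩
    rw [ha, zero_smul, zero_add] at e
    exact (smul_eq_zero.mp e).resolve_right y.2.1
  · exfalso
    refine hne ((point_eq_iff A x y).mpr ⟨a⁻¹ * b, fun e0 => x.2.1 ?_, ?_⟩)
    · have e2 := congrArg (fun v => a⁻¹ • v) e
      simpa [smul_add, smul_smul, ha, e0] using e2
    · have e2 := eq_neg_of_add_eq_zero_left e
      rw [← neg_smul, show -b = b from neg_eq_of_add_eq_zero_left (add_self hF b)] at e2
      rw [mul_smul, ← e2, inv_smul_smul₀ ha]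

theorem move_pair (hD : IsThreeTranspositionClass D) (A : Data D F hF) {B C : G} (hB : B ∈ Ds D A.t)
    (hC : C ∈ Ds D A.t) (hne : B ≠ C) (hBC : Commute B C) :
    ∃ g ∈ Subgroup.closure (Ds D A.t), g * q1 A * g⁻¹ = B ∧ g * q2 A * g⁻¹ = C := by
  obtain ⟨x, rfl⟩ := point_surj A hB
  obtain ⟨y, rfl⟩ := point_surj A hC
  obtain ⟨k, e1, e2⟩ := frame_two hF x.2.2 y.2.2 ((point_commute_iff A x y).mp hBC) (point_li A x y hne)
  obtain ⟨⟨g, hg⟩, hgk⟩ := A.sur (π k)
  obtain ⟨p, hp, hp'⟩ := cj_point hD A hg hgk (dv hF 1 0 0 (Or.inl one_ne_zero))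
  obtain ⟨q, hq, hq'⟩ := cj_point hD A hg hgk (dv hF 0 1 0 (Or.inr (Or.inl one_ne_zero)))
  exact ⟨g, hg, hp'.trans (congrArg (point A) (Subtype.ext (hp.trans e1))),
    hq'.trans (congrArg (point A) (Subtype.ext (hq.trans e2)))⟩

theorem conj_base (hD : IsThreeTranspositionClass D) (A : Data D F hF) {a b : G} (ha : a ∈ D) (hb : b ∈ Ds D a) :
    ∃ g : G, g * A.t * g⁻¹ = a ∧ g * q1 A * g⁻¹ = b := by
  obtain ⟨g, hg, hin⟩ := to_base hD A ha
  obtain ⟨x, hx⟩ := point_surj A (hin hb)
  obtain ⟨k, hk, hk1⟩ := move_point hD A x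
  obtain ⟨l, hl, hl1⟩ := move_point hD A (dv hF 1 0 0 (Or.inl one_ne_zero))
  have fix : ∀ {z : G}, z ∈ Subgroup.closure (Ds D A.t) → z * A.t * z⁻¹ = A.t := fun hz => by
    rw [(closure_Ds_commute hz).eq, mul_inv_cancel_right]
  refine ⟨g * (k * l⁻¹), ?_, ?_⟩
  · rw [← cj_cj, fix (mul_mem hk (inv_mem hl)), hg]
  · have e : l⁻¹ * q1 A * l⁻¹⁻¹ = point A (std hF) := by
      show l⁻¹ * dp A 1 0 0 _ * l⁻¹⁻¹ = _
      rw [dp, ← hl1]
      group
    rw [← cj_cj g, ← cj_cj k, e, hk1, hx, cj_inv]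

theorem triple_conj (hD : IsThreeTranspositionClass D) (A : Data D F hF) {a b c : G} (ha : a ∈ D)
    (hb : b ∈ Ds D a) (hc : c ∈ Ds D a) (hne : b ≠ c) (hbc : Commute b c) :
    ∃ g : G, g * A.t * g⁻¹ = a ∧ g * q1 A * g⁻¹ = b ∧ g * q2 A * g⁻¹ = c := by
  obtain ⟨g, hg, hin⟩ := to_base hD A ha
  obtain ⟨k, hk, e1, e2⟩ := move_pair hD A (hin hb) (hin hc) (fun e => hne (cj_injective g⁻¹ e))
    ((commute_cj_iff g⁻¹).mpr hbc)
  refine ⟨g * k, ?_, ?_, ?_⟩
  · rw [← cj_cj, (closure_Ds_commute hk).eq, mul_inv_cancel_right, hg]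
  · rw [← cj_cj, e1, cj_inv]
  · rw [← cj_cj, e2, cj_inv]

theorem move_triangle (hD : IsThreeTranspositionClass D) (A : Data D F hF) (x y z : Iso F)
    (hxy : h x.1 y.1 = 0) (hxz : h x.1 z.1 = 0) (hyz : h y.1 z.1 = 0) (hli : LinearIndependent F ![x.1, y.1, z.1]) :
    ∃ g ∈ Subgroup.closure (Ds D A.t), g * q1 A * g⁻¹ = point A x ∧ g * q2 A * g⁻¹ = point A y ∧
      g * q3 A * g⁻¹ = point A z := by
  obtain ⟨k, μ, hμ, e1, e2, e3⟩ := frame_three hF x.2.2 y.2.2 z.2.2 hxy hxz hyz hli
  obtain ⟨⟨g, hg⟩, hgk⟩ := A.sur (π k)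
  obtain ⟨p, hp, hp'⟩ := cj_point hD A hg hgk (dv hF 1 0 0 (Or.inl one_ne_zero))
  obtain ⟨q, hq, hq'⟩ := cj_point hD A hg hgk (dv hF 0 1 0 (Or.inr (Or.inl one_ne_zero)))
  obtain ⟨r, hr, hr'⟩ := cj_point hD A hg hgk (dv hF 0 0 1 (Or.inr (Or.inr one_ne_zero)))
  exact ⟨g, hg, hp'.trans (congrArg (point A) (Subtype.ext (hp.trans e1))),
    hq'.trans (congrArg (point A) (Subtype.ext (hq.trans e2))),
    hr'.trans ((point_eq_iff A r z).mpr ⟨μ, hμ, hr.trans e3⟩)⟩

theorem invol_three (hD : IsThreeTranspositionClass D) {x y w : G} (hx : x ∈ D) (hy : y ∈ D) (hw : w ∈ D)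
    (cxy : Commute x y) (cxw : Commute x w) (cyw : Commute y w) : (x * y * w) * (x * y * w) = 1 := by
  rw [← pow_two, (cxw.mul_left cyw).mul_pow, cxy.mul_pow, pow_two, pow_two, pow_two, mul_self hD.1 hx,
    mul_self hD.1 hy, mul_self hD.1 hw, one_mul, one_mul]

/-- A commuting product of two or three members. -/
abbrev Short (D : Set G) (x : G) : Prop :=
  ∃ l : List G, l.length ≤ 3 ∧ l.Nodup ∧ (∀ a ∈ l, a ∈ D) ∧ (∀ a ∈ l, ∀ b ∈ l, Commute a b) ∧ l.prod = x

theorem quad_short (hG : IsThreeTranspositionGroup D) (hp : IsPrimitiveUnderConj D) {d₀ : G} (hd₀ : d₀ ∈ D)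
    (h3 : pCore 3 ↥(Subgroup.closure (Ds D d₀)) ≤ Subgroup.center ↥(Subgroup.closure (Ds D d₀)))
    (h2 : pCore 2 ↥(Subgroup.closure (Ds D d₀)) ≤ Subgroup.center ↥(Subgroup.closure (Ds D d₀)))
    (h22 : IsOfTypeM22 G D) (A : Data D F hF) {B C E : G} (hB : B ∈ Ds D A.t) (hC : C ∈ Ds D A.t)
    (hE : E ∈ Ds D A.t) (hBC : B ≠ C) (hBE : B ≠ E) (hCE : C ≠ E) (cBC : Commute B C) (cBE : Commute B E)
    (cCE : Commute C E) : Short D (A.t * B * C * E) := by
  have hD := cls_of_group_prim hG hp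
  obtain ⟨P, Q, R, hP, hQ, hR, hnd, hcom, heq, huniq⟩ :=
    at_t hD hp (local_of_M22 h22) h22.1 A hB hC hBC cBC
  have hcom' : ∀ x y, x ∈ [B, C, P, Q, R] → y ∈ [B, C, P, Q, R] → Commute x y := fun x y hx hy => hcom x hx y hy
  have hnd0 := hnd
  simp only [List.nodup_cons, List.mem_cons, List.not_mem_nil, or_false, not_or, List.nodup_nil, and_true] at hnd
  obtain ⟨-, -, ⟨nPQ, nPR⟩, nQR, -⟩ := hnd
  by_cases hin : E ∈ [P, Q, R]
  · -- the fourth member lies on the line
    rw [heq]
    simp only [List.mem_cons, List.not_mem_nil, or_false] at hin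
    have mk : ∀ u w : G, u ∈ Ds D A.t → w ∈ Ds D A.t → u ≠ w → Commute u w → P * Q * R * E = u * w →
        Short D (P * Q * R * E) := by
      intro u w hu hw hne hc he
      refine ⟨[u, w], by simp, by simp [hne], ?_, ?_, by simpa using he.symm⟩
      · intro q hq
        simp only [List.mem_cons, List.not_mem_nil, or_false] at hq
        rcases hq with rfl | rfl
        exacts [hu.1, hw.1]
      · intro q hq q' hq'
        simp only [List.mem_cons, List.not_mem_nil, or_false] at hq hq'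
        rcases hq with rfl | rfl <;> rcases hq' with rfl | rfl <;>
          first | exact Commute.refl _ | exact hc | exact hc.symm
    have cPQ := hcom' P Q (by simp) (by simp)
    have cPR := hcom' P R (by simp) (by simp)
    have cQR := hcom' Q R (by simp) (by simp)
    have sq : ∀ {z : G}, z ∈ Ds D A.t → z * z = 1 := fun hz => mul_self hD.1 hz.1
    rcases hin with rfl | rfl | rfl
    · refine mk Q R hQ hR nQR cQR ?_
      calc E * Q * R * E = E * (Q * R * E) := by simp only [mul_assoc]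
        _ = E * (E * (Q * R)) := by rw [(cPQ.mul_right cPR).eq]
        _ = Q * R := by rw [← mul_assoc, sq hP, one_mul]
    · refine mk P R hP hR nPR cPR ?_
      calc P * E * R * E = P * E * (R * E) := by simp only [mul_assoc]
        _ = P * E * (E * R) := by rw [cQR.eq]
        _ = P * R := by rw [mul_assoc, ← mul_assoc E E R, sq hQ, one_mul]
    · exact mk P Q hP hQ nPQ cPQ (by rw [mul_assoc (P * Q) E E, sq hR, mul_one])
  -- a triangle
  obtain ⟨x, rfl⟩ := point_surj A hB
  obtain ⟨y, rfl⟩ := point_surj A hC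
  obtain ⟨z, rfl⟩ := point_surj A hE
  have hxy := (point_commute_iff A x y).mp cBC
  have hxz := (point_commute_iff A x z).mp cBE
  have hyz := (point_commute_iff A y z).mp cCE
  have hli : LinearIndependent F ![x.1, y.1, z.1] := by
    obtain ⟨p, rfl⟩ := point_surj A hP
    obtain ⟨q, rfl⟩ := point_surj A hQ
    obtain ⟨r, rfl⟩ := point_surj A hR
    set K := Subgroup.closure (Ds D A.t)
    have nπ : ∀ u v : Iso F, point A u ≠ point A v → π (tu hF u.1) ≠ π (tu hF v.1) := fun u v hne e => hne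
      (A.inj _ (point_mem A u) _ (point_mem A v) (point_mem' A u) (point_mem' A v)
        (by rw [point_φ, point_φ]; exact e))
    have cc : ∀ u v : Iso F, point A u ∈ [point A x, point A y, point A p, point A q, point A r] →
        point A v ∈ [point A x, point A y, point A p, point A q, point A r] → h u.1 v.1 = 0 :=
      fun u v hu hv => (point_commute_iff A u v).mp (hcom' _ _ hu hv)
    let w : Iso F → K := fun v => ⟨point A v, point_mem' A v⟩
    have hz1 : π (tu hF x.1 * tu hF y.1 * tu hF p.1 * tu hF q.1 * tu hF r.1) = 1 := by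
      have hcm : Commute A.t (point A x * point A y) := hB.2.2.mul_right hC.2.2
      have hval : ((w x * w y * w p * w q * w r : K) : G) = A.t := by
        show point A x * point A y * point A p * point A q * point A r = A.t
        rw [mul_assoc (point A x * point A y) (point A p), mul_assoc (point A x * point A y), ← heq,
          mul_assoc A.t, hcm.eq, ← mul_assoc, ← pow_two, cBC.mul_pow, pow_two, pow_two, mul_self hD.1 hB.1,
          mul_self hD.1 hC.1, one_mul, one_mul]
      have hc : (w x * w y * w p * w q * w r : K) ∈ A.φ.ker := by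
        rw [A.ker_φ, Subgroup.mem_center_iff]
        intro v
        refine Subtype.ext ?_
        show (v : G) * ((w x * w y * w p * w q * w r : K) : G) = ((w x * w y * w p * w q * w r : K) : G) * v
        rw [hval]
        exact (closure_Ds_commute v.2).eq
      rw [MonoidHom.mem_ker, map_mul, map_mul, map_mul, map_mul] at hc
      rw [map_mul, map_mul, map_mul, map_mul, ← point_φ A x, ← point_φ A y, ← point_φ A p, ← point_φ A q,
        ← point_φ A r]
      exact hc
    have hnd5 := hnd0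
    simp only [List.nodup_cons, List.mem_cons, List.not_mem_nil, or_false, not_or, List.nodup_nil, and_true] at hnd5
    obtain ⟨⟨nxy, nxp, nxq, nxr⟩, ⟨nyp, nyq, nyr⟩, -, -⟩ := hnd5
    have hline := line_only hF x.2.2 y.2.2 p.2.2 q.2.2 r.2.2 hxy (cc x p (by simp) (by simp))
      (cc x q (by simp) (by simp)) (cc x r (by simp) (by simp)) (cc y p (by simp) (by simp))
      (cc y q (by simp) (by simp)) (cc y r (by simp) (by simp)) (cc p q (by simp) (by simp))
      (cc p r (by simp) (by simp)) (cc q r (by simp) (by simp)) x.2.1 (nπ x y hBC) y.2.1 p.2.1 q.2.1 r.2.1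
      (nπ p q nPQ) (nπ p r nPR) (nπ q r nQR) hz1
    have hnd' : [π (tu hF x.1), π (tu hF y.1), π (tu hF p.1), π (tu hF q.1), π (tu hF r.1)].Nodup := by
      simp only [List.nodup_cons, List.mem_cons, List.not_mem_nil, or_false, not_or, List.nodup_nil, and_true,
        not_false_iff]
      exact ⟨⟨nπ _ _ nxy, nπ _ _ nxp, nπ _ _ nxq, nπ _ _ nxr⟩, ⟨nπ _ _ nyp, nπ _ _ nyq, nπ _ _ nyr⟩,
        ⟨nπ _ _ nPQ, nπ _ _ nPR⟩, nπ _ _ nQR⟩
    rw [Fintype.linearIndependent_iff]
    intro c hc
    rw [Fin.sum_univ_three] at hc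
    simp only [Matrix.cons_val] at hc
    have h2' : c 2 = 0 := by
      by_contra hne
      have hspan : ∃ a b : F, z.1 = a • x.1 + b • y.1 := by
        refine ⟨(c 2)⁻¹ * c 0, (c 2)⁻¹ * c 1, ?_⟩
        have e := eq_neg_of_add_eq_zero_right hc
        rw [← neg_one_smul F (c 0 • x.1 + c 1 • y.1),
          show (-1 : F) = 1 from neg_eq_of_add_eq_zero_left (add_self hF 1), one_smul] at e
        rw [mul_smul, mul_smul, ← smul_add, ← e, inv_smul_smul₀ hne]
      have := line_unique hF x.2.2 y.2.2 hxy hnd' p.2.1 q.2.1 r.2.1 hline z.2.1 hspan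
        (nπ z x hBE.symm) (nπ z y hCE.symm)
      simp only [List.mem_cons, List.not_mem_nil, or_false] at this hin
      rcases this with e | e | e
      · exact hin (Or.inl (A.inj _ (point_mem A z) _ (point_mem A p) (point_mem' A z) (point_mem' A p)
          (by rw [point_φ, point_φ]; exact e)))
      · exact hin (Or.inr (Or.inl (A.inj _ (point_mem A z) _ (point_mem A q) (point_mem' A z) (point_mem' A q)
          (by rw [point_φ, point_φ]; exact e))))
      · exact hin (Or.inr (Or.inr (A.inj _ (point_mem A z) _ (point_mem A r) (point_mem' A z) (point_mem' A r)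
          (by rw [point_φ, point_φ]; exact e))))
    have hpair := LinearIndependent.pair_iff.mp (point_li A x y hBC) (c 0) (c 1)
      (by rwa [h2', zero_smul, add_zero] at hc)
    intro i
    fin_cases i <;> [exact hpair.1; exact hpair.2; exact h2']
  obtain ⟨d, e, f, hd, he, hf, nde, ndf, nef, cde, cdf, cef, hprod⟩ := six_std hG hp hd₀ h3 h2 h22 A
  obtain ⟨g, hg, g1, g2, g3⟩ := move_triangle hD A x y z hxy hxz hyz hli
  have hgt : g * A.t * g⁻¹ = A.t := by rw [(closure_Ds_commute hg).eq, mul_inv_cancel_right]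
  have hbase : A.t * q1 A * q2 A * q3 A = d * e * f := by
    have hcq := dp_commute A
    set a := q1 A
    set b := q2 A
    set c := q3 A
    have ca : Commute A.t a := (point_mem A _).2.2
    have cb : Commute A.t b := (point_mem A _).2.2
    have cc' : Commute A.t c := (point_mem A _).2.2
    have e1 : a * b * c * d * e * f = A.t := hprod
    have inv1 := invol_three hD (point_mem A _).1 (point_mem A _).1 (point_mem A _).1
      (hcq 1 0 0 0 1 0 (Or.inl one_ne_zero) (Or.inr (Or.inl one_ne_zero)))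
      (hcq 1 0 0 0 0 1 (Or.inl one_ne_zero) (Or.inr (Or.inr one_ne_zero)))
      (hcq 0 1 0 0 0 1 (Or.inr (Or.inl one_ne_zero)) (Or.inr (Or.inr one_ne_zero)))
    calc A.t * a * b * c = A.t * (a * b * c) := by simp only [mul_assoc]
      _ = a * b * c * A.t := ((ca.mul_right cb).mul_right cc').eq
      _ = a * b * c * (a * b * c) * (d * e * f) := by rw [← e1]; simp only [mul_assoc]
      _ = d * e * f := by rw [show a * b * c * (a * b * c) = 1 from inv1, one_mul]
  have := congrArg (fun w => g * w * g⁻¹) hbase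
  have e2 : A.t * point A x * point A y * point A z = (g * d * g⁻¹) * (g * e * g⁻¹) * (g * f * g⁻¹) := by
    calc A.t * point A x * point A y * point A z
        = (g * A.t * g⁻¹) * (g * q1 A * g⁻¹) * (g * q2 A * g⁻¹) * (g * q3 A * g⁻¹) := by rw [hgt, g1, g2, g3]
      _ = g * (A.t * q1 A * q2 A * q3 A) * g⁻¹ := by group
      _ = g * (d * e * f) * g⁻¹ := by rw [hbase]
      _ = _ := by group
  rw [e2]
  refine ⟨[g * d * g⁻¹, g * e * g⁻¹, g * f * g⁻¹], by simp, ?_, ?_, ?_, by simp [mul_assoc]⟩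
  · simp only [List.nodup_cons, List.mem_cons, List.not_mem_nil, or_false, not_or, List.nodup_nil, and_true,
      not_false_iff]
    exact ⟨⟨fun k => nde (cj_injective g k), fun k => ndf (cj_injective g k)⟩, fun k => nef (cj_injective g k)⟩
  · intro q hq
    simp only [List.mem_cons, List.not_mem_nil, or_false] at hq
    rcases hq with rfl | rfl | rfl
    exacts [cls_conj hD g hd.1, cls_conj hD g he.1, cls_conj hD g hf.1]
  · intro q hq q' hq'
    simp only [List.mem_cons, List.not_mem_nil, or_false] at hq hq'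
    rcases hq with rfl | rfl | rfl <;> rcases hq' with rfl | rfl | rfl <;>
      first
        | exact Commute.refl _ | exact (commute_cj_iff g).mpr cde | exact (commute_cj_iff g).mpr cdf
        | exact (commute_cj_iff g).mpr cef | exact ((commute_cj_iff g).mpr cde).symm
        | exact ((commute_cj_iff g).mpr cdf).symm | exact ((commute_cj_iff g).mpr cef).symm

end CfsgThreeTrans.M22
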