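/-
The three classes of involutions in type M(22) and the centraliser orders.
-/
import Cfsg.Agent.Lib.ThreeTrans.M22.Involutions
import Cfsg.Agent.Lib.ThreeTrans.M22.Fact

set_option autoImplicit false
set_option linter.unusedSectionVars false

namespace CfsgThreeTrans.M22

open Matrix Cfsg CfsgLib CfsgLib.UnitaryTransvection CfsgLib.UnitarySimple CfsgThreeTrans.M22.Points

universe u

variable {G : Type u} [Group G] [Finite G] {D : Set G}
variable {F : Type} [Field F] [Fintype F] [DecidableEq F] {hF : Fintype.card F = 2 ^ 2}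

local notation "π" => QuotientGroup.mk' (Subgroup.center (Cfsg.SU 6 F 2))

theorem commute_members (hD : IsThreeTranspositionSet D) {l : List G} (hlen : l.length ≤ 3) (hnd : l.Nodup)
    (hm : ∀ a ∈ l, a ∈ D) (hc : ∀ a ∈ l, ∀ b ∈ l, Commute a b) {e : G} (he : e ∈ D) (hcom : Commute e l.prod) :
    ∀ a ∈ l, Commute e a := by
  match l with
  | [] => simp
  | [a] => simpa using hcom
  | [a, b] =>
    have hab : a ≠ b := by simpa using hnd
    have := (commute_mul_iff hD (hm a (by simp)) (hm b (by simp)) he hab (hc a (by simp) b (by simp))).mp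
      (by simpa using hcom)
    simpa using this
  | [a, b, c] =>
    simp only [List.nodup_cons, List.mem_cons, List.not_mem_nil, or_false, not_or, List.nodup_nil, and_true] at hnd
    have := (commute_mul3_iff hD (hm a (by simp)) (hm b (by simp)) (hm c (by simp)) he hnd.1.1 hnd.1.2 hnd.2.1
      (hc a (by simp) b (by simp)) (hc a (by simp) c (by simp)) (hc b (by simp) c (by simp))).mp
      (by simpa [mul_assoc] using hcom)
    simpa using this
  | _ :: _ :: _ :: _ :: _ => simp only [List.length_cons] at hlen; omega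

theorem short_cj (hD : IsThreeTranspositionClass D) (g : G) {x : G} (hx : Short D x) :
    Short D (g * x * g⁻¹) := by
  obtain ⟨l, h1, h2, h3, h4, rfl⟩ := hx
  refine ⟨l.map (fun z => g * z * g⁻¹), by simpa using h1, h2.map (cj_injective g), ?_, ?_, ?_⟩
  · intro a ha
    obtain ⟨b, hb, rfl⟩ := List.mem_map.mp ha
    exact cls_conj hD g (h3 b hb)
  · intro a ha a' ha'
    obtain ⟨b, hb, rfl⟩ := List.mem_map.mp ha
    obtain ⟨b', hb', rfl⟩ := List.mem_map.mp ha'
    exact (commute_cj_iff g).mpr (h4 b hb b' hb')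
  · exact (map_list_prod (MulAut.conj g).toMonoidHom l).symm

section
variable (hG : IsThreeTranspositionGroup D) (hp : IsPrimitiveUnderConj D) {d₀ : G} (hd₀ : d₀ ∈ D)
    (h3 : pCore 3 ↥(Subgroup.closure (Ds D d₀)) ≤ Subgroup.center ↥(Subgroup.closure (Ds D d₀)))
    (h2 : pCore 2 ↥(Subgroup.closure (Ds D d₀)) ≤ Subgroup.center ↥(Subgroup.closure (Ds D d₀)))
    (h22 : IsOfTypeM22 G D) (A : Data D F hF)
include hG hp hd₀ h3 h2 h22 A

/-- A product of pairwise commuting members is short. -/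
theorem reduce (l : List G) (hm : ∀ a ∈ l, a ∈ D) (hc : ∀ a ∈ l, ∀ b ∈ l, Commute a b) : Short D l.prod := by
  classical
  have hD := cls_of_group_prim hG hp
  suffices H : ∀ n, ∀ l : List G, l.length ≤ n → (∀ a ∈ l, a ∈ D) → (∀ a ∈ l, ∀ b ∈ l, Commute a b) →
      Short D l.prod from H _ l le_rfl hm hc
  intro n
  induction n with
  | zero => exact fun l hl hm hc => ⟨l, by omega, by simp [List.eq_nil_of_length_eq_zero (Nat.le_zero.mp hl)],
      hm, hc, rfl⟩
  | succ n ih =>
    intro l hl hm hc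
    by_cases hnd : l.Nodup
    swap
    · obtain ⟨a, ha⟩ : ∃ a, 2 ≤ l.count a := by
        by_contra hcon
        push Not at hcon
        exact hnd (List.nodup_iff_count_le_one.mpr fun a => Nat.lt_succ_iff.mp (hcon a))
      have haL : a ∈ l := List.count_pos_iff.mp (by omega)
      have haE : a ∈ l.erase a := List.count_pos_iff.mp (by rw [List.count_erase_self]; omega)
      have p1 : List.Perm l (a :: a :: (l.erase a).erase a) :=
        (List.perm_cons_erase haL).trans ((List.perm_cons_erase haE).cons a)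
      have sub : ∀ x ∈ (l.erase a).erase a, x ∈ l := fun x hx => List.mem_of_mem_erase (List.mem_of_mem_erase hx)
      rw [List.Perm.prod_eq' p1 (List.pairwise_of_forall_mem_list hc), List.prod_cons, List.prod_cons,
        ← mul_assoc, mul_self hD.1 (hm a haL), one_mul]
      exact ih _ (by have := p1.length_eq; simp only [List.length_cons] at this; omega)
        (fun x hx => hm x (sub x hx)) fun x hx y hy => hc x (sub x hx) y (sub y hy)
    by_cases hlen : l.length ≤ 3
    · exact ⟨l, hlen, hnd, hm, hc, rfl⟩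
    match l with
    | [] | [_] | [_, _] | [_, _, _] => simp at hlen
    | a :: b :: c :: e :: r =>
      obtain ⟨g, hg, hin⟩ := to_base hD A (hm a (by simp))
      simp only [List.nodup_cons, List.mem_cons, not_or] at hnd
      obtain ⟨⟨nab, nac, nae, -⟩, ⟨nbc, nbe, -⟩, ⟨nce, -⟩, -⟩ := hnd
      have inB : ∀ x ∈ a :: b :: c :: e :: r, a ≠ x → g⁻¹ * x * g⁻¹⁻¹ ∈ Ds D A.t := fun x hx hne =>
        hin ⟨hm x hx, hne.symm, hc a (by simp) x hx⟩
      have q := short_cj hD g (quad_short hG hp hd₀ h3 h2 h22 A (inB b (by simp) nab) (inB c (by simp) nac)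
        (inB e (by simp) nae) (fun k => nbc (cj_injective g⁻¹ k)) (fun k => nbe (cj_injective g⁻¹ k))
        (fun k => nce (cj_injective g⁻¹ k)) ((commute_cj_iff g⁻¹).mpr (hc b (by simp) c (by simp)))
        ((commute_cj_iff g⁻¹).mpr (hc b (by simp) e (by simp)))
        ((commute_cj_iff g⁻¹).mpr (hc c (by simp) e (by simp))))
      rw [show g * (A.t * (g⁻¹ * b * g⁻¹⁻¹) * (g⁻¹ * c * g⁻¹⁻¹) * (g⁻¹ * e * g⁻¹⁻¹)) * g⁻¹ =
        (g * A.t * g⁻¹) * b * c * e by group, hg] at q
      obtain ⟨l', q1', q2', q3', q4', q5'⟩ := q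
      have hprod : (a :: b :: c :: e :: r).prod = (l' ++ r).prod := by
        rw [List.prod_append, q5']; simp [mul_assoc]
      have hr : ∀ x ∈ r, x ∈ a :: b :: c :: e :: r := fun x hx => by simp [hx]
      have cross : ∀ x ∈ r, ∀ y ∈ l', Commute x y := fun x hx => by
        refine commute_members hD.1 q1' q2' q3' q4' (hm x (hr x hx)) ?_
        rw [q5']
        exact (((hc x (hr x hx) a (by simp)).mul_right (hc x (hr x hx) b (by simp))).mul_right
          (hc x (hr x hx) c (by simp))).mul_right (hc x (hr x hx) e (by simp))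
      rw [hprod]
      refine ih _ (by simp at hl ⊢; omega) (fun x hx => ?_) fun x hx y hy => ?_
      · rcases List.mem_append.mp hx with k | k
        exacts [q3' x k, hm x (hr x k)]
      · rcases List.mem_append.mp hx with k | k <;> rcases List.mem_append.mp hy with k' | k'
        exacts [q4' x k y k', (cross y k' x k).symm, cross x k y k', hc x (hr x k) y (hr y k')]

/-- An involution fixes some transposition. -/
theorem invol_fixes {x : G} (hx : x * x = 1) : ∃ d ∈ D, x * d * x⁻¹ = d := by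
  classical
  have hD := cls_of_group_prim hG hp
  haveI : Fintype D := Fintype.ofFinite D
  by_contra hcon
  push Not at hcon
  let f : G →* Equiv.Perm D :=
    { toFun := fun g =>
        { toFun := fun d => ⟨g * d.1 * g⁻¹, cls_conj hD g d.2⟩
          invFun := fun d => ⟨g⁻¹ * d.1 * g⁻¹⁻¹, cls_conj hD _ d.2⟩
          left_inv := fun d => Subtype.ext (by show g⁻¹ * (g * d.1 * g⁻¹) * g⁻¹⁻¹ = d.1; group)
          right_inv := fun d => Subtype.ext (by show g * (g⁻¹ * d.1 * g⁻¹⁻¹) * g⁻¹ = d.1; group) }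
      map_one' := Equiv.ext fun d => Subtype.ext (by simp)
      map_mul' := fun a b => Equiv.ext fun d => Subtype.ext (by
        show a * b * d.1 * (a * b)⁻¹ = a * (b * d.1 * b⁻¹) * a⁻¹
        group) }
  have h1 : Equiv.Perm.sign (f x) = 1 := by
    have := Abelianization.commutator_subset_ker (Equiv.Perm.sign.comp f)
      (show x ∈ commutator G by rw [perfect_top hG hp hd₀ h3 h2 h22 A]; exact Subgroup.mem_top x)
    exact this
  have hsq : f x ^ 2 = 1 := by rw [pow_two, ← map_mul, hx, map_one]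
  have hfix : Fintype.card (Function.fixedPoints (f x)) = 0 := by
    rw [Fintype.card_eq_zero_iff]
    exact ⟨fun d => hcon d.1.1 d.1.2 (congrArg Subtype.val (d.2 : f x d.1 = d.1))⟩
  rw [Equiv.Perm.sign_of_pow_two_eq_one hsq, hfix, ← Nat.card_eq_fintype_card, Nat.card_coe_set_eq,
    (params hD hp A).1] at h1
  norm_num at h1

/-- An involution centralising the base transposition. -/
theorem short_base {y : G} (hy : y * y = 1) (hyt : Commute y A.t) : Short D y := by
  have hD := cls_of_group_prim hG hp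
  have hloc := local_of_M22 h22
  have hyK : y ∈ Subgroup.closure (Ds D A.t) :=
    centralizer_eq hD hp hloc h22.1 A A.ht ▸ Subgroup.mem_centralizer_singleton_iff.mpr hyt
  have ker : ∀ z : Subgroup.closure (Ds D A.t), A.φ z = 1 → (z : G) = 1 ∨ (z : G) = A.t := by
    intro z hz
    have hz' : z ∈ Subgroup.center _ := A.ker_φ ▸ MonoidHom.mem_ker.mpr hz
    exact kernel_eq hD hp h22.1 A A.ht (closure_Ds_commute z.2) fun w hw =>
      (congrArg Subtype.val (Subgroup.mem_center_iff.mp hz' ⟨w, Subgroup.subset_closure hw⟩)).symm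
  set Y : Subgroup.closure (Ds D A.t) := ⟨y, hyK⟩ with hY
  obtain ⟨M, hM, hMe⟩ := exists_lift hF (e := A.φ Y)
    (by rw [← map_mul, show Y * Y = 1 from Subtype.ext hy, map_one])
  obtain ⟨l, hl, hlM⟩ := exists_product hF M hM
  have iso : ∀ u ∈ l, ∀ w ∈ l, Cfsg.hermForm 6 F 2 u w = 0 := by
    intro u hu w hw
    obtain ⟨-, a, rfl⟩ := hl u hu
    obtain ⟨-, b, rfl⟩ := hl w hw
    have hswap : ∀ a b, Cfsg.hermForm 6 F 2 (mat M *ᵥ a) b = Cfsg.hermForm 6 F 2 a (mat M *ᵥ b) := fun a b => by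
      rw [← su_h M (mat M *ᵥ a) b, mulVec_mulVec, ← mat_mul, hM, mat_one, one_mulVec]
    rw [h_add_left, h_add_right hF, h_add_right hF, su_h, hswap a b]
    linear_combination (Cfsg.hermForm 6 F 2 a b + Cfsg.hermForm 6 F 2 a (mat M *ᵥ b)) * two_zero hF
  have lifts : ∀ m : List (Fin 6 → F), (∀ u ∈ m, u ∈ l) → ∃ L : List (Subgroup.closure (Ds D A.t)),
      A.φ L.prod = π (m.map (tu hF)).prod ∧ (∀ P ∈ L, (P : G) ∈ Ds D A.t) ∧
        ∀ P ∈ L, ∃ (v : Iso F), v.1 ∈ m ∧ (P : G) = point A v := by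
    intro m
    induction m with
    | nil => exact fun _ => ⟨[], by simp, by simp, by simp⟩
    | cons u m ih =>
      intro hm
      obtain ⟨L, e1, e2, e3⟩ := ih fun w hw => hm w (List.mem_cons_of_mem _ hw)
      have hu := hm u (List.mem_cons_self ..)
      let v : Iso F := ⟨u, (hl u hu).1, iso u hu u hu⟩
      refine ⟨⟨point A v, point_mem' A v⟩ :: L, ?_, ?_, ?_⟩
      · rw [List.prod_cons, map_mul, e1, point_φ, List.map_cons, List.prod_cons, map_mul]
      · intro P hP
        rcases List.mem_cons.mp hP with rfl | hP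
        exacts [point_mem A v, e2 P hP]
      · intro P hP
        rcases List.mem_cons.mp hP with rfl | hP
        · exact ⟨v, List.mem_cons_self .., rfl⟩
        · obtain ⟨w, hw, hw'⟩ := e3 P hP
          exact ⟨w, List.mem_cons_of_mem _ hw, hw'⟩
  obtain ⟨L, e1, e2, e3⟩ := lifts l fun u hu => hu
  set L' : List G := L.map Subtype.val with hL'
  have hprod : L'.prod = ((L.prod : Subgroup.closure (Ds D A.t)) : G) :=
    (map_list_prod (Subgroup.closure (Ds D A.t)).subtype L).symm
  have cL : ∀ a ∈ L', ∀ b ∈ L', Commute a b := by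
    intro a ha b hb
    obtain ⟨P, hP, rfl⟩ := List.mem_map.mp ha
    obtain ⟨Q, hQ, rfl⟩ := List.mem_map.mp hb
    obtain ⟨v, hv, ev⟩ := e3 P hP
    obtain ⟨w, hw, ew⟩ := e3 Q hQ
    rw [ev, ew]
    exact (point_commute_iff A v w).mpr (iso _ hv _ hw)
  have mL : ∀ a ∈ L', a ∈ Ds D A.t := by
    intro a ha
    obtain ⟨P, hP, rfl⟩ := List.mem_map.mp ha
    exact e2 P hP
  rw [← hlM, hMe] at e1
  rcases ker (Y * (L.prod)⁻¹) (by rw [map_mul, map_inv, e1, mul_inv_cancel]) with k | k
  all_goals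
    rw [Subgroup.coe_mul, Subgroup.coe_inv, ← hprod, mul_inv_eq_iff_eq_mul] at k
    replace k : y = _ := k
  · rw [k, one_mul]
    exact reduce hG hp hd₀ h3 h2 h22 A L' (fun a ha => (mL a ha).1) cL
  · rw [k, ← List.prod_cons]
    refine reduce hG hp hd₀ h3 h2 h22 A _ (fun a ha => ?_) fun a ha b hb => ?_
    · rcases List.mem_cons.mp ha with rfl | ha
      exacts [A.ht, (mL a ha).1]
    · rcases List.mem_cons.mp ha with rfl | ha <;> rcases List.mem_cons.mp hb with rfl | hb
      exacts [Commute.refl _, (mL b hb).2.2, (mL a ha).2.2.symm, cL a ha b hb]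

/-- Every involution is a product of at most three commuting transpositions. -/
theorem short_invol {x : G} (hx : x * x = 1) : Short D x := by
  have hD := cls_of_group_prim hG hp
  obtain ⟨d, hd, hdx⟩ := invol_fixes hG hp hd₀ h3 h2 h22 A hx
  obtain ⟨g, hg⟩ := cls_exists_conj hD hd A.ht
  have hxd : Commute x d := mul_inv_eq_iff_eq_mul.mp hdx
  have := short_cj hD g⁻¹ (short_base hG hp hd₀ h3 h2 h22 A (y := g * x * g⁻¹)
    (by rw [show g * x * g⁻¹ * (g * x * g⁻¹) = g * (x * x) * g⁻¹ by group, hx]; group)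
    (hg ▸ (commute_cj_iff g).mpr hxd))
  rwa [show g⁻¹ * (g * x * g⁻¹) * g⁻¹⁻¹ = x by group] at this

/-- A transposition is no product of two or three others. -/
theorem not_short_mem {a b x : G} (ha : a ∈ D) (hb : b ∈ Ds D a)
    (hall : ∀ e ∈ D, Commute e a → Commute e b) (hx : x = a) : False := by
  have hD := cls_of_group_prim hG hp
  have hsub : Ds D a \ {b} ⊆ Ds D a ∩ Ds D b := fun e he =>
    ⟨he.1, he.1.1, fun k => he.2 k, (hall e he.1.1 he.1.2.2.symm).symm⟩
  have := Set.ncard_le_ncard hsub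
  rw [ncard_near hD A ha hb, Set.ncard_sdiff_singleton_of_mem hb, ncard_Ds hD A ha] at this
  omega

theorem ne_two {a b c : G} (ha : a ∈ D) (hb : b ∈ D) (hc : c ∈ D) (hbc : b ≠ c) (cbc : Commute b c) : a ≠ b * c := by
  have hD := cls_of_group_prim hG hp
  intro e
  have hab : b ≠ a := fun k => by
    subst k
    have : c = 1 := mul_left_cancel (a := b) (by rw [mul_one]; exact e.symm)
    have h2' := hD.1.1 c hc
    rw [this, orderOf_one] at h2'
    norm_num at h2'
  refine not_short_mem hG hp hd₀ h3 h2 h22 A ha ⟨hb, hab, ?_⟩ (fun q hq hqa => ?_) rfl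
  · rw [e]; exact ((Commute.refl b).mul_right cbc).symm
  · exact ((commute_mul_iff hD.1 hb hc hq hbc cbc).mp (e ▸ hqa)).1

theorem ne_three {a b c d : G} (ha : a ∈ D) (hb : b ∈ D) (hc : c ∈ D) (hd : d ∈ D) (hbc : b ≠ c) (hbd : b ≠ d)
    (hcd : c ≠ d) (cbc : Commute b c) (cbd : Commute b d) (ccd : Commute c d) : a ≠ b * c * d := by
  have hD := cls_of_group_prim hG hp
  intro e
  have hab : b ≠ a := fun k => by
    subst k
    rw [mul_assoc, eq_comm, mul_eq_left] at e
    exact hcd (by rw [← inv_self hD.1 hd]; exact eq_inv_of_mul_eq_one_left e)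
  refine not_short_mem hG hp hd₀ h3 h2 h22 A ha ⟨hb, hab, ?_⟩ (fun q hq hqa => ?_) rfl
  · rw [e]; exact (((Commute.refl b).mul_right cbc).mul_right cbd).symm
  · exact ((commute_mul3_iff hD.1 hb hc hd hq hbc hbd hcd cbc cbd ccd).mp (e ▸ hqa)).1

theorem two_ne_three {a b c d e : G} (ha : a ∈ D) (hb : b ∈ D) (hc : c ∈ D) (hd : d ∈ D) (he : e ∈ D)
    (hab : a ≠ b) (cab : Commute a b) (hcd : c ≠ d) (hce : c ≠ e) (hde : d ≠ e) (ccd : Commute c d)
    (cce : Commute c e) (cde : Commute d e) : a * b ≠ c * d * e := by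
  have hD := cls_of_group_prim hG hp
  intro heq
  have imp : ∀ q ∈ D, Commute q a → Commute q b → Commute q c := fun q hq h1 h2' =>
    ((commute_mul3_iff hD.1 hc hd he hq hcd hce hde ccd cce cde).mp (heq ▸ h1.mul_right h2')).1
  have hba : b * a = c * d * e := cab.eq.symm.trans heq
  have hca : c ≠ a := fun k => by
    subst k
    rw [mul_assoc] at heq
    exact ne_two hG hp hd₀ h3 h2 h22 A hb hd he hde cde (mul_left_cancel heq)
  have hcb : c ≠ b := fun k => by
    subst k
    rw [mul_assoc] at hba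
    exact ne_two hG hp hd₀ h3 h2 h22 A ha hd he hde cde (mul_left_cancel hba)
  have cac : Commute a c := imp a ha (Commute.refl a) cab
  have cbc : Commute b c := imp b hb cab.symm (Commute.refl b)
  have hsub : (Ds D a ∩ Ds D b) \ {c} ⊆ Ds D a ∩ Ds D b ∩ Ds D c := fun q hq =>
    ⟨hq.1, hq.1.1.1, fun k => hq.2 k, (imp q hq.1.1.1 hq.1.1.2.2.symm hq.1.2.2.2.symm).symm⟩
  have := Set.ncard_le_ncard hsub
  rw [Set.ncard_sdiff_singleton_of_mem (show c ∈ Ds D a ∩ Ds D b from ⟨⟨hc, hca, cac⟩, hc, hcb, cbc⟩),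
    ncard_near hD A ha ⟨hb, hab.symm, cab⟩] at this
  have hle := (ncard_three hD A ha (B := b) (C := c) ⟨hb, hab.symm, cab⟩ ⟨hc, hca, cac⟩).2 hcb.symm cbc
  omega

/-- The number of factors is an invariant. -/
theorem fac_length {j : G} {m m' : ℕ} (h1 : 1 ≤ m) (h1' : m ≤ 3) (k1 : 1 ≤ m') (k1' : m' ≤ 3)
    {l l' : List G} (hl : IsFac D j m l) (hl' : IsFac D j m' l') : m = m' := by
  suffices H : ∀ (m m' : ℕ) (l l' : List G), 1 ≤ m → m < m' → m' ≤ 3 → IsFac D j m l → IsFac D j m' l' → False by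
    rcases lt_trichotomy m m' with k | k | k
    exacts [(H m m' l l' h1 k k1' hl hl').elim, k, (H m' m l' l k1 k h1' hl' hl).elim]
  intro m m' l l' hm1 hlt hm3 hl hl'
  obtain ⟨hn, hlen, hm, hc, hprod⟩ := hl
  obtain ⟨hn', hlen', hm', hc', hprod'⟩ := hl'
  rcases (show m = 1 ∧ m' = 2 ∨ m = 1 ∧ m' = 3 ∨ m = 2 ∧ m' = 3 by omega) with ⟨rfl, rfl⟩ | ⟨rfl, rfl⟩ | ⟨rfl, rfl⟩
  · obtain ⟨a, rfl⟩ := List.length_eq_one_iff.mp hlen
    obtain ⟨b, c, rfl⟩ := List.length_eq_two.mp hlen'
    exact ne_two hG hp hd₀ h3 h2 h22 A (hm a (by simp)) (hm' b (by simp)) (hm' c (by simp)) (by simpa using hn')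
      (hc' b (by simp) c (by simp)) (by simpa using hprod.trans hprod'.symm)
  · obtain ⟨a, rfl⟩ := List.length_eq_one_iff.mp hlen
    obtain ⟨b, c, d, rfl⟩ := List.length_eq_three.mp hlen'
    simp only [List.nodup_cons, List.mem_cons, List.not_mem_nil, or_false, not_or, List.nodup_nil, and_true] at hn'
    exact ne_three hG hp hd₀ h3 h2 h22 A (hm a (by simp)) (hm' b (by simp)) (hm' c (by simp)) (hm' d (by simp))
      hn'.1.1 hn'.1.2 hn'.2.1 (hc' b (by simp) c (by simp)) (hc' b (by simp) d (by simp))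
      (hc' c (by simp) d (by simp)) (by simpa [mul_assoc] using hprod.trans hprod'.symm)
  · obtain ⟨a, b, rfl⟩ := List.length_eq_two.mp hlen
    obtain ⟨c, d, e, rfl⟩ := List.length_eq_three.mp hlen'
    simp only [List.nodup_cons, List.mem_cons, List.not_mem_nil, or_false, not_or, List.nodup_nil, and_true] at hn'
    exact two_ne_three hG hp hd₀ h3 h2 h22 A (hm a (by simp)) (hm b (by simp)) (hm' c (by simp)) (hm' d (by simp))
      (hm' e (by simp)) (by simpa using hn) (hc a (by simp) b (by simp)) hn'.1.1 hn'.1.2 hn'.2.1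
      (hc' c (by simp) d (by simp)) (hc' c (by simp) e (by simp))
      (hc' d (by simp) e (by simp)) (by simpa [mul_assoc] using hprod.trans hprod'.symm)

end

/-- Orbit and stabiliser for conjugation. -/
theorem card_orbit_stab (H : Subgroup G) (x : G) (X : Set G) (hmaps : ∀ k ∈ H, k * x * k⁻¹ ∈ X)
    (htrans : ∀ y ∈ X, ∃ k ∈ H, k * x * k⁻¹ = y) :
    Nat.card H = X.ncard * Nat.card ↥(H ⊓ Subgroup.centralizer ({x} : Set G)) := by
  classical
  set S := (H ⊓ Subgroup.centralizer ({x} : Set G)).subgroupOf H with hS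
  have hidx : S.index = X.ncard := by
    rw [Subgroup.index, ← Nat.card_coe_set_eq]
    refine Nat.card_eq_of_bijective
      (fun q => Quotient.liftOn' q (fun k : H => (⟨k * x * (k : G)⁻¹, hmaps k k.2⟩ : X)) fun k l hkl => Subtype.ext ?_)
      ⟨?_, fun y => ?_⟩
    · have hm := QuotientGroup.leftRel_apply.mp hkl
      rw [hS, Subgroup.mem_subgroupOf, Subgroup.mem_inf] at hm
      have hc : Commute ((k : G)⁻¹ * l) x := Subgroup.mem_centralizer_singleton_iff.mp hm.2
      calc (k : G) * x * (k : G)⁻¹ = k * (((k : G)⁻¹ * l) * x * ((k : G)⁻¹ * l)⁻¹) * (k : G)⁻¹ := by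
            rw [hc.eq, mul_inv_cancel_right]
        _ = l * x * (l : G)⁻¹ := by group
    · intro p q
      refine Quotient.inductionOn₂' p q fun k l e => Quotient.sound' (QuotientGroup.leftRel_apply.mpr ?_)
      have e' : (k : G) * x * (k : G)⁻¹ = l * x * (l : G)⁻¹ := congrArg Subtype.val e
      rw [hS, Subgroup.mem_subgroupOf]
      refine ⟨(k⁻¹ * l).2, Subgroup.mem_centralizer_singleton_iff.mpr ?_⟩
      show (k : G)⁻¹ * l * x = x * ((k : G)⁻¹ * l)
      calc (k : G)⁻¹ * l * x = (k : G)⁻¹ * (l * x * (l : G)⁻¹) * l := by group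
        _ = (k : G)⁻¹ * (k * x * (k : G)⁻¹) * l := by rw [e']
        _ = x * ((k : G)⁻¹ * l) := by group
    · obtain ⟨k, hk, e⟩ := htrans y y.2
      exact ⟨QuotientGroup.mk (⟨k, hk⟩ : H), Subtype.ext e⟩
  have := S.index_mul_card
  rw [hidx, hS, Nat.card_congr (Subgroup.subgroupOfEquivOfLe inf_le_left).toEquiv] at this
  exact this.symm

theorem fac_first {j x : G} {l : List G} (hl : IsFac D j 3 l) (hx : x ∈ l) :
    ∃ y z, IsFac D j 3 [x, y, z] := by
  classical
  obtain ⟨hn, hlen, hm, hc, hprod⟩ := hl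
  have p := List.perm_cons_erase hx
  obtain ⟨y, z, e⟩ := List.length_eq_two.mp (show (l.erase x).length = 2 by
    have := List.length_erase_of_mem hx; omega)
  rw [e] at p
  exact ⟨y, z, p.nodup_iff.mp hn, rfl, fun a ha => hm a (p.mem_iff.mpr ha),
    fun a ha b hb => hc a (p.mem_iff.mpr ha) b (p.mem_iff.mpr hb),
    (p.prod_eq' (List.pairwise_of_forall_mem_list hc)).symm.trans hprod⟩

theorem triple_map (hD : IsThreeTranspositionClass D) (A : Data D F hF) {a b c a' b' c' : G} (ha : a ∈ D)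
    (hb : b ∈ Ds D a) (hc : c ∈ Ds D a) (hne : b ≠ c) (hbc : Commute b c) (ha' : a' ∈ D) (hb' : b' ∈ Ds D a')
    (hc' : c' ∈ Ds D a') (hne' : b' ≠ c') (hbc' : Commute b' c') :
    ∃ g : G, g * a * g⁻¹ = a' ∧ g * b * g⁻¹ = b' ∧ g * c * g⁻¹ = c' := by
  obtain ⟨g, e1, e2, e3⟩ := triple_conj hD A ha hb hc hne hbc
  obtain ⟨k, f1, f2, f3⟩ := triple_conj hD A ha' hb' hc' hne' hbc'
  refine ⟨k * g⁻¹, ?_, ?_, ?_⟩
  · rw [← f1, ← e1]; group
  · rw [← f2, ← e2]; group
  · rw [← f3, ← e3]; group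

theorem mem_cent {x k : G} : k ∈ Subgroup.centralizer ({x} : Set G) ↔ k * x * k⁻¹ = x :=
  Subgroup.mem_centralizer_singleton_iff.trans mul_inv_eq_iff_eq_mul.symm

theorem cj_mem_Ds (hD : IsThreeTranspositionClass D) {a b k : G} (hb : b ∈ Ds D a) (hk : k * a * k⁻¹ = a) :
    k * b * k⁻¹ ∈ Ds D a := by
  refine ⟨cls_conj hD k hb.1, fun e => hb.2.1 (cj_injective k (e.trans hk.symm)), ?_⟩
  rw [← hk]
  exact (commute_cj_iff k).mpr hb.2.2

section
variable (hG : IsThreeTranspositionGroup D) (hp : IsPrimitiveUnderConj D) {d₀ : G} (hd₀ : d₀ ∈ D)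
    (h3 : pCore 3 ↥(Subgroup.closure (Ds D d₀)) ≤ Subgroup.center ↥(Subgroup.closure (Ds D d₀)))
    (h2 : pCore 2 ↥(Subgroup.closure (Ds D d₀)) ≤ Subgroup.center ↥(Subgroup.closure (Ds D d₀)))
    (h22 : IsOfTypeM22 G D) (A : Data D F hF)
include hG hp hd₀ h3 h2 h22 A

/-- The pointwise centraliser of a commuting triple. -/
theorem card_stab {a b c : G} (ha : a ∈ D) (hb : b ∈ Ds D a) (hc : c ∈ Ds D a) (hne : b ≠ c) (hbc : Commute b c) :
    Nat.card ↥((Subgroup.centralizer ({a} : Set G) ⊓ Subgroup.centralizer ({b} : Set G)) ⊓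
      Subgroup.centralizer ({c} : Set G)) = 147456 := by
  have hD := cls_of_group_prim hG hp
  have hcb : c ∈ Ds D b := ⟨hc.1, hne.symm, hbc⟩
  have s1 := card_orbit_stab (Subgroup.centralizer ({a} : Set G)) b (Ds D a)
    (fun k hk => cj_mem_Ds hD hb (mem_cent.mp hk)) fun y hy => by
      obtain ⟨g, e1, e2⟩ := conj_base hD A ha hb
      obtain ⟨k, f1, f2⟩ := conj_base hD A ha hy
      exact ⟨k * g⁻¹, mem_cent.mpr (by conv_rhs => rw [← f1]
                                       conv_lhs => rw [← e1]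
                                       group), by rw [← f2, ← e2]; group⟩
  have s2 := card_orbit_stab (Subgroup.centralizer ({a} : Set G) ⊓ Subgroup.centralizer ({b} : Set G)) c
    (Ds D a ∩ Ds D b) (fun k hk => ⟨cj_mem_Ds hD hc (mem_cent.mp hk.1), cj_mem_Ds hD hcb (mem_cent.mp hk.2)⟩)
    fun y hy => by
      obtain ⟨g, e1, e2, e3⟩ := triple_map hD A ha hb hc hne hbc ha hb hy.1 hy.2.2.1.symm hy.2.2.2
      exact ⟨g, ⟨mem_cent.mpr e1, mem_cent.mpr e2⟩, e3⟩
  rw [card_centralizer hD hp (local_of_M22 h22) h22.1 A ha, card_psu_eq hF, ncard_Ds hD A ha] at s1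
  rw [ncard_near hD A ha hb] at s2
  omega

/-- The centraliser of a product of three commuting transpositions. -/
theorem card_cent_three {a b c : G} (ha : a ∈ D) (hb : b ∈ D) (hc : c ∈ D) (hab : a ≠ b) (hac : a ≠ c)
    (hbc : b ≠ c) (cab : Commute a b) (cac : Commute a c) (cbc : Commute b c) :
    Nat.card ↥(Subgroup.centralizer ({a * b * c} : Set G)) = 1769472 := by
  classical
  have hD := cls_of_group_prim hG hp
  have hA : IsFac D (a * b * c) 3 [a, b, c] := by
    refine ⟨by simp [hab, hac, hbc], rfl, ?_, ?_, by simp [mul_assoc]⟩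
    · intro x hx
      simp only [List.mem_cons, List.not_mem_nil, or_false] at hx
      rcases hx with rfl | rfl | rfl <;> assumption
    · intro x hx y hy
      simp only [List.mem_cons, List.not_mem_nil, or_false] at hx hy
      rcases hx with rfl | rfl | rfl <;> rcases hy with rfl | rfl | rfl <;>
        first | exact Commute.refl _ | assumption | exact Commute.symm ‹_›
  set M : Set G := {x | ∃ l, IsFac D (a * b * c) 3 l ∧ x ∈ l} with hMdef
  have hM : M.ncard = 6 := by
    obtain ⟨l₁, l₂, f1, f2, hne, hall⟩ := (factorizations hG hp hd₀ h3 h2 h22).2 _ _ hA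
    have hMeq : M = ↑((l₁ ++ l₂).toFinset) := by
      ext x
      simp only [hMdef, Set.mem_setOf_eq, Finset.mem_coe, List.mem_toFinset, List.mem_append]
      refine ⟨?_, ?_⟩
      · rintro ⟨l, hl, hx⟩
        rcases hall l hl with k | k
        exacts [Or.inl ((k x).mp hx), Or.inr ((k x).mp hx)]
      · rintro (k | k)
        exacts [⟨l₁, f1, k⟩, ⟨l₂, f2, k⟩]
    obtain ⟨p, q, r, rfl⟩ := List.length_eq_three.mp f1.2.1
    obtain ⟨s, t, w, rfl⟩ := List.length_eq_three.mp f2.2.1
    have hj : a * b * c = p * q * r := by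
      have := f1.2.2.2.2
      simpa [mul_assoc] using this.symm
    rcases three_cases hD hp (hj ▸ f1) (hj ▸ f2) with k | k
    · exact (hne fun x => (k x).symm).elim
    · rw [hMeq, Set.ncard_coe_finset, List.toFinset_card_of_nodup (by simpa using k.1)]
      simp
  have hmapsM : ∀ k ∈ Subgroup.centralizer ({a * b * c} : Set G), k * a * k⁻¹ ∈ M := by
    intro k hk
    refine ⟨[a, b, c].map (fun z => k * z * k⁻¹), ⟨hA.1.map (cj_injective k), by simp, ?_, ?_, ?_⟩, by simp⟩
    · intro x hx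
      obtain ⟨y, hy, rfl⟩ := List.mem_map.mp hx
      exact cls_conj hD k (hA.2.2.1 y hy)
    · intro x hx y hy
      obtain ⟨x', hx', rfl⟩ := List.mem_map.mp hx
      obtain ⟨y', hy', rfl⟩ := List.mem_map.mp hy
      exact (commute_cj_iff k).mpr (hA.2.2.2.1 x' hx' y' hy')
    · refine (map_list_prod (MulAut.conj k).toMonoidHom [a, b, c]).symm.trans ?_
      show k * [a, b, c].prod * k⁻¹ = _
      rw [hA.2.2.2.2]
      exact mem_cent.mp hk
  have htransM : ∀ y ∈ M, ∃ k ∈ Subgroup.centralizer ({a * b * c} : Set G), k * a * k⁻¹ = y := by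
    rintro y ⟨l, hl, hy⟩
    obtain ⟨y', z', g1, -, g3, g4, g5⟩ := fac_first hl hy
    simp only [List.nodup_cons, List.mem_cons, List.not_mem_nil, or_false, not_or, List.nodup_nil, and_true] at g1
    obtain ⟨g, e1, e2, e3⟩ := triple_map hD A ha ⟨hb, hab.symm, cab⟩ ⟨hc, hac.symm, cac⟩ hbc cbc
      (g3 y (by simp)) ⟨g3 y' (by simp), Ne.symm g1.1.1, g4 y (by simp) y' (by simp)⟩
      ⟨g3 z' (by simp), Ne.symm g1.1.2, g4 y (by simp) z' (by simp)⟩ g1.2.1 (g4 y' (by simp) z' (by simp))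
    refine ⟨g, mem_cent.mpr ?_, e1⟩
    calc g * (a * b * c) * g⁻¹ = (g * a * g⁻¹) * (g * b * g⁻¹) * (g * c * g⁻¹) := by group
      _ = y * y' * z' := by rw [e1, e2, e3]
      _ = a * b * c := by rw [← g5]; simp [mul_assoc]
  have s1 := card_orbit_stab _ a M hmapsM htransM
  set H := Subgroup.centralizer ({a * b * c} : Set G) ⊓ Subgroup.centralizer ({a} : Set G)
  have hHbc : ∀ k ∈ H, k * (b * c) * k⁻¹ = b * c := by
    intro k hk
    have e := mem_cent.mp hk.1
    rw [show k * (a * b * c) * k⁻¹ = (k * a * k⁻¹) * (k * (b * c) * k⁻¹) by group, mem_cent.mp hk.2,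
      mul_assoc a b c] at e
    exact mul_left_cancel e
  have s2 := card_orbit_stab H b ({b, c} : Set G) (fun k hk => by
      have e := hHbc k hk
      rw [show k * (b * c) * k⁻¹ = (k * b * k⁻¹) * (k * c * k⁻¹) by group] at e
      rcases pair_unique hD (cores_of_prim hD hp (has_pair A)).1 (cls_conj hD k hb) (cls_conj hD k hc) hb hc
        (fun q => hbc (cj_injective k q)) hbc ((commute_cj_iff k).mpr cbc) cbc e with ⟨q, -⟩ | ⟨q, -⟩ <;> simp [q])
    (fun y hy => by
      rcases hy with rfl | rfl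
      · exact ⟨1, one_mem _, by group⟩
      · obtain ⟨g, e1, e2, e3⟩ := triple_map hD A ha ⟨hb, hab.symm, cab⟩ ⟨hc, hac.symm, cac⟩ hbc cbc ha
          ⟨hc, hac.symm, cac⟩ ⟨hb, hab.symm, cab⟩ hbc.symm cbc.symm
        refine ⟨g, ⟨mem_cent.mpr ?_, mem_cent.mpr e1⟩, e2⟩
        calc g * (a * b * y) * g⁻¹ = (g * a * g⁻¹) * (g * b * g⁻¹) * (g * y * g⁻¹) := by group
          _ = a * b * y := by rw [e1, e2, e3, mul_assoc, cbc.symm.eq, ← mul_assoc])
  have hS : H ⊓ Subgroup.centralizer ({b} : Set G) =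
      (Subgroup.centralizer ({a} : Set G) ⊓ Subgroup.centralizer ({b} : Set G)) ⊓
        Subgroup.centralizer ({c} : Set G) := by
    ext k
    constructor
    · rintro ⟨hk, hkb⟩
      refine ⟨⟨hk.2, hkb⟩, mem_cent.mpr ?_⟩
      have e := hHbc k hk
      rw [show k * (b * c) * k⁻¹ = (k * b * k⁻¹) * (k * c * k⁻¹) by group, mem_cent.mp hkb] at e
      exact mul_left_cancel e
    · rintro ⟨⟨hka, hkb⟩, hkc⟩
      refine ⟨⟨mem_cent.mpr ?_, hka⟩, hkb⟩
      rw [show k * (a * b * c) * k⁻¹ = (k * a * k⁻¹) * (k * b * k⁻¹) * (k * c * k⁻¹) by group, mem_cent.mp hka,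
        mem_cent.mp hkb, mem_cent.mp hkc]
  rw [hS, card_stab hG hp hd₀ h3 h2 h22 A ha ⟨hb, hab.symm, cab⟩ ⟨hc, hac.symm, cac⟩ hbc cbc,
    Set.ncard_pair hbc] at s2
  rw [hM, s2] at s1
  omega

end

end CfsgThreeTrans.M22
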