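/-
Elementary abelian subgroups of SU6(2) stabilising a totally isotropic plane.
-/
import Cfsg.Agent.Lib.ThreeTrans.M22.Involutions

set_option autoImplicit false
set_option linter.unusedSectionVars false

namespace CfsgThreeTrans.M22.PlaneRadical

open Matrix CfsgLib CfsgLib.UnitaryTransvection CfsgLib.UnitarySimple CfsgThreeTrans.M22

variable {F : Type} [Field F] [Fintype F] [DecidableEq F] (hF : Fintype.card F = 2 ^ 2)

local notation "h" => Cfsg.hermForm 6 F 2
local notation "σ" => frob hF
local notation "V" => (Fin 6 → F)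
local notation "W" => (Fin 3 → F)

/-- The projection modulo the standard plane. -/
def pr (x : V) : W := ![x 0 + x 1, x 2 + x 3, x 4 + x 5]

/-- A section. -/
def sec (w : W) : V := ![w 0, 0, w 1, 0, w 2, 0]

omit [Fintype F] [DecidableEq F] in
theorem pr_sec (w : W) : pr (sec w) = w := by
  funext i; fin_cases i <;> simp [pr, sec]

omit [Fintype F] [DecidableEq F] in
theorem pr_add (x y : V) : pr (x + y) = pr x + pr y := by
  funext i; fin_cases i <;> simp [pr] <;> ring

omit [Fintype F] [DecidableEq F] in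
theorem pr_smul (c : F) (x : V) : pr (c • x) = c • pr x := by
  funext i; fin_cases i <;> simp [pr] <;> ring

omit [Fintype F] [DecidableEq F] in
theorem sec_add (v w : W) : sec (v + w) = sec v + sec w := by
  funext i; fin_cases i <;> simp [sec]

omit [Fintype F] [DecidableEq F] in
theorem sec_smul (c : F) (w : W) : sec (c • w) = c • sec w := by
  funext i; fin_cases i <;> simp [sec]

omit [Fintype F] [DecidableEq F] in
theorem pr_zero : pr (0 : V) = 0 := by funext i; fin_cases i <;> simp [pr]

include hF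

theorem pr_eq_zero {x : V} (e : pr x = 0) : x = dbl (x 0) (x 2) (x 4) := by
  have e0 := congrFun e 0
  have e1 := congrFun e 1
  have e2 := congrFun e 2
  simp [pr] at e0 e1 e2
  have a0 : x 1 = x 0 := by linear_combination e0 - x 0 * two_zero hF
  have a1 : x 3 = x 2 := by linear_combination e1 - x 2 * two_zero hF
  have a2 : x 5 = x 4 := by linear_combination e2 - x 4 * two_zero hF
  funext i; fin_cases i <;> simp [dbl, a0, a1, a2]

theorem pr_dbl (a b c : F) : pr (dbl a b c) = 0 := by
  funext i; fin_cases i <;> simp [pr, dbl, add_self hF]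

theorem pr_sub_sec (x : V) : pr (x + sec (pr x)) = 0 := by
  rw [pr_add, pr_sec]
  funext i
  exact add_self hF _

theorem perp {x y : V} (hx : pr x = 0) (hy : pr y = 0) : h x y = 0 := by
  rw [pr_eq_zero hF hx, pr_eq_zero hF hy]; exact dbl_perp hF _ _ _ _ _ _

theorem perp_iff {x : V} (hx : ∀ y, pr y = 0 → h x y = 0) : pr x = 0 := by
  have e0 := hx _ (pr_dbl hF 1 0 0)
  have e1 := hx _ (pr_dbl hF 0 1 0)
  have e2 := hx _ (pr_dbl hF 0 0 1)
  simp [Cfsg.hermForm, Fin.sum_univ_six, dbl] at e0 e1 e2
  funext i; fin_cases i <;> simp [pr, e0, e1, e2]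

theorem eq_zero_of_perp {x : V} (hx : ∀ y, h x y = 0) : x = 0 := by
  funext i
  have := hx (Pi.single i 1)
  simpa [Cfsg.hermForm, Pi.single_apply, ite_pow] using this

omit hF in
/-- The pointwise stabiliser of the plane. -/
def Fix : Subgroup (Cfsg.SU 6 F 2) where
  carrier := {g | ∀ x : V, pr x = 0 → mat g *ᵥ x = x}
  one_mem' := fun x _ => by rw [mat_one, one_mulVec]
  mul_mem' := fun {a b} ha hb x hx => by rw [mat_mul, ← mulVec_mulVec, hb x hx, ha x hx]
  inv_mem' := fun {a} ha x hx => by
    conv_lhs => rw [← ha x hx]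
    rw [mat_inv_mulVec']

omit hF in
theorem mem_Fix {g : Cfsg.SU 6 F 2} : g ∈ Fix ↔ ∀ x : V, pr x = 0 → mat g *ᵥ x = x := Iff.rfl

theorem fix_diff {g : Cfsg.SU 6 F 2} (hg : g ∈ Fix (F := F)) (x : V) : pr (mat g *ᵥ x + x) = 0 := by
  refine perp_iff hF fun y hy => ?_
  have e := su_h g x y
  rw [hg y hy] at e
  rw [h_add_left, e, add_self hF]

omit hF in
/-- The hermitian form of an element. -/
def form (g : Cfsg.SU 6 F 2) (v w : W) : F := h (mat g *ᵥ sec v + sec v) (sec w)

theorem form_add_left (g : Cfsg.SU 6 F 2) (v v' w : W) : form g (v + v') w = form g v w + form g v' w := by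
  unfold form
  rw [sec_add, mulVec_add, ← h_add_left]
  congr 1
  abel

theorem form_smul_left (g : Cfsg.SU 6 F 2) (c : F) (v w : W) : form g (c • v) w = c * form g v w := by
  unfold form
  rw [sec_smul, mulVec_smul, ← smul_add, h_smul_left]

theorem form_add_right (g : Cfsg.SU 6 F 2) (v w w' : W) : form g v (w + w') = form g v w + form g v w' := by
  unfold form
  rw [sec_add, h_add_right hF]

theorem form_smul_right (g : Cfsg.SU 6 F 2) (c : F) (v w : W) : form g v (c • w) = σ c * form g v w := by
  unfold form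
  rw [sec_smul, h_smul_right hF]

theorem form_herm {g : Cfsg.SU 6 F 2} (hg : g ∈ Fix (F := F)) (v w : W) : σ (form g v w) = form g w v := by
  unfold form
  rw [h_swap hF]
  have e := su_h g (sec w) (sec v)
  have p := perp hF (fix_diff hF hg (sec w)) (fix_diff hF hg (sec v))
  rw [h_add_left, h_add_right hF, h_add_right hF, e] at p
  rw [h_add_left, h_add_right hF]
  linear_combination p - (h (mat g *ᵥ sec w) (sec v) + h (sec w) (sec v)) * two_zero hF

theorem form_self {g : Cfsg.SU 6 F 2} (hg : g ∈ Fix (F := F)) (v : W) : form g v v = 0 ∨ form g v v = 1 :=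
  fixed hF (form_herm hF hg v v)

theorem form_inj {g k : Cfsg.SU 6 F 2} (hg : g ∈ Fix (F := F)) (hk : k ∈ Fix (F := F))
    (e : ∀ v w, form g v w = form k v w) : g = k := by
  have key : ∀ v, mat g *ᵥ sec v = mat k *ᵥ sec v := by
    intro v
    set z := mat g *ᵥ sec v + mat k *ᵥ sec v
    have hz : pr z = 0 := by
      have := congrArg₂ (· + ·) (fix_diff hF hg (sec v)) (fix_diff hF hk (sec v))
      rw [← pr_add, add_zero] at this
      rwa [show z = mat g *ᵥ sec v + sec v + (mat k *ᵥ sec v + sec v) from by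
        rw [show mat g *ᵥ sec v + sec v + (mat k *ᵥ sec v + sec v) =
          z + (sec v + sec v) by simp only [z]; abel, vadd_self hF, add_zero]]
    have hp : ∀ w, h z (sec w) = 0 := fun w => by
      have := e v w
      unfold form at this
      rw [h_add_left, h_add_left] at this
      simp only [z, h_add_left]
      linear_combination this + (h (mat k *ᵥ sec v) (sec w)) * two_zero hF
    have hz0 : z = 0 := by
      refine eq_zero_of_perp hF fun y => ?_
      have ey : y = (y + sec (pr y)) + sec (pr y) := by rw [add_assoc, vadd_self hF, add_zero]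
      rw [ey, h_add_right hF, perp hF hz (pr_sub_sec hF y), hp, add_zero]
    calc mat g *ᵥ sec v = mat g *ᵥ sec v + (mat k *ᵥ sec v + mat k *ᵥ sec v) := by rw [vadd_self hF, add_zero]
      _ = z + mat k *ᵥ sec v := by simp only [z]; abel
      _ = mat k *ᵥ sec v := by rw [hz0, zero_add]
  refine su_ext fun x => ?_
  have ex : x = (x + sec (pr x)) + sec (pr x) := by rw [add_assoc, vadd_self hF, add_zero]
  have hp := pr_sub_sec hF x
  generalize x + sec (pr x) = p at ex hp
  generalize pr x = w at ex
  subst ex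
  rw [mulVec_add, mulVec_add, hg _ hp, hk _ hp, key]

theorem form_mul {g k : Cfsg.SU 6 F 2} (hg : g ∈ Fix (F := F)) (hk : k ∈ Fix (F := F)) (v w : W) :
    form (g * k) v w = form g v w + form k v w := by
  unfold form
  rw [← h_add_left]
  congr 1
  have e := hg _ (fix_diff hF hk (sec v))
  rw [mulVec_add] at e
  rw [mat_mul, ← mulVec_mulVec]
  calc mat g *ᵥ (mat k *ᵥ sec v) + sec v
      = (mat g *ᵥ (mat k *ᵥ sec v) + mat g *ᵥ sec v) + (mat g *ᵥ sec v + sec v) := by
        rw [add_add_add_comm, ← add_assoc, add_assoc (mat g *ᵥ (mat k *ᵥ sec v)), vadd_self hF, add_zero]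
    _ = (mat k *ᵥ sec v + sec v) + (mat g *ᵥ sec v + sec v) := by rw [e]
    _ = _ := add_comm _ _

/-- The group generated by the transvections at the plane. -/
def R : Subgroup (Cfsg.SU 6 F 2) := Subgroup.closure {g | ∃ w : V, w ≠ 0 ∧ pr w = 0 ∧ g = tu hF w}

theorem R_le_Fix : R hF ≤ Fix (F := F) := by
  refine (Subgroup.closure_le _).mpr ?_
  rintro _ ⟨w, -, hw, rfl⟩ x hx
  rw [tu_mulVec hF (perp hF hw hw), perp hF hx hw, zero_smul, add_zero]

omit hF in
/-- The standard functional of a vector of the plane. -/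
def dot (c v : W) : F := v 0 * c 0 ^ 2 + v 1 * c 1 ^ 2 + v 2 * c 2 ^ 2

theorem form_tu (c : W) (v w : W) :
    form (tu hF (dbl (c 0) (c 1) (c 2))) v w = dot c v * σ (dot c w) := by
  have hc := dbl_perp hF (c 0) (c 1) (c 2) (c 0) (c 1) (c 2)
  have e1 : h (sec v) (dbl (c 0) (c 1) (c 2)) = dot c v := by
    simp [Cfsg.hermForm, Fin.sum_univ_six, sec, dbl, dot]
  have e2 : h (dbl (c 0) (c 1) (c 2)) (sec w) = σ (dot c w) := by
    rw [← h_swap hF]
    congr 1
    simp [Cfsg.hermForm, Fin.sum_univ_six, sec, dbl, dot]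
  unfold form
  rw [tu_mulVec hF hc, e1, add_right_comm, vadd_self hF, zero_add, h_smul_left, e2]

/-- The forms coming from the group generated by transvections. -/
def Real : Set (W → W → F) := {f | ∃ r ∈ R hF, ∀ v w, form r v w = f v w}

theorem real_add {f f' : W → W → F} (hf : f ∈ Real hF) (hf' : f' ∈ Real hF) :
    (fun v w => f v w + f' v w) ∈ Real hF := by
  obtain ⟨r, hr, e⟩ := hf
  obtain ⟨r', hr', e'⟩ := hf'
  exact ⟨r * r', mul_mem hr hr', fun v w => by rw [form_mul hF (R_le_Fix hF hr) (R_le_Fix hF hr'), e, e']⟩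

theorem real_zero : (fun _ _ => 0) ∈ Real hF :=
  ⟨1, one_mem _, fun v w => by
    unfold form
    rw [mat_one, one_mulVec, vadd_self hF]
    exact h_zero_left hF _⟩

theorem real_tu (c : W) : (fun v w => dot c v * σ (dot c w)) ∈ Real hF := by
  by_cases h0 : dbl (c 0) (c 1) (c 2) = 0
  · refine ⟨1, one_mem _, fun v w => ?_⟩
    have hc : c = 0 := by
      have a0 := congrFun h0 0
      have a1 := congrFun h0 2
      have a2 := congrFun h0 4
      simp [dbl] at a0 a1 a2
      funext i; fin_cases i <;> simp [a0, a1, a2]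
    subst hc
    simp [form, mat_one, one_mulVec, vadd_self hF, h_zero_left hF, dot]
  · exact ⟨_, Subgroup.subset_closure ⟨_, h0, pr_dbl hF _ _ _, rfl⟩, form_tu hF c⟩

theorem real_diag (i : Fin 3) (a : F) (ha : a = 0 ∨ a = 1) :
    (fun v w : W => a * (v i * σ (w i))) ∈ Real hF := by
  rcases ha with rfl | rfl
  · simpa using real_zero hF
  · convert real_tu hF (Pi.single i 1) using 1
    funext v w
    fin_cases i <;> simp [dot, Pi.single_apply]

theorem real_off (i j : Fin 3) (hij : i ≠ j) (l : F) :
    (fun v w : W => l * (v i * σ (w j)) + σ l * (v j * σ (w i))) ∈ Real hF := by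
  by_cases hl : l = 0
  · subst hl; simpa using real_zero hF
  convert real_add hF (real_tu hF (Pi.single i 1 + Pi.single j l))
    (real_add hF (real_diag hF i 1 (Or.inr rfl)) (real_diag hF j 1 (Or.inr rfl))) using 1
  funext v w
  have h3 := cube hF hl
  have h4 : (l ^ 2) ^ 2 = l := by linear_combination l * h3
  fin_cases i <;> fin_cases j <;> simp at hij <;>
    simp [dot, Pi.single_apply, map_add, map_mul, frob_apply, mul_pow, h4] <;>
    first
      | linear_combination -(v 0 * w 0 ^ 2) * two_zero hF - (v 1 * w 1 ^ 2) * two_zero hF - (v 1 * w 1 ^ 2) * h3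
      | linear_combination -(v 0 * w 0 ^ 2) * two_zero hF - (v 1 * w 1 ^ 2) * two_zero hF - (v 0 * w 0 ^ 2) * h3
      | linear_combination -(v 0 * w 0 ^ 2) * two_zero hF - (v 2 * w 2 ^ 2) * two_zero hF - (v 2 * w 2 ^ 2) * h3
      | linear_combination -(v 0 * w 0 ^ 2) * two_zero hF - (v 2 * w 2 ^ 2) * two_zero hF - (v 0 * w 0 ^ 2) * h3
      | linear_combination -(v 1 * w 1 ^ 2) * two_zero hF - (v 2 * w 2 ^ 2) * two_zero hF - (v 2 * w 2 ^ 2) * h3
      | linear_combination -(v 1 * w 1 ^ 2) * two_zero hF - (v 2 * w 2 ^ 2) * two_zero hF - (v 1 * w 1 ^ 2) * h3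

theorem vec_three (v : W) : v = v 0 • Pi.single 0 1 + v 1 • Pi.single 1 1 + v 2 • Pi.single 2 1 := by
  funext i; fin_cases i <;> simp [Pi.single_apply]

/-- The transvections generate the pointwise stabiliser. -/
theorem Fix_le_R : Fix (F := F) ≤ R hF := by
  intro g hg
  set a : Fin 3 → Fin 3 → F := fun i j => form g (Pi.single i 1) (Pi.single j 1) with ha
  have h1 := real_add hF (real_add hF (real_diag hF 0 (a 0 0) (form_self hF hg _))
    (real_diag hF 1 (a 1 1) (form_self hF hg _))) (real_diag hF 2 (a 2 2) (form_self hF hg _))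
  have h2 := real_add hF (real_add hF (real_off hF 0 1 (by decide) (a 0 1)) (real_off hF 0 2 (by decide) (a 0 2)))
    (real_off hF 1 2 (by decide) (a 1 2))
  obtain ⟨r, hr, e⟩ := real_add hF h1 h2
  have : g = r := by
    refine form_inj hF hg (R_le_Fix hF hr) fun v w => ?_
    rw [e]
    conv_lhs => rw [vec_three hF v, vec_three hF w]
    simp only [form_add_left hF, form_smul_left hF, form_add_right hF, form_smul_right hF, ha,
      form_herm hF hg]
    ring
  exact this ▸ hr

theorem card_R : 512 ≤ Nat.card (R hF) := by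
  classical
  let P := ((Fin 3 → {a : F // a = 0 ∨ a = 1}) × (Fin 3 → F))
  let f : P → W → W → F := fun p v w =>
    (p.1 0).1 * (v 0 * σ (w 0)) + (p.1 1).1 * (v 1 * σ (w 1)) + (p.1 2).1 * (v 2 * σ (w 2)) +
      ((p.2 0 * (v 0 * σ (w 1)) + σ (p.2 0) * (v 1 * σ (w 0))) +
       (p.2 1 * (v 0 * σ (w 2)) + σ (p.2 1) * (v 2 * σ (w 0))) +
       (p.2 2 * (v 1 * σ (w 2)) + σ (p.2 2) * (v 2 * σ (w 1))))
  have hf : ∀ p, f p ∈ Real hF := fun p =>
    real_add hF (real_add hF (real_add hF (real_diag hF 0 _ (p.1 0).2) (real_diag hF 1 _ (p.1 1).2))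
      (real_diag hF 2 _ (p.1 2).2)) (real_add hF (real_add hF (real_off hF 0 1 (by decide) (p.2 0))
        (real_off hF 0 2 (by decide) (p.2 1))) (real_off hF 1 2 (by decide) (p.2 2)))
  choose r hr e using hf
  have hcard : Nat.card P = 512 := by
    have h2 : Nat.card {a : F // a = 0 ∨ a = 1} = 2 := by
      rw [Nat.card_eq_fintype_card, Fintype.card_subtype,
        show (Finset.univ.filter fun a : F => a = 0 ∨ a = 1) = {0, 1} by ext a; simp,
        Finset.card_pair zero_ne_one]
    rw [Nat.card_prod, Nat.card_fun, Nat.card_fun, h2, Nat.card_eq_fintype_card (α := F), hF,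
      Nat.card_eq_fintype_card, Fintype.card_fin]
    norm_num
  rw [← hcard]
  refine Nat.card_le_card_of_injective (fun p => (⟨r p, hr p⟩ : R hF)) fun p q epq => ?_
  have key : ∀ v w, f p v w = f q v w := fun v w => by rw [← e, ← e, Subtype.mk.inj epq]
  have k00 := key (Pi.single 0 1) (Pi.single 0 1)
  have k11 := key (Pi.single 1 1) (Pi.single 1 1)
  have k22 := key (Pi.single 2 1) (Pi.single 2 1)
  have k01 := key (Pi.single 0 1) (Pi.single 1 1)
  have k02 := key (Pi.single 0 1) (Pi.single 2 1)
  have k12 := key (Pi.single 1 1) (Pi.single 2 1)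
  simp [f] at k00 k11 k22 k01 k02 k12
  refine Prod.ext (funext fun i => ?_) (funext fun i => ?_)
  · fin_cases i <;> apply Subtype.ext <;> assumption
  · fin_cases i <;> assumption

/-- An elementary abelian group stabilising the plane but moving a vector of it is small. -/
theorem plane_bound (K : Subgroup (Cfsg.SU 6 F 2)) (hsq : ∀ g ∈ K, g * g = 1)
    (hcom : ∀ g ∈ K, ∀ k ∈ K, Commute g k) (hstab : ∀ g ∈ K, ∀ x : V, pr x = 0 → pr (mat g *ᵥ x) = 0)
    (hne : ¬ K ≤ Fix (F := F)) : Nat.card K ≤ 256 := by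
  classical
  let n : Cfsg.SU 6 F 2 → W →ₗ[F] W := fun g =>
    { toFun := fun w => pr (mat g *ᵥ sec w) + w
      map_add' := fun v w => by rw [sec_add, mulVec_add, pr_add]; abel
      map_smul' := fun c w => by rw [sec_smul, mulVec_smul, pr_smul, RingHom.id_apply, smul_add] }
  have hn : ∀ g w, n g w = pr (mat g *ᵥ sec w) + w := fun _ _ => rfl
  have hpr : ∀ g ∈ K, ∀ x : V, pr (mat g *ᵥ x) = n g (pr x) + pr x := by
    intro g hg x
    have e := hstab g hg _ (pr_sub_sec hF x)
    rw [mulVec_add, pr_add] at e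
    rw [hn, add_assoc, show pr x + pr x = 0 from funext fun i => add_self hF _, add_zero]
    calc pr (mat g *ᵥ x) = pr (mat g *ᵥ x) + (pr (mat g *ᵥ sec (pr x)) + pr (mat g *ᵥ sec (pr x))) := by
          rw [show pr (mat g *ᵥ sec (pr x)) + pr (mat g *ᵥ sec (pr x)) = 0 from funext fun i => add_self hF _,
            add_zero]
      _ = _ := by rw [← add_assoc, e, zero_add]
  have hmul : ∀ g ∈ K, ∀ k ∈ K, ∀ w, n (g * k) w = n g w + n k w + n g (n k w) := by
    intro g hg k _ w
    rw [hn, mat_mul, ← mulVec_mulVec, hpr g hg, show pr (mat k *ᵥ sec w) = n k w + w by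
      rw [hn, add_assoc, show w + w = 0 from funext fun i => add_self hF _, add_zero], map_add]
    have : w + w = 0 := funext fun i => add_self hF _
    rw [show n g (n k w) + n g w + (n k w + w) + w = n g w + n k w + n g (n k w) + (w + w) by abel, this, add_zero]
  have hn1 : ∀ w, n 1 w = 0 := fun w => by
    rw [hn, mat_one, one_mulVec, pr_sec]
    exact funext fun i => add_self hF _
  have hnn : ∀ g ∈ K, ∀ w, n g (n g w) = 0 := fun g hg w => by
    have e := hmul g hg g hg w
    rw [hsq g hg, hn1] at e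
    rw [show n g w + n g w = 0 from funext fun i => add_self hF _, zero_add] at e
    exact e.symm
  have hnc : ∀ g ∈ K, ∀ k ∈ K, ∀ w, n g (n k w) = n k (n g w) := fun g hg k hk w => by
    have e := hmul g hg k hk w
    rw [(hcom g hg k hk).eq, hmul k hk g hg, add_comm (n k w)] at e
    exact (add_left_cancel e).symm
  have hfix : ∀ g ∈ K, (∀ w, n g w = 0) → g ∈ Fix (F := F) := by
    intro g hg h0 x hx
    have : mat g *ᵥ x + x = 0 := by
      refine eq_zero_of_perp hF fun y => ?_
      set y' := mat g⁻¹ *ᵥ y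
      have hy : pr (y + y') = 0 := by
        rw [pr_add, show pr y = pr y' by
          conv_lhs => rw [← mat_inv_mulVec g y, hpr g hg, h0, zero_add]]
        exact funext fun i => add_self hF _
      have e : h (mat g *ᵥ x) y = h x y' := by
        conv_lhs => rw [← mat_inv_mulVec g y]
        rw [su_h]
      rw [h_add_left, e, ← h_add_right hF, add_comm]
      exact perp hF hx hy
    calc mat g *ᵥ x = mat g *ᵥ x + (x + x) := by rw [vadd_self hF, add_zero]
      _ = x := by rw [← add_assoc, this, zero_add]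
  obtain ⟨g0, hg0, hg0F⟩ := SetLike.not_le_iff_exists.mp hne
  obtain ⟨x, hx⟩ : ∃ x, n g0 x ≠ 0 := by
    by_contra hc
    push Not at hc
    exact hg0F (hfix g0 hg0 hc)
  set N := n g0
  set u := N x
  have hNN : LinearMap.range N ≤ LinearMap.ker N := by
    rintro _ ⟨w, rfl⟩; exact hnn g0 hg0 w
  have hrk := N.finrank_range_add_finrank_ker
  rw [Module.finrank_fin_fun] at hrk
  have hle := Submodule.finrank_mono hNN
  have hr1 : 1 ≤ Module.finrank F (LinearMap.range N) := by
    have : Submodule.span F {u} ≤ LinearMap.range N :=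
      (Submodule.span_singleton_le_iff_mem _ _).mpr (LinearMap.mem_range_self N x)
    have := Submodule.finrank_mono this
    rwa [finrank_span_singleton hx] at this
  have hrange : LinearMap.range N = Submodule.span F {u} :=
    (Submodule.eq_of_le_of_finrank_eq ((Submodule.span_singleton_le_iff_mem _ _).mpr (LinearMap.mem_range_self N x))
      (by rw [finrank_span_singleton hx]; omega)).symm
  obtain ⟨e, he, heu⟩ : ∃ e ∈ LinearMap.ker N, e ∉ Submodule.span F {u} := by
    by_contra hc
    push Not at hc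
    have := Submodule.finrank_mono (show LinearMap.ker N ≤ Submodule.span F {u} from hc)
    rw [finrank_span_singleton hx] at this
    omega
  have hNe : N e = 0 := he
  have hNu : N u = 0 := hnn g0 hg0 x
  have hker : LinearMap.ker N = Submodule.span F {u, e} := by
    refine (Submodule.eq_of_le_of_finrank_le (Submodule.span_le.mpr ?_) ?_).symm
    · rintro z (rfl | rfl)
      exacts [hNu, he]
    · have hli : LinearIndependent F ![u, e] := by
        rw [LinearIndependent.pair_iff]
        intro a b eab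
        by_cases hb : b = 0
        · subst hb
          rw [zero_smul, add_zero] at eab
          exact ⟨(smul_eq_zero.mp eab).resolve_right hx, rfl⟩
        · refine absurd (Submodule.mem_span_singleton.mpr ⟨-(b⁻¹ * a), ?_⟩) heu
          have e2 := congrArg (fun z => b⁻¹ • z) eab
          simp only [smul_add, smul_smul, inv_mul_cancel₀ hb, one_smul, smul_zero] at e2
          rw [neg_smul]
          exact (eq_neg_of_add_eq_zero_right e2).symm
      have h2 := finrank_span_eq_card hli
      rw [Matrix.range_cons, Matrix.range_cons, Matrix.range_empty, Set.union_empty, Set.singleton_union,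
        Fintype.card_fin] at h2
      rw [h2]
      omega
  have hdec : ∀ w, ∃ a b c : F, w = a • u + b • e + c • x := by
    intro w
    obtain ⟨c, hc⟩ := Submodule.mem_span_singleton.mp (hrange ▸ LinearMap.mem_range_self N w)
    have : w + c • x ∈ LinearMap.ker N := by
      rw [LinearMap.mem_ker, map_add, map_smul, ← hc]
      exact funext fun i => add_self hF _
    rw [hker, Submodule.mem_span_pair] at this
    obtain ⟨a, b, hab⟩ := this
    exact ⟨a, b, c, by rw [hab, add_assoc, show c • x + c • x = 0 from funext fun i => add_self hF _, add_zero]⟩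
  have hindu : ∀ a b : F, a • u + b • e = 0 → a = 0 ∧ b = 0 := by
    intro a b eab
    by_cases hb : b = 0
    · subst hb
      rw [zero_smul, add_zero] at eab
      exact ⟨(smul_eq_zero.mp eab).resolve_right hx, rfl⟩
    · refine absurd (Submodule.mem_span_singleton.mpr ⟨-(b⁻¹ * a), ?_⟩) heu
      have e2 := congrArg (fun z => b⁻¹ • z) eab
      simp only [smul_add, smul_smul, inv_mul_cancel₀ hb, one_smul, smul_zero] at e2
      rw [neg_smul]
      exact (eq_neg_of_add_eq_zero_right e2).symm
  -- the shape of an element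
  have shape : ∀ g ∈ K, ∃ α δ γ : F, n g u = 0 ∧ n g e = α • u ∧ n g x = γ • u + δ • e ∧ α * δ = 0 := by
    intro g hg
    have hu' : n g u = 0 := by
      have q : n g u ∈ LinearMap.range N := LinearMap.mem_range.mpr ⟨n g x, (hnc g hg g0 hg0 x).symm⟩
      rw [hrange] at q
      obtain ⟨k, hk⟩ := Submodule.mem_span_singleton.mp q
      have e2 := hnn g hg u
      rw [← hk, map_smul, ← hk, smul_smul, smul_eq_zero] at e2
      rw [← hk, mul_self_eq_zero.mp (e2.resolve_right hx), zero_smul]
    have hmem : ∀ w, N w = 0 → ∃ a b : F, n g w = a • u + b • e := by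
      intro w hw
      have : n g w ∈ LinearMap.ker N := by
        rw [LinearMap.mem_ker]
        show n g0 (n g w) = 0
        rw [hnc g0 hg0 g hg, show n g0 w = 0 from hw, map_zero]
      rw [hker, Submodule.mem_span_pair] at this
      obtain ⟨a, b, hab⟩ := this
      exact ⟨a, b, hab.symm⟩
    obtain ⟨α, β, hαβ⟩ := hmem e hNe
    have hβ : β = 0 := by
      have e2 := hnn g hg e
      rw [hαβ, map_add, map_smul, map_smul, hu', smul_zero, zero_add, hαβ, smul_add, smul_smul, smul_smul] at e2
      exact mul_self_eq_zero.mp (hindu _ _ e2).2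
    rw [hβ, zero_smul, add_zero] at hαβ
    obtain ⟨γ, δ, c, hc⟩ := hdec (n g x)
    have hc0 : c = 0 := by
      have e2 := hnc g0 hg0 g hg x
      change N (n g x) = n g u at e2
      rw [hc, map_add, map_add, map_smul, map_smul, map_smul, hNu, hNe, smul_zero, smul_zero, zero_add, zero_add,
        hu'] at e2
      exact (smul_eq_zero.mp e2).resolve_right hx
    rw [hc0, zero_smul, add_zero] at hc
    refine ⟨α, δ, γ, hu', hαβ, hc, ?_⟩
    have e2 := hnn g hg x
    rw [hc, map_add, map_smul, map_smul, hu', smul_zero, zero_add, hαβ, smul_smul] at e2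
    rw [mul_comm]
    exact (smul_eq_zero.mp e2).resolve_right hx
  choose α δ γ hsu hse hsx hsad using shape
  -- kernel and image
  set K1 := (Fix (F := F)).subgroupOf K
  let prm : K → F × F × F := fun g => (α g g.2, δ g g.2, γ g g.2)
  have hprm : ∀ g k : K, prm g = prm k → g⁻¹ * k ∈ K1 := by
    intro g k ep
    simp only [prm, Prod.mk.injEq] at ep
    obtain ⟨e1, e2, e3⟩ := ep
    refine hfix _ (g⁻¹ * k).2 fun w => ?_
    obtain ⟨a, b, c, rfl⟩ := hdec w
    have same : n g (a • u + b • e + c • x) = n k (a • u + b • e + c • x) := by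
      simp only [map_add, map_smul, hsu _ g.2, hsu _ k.2, hse _ g.2, hse _ k.2, hsx _ g.2, hsx _ k.2, e1, e2, e3]
    show n ((g : Cfsg.SU 6 F 2)⁻¹ * k) _ = 0
    rw [show (g : Cfsg.SU 6 F 2)⁻¹ = g from
      inv_eq_of_mul_eq_one_right (hsq _ g.2), hmul _ g.2 _ k.2, same,
      show n k (a • u + b • e + c • x) + n k (a • u + b • e + c • x) = 0 from funext fun i => add_self hF _,
      zero_add, ← same, hnn _ g.2]
  have hinv : ∀ g ∈ K, ∀ k : K1, ∀ v w, form (k : K).1 (n g v + v) (n g w + w) = form (k : K).1 v w := by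
    intro g hg k v w
    have hk : (k : K).1 ∈ Fix (F := F) := k.2
    set b := (k : K).1
    have e : ∀ z : V, mat b *ᵥ (sec (pr z)) + sec (pr z) = mat b *ᵥ z + z := by
      intro z
      have e2 := hk _ (pr_sub_sec hF z)
      rw [mulVec_add] at e2
      calc mat b *ᵥ sec (pr z) + sec (pr z)
          = (mat b *ᵥ z + mat b *ᵥ z) + (mat b *ᵥ sec (pr z) + sec (pr z)) := by rw [vadd_self hF, zero_add]
        _ = mat b *ᵥ z + (mat b *ᵥ z + mat b *ᵥ sec (pr z)) + sec (pr z) := by abel
        _ = mat b *ᵥ z + z + (sec (pr z) + sec (pr z)) := by rw [e2]; abel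
        _ = _ := by rw [vadd_self hF, add_zero]
    have hg' : ∀ z, n g z + z = pr (mat g *ᵥ sec z) := fun z => by
      rw [hpr g hg, pr_sec]
    unfold form
    rw [hg' v, hg' w, e]
    have ep : h (mat b *ᵥ (mat g *ᵥ sec v) + mat g *ᵥ sec v) (sec (pr (mat g *ᵥ sec w))) =
        h (mat b *ᵥ (mat g *ᵥ sec v) + mat g *ᵥ sec v) (mat g *ᵥ sec w) := by
      have := perp hF (fix_diff hF hk (mat g *ᵥ sec v)) (pr_sub_sec hF (mat g *ᵥ sec w))
      rw [h_add_right hF] at this
      linear_combination this - (h (mat b *ᵥ (mat g *ᵥ sec v) + mat g *ᵥ sec v) (mat g *ᵥ sec w)) * two_zero hF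
    rw [ep, mulVec_mulVec, ← mat_mul, (hcom _ (k : K).2 _ hg).eq, mat_mul, ← mulVec_mulVec, ← mulVec_add, su_h]
  have h0 : ∀ k : K1, ∀ v w, form (k : K).1 (v + u) w = form (k : K).1 v w + form (k : K).1 u w :=
    fun k v w => form_add_left hF _ _ _ _
  have base : ∀ k : K1, form (k : K).1 u u = 0 ∧ form (k : K).1 u e = 0 ∧
      (form (k : K).1 u x = 0 ∨ form (k : K).1 u x = 1) := by
    intro k
    have hk : (k : K).1 ∈ Fix (F := F) := k.2
    have eu := hinv g0 hg0 k x u
    have ee := hinv g0 hg0 k x e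
    have ex := hinv g0 hg0 k x x
    change form _ (u + x) (N u + u) = _ at eu
    change form _ (u + x) (N e + e) = _ at ee
    change form _ (u + x) (u + x) = _ at ex
    rw [hNu, zero_add, form_add_left hF] at eu
    rw [hNe, zero_add, form_add_left hF] at ee
    simp only [form_add_left hF, form_add_right hF] at ex
    have e1 : form (k : K).1 u u = 0 := by linear_combination eu
    refine ⟨e1, by linear_combination ee, fixed hF ?_⟩
    rw [form_herm hF hk]
    linear_combination ex - e1 - form (k : K).1 u x * two_zero hF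
  have herm3 : ∀ k : K1, form (k : K).1 e u = σ (form (k : K).1 u e) ∧ form (k : K).1 x u = σ (form (k : K).1 u x) ∧
      form (k : K).1 x e = σ (form (k : K).1 e x) := fun k =>
    ⟨(form_herm hF k.2 u e).symm, (form_herm hF k.2 u x).symm, (form_herm hF k.2 e x).symm⟩
  let F2 := {a : F // a = 0 ∨ a = 1}
  let val : K1 → F2 × F2 × F × F2 := fun k => (⟨_, (base k).2.2⟩, ⟨_, form_self hF k.2 e⟩, form (k : K).1 e x,
    ⟨_, form_self hF k.2 x⟩)
  have hval : Function.Injective val := by
    intro k l ev
    simp only [val, Prod.mk.injEq] at ev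
    obtain ⟨v1, v2, v3, v4⟩ := ev
    replace v1 : form (k : K).1 u x = form (l : K).1 u x := congrArg Subtype.val v1
    replace v2 : form (k : K).1 e e = form (l : K).1 e e := congrArg Subtype.val v2
    replace v4 : form (k : K).1 x x = form (l : K).1 x x := congrArg Subtype.val v4
    refine Subtype.ext (Subtype.ext (form_inj hF k.2 l.2 fun v w => ?_))
    obtain ⟨a, b, c, rfl⟩ := hdec v
    obtain ⟨a', b', c', rfl⟩ := hdec w
    obtain ⟨k1, k2, -⟩ := base k
    obtain ⟨l1, l2, -⟩ := base l
    simp only [form_add_left hF, form_smul_left hF, form_add_right hF, form_smul_right hF, herm3 k, herm3 l, map_zero, k1, k2, l1, l2, v1, v2, v3, v4]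
  have hF2 : Nat.card F2 = 2 := by
    rw [Nat.card_eq_fintype_card, Fintype.card_subtype,
      show (Finset.univ.filter fun a : F => a = 0 ∨ a = 1) = {0, 1} by ext a; simp, Finset.card_pair zero_ne_one]
  have hFc : Nat.card F = 4 := by rw [Nat.card_eq_fintype_card, hF]; norm_num
  haveI : Nonempty F2 := ⟨⟨0, Or.inl rfl⟩⟩
  -- combine
  have hidx : ∀ {T : Type} [Finite T] (f : K → T), (∀ g k, f g = f k → prm g = prm k) → K1.index ≤ Nat.card T := by
    intro T _ f hf
    refine Nat.card_le_card_of_injective (fun q : K ⧸ K1 => f q.out) fun q q' eq => ?_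
    rw [← QuotientGroup.out_eq' q, ← QuotientGroup.out_eq' q']
    exact QuotientGroup.eq.mpr (hprm _ _ (hf _ _ eq))
  have hK1 : Nat.card K1 ≤ 32 := by
    refine (Nat.card_le_card_of_injective val hval).trans ?_
    rw [Nat.card_prod, Nat.card_prod, Nat.card_prod, hF2, hFc]
  rw [← K1.card_mul_index]
  by_cases hrow : ∃ g : K, α g g.2 ≠ 0
  · obtain ⟨g1, hg1⟩ := hrow
    have hd1 : δ g1 g1.2 = 0 := (mul_eq_zero.mp (hsad _ g1.2)).resolve_left hg1
    have hδ : ∀ g : K, δ g g.2 = 0 := fun g => by
      have e2 := hnc _ g1.2 _ g.2 x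
      rw [hsx _ g.2, hsx _ g1.2, hd1, map_add, map_smul, map_smul, hsu _ g1.2, smul_zero, zero_add, hse _ g1.2,
        zero_smul, add_zero, map_smul, hsu _ g.2, smul_zero, smul_smul] at e2
      exact (mul_eq_zero.mp ((smul_eq_zero.mp e2).resolve_right hx)).resolve_right hg1
    have hux : ∀ k : K1, form (k : K).1 u x = 0 := by
      intro k
      obtain ⟨k1, k2, -⟩ := base k
      have e2 := hinv _ g1.2 k e x
      rw [hse _ g1.2, hsx _ g1.2, hd1, zero_smul, add_zero] at e2
      simp only [form_add_left hF, form_smul_left hF, form_add_right hF, form_smul_right hF,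
        herm3 k, k1, k2, map_zero, mul_zero, zero_add] at e2
      have : α g1 g1.2 * form (k : K).1 u x = 0 := by linear_combination e2
      exact (mul_eq_zero.mp this).resolve_left hg1
    have hc : Nat.card K1 ≤ 16 := by
      refine (Nat.card_le_card_of_injective (fun k : K1 => ((val k).2 : F2 × F × F2)) fun k l ev =>
        hval (Prod.ext (Subtype.ext ((hux k).trans (hux l).symm)) ev)).trans ?_
      rw [Nat.card_prod, Nat.card_prod, hF2, hFc]
    have hi : K1.index ≤ 16 := by
      refine (hidx (fun g : K => (α g g.2, γ g g.2)) fun g k eq => ?_).trans (by rw [Nat.card_prod, hFc])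
      simp only [Prod.mk.injEq] at eq
      simp only [prm, eq.1, eq.2, hδ]
    calc Nat.card K1 * K1.index ≤ 16 * 16 := Nat.mul_le_mul hc hi
      _ = 256 := rfl
  push Not at hrow
  by_cases hcol : ∃ g : K, δ g g.2 ≠ 0
  · obtain ⟨g1, hg1⟩ := hcol
    have hee : ∀ k : K1, form (k : K).1 e e = 0 := by
      intro k
      obtain ⟨k1, k2, -⟩ := base k
      have e2 := hinv _ g1.2 k e x
      rw [hse _ g1.2, hsx _ g1.2, hrow g1, zero_smul, zero_add] at e2
      simp only [form_add_left hF, form_smul_left hF, form_add_right hF, form_smul_right hF,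
        herm3 k, k2, map_zero, mul_zero, zero_add] at e2
      have : σ (δ g1 g1.2) * form (k : K).1 e e = 0 := by linear_combination e2
      exact (mul_eq_zero.mp this).resolve_left fun q => hg1 ((map_eq_zero _).mp q)
    have hc : Nat.card K1 ≤ 16 := by
      refine (Nat.card_le_card_of_injective (fun k : K1 => (((val k).1, (val k).2.2) : F2 × F × F2))
        fun k l ev => hval (Prod.ext (Prod.ext_iff.mp ev).1 (Prod.ext
          (Subtype.ext ((hee k).trans (hee l).symm)) (Prod.ext_iff.mp ev).2))).trans ?_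
      rw [Nat.card_prod, Nat.card_prod, hF2, hFc]
    have hi : K1.index ≤ 16 := by
      refine (hidx (fun g : K => (δ g g.2, γ g g.2)) fun g k eq => ?_).trans (by rw [Nat.card_prod, hFc])
      simp only [Prod.mk.injEq] at eq
      simp only [prm, eq.1, eq.2, hrow]
    calc Nat.card K1 * K1.index ≤ 16 * 16 := Nat.mul_le_mul hc hi
      _ = 256 := rfl
  push Not at hcol
  have hi : K1.index ≤ 4 := by
    refine (hidx (fun g : K => γ g g.2) fun g k eq => ?_).trans (by rw [hFc])
    simp only [prm, eq, hrow, hcol]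
  calc Nat.card K1 * K1.index ≤ 32 * 4 := Nat.mul_le_mul hK1 hi
    _ ≤ 256 := by norm_num

end CfsgThreeTrans.M22.PlaneRadical
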