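/-
Maximal commuting sets of transpositions in type M(22): their number is odd, and they are all conjugate.
-/
import Cfsg.Agent.Lib.ThreeTrans.M22.PlaneRadical
import Cfsg.Agent.Lib.ThreeTrans.M22.InvolClasses
import Cfsg.Agent.Lib.ThreeTrans.M22.Cliques

set_option autoImplicit false
set_option linter.unusedSectionVars false

namespace CfsgThreeTrans.M22.CliqueCount

open Matrix Cfsg CfsgLib CfsgLib.UnitaryTransvection CfsgLib.UnitarySimple CfsgThreeTrans.M22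
  CfsgThreeTrans.M22.Points

universe u

variable {G : Type u} [Group G] [Finite G] {D : Set G}
variable {F : Type} [Field F] [Fintype F] [DecidableEq F] {hF : Fintype.card F = 2 ^ 2}

local notation "h" => Cfsg.hermForm 6 F 2
local notation "π" => QuotientGroup.mk' (Subgroup.center (Cfsg.SU 6 F 2))

/-- A maximal commuting set of transpositions. -/
def IsClique (D E : Set G) : Prop :=
  E ⊆ D ∧ (∀ a ∈ E, ∀ b ∈ E, Commute a b) ∧ ∀ c ∈ D, (∀ a ∈ E, Commute a c) → c ∈ E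

theorem IsClique.cj (hD : IsThreeTranspositionClass D) {E : Set G} (hE : IsClique D E) (g : G) :
    IsClique D ((fun z => g * z * g⁻¹) '' E) := by
  refine ⟨?_, ?_, fun c hc hcom => ?_⟩
  · rintro _ ⟨a, ha, rfl⟩
    exact cls_conj hD g (hE.1 ha)
  · rintro _ ⟨a, ha, rfl⟩ _ ⟨b, hb, rfl⟩
    exact (commute_cj_iff g).mpr (hE.2.1 a ha b hb)
  · refine ⟨g⁻¹ * c * g⁻¹⁻¹, hE.2.2 _ (cls_conj hD g⁻¹ hc) fun a ha => ?_, cj_inv g c⟩
    have := (commute_cj_iff g⁻¹).mpr (hcom _ ⟨a, ha, rfl⟩)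
    rwa [show g⁻¹ * (g * a * g⁻¹) * g⁻¹⁻¹ = a by group] at this

/-- Lying in the plane of slope `l` through the standard line. -/
def InPlane (l : F) (x : Fin 6 → F) : Prop := x 0 = x 1 ∧ x 2 = x 3 ∧ x 5 = l * x 4

/-- The standard maximal commuting sets. -/
def Cw (A : Data D F hF) (l : F) : Set G := insert A.t {e | ∃ x : Iso F, InPlane l x.1 ∧ point A x = e}

theorem inPlane_perp (hF : Fintype.card F = 2 ^ 2) {l : F} (hl : l ≠ 0) {x y : Fin 6 → F} (hx : InPlane l x)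
    (hy : InPlane l y) : h x y = 0 := by
  have h3 := cube hF hl
  simp only [Cfsg.hermForm, Fin.sum_univ_six]
  rw [← hx.1, ← hx.2.1, hx.2.2, ← hy.1, ← hy.2.1, hy.2.2]
  linear_combination (x 4 * y 4 ^ 2) * h3 + (x 0 * y 0 ^ 2 + x 2 * y 2 ^ 2 + x 4 * y 4 ^ 2) * two_zero hF

theorem Cw_comm (A : Data D F hF) {l : F} (hl : l ≠ 0) : ∀ a ∈ Cw A l, ∀ b ∈ Cw A l, Commute a b := by
  rintro a (rfl | ⟨x, hx, rfl⟩) b (rfl | ⟨y, hy, rfl⟩)
  · exact Commute.refl _
  · exact (point_mem A y).2.2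
  · exact (point_mem A x).2.2.symm
  · exact (point_commute_iff A x y).mpr (inPlane_perp hF hl hx hy)

theorem Cw_sub (A : Data D F hF) (l : F) : Cw A l ⊆ D := by
  rintro a (rfl | ⟨x, -, rfl⟩)
  exacts [A.ht, (point_mem A x).1]

theorem base_mem (A : Data D F hF) (l : F) : A.t ∈ Cw A l ∧ q1 A ∈ Cw A l ∧ q2 A ∈ Cw A l :=
  ⟨Set.mem_insert _ _, Or.inr ⟨dv hF 1 0 0 (Or.inl one_ne_zero), ⟨rfl, rfl, by simp [dv, dbl]⟩, rfl⟩,
    Or.inr ⟨dv hF 0 1 0 (Or.inr (Or.inl one_ne_zero)), ⟨rfl, rfl, by simp [dv, dbl]⟩, rfl⟩⟩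

/-- A commuting set containing the base triple lies in one of three sets. -/
theorem sub_Cw (A : Data D F hF) {S : Set G} (hS : S ⊆ D) (hc : ∀ a ∈ S, ∀ b ∈ S, Commute a b) (ht : A.t ∈ S)
    (h1 : q1 A ∈ S) (h2 : q2 A ∈ S) : ∃ l : F, l ≠ 0 ∧ S ⊆ Cw A l := by
  classical
  have key : ∀ a ∈ S, a ≠ A.t → ∃ x : Iso F, point A x = a ∧ x.1 0 = x.1 1 ∧ x.1 2 = x.1 3 ∧
      x.1 4 * x.1 4 ^ 2 + x.1 5 * x.1 5 ^ 2 = 0 := by
    intro a ha hat
    obtain ⟨x, rfl⟩ := point_surj A (show a ∈ Ds D A.t from ⟨hS ha, hat, hc _ ht _ ha⟩)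
    have e1 := (point_commute_iff A x (dv hF 1 0 0 (Or.inl one_ne_zero))).mp (hc _ ha _ h1)
    have e2 := (point_commute_iff A x (dv hF 0 1 0 (Or.inr (Or.inl one_ne_zero)))).mp (hc _ ha _ h2)
    simp [Cfsg.hermForm, Fin.sum_univ_six, dv, dbl] at e1 e2
    have a0 : x.1 0 = x.1 1 := by linear_combination e1 - x.1 1 * two_zero hF
    have a2 : x.1 2 = x.1 3 := by linear_combination e2 - x.1 3 * two_zero hF
    refine ⟨x, rfl, a0, a2, ?_⟩
    have := x.2.2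
    simp [Cfsg.hermForm, Fin.sum_univ_six] at this
    rw [a0, a2] at this
    linear_combination this - (x.1 1 * x.1 1 ^ 2 + x.1 3 * x.1 3 ^ 2) * two_zero hF
  have slope : ∀ x : Iso F, x.1 4 * x.1 4 ^ 2 + x.1 5 * x.1 5 ^ 2 = 0 → (x.1 4 = 0 → x.1 5 = 0) ∧
      (x.1 4 ≠ 0 → x.1 5 ≠ 0) := by
    intro x e
    refine ⟨fun q => ?_, fun q q' => ?_⟩
    · rw [q] at e; simpa using e
    · rw [q'] at e
      simp [q] at e
  by_cases hex : ∃ a ∈ S, a ≠ A.t ∧ ∃ x : Iso F, point A x = a ∧ x.1 4 ≠ 0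
  · obtain ⟨a, ha, hat, x, hx, hx4⟩ := hex
    obtain ⟨x', hx', a0, a2, a4⟩ := key a ha hat
    obtain ⟨k, hk, e⟩ := (point_eq_iff A x x').mp (hx.trans hx'.symm)
    have hx'4 : x'.1 4 ≠ 0 := fun q => hx4 (by rw [e]; simp [q])
    refine ⟨x'.1 5 / x'.1 4, div_ne_zero ((slope x' a4).2 hx'4) hx'4, fun b hb => ?_⟩
    by_cases hbt : b = A.t
    · exact Or.inl hbt
    obtain ⟨y, hy, b0, b2, b4⟩ := key b hb hbt
    refine Or.inr ⟨y, ⟨b0, b2, ?_⟩, hy⟩
    by_cases hy4 : y.1 4 = 0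
    · rw [(slope y b4).1 hy4, hy4, mul_zero]
    have hc' := (point_commute_iff A y x').mp (by rw [hy, hx']; exact hc _ hb _ ha)
    simp [Cfsg.hermForm, Fin.sum_univ_six] at hc'
    rw [a0, a2, b0, b2] at hc'
    have h3 := cube hF hx'4
    have h3' := cube hF ((slope x' a4).2 hx'4)
    field_simp
    linear_combination (x'.1 4 * x'.1 5) * hc' - (x'.1 5 * y.1 4) * h3 - (y.1 5 * x'.1 4) * h3' -
      (x'.1 5 * y.1 4 + x'.1 4 * x'.1 5 * (y.1 1 * x'.1 1 ^ 2 + y.1 3 * x'.1 3 ^ 2)) * two_zero hF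
  · push Not at hex
    refine ⟨1, one_ne_zero, fun b hb => ?_⟩
    by_cases hbt : b = A.t
    · exact Or.inl hbt
    obtain ⟨y, hy, b0, b2, b4⟩ := key b hb hbt
    have hy4 := hex b hb hbt y hy
    exact Or.inr ⟨y, ⟨b0, b2, by rw [(slope y b4).1 hy4, hy4, mul_zero]⟩, hy⟩

theorem Cw_clique (A : Data D F hF) {l : F} (hl : l ≠ 0) : IsClique D (Cw A l) := by
  refine ⟨Cw_sub A l, Cw_comm A hl, fun c hc hcom => ?_⟩
  obtain ⟨m, hm, hsub⟩ := sub_Cw A (S := insert c (Cw A l)) (Set.insert_subset hc (Cw_sub A l)) (by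
    rintro a (rfl | ha) b (rfl | hb)
    exacts [Commute.refl _, (hcom b hb).symm, hcom a ha, Cw_comm A hl a ha b hb])
    (Or.inr (base_mem A l).1) (Or.inr (base_mem A l).2.1) (Or.inr (base_mem A l).2.2)
  set v : Fin 6 → F := ![0, 0, 0, 0, 1, l] with hv
  have hvp : InPlane l v := ⟨by simp [hv], by simp [hv], by simp [hv]⟩
  let x : Iso F := ⟨v, fun q => one_ne_zero (α := F) (by simpa [hv] using congrFun q 4), inPlane_perp hF hl hvp hvp⟩
  rcases hsub (Or.inr (Or.inr ⟨x, hvp, rfl⟩) : point A x ∈ _) with e | ⟨y, hy, e⟩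
  · exact absurd e (point_mem A x).2.1
  obtain ⟨k, hk, e'⟩ := (point_eq_iff A y x).mp e
  have e5 := hy.2.2
  rw [e'] at e5
  simp [x, hv] at e5
  have hml : m = l := mul_left_cancel₀ hk (by linear_combination -e5)
  exact hml ▸ hsub (Set.mem_insert _ _)

theorem Cw_inj (A : Data D F hF) {l m : F} (hl : l ≠ 0) (e : Cw A l = Cw A m) : l = m := by
  set v : Fin 6 → F := ![0, 0, 0, 0, 1, l] with hv
  have hvp : InPlane l v := ⟨by simp [hv], by simp [hv], by simp [hv]⟩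
  let x : Iso F := ⟨v, fun q => one_ne_zero (α := F) (by simpa [hv] using congrFun q 4), inPlane_perp hF hl hvp hvp⟩
  rcases (e ▸ Or.inr ⟨x, hvp, rfl⟩ : point A x ∈ Cw A m) with q | ⟨y, hy, q⟩
  · exact absurd q (point_mem A x).2.1
  obtain ⟨k, hk, e'⟩ := (point_eq_iff A y x).mp q
  have e5 := hy.2.2
  rw [e'] at e5
  simp [x, hv] at e5
  exact mul_left_cancel₀ hk (by linear_combination e5)

/-- The cliques through the base triple. -/
theorem cliques_base (A : Data D F hF) {E : Set G} (hE : IsClique D E) (ht : A.t ∈ E) (h1 : q1 A ∈ E)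
    (h2 : q2 A ∈ E) : ∃ l : F, l ≠ 0 ∧ E = Cw A l := by
  obtain ⟨l, hl, hsub⟩ := sub_Cw A hE.1 hE.2.1 ht h1 h2
  exact ⟨l, hl, hsub.antisymm fun c hc =>
    hE.2.2 c (Cw_sub A l hc) fun a ha => Cw_comm A hl a (hsub ha) c hc⟩

theorem Cw_move (hD : IsThreeTranspositionClass D) (A : Data D F hF) {l : F} (hl : l ≠ 0) :
    ∃ g : G, g * A.t * g⁻¹ = A.t ∧ (fun z => g * z * g⁻¹) '' Cw A 1 = Cw A l := by
  have h3 := cube hF hl
  set d : Fin 6 → F := ![1, 1, l, l, 1, l] with hd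
  have hdd : ∀ i, d i * d i ^ 2 = 1 := by
    intro i
    rw [← pow_succ']
    refine cube hF ?_
    fin_cases i <;> simp [hd, hl]
  let k : Cfsg.SU 6 F 2 := mkSU (Matrix.diagonal d) (fun x y => by
      simp only [Cfsg.hermForm, mulVec_diagonal]
      exact Finset.sum_congr rfl fun i _ => by linear_combination (x i * y i ^ 2) * hdd i)
    (by rw [det_diagonal, Fin.prod_univ_six]; simp [hd]; linear_combination h3)
  have hk : ∀ x i, (mat k *ᵥ x) i = d i * x i := fun x i => mulVec_diagonal d x i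
  obtain ⟨⟨g, hg⟩, hgk⟩ := A.sur (π k)
  have gt : g * A.t * g⁻¹ = A.t := by rw [(closure_Ds_commute hg).eq, mul_inv_cancel_right]
  have hsub : (fun z => g * z * g⁻¹) '' Cw A 1 ⊆ Cw A l := by
    rintro _ ⟨e, (rfl | ⟨x, hx, rfl⟩), rfl⟩
    · exact Or.inl gt
    · obtain ⟨y, hy, hxy⟩ := cj_point hD A hg hgk x
      refine Or.inr ⟨y, ?_, hxy.symm⟩
      obtain ⟨x0, x2, x5⟩ := hx
      refine ⟨?_, ?_, ?_⟩ <;> rw [hy, hk, hk] <;> simp [hd, x0, x2, x5]
  refine ⟨g, gt, hsub.antisymm fun c hc => ?_⟩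
  exact ((Cw_clique A one_ne_zero).cj hD g).2.2 c (Cw_sub A l hc) fun a ha => Cw_comm A hl a (hsub ha) c hc

/-- Every clique is conjugate to the standard one, with any chosen member going to the base. -/
theorem clique_move (hD : IsThreeTranspositionClass D) (A : Data D F hF) {E : Set G} (hE : IsClique D E) {a : G}
    (ha : a ∈ E) : ∃ g : G, g * a * g⁻¹ = A.t ∧ (fun z => g * z * g⁻¹) '' E = Cw A 1 := by
  classical
  have h22 := clique_card hD A hE.1 hE.2.1 hE.2.2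
  obtain ⟨b, hb, hba⟩ : ∃ b ∈ E, b ≠ a := Set.exists_ne_of_one_lt_ncard (by omega) a
  obtain ⟨c, hc, hcn⟩ : ∃ c ∈ E, c ∉ ({a, b} : Set G) := Set.exists_mem_notMem_of_ncard_lt_ncard
    (lt_of_le_of_lt (Set.ncard_insert_le a {b}) (by rw [Set.ncard_singleton]; omega)) (Set.toFinite _)
  simp only [Set.mem_insert_iff, Set.mem_singleton_iff, not_or] at hcn
  have hq : q2 A ∈ Ds D A.t := point_mem A _
  obtain ⟨g, g1, g2, g3⟩ := triple_map hD A (hE.1 ha) ⟨hE.1 hb, hba, hE.2.1 a ha b hb⟩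
    ⟨hE.1 hc, hcn.1, hE.2.1 a ha c hc⟩ (Ne.symm hcn.2) (hE.2.1 b hb c hc) A.ht
    (b' := q1 A) (point_mem A _) (c' := q2 A) hq
    (fun e => by
      obtain ⟨k, hk, e'⟩ := (point_eq_iff A _ _).mp e
      simpa [dv, dbl] using congrFun e' 0)
    (dp_commute A 1 0 0 0 1 0 _ _)
  obtain ⟨l, hl, e⟩ := cliques_base A (hE.cj hD g) ⟨a, ha, g1⟩ ⟨b, hb, g2⟩ ⟨c, hc, g3⟩
  obtain ⟨k, k1, k2⟩ := Cw_move hD A hl
  refine ⟨k⁻¹ * g, ?_, ?_⟩
  · rw [← cj_cj, g1]
    conv_lhs => rw [← k1]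
    group
  · rw [show (fun z => k⁻¹ * g * z * (k⁻¹ * g)⁻¹) = (fun z => k⁻¹ * z * k⁻¹⁻¹) ∘ (fun z => g * z * g⁻¹) from
      funext fun z => (cj_cj _ _ _).symm, Set.image_comp, e, ← k2, ← Set.image_comp]
    refine Eq.trans ?_ (Set.image_id _)
    congr 1
    funext z
    simp only [Function.comp_apply, id_eq]
    group

open Classical in
/-- There is an odd number of cliques. -/
theorem card_cliques_odd (hD : IsThreeTranspositionClass D) (hp : IsPrimitiveUnderConj D) (A : Data D F hF) :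
    Odd (Nat.card {E : Set G // IsClique D E}) := by
  haveI := Fintype.ofFinite G
  let Trip := {p : G × G × G // p.1 ∈ D ∧ p.2.1 ∈ Ds D p.1 ∧ p.2.2 ∈ Ds D p.1 ∩ Ds D p.2.1}
  let Flag := {q : {E : Set G // IsClique D E} × Trip // q.2.1.1 ∈ q.1.1 ∧ q.2.1.2.1 ∈ q.1.1 ∧ q.2.1.2.2 ∈ q.1.1}
  have hT : Nat.card Trip = 3510 * (693 * 180) := by
    let e : Trip ≃ Σ a : D, Σ b : Ds D (a : G), ↥(Ds D (a : G) ∩ Ds D (b : G)) :=
      { toFun := fun p => ⟨⟨p.1.1, p.2.1⟩, ⟨p.1.2.1, p.2.2.1⟩, ⟨p.1.2.2, p.2.2.2⟩⟩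
        invFun := fun q => ⟨(q.1.1, q.2.1.1, q.2.2.1), q.1.2, q.2.1.2, q.2.2.2⟩
        left_inv := fun p => rfl
        right_inv := fun q => rfl }
    rw [Nat.card_congr e, Nat.card_sigma]
    have inner : ∀ a : D, Nat.card (Σ b : Ds D (a : G), ↥(Ds D (a : G) ∩ Ds D (b : G))) = 693 * 180 := by
      intro a
      rw [Nat.card_sigma, Finset.sum_congr rfl fun b _ =>
        (Nat.card_coe_set_eq _).trans (ncard_near hD A a.2 b.2), Finset.sum_const, Finset.card_univ,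
        ← Nat.card_eq_fintype_card, Nat.card_coe_set_eq, ncard_Ds hD A a.2, smul_eq_mul]
    rw [Finset.sum_congr rfl fun a _ => inner a, Finset.sum_const, Finset.card_univ, ← Nat.card_eq_fintype_card,
      Nat.card_coe_set_eq, (params hD hp A).1, smul_eq_mul]
  have h1 : Nat.card Flag = Nat.card {E : Set G // IsClique D E} * 9240 := by
    let e : Flag ≃ Σ E : {E : Set G // IsClique D E}, (Fin 3 ↪ ↥E.1) :=
      { toFun := fun q => ⟨q.1.1, ⟨![⟨_, q.2.1⟩, ⟨_, q.2.2.1⟩, ⟨_, q.2.2.2⟩], by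
          obtain ⟨hab, hac, hbc⟩ : q.1.2.1.1 ≠ q.1.2.1.2.1 ∧ q.1.2.1.1 ≠ q.1.2.1.2.2 ∧ q.1.2.1.2.1 ≠ q.1.2.1.2.2 :=
            ⟨q.1.2.2.2.1.2.1.symm, q.1.2.2.2.2.1.2.1.symm, q.1.2.2.2.2.2.2.1.symm⟩
          intro i j hij
          have hv := congrArg Subtype.val hij
          fin_cases i <;> fin_cases j <;> first
            | rfl | exact absurd hv hab | exact absurd hv.symm hab | exact absurd hv hac | exact absurd hv.symm hac
            | exact absurd hv hbc | exact absurd hv.symm hbc⟩⟩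
        invFun := fun p => ⟨(p.1, ⟨((p.2 0 : G), (p.2 1 : G), (p.2 2 : G)), by
          have hne : ∀ i j, i ≠ j → (p.2 i : G) ≠ p.2 j := fun i j hij e => hij (p.2.injective (Subtype.ext e))
          have hc := p.1.2.2.1
          exact ⟨p.1.2.1 (p.2 0).2, ⟨p.1.2.1 (p.2 1).2, hne 1 0 (by decide), hc _ (p.2 0).2 _ (p.2 1).2⟩,
            ⟨p.1.2.1 (p.2 2).2, hne 2 0 (by decide), hc _ (p.2 0).2 _ (p.2 2).2⟩,
            ⟨p.1.2.1 (p.2 2).2, hne 2 1 (by decide), hc _ (p.2 1).2 _ (p.2 2).2⟩⟩⟩),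
          (p.2 0).2, (p.2 1).2, (p.2 2).2⟩
        left_inv := fun q => rfl
        right_inv := fun p => by
          refine Sigma.ext rfl (heq_of_eq ?_)
          ext i
          fin_cases i <;> rfl }
    rw [Nat.card_congr e, Nat.card_sigma, Finset.sum_congr rfl fun E _ => ?_, Finset.sum_const, Finset.card_univ,
      ← Nat.card_eq_fintype_card, smul_eq_mul]
    · rw [Nat.card_eq_fintype_card, Fintype.card_embedding_eq, ← Nat.card_eq_fintype_card,
        Nat.card_coe_set_eq, clique_card hD A E.2.1 E.2.2.1 E.2.2.2, Fintype.card_fin]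
      rfl
  have h2 : Nat.card Flag = Nat.card Trip * 3 := by
    let e : Flag ≃ Σ p : Trip, {E : {E : Set G // IsClique D E} // p.1.1 ∈ E.1 ∧ p.1.2.1 ∈ E.1 ∧ p.1.2.2 ∈ E.1} :=
      { toFun := fun q => ⟨q.1.2, q.1.1, q.2⟩
        invFun := fun p => ⟨(p.2.1, p.1), p.2.2⟩
        left_inv := fun q => rfl
        right_inv := fun p => rfl }
    rw [Nat.card_congr e, Nat.card_sigma, Finset.sum_congr rfl fun p _ => ?_, Finset.sum_const, Finset.card_univ,
      ← Nat.card_eq_fintype_card, smul_eq_mul]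
    · obtain ⟨⟨a, b, c⟩, ha, hb, hc⟩ := p
      obtain ⟨g, g1, g2, g3⟩ := triple_map hD A A.ht (b := q1 A) (point_mem A _) (c := q2 A) (point_mem A _)
        (fun e => by
          obtain ⟨k, hk, e'⟩ := (point_eq_iff A _ _).mp e
          simpa [dv, dbl] using congrFun e' 0)
        (dp_commute A 1 0 0 0 1 0 _ _) ha hb hc.1 hc.2.2.1.symm hc.2.2.2
      dsimp only at g1 g2 g3
      let f : {l : F // l ≠ 0} → {E : {E : Set G // IsClique D E} // a ∈ E.1 ∧ b ∈ E.1 ∧ c ∈ E.1} := fun l =>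
        ⟨⟨_, (Cw_clique A l.2).cj hD g⟩, ⟨_, (base_mem A l.1).1, g1⟩, ⟨_, (base_mem A l.1).2.1, g2⟩,
          ⟨_, (base_mem A l.1).2.2, g3⟩⟩
      have hf : Function.Bijective f := by
        refine ⟨fun l m e => Subtype.ext (Cw_inj A l.2 ?_), fun E => ?_⟩
        · exact (Set.image_injective.mpr (cj_injective g)) (congrArg (fun E => E.1.1) e)
        · obtain ⟨⟨E, hE⟩, ea, eb, ec⟩ := E
          obtain ⟨l, hl, e⟩ := cliques_base A (hE.cj hD g⁻¹) ⟨a, ea, by rw [← g1]; group⟩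
            ⟨b, eb, by rw [← g2]; group⟩ ⟨c, ec, by rw [← g3]; group⟩
          refine ⟨⟨l, hl⟩, Subtype.ext (Subtype.ext ?_)⟩
          show (fun z => g * z * g⁻¹) '' Cw A l = E
          rw [← e, ← Set.image_comp]
          refine Eq.trans ?_ (Set.image_id _)
          congr 1
          funext z
          simp only [Function.comp_apply, id_eq]
          group
      rw [← Nat.card_eq_of_bijective f hf, Nat.card_eq_fintype_card, Fintype.card_subtype_compl,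
        Fintype.card_subtype_eq, hF]
      norm_num
  rw [hT, h1] at h2
  rw [Nat.eq_of_mul_eq_mul_right (by norm_num : 0 < 9240) (h2.trans (by norm_num : 3510 * (693 * 180) * 3 = 142155 * 9240))]
  exact ⟨71077, by norm_num⟩

end CfsgThreeTrans.M22.CliqueCount
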