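/-
A class of 3-transpositions of type M(22) is primitive.
-/
import Cfsg.Agent.Lib.ThreeTrans.M22.Quasi

set_option autoImplicit false
set_option linter.unusedSectionVars false

namespace CfsgThreeTrans.M22

open Cfsg CfsgLib
open scoped commutatorElement

universe u

variable {G : Type u} [Group G] [Finite G] {D : Set G}

theorem noncommute_at (h22 : IsOfTypeM22 G D) : ∃ t ∈ D, ∃ x ∈ Ds D t, ∃ y ∈ Ds D t, ¬ Commute x y := by
  obtain ⟨t, ht, -, hna⟩ := local_of_M22 h22
  exact ⟨t, ht, hna⟩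

/-- The 3-core is central. -/
theorem core_three (hD : IsThreeTranspositionClass D) (h22 : IsOfTypeM22 G D) :
    pCore 3 G ≤ Subgroup.center G := by
  by_contra hnc
  obtain ⟨t, ht, h3, -⟩ := cores (cls_group hD) h22
  obtain ⟨t', ht', x', hx', -⟩ := noncommute_at h22
  obtain ⟨g, rfl⟩ := cls_exists_conj hD ht' ht
  obtain ⟨a, ha⟩ : (Ds D (g * t' * g⁻¹)).Nonempty :=
    ⟨g * x' * g⁻¹, cj_Ds hD g t' ▸ ⟨x', hx', rfl⟩⟩
  set t := g * t' * g⁻¹
  obtain ⟨u, hu, hne⟩ := moved_of_core hD hnc ha.1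
  set w := u * a * u⁻¹
  have hw : w ∈ Ws D a := by rw [Ws_eq_orbit hD ha.1]; exact ⟨u, hu, rfl⟩
  have htw : t ∈ Ds D w := by
    show t ∈ {y : G | y ∈ D ∧ y ≠ w ∧ Commute w y}
    rw [← hw.2]
    exact ⟨ht, ha.2.1.symm, ha.2.2.symm⟩
  have hwt : w ∈ Ds D t := ⟨hw.1, fun e => htw.2.1 e.symm, htw.2.2.symm⟩
  set H := Subgroup.closure (Ds D t)
  haveI : Fact (Nat.Prime 3) := ⟨Nat.prime_three⟩
  haveI : ((pCore 3 G).subgroupOf H).Normal := Subgroup.normal_subgroupOf
  have hP : IsPGroup 3 ((pCore 3 G).subgroupOf H) :=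
    (isPGroup_pCore 3).comap_of_injective H.subtype H.subtype_injective
  have hm : a * w ∈ H := mul_mem (Subgroup.subset_closure ha) (Subgroup.subset_closure hwt)
  have hz : (⟨a * w, hm⟩ : H) ∈ Subgroup.center H :=
    h3 (le_pCore hP (Subgroup.mem_subgroupOf.mpr (mul_mem_three_of_Ws hD ha.1 hw)))
  have hc : Commute a (a * w) := congrArg Subtype.val (Subgroup.mem_center_iff.mp hz ⟨a, Subgroup.subset_closure ha⟩)
  have h4 : Commute a w := by
    have := (Commute.refl a).inv_right.mul_right hc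
    rwa [inv_mul_cancel_left] at this
  exact Ws_not_commute (⟨ha.1, rfl⟩ : a ∈ Ws D a) hw (Ne.symm hne) h4

/-- A class of type M(22) is primitive. -/
theorem primitive (hD : IsThreeTranspositionClass D) (h22 : IsOfTypeM22 G D) : IsPrimitiveUnderConj D := by
  have hloc := local_of_M22 h22
  obtain ⟨t₀, ht₀, hcore₀, hna₀⟩ := hloc
  have h2 : pCore 2 G ≤ Subgroup.center G := core_two_of_partners hD ht₀ hcore₀ hna₀
  have h3 := core_three hD h22
  obtain ⟨hZ, d, hd, c, hc, hdc, ⟨F, iF, iFt, hF, ⟨e⟩⟩, c₃, hc₃, Q, hQn, hQ, ⟨eL⟩⟩ := h22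
  classical
  obtain ⟨g₀, rfl⟩ := cls_exists_conj hD ht₀ hd
  set d := g₀ * t₀ * g₀⁻¹
  have hD2 : ∃ a ∈ D, ∃ b ∈ D, a ≠ b := ⟨d, hd, c, hc, fun h => hdc (h ▸ Commute.refl d)⟩
  set L := layer G
  set O := {y : G | ∃ g ∈ L, g * d * g⁻¹ = y} with hO
  set R := Subgroup.closure O with hR
  have hOD : O ⊆ D := by rintro _ ⟨g, -, rfl⟩; exact cls_conj hD g hd
  have hdO : d ∈ O := ⟨1, one_mem _, by simp⟩
  have hOL : ∀ g ∈ L, ∀ y ∈ O, g * y * g⁻¹ ∈ O := by
    rintro g hg _ ⟨k, hk, rfl⟩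
    exact ⟨g * k, mul_mem hg hk, (cj_cj g k d).symm⟩
  have hLR : L ≤ R := layer_le_closure hD hD2 h2 h3 hd hdO hOL
  have hOdL : ∀ y ∈ O, d * y ∈ L := by
    rintro _ ⟨g, hg, rfl⟩
    have h1 := mul_mem ((inferInstance : L.Normal).conj_mem g hg d) (inv_mem hg)
    rw [inv_self hD.1 hd] at h1
    simpa only [← mul_assoc] using h1
  have hC : ∀ x ∈ D, d * x ∈ L → x ∈ O := by
    intro x hx hdx
    by_contra hxO
    have hcom : ∀ y ∈ O, Commute x y := by
      intro y hy
      by_contra hnc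
      apply hxO
      have hyx : y * x ∈ L := by
        have := mul_mem (inv_mem (hOdL y hy)) hdx
        rwa [mul_inv_rev, inv_self hD.1 hd, inv_self hD.1 (hOD hy), mul_assoc,
          mul_mul_cancel_self (mul_self hD.1 hd)] at this
      exact cj_pair hD.1 (hOD hy) hx (fun h => hnc h.symm) ▸ hOL _ hyx y hy
    have hle : R ≤ Subgroup.centralizer ({x} : Set G) :=
      (Subgroup.closure_le _).mpr fun y hy => Subgroup.mem_centralizer_singleton_iff.mpr (hcom y hy).eq.symm
    have hxc : x ∈ Subgroup.center G := centralizer_layer_le hD h2 h3 (Subgroup.mem_centralizer_iff.mpr fun g hg =>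
      Subgroup.mem_centralizer_singleton_iff.mp (hle (hLR hg)))
    obtain ⟨e, he, hne⟩ := exists_noncommute hD hD2 hx
    exact hne (Subgroup.mem_center_iff.mp hxc e).symm
  have hDsO : ∀ y ∈ Ds D d, y ∈ O := fun y hy => hC y hy.1 (mul_mem_layer hD hD2 h2 h3 hd hy.1 hy.2.2)
  have hcO : c ∈ O := by
    obtain ⟨x, hx⟩ : (Ds D d ∩ Ds D c).Nonempty := by
      by_contra hne
      rw [Set.not_nonempty_iff_eq_empty] at hne
      have h7 := exists_seven Q hQ c₃ hc₃
      rw [← Nat.card_congr eL.toEquiv] at h7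
      have hbot : Subgroup.closure (Ds D d ∩ Ds D c) = ⊥ := by rw [hne, Subgroup.closure_empty]
      have hdvd := h7.trans (Subgroup.card_quotient_dvd_card _)
      change 7 ∣ Nat.card ↥(Subgroup.closure (Ds D d ∩ Ds D c)) at hdvd
      rw [hbot, Subgroup.card_bot] at hdvd
      norm_num at hdvd
    refine hC c hc ?_
    have := mul_mem (mul_mem_layer hD hD2 h2 h3 hd hx.1.1 hx.1.2.2) (mul_mem_layer hD hD2 h2 h3 hx.1.1 hc hx.2.2.2.symm)
    rwa [mul_assoc, mul_mul_cancel_self (mul_self hD.1 hx.1.1)] at this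
  have hOR : ∀ g ∈ R, ∀ y ∈ O, g * y * g⁻¹ ∈ O := by
    have step : ∀ x ∈ O, ∀ y ∈ O, x * y * x⁻¹ ∈ O := fun x hx y hy => by
      refine hC _ (cls_conj hD x (hOD hy)) ?_
      have := mul_mem (mul_mem (hOdL x hx) (inv_mem (hOdL y hy))) (hOdL x hx)
      rw [mul_inv_rev, inv_self hD.1 hd, inv_self hD.1 (hOD hy)] at this
      rw [inv_self hD.1 (hOD hx)]
      simpa only [mul_assoc, mul_mul_cancel_self (mul_self hD.1 hd)] using this
    intro g hg
    refine Subgroup.closure_induction'' (p := fun g _ => ∀ y ∈ O, g * y * g⁻¹ ∈ O) step ?_ ?_ ?_ hg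
    · intro x hx y hy; rw [inv_self hD.1 (hOD hx)]; exact step x hx y hy
    · intro y hy; simpa using hy
    · intro x y _ _ hx hy z hz
      rw [← cj_cj]
      exact hx _ (hy z hz)
  set E := {x : R | (x : G) ∈ O} with hE
  have hcls : IsThreeTranspositionClass E :=
    isClass_of_orbit ⟨fun x hx => hD.1.1 x (hOD hx), fun x hx y hy => hD.1.2 x (hOD hx) y (hOD hy)⟩ hR.symm hOR hdO
      (by rintro _ ⟨g, hg, rfl⟩; exact ⟨g, hLR hg, rfl⟩)
  set L' := L.subgroupOf R with hL'
  haveI : L'.Normal := inferInstance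
  have hLc : IsComponent L' := isComponent_subgroupOf
    ⟨(inferInstance : L.Normal).isSubnormal, layer_quasisimple hD hD2 h2 h3⟩ hLR
  have hcore : ∀ p : ℕ, p.Prime → pCore p R ≤ Subgroup.center R := by
    intro p hp z hz
    have hzG : (z : G) ∈ Subgroup.center G := centralizer_layer_le hD h2 h3 (Subgroup.mem_centralizer_iff.mpr fun g hg => by
      have h1 : (⟨g, hLR hg⟩ : R) ∈ layer R := le_layer hLc (Subgroup.mem_subgroupOf.mpr hg)
      exact congrArg Subtype.val (Subgroup.mem_centralizer_iff.mp (layer_le_centralizer_fitting h1) z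
        (pCore_le_fittingSubgroup hp hz)).symm)
    exact Subgroup.mem_center_iff.mpr fun w => Subtype.ext (Subgroup.mem_center_iff.mp hzG w)
  set d' : R := ⟨d, Subgroup.subset_closure hdO⟩
  set c' : R := ⟨c, Subgroup.subset_closure hcO⟩
  have hne : d' ≠ c' := fun h => hdc (by rw [show d = c from congrArg Subtype.val h])
  have hE2 : ∃ a ∈ E, ∃ b ∈ E, a ≠ b := ⟨d', hdO, c', hcO, hne⟩
  have hind : (layer R).index ≤ 2 := index_le_two_of_mod hcls (d := d') hdO _ fun x hx => by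
    refine le_layer hLc (Subgroup.mem_subgroupOf.mpr ?_)
    show d⁻¹ * (x : G) ∈ L
    rw [inv_self hD.1 hd]
    exact hOdL _ hx
  have hpR := primitive_of_index hcls hE2 (hcore 2 Nat.prime_two) (hcore 3 Nat.prime_three) hind
  have hZR : Subgroup.center R = ⊥ := by
    refine le_bot_iff.mp fun z hz => Subgroup.mem_bot.mpr (Subtype.ext ?_)
    refine Subgroup.mem_bot.mp (hZ ▸ centralizer_layer_le hD h2 h3 (Subgroup.mem_centralizer_iff.mpr fun g hg => ?_))
    exact congrArg Subtype.val (Subgroup.mem_center_iff.mp hz ⟨g, hLR hg⟩)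
  -- the partner groups are unchanged
  have hDsE : R.subtype '' Ds E d' = Ds D d := by
    ext y
    constructor
    · rintro ⟨x, hx, rfl⟩
      exact ⟨hOD hx.1, fun h => hx.2.1 (Subtype.ext h), congrArg Subtype.val hx.2.2.eq⟩
    · intro hy
      exact ⟨⟨y, Subgroup.subset_closure (hDsO y hy)⟩,
        ⟨hDsO y hy, fun h => hy.2.1 (congrArg Subtype.val h), Subtype.ext hy.2.2.eq⟩, rfl⟩
  have hDsEc : R.subtype '' (Ds E d' ∩ Ds E c') = Ds D d ∩ Ds D c := by
    ext y
    constructor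
    · rintro ⟨x, hx, rfl⟩
      exact ⟨hDsE ▸ ⟨x, hx.1, rfl⟩, hOD hx.2.1, fun h => hx.2.2.1 (Subtype.ext h), congrArg Subtype.val hx.2.2.2.eq⟩
    · intro hy
      exact ⟨⟨y, Subgroup.subset_closure (hDsO y hy.1)⟩,
        ⟨⟨hDsO y hy.1, fun h => hy.1.2.1 (congrArg Subtype.val h), Subtype.ext hy.1.2.2.eq⟩,
          hDsO y hy.1, fun h => hy.2.2.1 (congrArg Subtype.val h), Subtype.ext hy.2.2.2.eq⟩, rfl⟩
  have equiv : ∀ S : Set R, Nonempty ((↥(Subgroup.closure S) ⧸ Subgroup.center ↥(Subgroup.closure S)) ≃*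
      (↥(Subgroup.closure (R.subtype '' S)) ⧸ Subgroup.center ↥(Subgroup.closure (R.subtype '' S)))) := by
    intro S
    set f := ((Subgroup.closure S).equivMapOfInjective R.subtype R.subtype_injective).trans
      (MulEquiv.subgroupCongr (MonoidHom.map_closure R.subtype S))
    refine ⟨QuotientGroup.congr _ _ f ?_⟩
    ext x
    rw [Subgroup.mem_map]
    constructor
    · rintro ⟨y, hy, rfl⟩
      refine Subgroup.mem_center_iff.mpr fun w => ?_
      obtain ⟨v, rfl⟩ := f.surjective w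
      show f v * f y = f y * f v
      rw [← map_mul, ← map_mul, Subgroup.mem_center_iff.mp hy v]
    · intro hx
      refine ⟨f.symm x, Subgroup.mem_center_iff.mpr fun v => f.injective ?_, f.apply_symm_apply x⟩
      rw [map_mul, map_mul, f.apply_symm_apply]
      exact Subgroup.mem_center_iff.mp hx _
  have h22R : IsOfTypeM22 R E := by
    refine ⟨hZR, d', hdO, c', hcO, fun h => hdc (congrArg Subtype.val h.eq), ⟨F, iF, iFt, hF, ?_⟩, c₃, hc₃, Q, hQn, hQ, ?_⟩
    · obtain ⟨f⟩ := equiv (Ds E d')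
      rw [hDsE] at f
      exact ⟨f.trans e⟩
    · obtain ⟨f⟩ := equiv (Ds E d' ∩ Ds E c')
      rw [hDsEc] at f
      exact ⟨f.trans eL⟩
  have hGR := cls_group hcls
  obtain ⟨t, ht, h3t, h2t, K, iK, iKt, iKd, hK, ⟨A⟩⟩ := exists_full hGR hpR h22R
  have hperf := perfect_top hGR hpR ht h3t h2t h22R A
  have hdL : d ∈ L := by
    set Z := Subgroup.zpowers (QuotientGroup.mk' L' d')
    have hgen : ∀ x : R ⧸ L', x ∈ Z := by
      intro x
      obtain ⟨y, rfl⟩ := QuotientGroup.mk'_surjective L' x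
      have : Subgroup.closure E ≤ Z.comap (QuotientGroup.mk' L') := (Subgroup.closure_le _).mpr fun w hw => by
        show QuotientGroup.mk' L' w ∈ Z
        rw [← show QuotientGroup.mk' L' d' = QuotientGroup.mk' L' w from QuotientGroup.eq.mpr (by
          rw [hL', Subgroup.mem_subgroupOf]
          show d⁻¹ * (w : G) ∈ L
          rw [inv_self hD.1 hd]
          exact hOdL _ hw)]
        exact Subgroup.mem_zpowers _
      exact this (hcls.2.2.symm ▸ Subgroup.mem_top y)
    have hcom : commutator R ≤ L' := by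
      rw [commutator_def, Subgroup.commutator_le]
      intro p _ q _
      rw [← QuotientGroup.eq_one_iff (N := L')]
      obtain ⟨i, hi⟩ := Subgroup.mem_zpowers_iff.mp (hgen (QuotientGroup.mk' L' p))
      obtain ⟨j, hj⟩ := Subgroup.mem_zpowers_iff.mp (hgen (QuotientGroup.mk' L' q))
      show QuotientGroup.mk' L' ⁅p, q⁆ = 1
      rw [map_commutatorElement, ← hi, ← hj, commutatorElement_eq_one_iff_mul_comm, ← zpow_add, ← zpow_add, add_comm]
    exact Subgroup.mem_subgroupOf.mp (hcom (hperf.symm ▸ Subgroup.mem_top d'))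
  refine primitive_of_index hD hD2 h2 h3 (index_le_two_of_mod hD hd _ fun a ha => ?_)
  obtain ⟨g, rfl⟩ := cls_exists_conj hD hd ha
  exact mul_mem (inv_mem hdL) ((inferInstance : L.Normal).conj_mem _ hdL g)

end CfsgThreeTrans.M22
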