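/-
The normaliser of the product of two non-commuting transpositions in type M(22).
-/
import Cfsg.Agent.Lib.ThreeTrans.M22.ReflSix
import Cfsg.Agent.Lib.ThreeTrans.M22.CliqueCount
import Cfsg.Agent.Lib.ThreeTrans.M22.Centraliser
import Cfsg.Agent.Lib.ThreeTrans.M22.InvolClasses
import Cfsg.Agent.Lib.ThreeTrans.M22.Primitive
import Cfsg.Agent.Lib.ThreeTrans.Fischer
import Cfsg.Agent.Lib.ThreeTrans.Elementary

set_option autoImplicit false
set_option linter.unusedSectionVars false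

namespace CfsgThreeTrans.M22.ThreeA

open Cfsg CfsgLib CfsgThreeTrans.M22 CfsgThreeTrans.M22.Points

universe u

variable {G : Type u} [Group G] [Finite G] {D : Set G}
variable {F : Type} [Field F] [Fintype F] [DecidableEq F] {hF : Fintype.card F = 2 ^ 2}

/-- A member centralising an element of order three commutes with every member inverting it. -/
theorem inverter_commutes (hD : IsThreeTranspositionSet D) {x z y : G} (hx3 : x ^ 3 = 1) (hx1 : x ≠ 1)
    (hz : z ∈ D) (hy : y ∈ D) (hzx : Commute z x) (hyx : y * x * y = x⁻¹) : Commute z y := by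
  by_contra hn
  have hzz := mul_self hD hz
  have hyy := mul_self hD hy
  have hzxz : z * x * z = x := by rw [hzx.eq, mul_assoc, hzz, mul_one]
  have hzxz' : z * x⁻¹ * z = x⁻¹ := by rw [hzx.inv_right.eq, mul_assoc, hzz, mul_one]
  have hyxy' : y * x⁻¹ * y = x := by
    rw [← hyx]; simp only [← mul_assoc, hyy, one_mul]; rw [mul_assoc, hyy, mul_one]
  have e := braid hD hz hy hn
  have h1 : (z * y * z) * x * (z * y * z) = x⁻¹ := by
    calc (z * y * z) * x * (z * y * z) = z * (y * (z * x * z) * y) * z := by simp only [mul_assoc]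
      _ = x⁻¹ := by rw [hzxz, hyx, hzxz']
  have h2 : (y * z * y) * x * (y * z * y) = x := by
    calc (y * z * y) * x * (y * z * y) = y * (z * (y * x * y) * z) * y := by simp only [mul_assoc]
      _ = x := by rw [hyx, hzxz', hyxy']
  rw [e, h2] at h1
  apply hx1
  have : x * x = 1 := by nth_rewrite 2 [h1]; exact mul_inv_cancel x
  calc x = x ^ 3 := by rw [_root_.pow_three, this, mul_one]
    _ = 1 := hx3

theorem prod_ne_one (hD : IsThreeTranspositionSet D) {a d : G} (ha : a ∈ D) (hnc : ¬ Commute a d) : a * d ≠ 1 := by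
  intro e
  exact hnc (by rw [show d = a from (inv_eq_of_mul_eq_one_right e).symm.trans (inv_self hD ha)])

theorem inverts (hD : IsThreeTranspositionSet D) {a d : G} (ha : a ∈ D) (hd : d ∈ D) :
    a * (a * d) * a = (a * d)⁻¹ ∧ d * (a * d) * d = (a * d)⁻¹ := by
  rw [mul_inv_rev, inv_self hD ha, inv_self hD hd]
  exact ⟨by rw [← mul_assoc a a d, mul_self hD ha, one_mul], by rw [mul_assoc, mul_assoc a d d, mul_self hD hd, mul_one]⟩

section

variable (hG : IsThreeTranspositionGroup D) (hp : IsPrimitiveUnderConj D) (h22 : IsOfTypeM22 G D) (A : Data D F hF)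
include hG hp h22 A

theorem ncard_far {a : G} (ha : a ∈ D) : {y | y ∈ D ∧ ¬ Commute a y}.ncard = 2816 := by
  have hD := cls_of_group_prim hG hp
  have e : {y | y ∈ D ∧ ¬ Commute a y} = D \ insert a (Ds D a) := by
    ext y
    simp only [Set.mem_setOf_eq, Set.mem_sdiff, Set.mem_insert_iff, not_or]
    constructor
    · rintro ⟨hy, hc⟩
      exact ⟨hy, fun e => hc (e ▸ Commute.refl a), fun e => hc e.2.2⟩
    · rintro ⟨hy, hne, hn⟩
      exact ⟨hy, fun hc => hn ⟨hy, hne, hc⟩⟩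
  rw [e, Set.ncard_sdiff (Set.insert_subset ha fun y hy => hy.1), (params hD hp A).1,
    Set.ncard_insert_of_notMem (fun h => h.2.1 rfl), ncard_Ds hD A ha]

theorem card_cent {a d : G} (ha : a ∈ D) (hd : d ∈ D) (hnc : ¬ Commute a d) :
    Nat.card ↥(Subgroup.centralizer ({a, d} : Set G)) = 6531840 := by
  classical
  have hD := cls_of_group_prim hG hp
  set C := Subgroup.centralizer ({a} : Set G)
  letI act : MulAction C {y // y ∈ D ∧ ¬ Commute a y} :=
    { smul := fun g y => ⟨(g : G) * y.1 * (g : G)⁻¹, cls_conj hD _ y.2.1, fun hc => y.2.2 (by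
        have e : (g : G) * a * (g : G)⁻¹ = a := by
          rw [Subgroup.mem_centralizer_singleton_iff.mp g.2, mul_inv_cancel_right]
        have h2 : Commute ((g : G) * a * (g : G)⁻¹) ((g : G) * y.1 * (g : G)⁻¹) := e.symm ▸ hc
        exact (commute_cj_iff _).mp h2)⟩
      one_smul := fun y => Subtype.ext (by show ((1 : C) : G) * y.1 * ((1 : C) : G)⁻¹ = y.1; simp)
      mul_smul := fun g k y => Subtype.ext (by
        show ((g * k : C) : G) * y.1 * ((g * k : C) : G)⁻¹ = (g : G) * ((k : G) * y.1 * (k : G)⁻¹) * (g : G)⁻¹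
        simp only [Subgroup.coe_mul]; group) }
  haveI : MulAction.IsPretransitive C {y // y ∈ D ∧ ¬ Commute a y} := ⟨fun y y' => by
    obtain ⟨g, hga, hgy⟩ := rank_three_far hD hp (has_pair A) ha y.1 y.2.1 y.2.2 y'.1 y'.2.1 y'.2.2
    exact ⟨⟨g, Subgroup.mem_centralizer_singleton_iff.mpr hga.eq⟩, Subtype.ext hgy⟩⟩
  set y0 : {y // y ∈ D ∧ ¬ Commute a y} := ⟨d, hd, hnc⟩
  have hstab : MulAction.stabilizer C y0 = (Subgroup.centralizer ({a, d} : Set G)).subgroupOf C := by
    ext g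
    rw [MulAction.mem_stabilizer_iff, Subgroup.mem_subgroupOf]
    constructor
    · intro h
      rw [Subgroup.mem_centralizer_iff]
      rintro v (rfl | rfl)
      · exact (Subgroup.mem_centralizer_singleton_iff.mp g.2).symm
      · exact (mul_inv_eq_iff_eq_mul.mp (congrArg Subtype.val h : (g : G) * v * (g : G)⁻¹ = v)).symm
    · intro h
      refine Subtype.ext ?_
      show (g : G) * d * (g : G)⁻¹ = d
      rw [← Subgroup.mem_centralizer_iff.mp h d (Set.mem_insert_of_mem _ rfl), mul_inv_cancel_right]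
  have e1 := MulAction.index_stabilizer_of_transitive C y0
  have e2 := Subgroup.card_mul_index (MulAction.stabilizer C y0)
  rw [e1, hstab, Nat.card_congr (Subgroup.subgroupOfEquivOfLe (Subgroup.centralizer_le (by simp))).toEquiv,
    show Nat.card {y // y ∈ D ∧ ¬ Commute a y} = 2816 by
      rw [← ncard_far hG hp h22 A ha]; exact Nat.card_coe_set_eq _,
    card_centralizer hD hp (local_of_M22 h22) h22.1 A ha, card_psu_eq hF] at e2
  omega

/-- The members inverting the product of a non-commuting pair. -/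
theorem inverter_unique {a d y : G} (ha : a ∈ D) (hd : d ∈ D) (hnc : ¬ Commute a d) (hy : y ∈ D)
    (hyx : y * (a * d) * y = (a * d)⁻¹) : y = a ∨ y = d ∨ y = a * d * a := by
  have hD := cls_of_group_prim hG hp
  obtain ⟨he, hae, hde, hea, hed, -⟩ := third hD ha hd hnc
  have aa := mul_self hD.1 ha
  have dd := mul_self hD.1 hd
  have yy := mul_self hD.1 hy
  rw [mul_inv_rev, inv_self hD.1 ha, inv_self hD.1 hd] at hyx
  have bad := braid hD.1 ha hd hnc
  -- commuting with the first member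
  have first : ∀ {a d : G}, a ∈ D → d ∈ D → ¬ Commute a d → y * (a * d) * y = d * a → Commute y a → y = a := by
    intro a d ha hd hnc hyx hc
    have aa := mul_self hD.1 ha
    have dd := mul_self hD.1 hd
    have bad := braid hD.1 ha hd hnc
    have h1 : y * d * y = a * d * a := by
      calc y * d * y = a * (a * y) * d * y := by rw [← mul_assoc a a y, aa, one_mul]
        _ = a * (y * (a * d) * y) := by rw [← hc.eq]; simp only [mul_assoc]
        _ = a * d * a := by rw [hyx, mul_assoc]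
    by_cases hyd : Commute y d
    · exfalso
      apply hnc
      rw [hyd.eq, mul_assoc, yy, mul_one] at h1
      show a * d = d * a
      conv_lhs => rw [h1]
      simp only [mul_assoc, mul_mul_cancel_self aa]
    · rw [braid hD.1 hy hd hyd, bad] at h1
      exact mul_right_cancel (mul_left_cancel (by simpa only [mul_assoc] using h1))
  by_cases h1 : Commute y a
  · exact Or.inl (first ha hd hnc hyx h1)
  by_cases h2 : Commute y d
  · refine Or.inr (Or.inl (first hd ha (fun h => hnc h.symm) ?_ h2))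
    rw [← hyx]
    simp only [mul_assoc, mul_mul_cancel_self yy, yy, mul_one]
  by_cases h3 : Commute y (a * d * a)
  · refine Or.inr (Or.inr (first he ha (fun h => hae h.symm) ?_ h3))
    have e1 : a * d * a * a = a * d := by rw [mul_assoc, aa, mul_one]
    rw [e1, hyx]
    simp only [← mul_assoc, aa, one_mul]
  exfalso
  have hS : Ds D a ∩ Ds D d ⊆ Ds D y := by
    rintro z ⟨hza, hzd⟩
    have hzy : Commute z y := inverter_commutes hD.1 (pow_three hD.1 ha hd hnc) (prod_ne_one hD.1 ha hnc) hza.1 hy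
      (hza.2.2.symm.mul_right hzd.2.2.symm) (by rw [hyx, mul_inv_rev, inv_self hD.1 ha, inv_self hD.1 hd])
    exact ⟨hza.1, fun e => h1 (e ▸ hza.2.2.symm), hzy.symm⟩
  have e := triple hD hp A ha hd hnc hy (fun h => h1 h.1.2.2.symm) (fun e => h1 (e ▸ Commute.refl a))
    (fun e => h2 (e ▸ Commute.refl d)) (fun e => h3 (e ▸ Commute.refl _))
  rw [Set.inter_eq_left.mpr hS, (params hD hp A).2 a ha d hd hnc] at e
  simp [seen, h1, h2, h3] at e

theorem cent_prod {a d z : G} (ha : a ∈ D) (hd : d ∈ D) (hnc : ¬ Commute a d) (hz : z ∈ D) :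
    Commute z (a * d) ↔ z ∈ Ds D a ∩ Ds D d := by
  have hD := cls_of_group_prim hG hp
  refine ⟨fun h => ?_, fun h => h.1.2.2.symm.mul_right h.2.2.2.symm⟩
  have h3 := pow_three hD.1 ha hd hnc
  have h1 := prod_ne_one hD.1 ha hnc
  have ca := inverter_commutes hD.1 h3 h1 hz ha h (inverts hD.1 ha hd).1
  have cd := inverter_commutes hD.1 h3 h1 hz hd h (inverts hD.1 ha hd).2
  exact ⟨⟨hz, fun e => hnc (e ▸ cd), ca.symm⟩, ⟨hz, fun e => hnc (e ▸ ca).symm, cd.symm⟩⟩

/-- A transposition with a non-commuting pair of its partners, up to conjugation. -/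
theorem pair_conj {z B C z' B' C' : G} (hz : z ∈ D) (hB : B ∈ Ds D z) (hC : C ∈ Ds D z) (hBC : ¬ Commute B C)
    (hz' : z' ∈ D) (hB' : B' ∈ Ds D z') (hC' : C' ∈ Ds D z') (hBC' : ¬ Commute B' C') :
    ∃ g : G, g * z * g⁻¹ = z' ∧ g * B * g⁻¹ = B' ∧ g * C * g⁻¹ = C' := by
  have hD := cls_of_group_prim hG hp
  obtain ⟨a, b, hv, h1, hab, ha0, hb0⟩ := exists_v0 hF
  let v₀ : Iso F := ⟨pad a b 0, fun e => ha0 (by simpa [pad] using congrFun e 0), hv⟩
  have key : ∀ {z B C : G}, z ∈ D → B ∈ Ds D z → C ∈ Ds D z → ¬ Commute B C →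
      ∃ g : G, g * A.t * g⁻¹ = z ∧ g * point A (std hF) * g⁻¹ = B ∧ g * point A v₀ * g⁻¹ = C := by
    intro z B C hz hB hC hBC
    obtain ⟨g, hg, hin⟩ := to_base hD A hz
    obtain ⟨k, hk, k1, k2⟩ := pair_move hD A (hin hB) (hin hC) (fun h => hBC ((commute_cj_iff g⁻¹).mp h)) v₀ rfl h1
    exact ⟨g * k, by rw [← cj_cj, (closure_Ds_commute hk).eq, mul_inv_cancel_right, hg],
      by rw [← cj_cj, k1, cj_inv], by rw [← cj_cj, k2, cj_inv]⟩
  obtain ⟨g, g1, g2, g3⟩ := key hz hB hC hBC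
  obtain ⟨g', g1', g2', g3'⟩ := key hz' hB' hC' hBC'
  refine ⟨g' * g⁻¹, ?_, ?_, ?_⟩
  · rw [← g1, ← g1']; group
  · rw [← g2, ← g2']; group
  · rw [← g3, ← g3']; group

/-- Conjugation is transitive on ordered non-commuting pairs. -/
theorem far_conj {a d a' d' : G} (ha : a ∈ D) (hd : d ∈ D) (hnc : ¬ Commute a d) (ha' : a' ∈ D) (hd' : d' ∈ D)
    (hnc' : ¬ Commute a' d') : ∃ g : G, g * a * g⁻¹ = a' ∧ g * d * g⁻¹ = d' := by
  have hD := cls_of_group_prim hG hp
  obtain ⟨k, hk⟩ := cls_exists_conj hD ha ha'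
  obtain ⟨l, hla, hld⟩ := rank_three_far hD hp (has_pair A) ha' (k * d * k⁻¹) (cls_conj hD k hd)
    (fun h => hnc ((commute_cj_iff k).mp (hk.symm ▸ h))) d' hd' hnc'
  exact ⟨l * k, by rw [← cj_cj, hk, hla.eq, mul_inv_cancel_right], by rw [← cj_cj, hld]⟩

/-- The type hypothesis, moved to any non-commuting pair. -/
theorem model {a d : G} (ha : a ∈ D) (hd : d ∈ D) (hnc : ¬ Commute a d) :
    ∃ (c : ZMod 3) (Q : QuadraticForm (ZMod 3) (Fin 6 → ZMod 3)), c ≠ 0 ∧
      (QuadraticMap.polarBilin Q).Nondegenerate ∧ Cfsg.polarGramDet (⇑Q) = 1 ∧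
      Subgroup.closure (Ds D a ∩ Ds D d) = Subgroup.centralizer ({a, d} : Set G) ∧
      Nonempty (↥(Subgroup.closure (Ds D a ∩ Ds D d)) ≃*
        ↥(Cfsg.reflectionSubgroup (⇑Q) c) ⧸ Subgroup.center ↥(Cfsg.reflectionSubgroup (⇑Q) c)) := by
  classical
  have hD := cls_of_group_prim hG hp
  obtain ⟨-, d₀, hd₀, c₀, hc₀, hdc, -, c₃, hc₃, Q, hQn, hQ, ⟨eL⟩⟩ := id h22
  change (↥(Subgroup.closure (Ds D d₀ ∩ Ds D c₀)) ⧸ Subgroup.center ↥(Subgroup.closure (Ds D d₀ ∩ Ds D c₀))) ≃* _ at eL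
  obtain ⟨g, g1, g2⟩ := far_conj hG hp h22 A hd₀ hc₀ hdc ha hd hnc
  set L := Subgroup.closure (Ds D d₀ ∩ Ds D c₀)
  set K := Subgroup.closure (Ds D a ∩ Ds D d)
  have hmap : L.map (MulAut.conj g).toMonoidHom = K := by
    rw [MonoidHom.map_closure]
    refine congrArg Subgroup.closure ?_
    show (fun z => g * z * g⁻¹) '' _ = _
    rw [Set.image_inter (cj_injective g), cj_Ds hD, cj_Ds hD, g1, g2]
  have hle : K ≤ Subgroup.centralizer ({a, d} : Set G) := (Subgroup.closure_le _).mpr fun z hz =>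
    Subgroup.mem_centralizer_iff.mpr (by rintro v (rfl | rfl); exacts [hz.1.2.2.eq, hz.2.2.2.eq])
  let eK : L ≃* K := (L.equivMapOfInjective _ (MulAut.conj g).injective).trans (MulEquiv.subgroupCongr hmap)
  have hKC := Subgroup.card_le_of_le hle
  rw [card_cent hG hp h22 A ha hd hnc, ← Nat.card_congr eK.toEquiv,
    Subgroup.card_eq_card_quotient_mul_card_subgroup (Subgroup.center L)] at hKC
  have hq := ReflSix.card_proj Q hQ hQn hc₃
  rw [← Nat.card_congr eL.toEquiv] at hq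
  have hz : Nat.card (Subgroup.center L) = 1 := by
    have hpos : 0 < Nat.card (Subgroup.center L) := Nat.card_pos
    by_contra hne
    have := Nat.mul_le_mul hq (show 2 ≤ Nat.card (Subgroup.center L) by omega)
    omega
  have hbot : Subgroup.center L = ⊥ := Subgroup.eq_bot_of_card_eq _ hz
  refine ⟨c₃, Q, hc₃, hQn, hQ, Subgroup.eq_of_le_of_card_ge hle ?_,
    ⟨eK.symm.trans ((QuotientGroup.quotientBot.symm.trans (QuotientGroup.quotientMulEquivOfEq hbot.symm)).trans eL)⟩⟩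
  rw [card_cent hG hp h22 A ha hd hnc, ← Nat.card_congr eK.toEquiv,
    Subgroup.card_eq_card_quotient_mul_card_subgroup (Subgroup.center L), hz, mul_one]
  exact hq

/-- Non-commuting pairs of common partners are conjugate under the common centraliser. -/
theorem inner_transitive {a d b c b' c' : G} (ha : a ∈ D) (hd : d ∈ D) (hnc : ¬ Commute a d)
    (hb : b ∈ Ds D a ∩ Ds D d) (hc : c ∈ Ds D a ∩ Ds D d) (hbc : ¬ Commute b c)
    (hb' : b' ∈ Ds D a ∩ Ds D d) (hc' : c' ∈ Ds D a ∩ Ds D d) (hbc' : ¬ Commute b' c') :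
    ∃ k ∈ Subgroup.closure (Ds D a ∩ Ds D d), k * b * k⁻¹ = b' ∧ k * c * k⁻¹ = c' := by
  classical
  have hD := cls_of_group_prim hG hp
  obtain ⟨c₃, Q, hc₃, hQn, hQ, hKC, ⟨e⟩⟩ := model hG hp h22 A ha hd hnc
  set W := Ds D a ∩ Ds D d
  set K := Subgroup.closure W
  have hfix : ∀ g ∈ K, g * a * g⁻¹ = a ∧ g * d * g⁻¹ = d := fun g hg => by
    rw [hKC] at hg
    rw [← Subgroup.mem_centralizer_iff.mp hg a (Set.mem_insert _ _),
      ← Subgroup.mem_centralizer_iff.mp hg d (Set.mem_insert_of_mem _ rfl)]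
    exact ⟨mul_inv_cancel_right _ _, mul_inv_cancel_right _ _⟩
  have hinv : ∀ g ∈ K, ∀ x ∈ W, g * x * g⁻¹ ∈ W := fun g hg x hx => by
    have : g * x * g⁻¹ ∈ (fun z => g * z * g⁻¹) '' (Ds D a ∩ Ds D d) := ⟨x, hx, rfl⟩
    rwa [Set.image_inter (cj_injective g), cj_Ds hD, cj_Ds hD, (hfix g hg).1, (hfix g hg).2] at this
  have htr : ∀ x ∈ W, ∃ g ∈ K, g * b * g⁻¹ = x := by
    intro x hx
    obtain ⟨g, g1, g2, g3⟩ := pair_conj hG hp h22 A (z := b) (B := a) (C := d) hb.1.1
      ⟨ha, hb.1.2.1.symm, hb.1.2.2.symm⟩ ⟨hd, hb.2.2.1.symm, hb.2.2.2.symm⟩ hnc (z' := x) (B' := a) (C' := d) hx.1.1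
      ⟨ha, hx.1.2.1.symm, hx.1.2.2.symm⟩ ⟨hd, hx.2.2.1.symm, hx.2.2.2.symm⟩ hnc
    refine ⟨g, ?_, g1⟩
    rw [hKC, Subgroup.mem_centralizer_iff]
    rintro v (rfl | rfl)
    exacts [(mul_inv_eq_iff_eq_mul.mp g2).symm, (mul_inv_eq_iff_eq_mul.mp g3).symm]
  have hW : IsThreeTranspositionSet W :=
    ⟨fun x hx => hD.1.1 x hx.1.1, fun x hx y hy => hD.1.2 x hx.1.1 y hy.1.1⟩
  have hcl := isClass_of_orbit (K := K) hW rfl hinv hb htr
  have hmem : ∀ {x : G}, x ∈ W → x ∈ K := fun hx => Subgroup.subset_closure hx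
  obtain ⟨hsol, hperf⟩ := ReflSix.proj_props Q hQn hc₃ e
  obtain ⟨hpK, hwK⟩ := fischer_prim hsol hperf hcl ⟨⟨b, hmem hb⟩, hb, ⟨c, hmem hc⟩, hc, fun q =>
    hbc (by rw [show b = c from congrArg Subtype.val q])⟩
  obtain ⟨g, hg, hgb⟩ := htr b' hb'
  obtain ⟨l, hlb, hlc⟩ := rank_three_far hcl hpK hwK (d := (⟨b', hmem hb'⟩ : K)) hb'
    ⟨g * c * g⁻¹, hmem (hinv g hg c hc)⟩ (hinv g hg c hc)
    (fun h => hbc ((commute_cj_iff g).mp (hgb.symm ▸ congrArg Subtype.val h.eq : Commute (g * b * g⁻¹) (g * c * g⁻¹))))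
    ⟨c', hmem hc'⟩ hc' (fun h => hbc' (congrArg Subtype.val h.eq))
  refine ⟨(l : G) * g, mul_mem l.2 hg, ?_, ?_⟩
  · rw [← cj_cj, hgb, show (l : G) * b' = b' * (l : G) from congrArg Subtype.val hlb.eq, mul_inv_cancel_right]
  · rw [← cj_cj]; exact congrArg Subtype.val hlc

end

end CfsgThreeTrans.M22.ThreeA
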