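/-
Central covers of degree two of a group of type M(22): involutions lift to involutions.
-/
import Cfsg.Agent.Lib.ThreeTrans.M22.InvolClasses

set_option autoImplicit false
set_option linter.unusedSectionVars false

namespace CfsgThreeTrans.M22

open Cfsg CfsgLib

universe u v

variable {G : Type u} [Group G] [Finite G] {D : Set G}
variable {F : Type} [Field F] [Fintype F] [DecidableEq F] {hF : Fintype.card F = 2 ^ 2}
variable {C : Type v} [Group C] (ψ : C →* G) (hψ : Function.Surjective ψ) {z : C}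
  (hker : ∀ a, ψ a = 1 → a = 1 ∨ a = z) (hz2 : z * z = 1) (hzc : ∀ a, Commute z a) (hz : ψ z = 1)

include hψ hker hz2 hzc hz

/-- Two lifts differ by the central element. -/
theorem lift_diff {a b : C} (e : ψ a = ψ b) : a = b ∨ a = b * z := by
  rcases hker (b⁻¹ * a) (by rw [map_mul, map_inv, e, inv_mul_cancel]) with k | k
  · exact Or.inl (inv_mul_eq_one.mp k).symm
  · exact Or.inr (by rw [← k, mul_inv_cancel_left])

/-- Lifts have squares independent of the lift, and commuting conditions are independent of the lift. -/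
theorem lift_commute {a a' b b' : C} (e : ψ a = ψ a') (e' : ψ b = ψ b') (hc : Commute a b) : Commute a' b' := by
  have hz' : ∀ {x y : C}, Commute x y → Commute (x * z) y := fun h => h.mul_left (hzc _)
  rcases lift_diff ψ hψ hker hz2 hzc hz e.symm with rfl | rfl <;>
    rcases lift_diff ψ hψ hker hz2 hzc hz e'.symm with rfl | rfl
  exacts [hc, (hz' hc.symm).symm, hz' hc, hz' (hz' hc.symm).symm]

section
variable (hG : IsThreeTranspositionGroup D) (hp : IsPrimitiveUnderConj D) {d₀ : G} (hd₀ : d₀ ∈ D)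
    (h3 : pCore 3 ↥(Subgroup.closure (Ds D d₀)) ≤ Subgroup.center ↥(Subgroup.closure (Ds D d₀)))
    (h2 : pCore 2 ↥(Subgroup.closure (Ds D d₀)) ≤ Subgroup.center ↥(Subgroup.closure (Ds D d₀)))
    (h22 : IsOfTypeM22 G D) (A : Data D F hF)
include hG hp hd₀ h3 h2 h22 A

/-- A lift of the base transposition commutes with the preimage of its partner group. -/
theorem lift_base_commute {e g : C} (he : ψ e = A.t) (hg : ψ g ∈ Subgroup.closure (Ds D A.t)) : Commute e g := by
  have hD := cls_of_group_prim hG hp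
  set H := Subgroup.closure (Ds D A.t)
  set M : Subgroup H := ((Subgroup.centralizer ({e} : Set C)).map ψ).subgroupOf H
  have hM : M = ⊤ := by
    haveI := (quasisimple_at hG hp hd₀ h3 h2 h22 A A.ht).1
    refine top_le_iff.mp ?_
    rw [← Group.IsPerfect.commutator_eq_top (G := H), commutator_def, Subgroup.commutator_le]
    intro p _ q _
    obtain ⟨P, hP⟩ := hψ p
    obtain ⟨Q, hQ⟩ := hψ q
    have mv : ∀ (R : C) (r : H), ψ R = r → ∃ c, (∀ a, Commute c a) ∧ R * e * R⁻¹ = e * c := by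
      intro R r hR
      rcases lift_diff ψ hψ hker hz2 hzc hz (show ψ (R * e * R⁻¹) = ψ e by
        rw [map_mul, map_mul, map_inv, hR, he, (closure_Ds_commute r.2).eq, mul_inv_cancel_right]) with k | k
      exacts [⟨1, Commute.one_left, by rw [k, mul_one]⟩, ⟨z, hzc, k⟩]
    obtain ⟨c, hc, ec⟩ := mv P p hP
    obtain ⟨c', hc', ec'⟩ := mv Q q hQ
    refine ⟨P * Q * P⁻¹ * Q⁻¹, Subgroup.mem_centralizer_singleton_iff.mpr ?_, ?_⟩
    · have inv : ∀ {R : C} {w : C}, (∀ a, Commute w a) → R * e * R⁻¹ = e * w → R⁻¹ * e * R = e * w⁻¹ := by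
        intro R w hw hR
        calc R⁻¹ * e * R = R⁻¹ * (R * e * R⁻¹ * w⁻¹) * R := by rw [hR, mul_inv_cancel_right]
          _ = e * (R⁻¹ * w⁻¹ * R) := by group
          _ = e * w⁻¹ := by
              rw [show R⁻¹ * w⁻¹ * R = R⁻¹ * (w⁻¹ * R) from mul_assoc _ _ _, ((hw R).inv_left).eq, inv_mul_cancel_left]
      have step : ∀ {R : C} {w u : C}, (∀ a, Commute u a) → R * e * R⁻¹ = e * w → R * (e * u) * R⁻¹ = e * (w * u) := by
        intro R w u hu hR
        rw [← mul_assoc R, mul_assoc (R * e), (hu R⁻¹).eq, ← mul_assoc, hR, mul_assoc]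
      have q' : Q⁻¹ * e * Q⁻¹⁻¹ = e * c'⁻¹ := by rw [inv_inv]; exact inv hc' ec'
      have p' : P⁻¹ * e * P⁻¹⁻¹ = e * c⁻¹ := by rw [inv_inv]; exact inv hc ec
      have e1 := step (R := P⁻¹) (fun a => (hc' a).inv_left) p'
      have e2 := step (R := Q) (u := c⁻¹ * c'⁻¹) (fun a => (hc a).inv_left.mul_left (hc' a).inv_left) ec'
      have e3 := step (R := P) (u := c' * (c⁻¹ * c'⁻¹)) (fun a => (hc' a).mul_left ((hc a).inv_left.mul_left (hc' a).inv_left)) ec
      have tot : (P * Q * P⁻¹ * Q⁻¹) * e * (P * Q * P⁻¹ * Q⁻¹)⁻¹ = e := by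
        calc (P * Q * P⁻¹ * Q⁻¹) * e * (P * Q * P⁻¹ * Q⁻¹)⁻¹
            = P * (Q * (P⁻¹ * (Q⁻¹ * e * Q⁻¹⁻¹) * P⁻¹⁻¹) * Q⁻¹) * P⁻¹ := by group
          _ = e * (c * (c' * (c⁻¹ * c'⁻¹))) := by rw [q', e1, e2, e3]
          _ = e := by
              rw [← mul_assoc c' c⁻¹ c'⁻¹, ← (hc c').inv_left.eq, mul_assoc c⁻¹, mul_inv_cancel, mul_one,
                mul_inv_cancel, mul_one]
      exact mul_inv_eq_iff_eq_mul.mp tot
    · rw [map_mul, map_mul, map_mul, map_inv, map_inv, hP, hQ]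
      rfl
  have hmem : (⟨ψ g, hg⟩ : H) ∈ M := hM ▸ Subgroup.mem_top _
  obtain ⟨c, hc, hcg⟩ := hmem
  exact lift_commute ψ hψ hker hz2 hzc hz rfl (show ψ c = ψ g from hcg)
    (Commute.symm (Subgroup.mem_centralizer_singleton_iff.mp hc))

/-- Lifts of commuting transpositions commute. -/
theorem lift_members_commute {a b : G} (ha : a ∈ D) (hb : b ∈ D) (hab : Commute a b) {X Y : C} (hX : ψ X = a)
    (hY : ψ Y = b) : Commute X Y := by
  by_cases hne : a = b
  · exact lift_commute ψ hψ hker hz2 hzc hz rfl (show ψ X = ψ Y by rw [hX, hY, hne]) (Commute.refl X)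
  obtain ⟨g, e1, e2⟩ := conj_base (cls_of_group_prim hG hp) A ha (b := b) ⟨hb, Ne.symm hne, hab⟩
  obtain ⟨k, rfl⟩ := hψ g
  have h1 : ψ (k⁻¹ * X * k⁻¹⁻¹) = A.t := by simp only [map_mul, map_inv, hX, ← e1]; group
  have h2' : ψ (k⁻¹ * Y * k⁻¹⁻¹) ∈ Subgroup.closure (Ds D A.t) := by
    simp only [map_mul, map_inv, hY, ← e2]
    rw [show (ψ k)⁻¹ * (ψ k * q1 A * (ψ k)⁻¹) * (ψ k)⁻¹⁻¹ = q1 A by group]
    exact point_mem' A _
  exact (commute_cj_iff k⁻¹).mp (lift_base_commute ψ hψ hker hz2 hzc hz hG hp hd₀ h3 h2 h22 A h1 h2')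

/-- Lifts of transpositions are involutions. -/
theorem lift_member_sq {a : G} (ha : a ∈ D) {X : C} (hX : ψ X = a) : X * X = 1 := by
  have hD := cls_of_group_prim hG hp
  have sqind : ∀ {P Q : C}, ψ P = ψ Q → P * P = Q * Q := by
    intro P Q e
    rcases lift_diff ψ hψ hker hz2 hzc hz e with rfl | rfl
    · rfl
    · rw [mul_assoc, ← mul_assoc z, (hzc Q).eq, mul_assoc Q z z, hz2, mul_one]
  have cj : ∀ {P Q : C}, ψ P ∈ D → ψ Q ∈ D → P * P = Q * Q := by
    intro P Q hP hQ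
    obtain ⟨g, hg⟩ := cls_exists_conj hD hP hQ
    obtain ⟨k, rfl⟩ := hψ g
    rw [← sqind (show ψ (k * P * k⁻¹) = ψ Q by rw [map_mul, map_mul, map_inv, hg]),
      show k * P * k⁻¹ * (k * P * k⁻¹) = k * (P * P) * k⁻¹ by group]
    rcases hker (P * P) (by rw [map_mul, CfsgThreeTrans.mul_self hD.1 hP]) with e | e <;> rw [e]
    · group
    · rw [← (hzc k).eq, mul_inv_cancel_right]
  obtain ⟨d, e, f, md, me, mf, -, -, -, cde, cdf, cef, hprod⟩ := six_std hG hp hd₀ h3 h2 h22 A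
  have m1 : q1 A ∈ Ds D A.t := point_mem A _
  have m2 : q2 A ∈ Ds D A.t := point_mem A _
  have m3 : q3 A ∈ Ds D A.t := point_mem A _
  have c12 : Commute (q1 A) (q2 A) := dp_commute A 1 0 0 0 1 0 _ _
  have c13 : Commute (q1 A) (q3 A) := dp_commute A 1 0 0 0 0 1 _ _
  have c23 : Commute (q2 A) (q3 A) := dp_commute A 0 1 0 0 0 1 _ _
  have n12 : q1 A ≠ q2 A := fun e => by
    obtain ⟨k, -, hk⟩ := (point_eq_iff A _ _).mp e
    simpa [dv, dbl] using congrFun hk 0
  have n13 : q1 A ≠ q3 A := fun e => by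
    obtain ⟨k, -, hk⟩ := (point_eq_iff A _ _).mp e
    simpa [dv, dbl] using congrFun hk 0
  have n23 : q2 A ≠ q3 A := fun e => by
    obtain ⟨k, -, hk⟩ := (point_eq_iff A _ _).mp e
    simpa [dv, dbl] using congrFun hk 2
  have hsix : q1 A * q2 A * q3 A * (d * e * f) = A.t := by
    rw [← mul_assoc, ← mul_assoc]
    exact hprod
  set P := q1 A * q2 A * q3 A
  have cross : ∀ w ∈ Ds D A.t, Commute w (d * e * f) → Commute w (q1 A) ∧ Commute w (q2 A) ∧ Commute w (q3 A) := by
    intro w hw hwd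
    refine (commute_mul3_iff hD.1 m1.1 m2.1 m3.1 hw.1 n12 n13 n23 c12 c13 c23).mp ?_
    have : Commute w (A.t * (d * e * f)⁻¹) := hw.2.2.symm.mul_right hwd.inv_right
    rwa [← hsix, mul_inv_cancel_right] at this
  obtain ⟨cd1, cd2, cd3⟩ := cross d md (((Commute.refl d).mul_right cde).mul_right cdf)
  obtain ⟨ce1, ce2, ce3⟩ := cross e me ((cde.symm.mul_right (Commute.refl e)).mul_right cef)
  obtain ⟨cf1, cf2, cf3⟩ := cross f mf ((cdf.symm.mul_right cef.symm).mul_right (Commute.refl f))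
  choose s hs using hψ
  have hψ : Function.Surjective ψ := fun g => ⟨s g, hs g⟩
  have cc : ∀ {p q : G}, p ∈ Ds D A.t → q ∈ Ds D A.t → Commute p q → Commute (s p) (s q) := fun hp' hq' h =>
    lift_members_commute ψ hψ hker hz2 hzc hz hG hp hd₀ h3 h2 h22 A hp'.1 hq'.1 h (hs _) (hs _)
  set S := s A.t * s A.t
  have hS : ∀ {p : G}, p ∈ D → s p * s p = S := fun hp' => cj (by rw [hs]; exact hp') (by rw [hs]; exact A.ht)
  have hS2 : S * S = 1 := by
    rcases hker S (by rw [map_mul, hs, CfsgThreeTrans.mul_self hD.1 A.ht]) with k | k <;> rw [k]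
    exacts [one_mul 1, hz2]
  have prod2 : ∀ {p q r : C}, Commute p q → Commute p r → Commute q r →
      p * q * r * (p * q * r) = (p * p) * (q * q) * (r * r) := by
    intro p q r hpq hpr hqr
    rw [← pow_two, (hpr.mul_left hqr).mul_pow, hpq.mul_pow, pow_two, pow_two, pow_two]
  have tot : S = 1 := by
    set U := s (q1 A) * s (q2 A) * s (q3 A)
    set V := s d * s e * s f
    have hUV : Commute U V := by
      have l1 : ∀ {w : G}, w ∈ Ds D A.t → Commute w (q1 A) → Commute w (q2 A) → Commute w (q3 A) →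
          Commute U (s w) := fun hw a1 a2 a3 =>
        (((cc hw m1 a1).mul_right (cc hw m2 a2)).mul_right (cc hw m3 a3)).symm
      exact ((l1 md cd1 cd2 cd3).mul_right (l1 me ce1 ce2 ce3)).mul_right (l1 mf cf1 cf2 cf3)
    calc S = U * V * (U * V) := sqind (by
          rw [hs, map_mul, map_mul, map_mul, map_mul, map_mul, hs, hs, hs, hs, hs, hs]; exact hsix.symm)
      _ = (U * U) * (V * V) := by rw [← pow_two, hUV.mul_pow, pow_two, pow_two]
      _ = (S * S * S) * (S * S * S) := by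
          rw [prod2 (cc m1 m2 c12) (cc m1 m3 c13) (cc m2 m3 c23), prod2 (cc md me cde) (cc md mf cdf) (cc me mf cef),
            hS m1.1, hS m2.1, hS m3.1, hS md.1, hS me.1, hS mf.1]
      _ = 1 := by rw [hS2, one_mul, hS2]
  rw [cj (show ψ X ∈ D by rw [hX]; exact ha) (show ψ (s A.t) ∈ D by rw [hs]; exact A.ht)]
  exact tot

/-- Every involution lifts to an involution. -/
theorem lift_invol {x : G} (hx : x * x = 1) : ∃ y : C, y * y = 1 ∧ ψ y = x := by
  obtain ⟨l, -, -, hm, hc, rfl⟩ := short_invol hG hp hd₀ h3 h2 h22 A hx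
  clear hx
  cases l with
  | nil => exact ⟨1, one_mul 1, map_one ψ⟩
  | cons a l =>
    suffices H : ∀ m : List G, (∀ b ∈ m, b ∈ a :: l) → ∃ y, y * y = 1 ∧ ψ y = m.prod ∧
        ∀ b ∈ a :: l, ∀ Y, ψ Y = b → Commute Y y by
      obtain ⟨y, y1, y2, -⟩ := H (a :: l) fun b hb => hb
      exact ⟨y, y1, y2⟩
    intro m
    induction m with
    | nil => exact fun _ => ⟨1, one_mul 1, map_one ψ, fun _ _ Y _ => Commute.one_right Y⟩
    | cons b m ihm =>
      intro hb
      obtain ⟨y, y1, y2, y3⟩ := ihm fun w hw => hb w (List.mem_cons_of_mem _ hw)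
      have hbm := hb b (List.mem_cons_self ..)
      obtain ⟨B, hB⟩ := hψ b
      refine ⟨B * y, ?_, by rw [map_mul, hB, y2, List.prod_cons], fun w hw Y hY => ?_⟩
      · rw [← pow_two, (y3 b hbm B hB).mul_pow, pow_two, pow_two,
          lift_member_sq ψ hψ hker hz2 hzc hz hG hp hd₀ h3 h2 h22 A (hm b hbm) hB, y1, one_mul]
      · exact (lift_members_commute ψ hψ hker hz2 hzc hz hG hp hd₀ h3 h2 h22 A (hm w hw) (hm b hbm)
          (hc w hw b hbm) hY hB).mul_right (y3 w hw Y hY)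

end

end CfsgThreeTrans.M22
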