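/-
The Thompson subgroup of a Sylow 2-subgroup in type M(22).
-/
import Cfsg.Agent.Lib.ThreeTrans.M22.CliqueCount

set_option autoImplicit false
set_option linter.unusedSectionVars false

namespace CfsgThreeTrans.M22.Thompson

open Matrix Cfsg CfsgLib CfsgLib.UnitaryTransvection CfsgLib.UnitarySimple CfsgThreeTrans.M22
  CfsgThreeTrans.M22.Points CfsgThreeTrans.M22.CliqueCount CfsgThreeTrans.M22.PlaneRadical

universe u

variable {G : Type u} [Group G] [Finite G] {D : Set G}
variable {F : Type} [Field F] [Fintype F] [DecidableEq F] {hF : Fintype.card F = 2 ^ 2}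

local notation "h" => Cfsg.hermForm 6 F 2
local notation "π" => QuotientGroup.mk' (Subgroup.center (Cfsg.SU 6 F 2))

variable (hG : IsThreeTranspositionGroup D) (hp : IsPrimitiveUnderConj D) (h22 : IsOfTypeM22 G D) (A : Data D F hF)
include hG hp h22

theorem fix_closure {k : G} (hk : k * A.t * k⁻¹ = A.t) : k ∈ Subgroup.closure (Ds D A.t) :=
  centralizer_eq (cls_of_group_prim hG hp) hp (local_of_M22 h22) h22.1 A A.ht ▸ mem_cent.mpr hk

theorem phi_one {k : G} (hk : k ∈ Subgroup.closure (Ds D A.t)) (e : A.φ ⟨k, hk⟩ = 1) : k = 1 ∨ k = A.t := by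
  have h2 : (⟨k, hk⟩ : Subgroup.closure (Ds D A.t)) ∈ Subgroup.center _ := A.ker_φ ▸ MonoidHom.mem_ker.mpr e
  rw [center_closure (cls_of_group_prim hG hp) hp (local_of_M22 h22) h22.1 A A.ht, Subgroup.mem_subgroupOf] at h2
  have ht2 : A.t * A.t = 1 := mul_self (cls_of_group_prim hG hp).1 A.ht
  haveI : Fact (Nat.Prime 2) := ⟨Nat.prime_two⟩
  obtain ⟨n, hn⟩ := Subgroup.mem_zpowers_iff.mp h2
  change A.t ^ n = k at hn
  rcases Int.even_or_odd' n with ⟨j, rfl | rfl⟩
  · rw [_root_.zpow_mul, zpow_two, ht2, _root_.one_zpow] at hn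
    exact Or.inl hn.symm
  · rw [_root_.zpow_add, _root_.zpow_mul, zpow_two, ht2, _root_.one_zpow, one_mul, zpow_one] at hn
    exact Or.inr hn.symm

theorem inPlane_of_pr {x : Fin 6 → F} (hF : Fintype.card F = 2 ^ 2) (hx : pr x = 0) : InPlane 1 x := by
  have e := pr_eq_zero hF hx
  refine ⟨?_, ?_, ?_⟩
  · have := congrFun e 1; simp [dbl] at this; exact this.symm
  · have := congrFun e 3; simp [dbl] at this; exact this.symm
  · have := congrFun e 5; simp [dbl] at this; rw [one_mul]; exact this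

/-- The group of the standard clique covers the radical. -/
theorem radical_le {g : Cfsg.SU 6 F 2} (hg : g ∈ R hF) :
    ∃ a, ∃ ha : a ∈ Subgroup.closure (Ds D A.t),
      a ∈ Subgroup.closure (Cw A 1) ∧ A.φ ⟨a, ha⟩ = π g := by
  induction hg using Subgroup.closure_induction with
  | mem x hx =>
    obtain ⟨w, hw0, hw, rfl⟩ := hx
    let p : Iso F := ⟨w, hw0, perp hF hw hw⟩
    exact ⟨point A p, point_mem' A p, Subgroup.subset_closure (Or.inr ⟨p, inPlane_of_pr hG hp h22 hF hw, rfl⟩),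
      point_φ A p⟩
  | one => exact ⟨1, one_mem _, one_mem _, by rw [map_one]; exact map_one A.φ⟩
  | mul x y _ _ ihx ihy =>
    obtain ⟨a, ha, ha', ea⟩ := ihx
    obtain ⟨b, hb, hb', eb⟩ := ihy
    exact ⟨a * b, mul_mem ha hb, mul_mem ha' hb', by rw [map_mul, ← ea, ← eb, ← map_mul]; rfl⟩
  | inv x _ ih =>
    obtain ⟨a, ha, ha', ea⟩ := ih
    exact ⟨a⁻¹, inv_mem ha, inv_mem ha', by rw [map_inv, ← ea, ← map_inv]; rfl⟩

theorem R_sq {g : Cfsg.SU 6 F 2} (hg : g ∈ R hF) : g * g = 1 := by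
  refine form_inj hF (R_le_Fix hF (mul_mem hg hg)) (one_mem _) fun v w => ?_
  rw [form_mul hF (R_le_Fix hF hg) (R_le_Fix hF hg), CfsgThreeTrans.M22.add_self hF]
  unfold PlaneRadical.form
  rw [mat_one, one_mulVec, vadd_self hF, h_zero_left hF]

theorem card_A0 : 1024 ≤ Nat.card (Subgroup.closure (Cw A 1)) := by
  classical
  have hD := cls_of_group_prim hG hp
  choose a ha ha' ea using fun r : R hF => radical_le hG hp h22 A r.2
  have ht1 : A.t ≠ 1 := fun e => by
    have := hD.1.1 A.t A.ht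
    rw [e, orderOf_one] at this
    norm_num at this
  have ht2 : A.t * A.t = 1 := mul_self hD.1 A.ht
  have htC : A.t ∈ Subgroup.closure (Ds D A.t) := fix_closure hG hp h22 A (by group)
  have φt : A.φ ⟨A.t, htC⟩ = 1 := MonoidHom.mem_ker.mp (A.ker_φ ▸ Subgroup.mem_center_iff.mpr fun w =>
    Subtype.ext (closure_Ds_commute w.2).eq)
  let f : R hF × Fin 2 → Subgroup.closure (Cw A 1) := fun p =>
    ⟨a p.1 * A.t ^ (p.2 : ℕ), mul_mem (ha' p.1) (pow_mem (Subgroup.subset_closure (Set.mem_insert _ _)) _)⟩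
  have hφ : ∀ p, ∃ hm : (f p : G) ∈ Subgroup.closure (Ds D A.t), A.φ ⟨_, hm⟩ = π p.1.1 := fun p =>
    ⟨mul_mem (ha p.1) (pow_mem htC _), by
      rw [show (⟨(f p : G), mul_mem (ha p.1) (pow_mem htC _)⟩ : Subgroup.closure (Ds D A.t)) =
        ⟨a p.1, ha p.1⟩ * ⟨A.t, htC⟩ ^ (p.2 : ℕ) from Subtype.ext (by simp [f]), map_mul, map_pow, φt, one_pow,
        mul_one, ea]⟩
  have hf : Function.Injective f := by
    intro p q e
    obtain ⟨hp1, ep⟩ := hφ p
    obtain ⟨hq1, eq'⟩ := hφ q
    have h1 : p.1 = q.1 := by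
      refine Subtype.ext (mk_inj hF (R_sq hG hp h22 p.1.2) (R_sq hG hp h22 q.1.2) ?_)
      rw [← ep, ← eq']
      exact congrArg A.φ (Subtype.ext ((congrArg Subtype.val e :)))
    refine Prod.ext h1 ?_
    have e' : a p.1 * A.t ^ (p.2 : ℕ) = a q.1 * A.t ^ (q.2 : ℕ) := congrArg Subtype.val e
    rw [h1, mul_right_inj] at e'
    obtain ⟨p1, p2⟩ := p
    obtain ⟨q1, q2⟩ := q
    fin_cases p2 <;> fin_cases q2 <;> simp_all
  refine le_trans ?_ (Nat.card_le_card_of_injective f hf)
  rw [Nat.card_prod, Nat.card_eq_fintype_card (α := Fin 2), Fintype.card_fin]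
  have := card_R hF
  omega

/-- A large elementary abelian group fixing the base and normalising the clique lies in its group. -/
theorem fixed_case (B : Subgroup G) (hsq : ∀ b ∈ B, b * b = 1) (hcom : ∀ b ∈ B, ∀ c ∈ B, Commute b c)
    (hfix : ∀ b ∈ B, b * A.t * b⁻¹ = A.t) (hnorm : ∀ b ∈ B, ∀ e ∈ Cw A 1, b * e * b⁻¹ ∈ Cw A 1)
    (hcard : 1024 ≤ Nat.card B) : B ≤ Subgroup.closure (Cw A 1) := by
  classical
  have hD := cls_of_group_prim hG hp
  have hC : ∀ b : B, (b : G) ∈ Subgroup.closure (Ds D A.t) := fun b => fix_closure hG hp h22 A (hfix b b.2)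
  let ι : B →* Subgroup.closure (Ds D A.t) := MonoidHom.mk' (fun b => ⟨b, hC b⟩) fun _ _ => rfl
  have hex : ∀ b : B, ∃ g : Cfsg.SU 6 F 2, g * g = 1 ∧ π g = A.φ (ι b) := fun b => by
    refine exists_lift hF ?_
    rw [← map_mul, ← map_mul, show b * b = 1 from Subtype.ext (hsq b b.2), map_one, map_one]
  choose L hL1 hL2 using hex
  have hLc : ∀ b c : B, Commute (L b) (L c) := fun b c => by
    refine of_mk_commute hF (hL1 c) ?_
    rw [hL2, hL2]
    exact (show Commute b c from Subtype.ext (hcom b b.2 c c.2).eq).map (A.φ.comp ι)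
  let Lh : B →* Cfsg.SU 6 F 2 := MonoidHom.mk' L fun b c => by
    refine mk_inj hF (hL1 _) ?_ (by rw [hL2, map_mul, map_mul, map_mul, hL2, hL2])
    rw [(hLc c b).mul_mul_mul_comm, hL1, hL1, one_mul]
  set K := Lh.range
  have hstab : ∀ g ∈ K, ∀ x : Fin 6 → F, pr x = 0 → pr (mat g *ᵥ x) = 0 := by
    rintro _ ⟨b, rfl⟩ x hx
    by_cases h0 : x = 0
    · rw [h0, mulVec_zero, PlaneRadical.pr_zero]
    let p : Iso F := ⟨x, h0, perp hF hx hx⟩
    obtain ⟨y, hy, hby⟩ := cj_point hD A (hC b) (hL2 b).symm p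
    have hpm : point A p ∈ Cw A 1 := by
      exact Or.inr ⟨p, inPlane_of_pr hG hp h22 hF hx, rfl⟩
    rcases hnorm b b.2 _ hpm with q | ⟨z, ⟨z0, z2, z5⟩, q⟩
    · exact absurd (hby.symm.trans q) (point_mem A y).2.1
    · obtain ⟨k, -, e⟩ := (point_eq_iff A y z).mp (hby.symm.trans q.symm)
      show pr (mat (L b) *ᵥ p.1) = 0
      rw [← hy, e, pr_smul]
      have : pr z.1 = 0 := by
        funext i
        fin_cases i <;> simp [pr, z0, z2, z5, CfsgThreeTrans.M22.add_self hF]
      rw [this, smul_zero]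
  have hKsq : ∀ g ∈ K, g * g = 1 := by rintro _ ⟨b, rfl⟩; exact hL1 b
  have hKc : ∀ g ∈ K, ∀ k ∈ K, Commute g k := by rintro _ ⟨b, rfl⟩ _ ⟨c, rfl⟩; exact hLc b c
  have hker : ∀ b : B, Lh b = 1 → (b : G) = 1 ∨ (b : G) = A.t := fun b e =>
    phi_one hG hp h22 A (hC b) (by
      show A.φ (ι b) = 1
      rw [← hL2, show L b = 1 from e, map_one])
  by_cases hKF : K ≤ PlaneRadical.Fix (F := F)
  · intro b hb
    obtain ⟨a, ha, ha', ea⟩ := radical_le hG hp h22 A (Fix_le_R hF (hKF ⟨⟨b, hb⟩, rfl⟩))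
    have e : A.φ ⟨a⁻¹ * b, mul_mem (inv_mem ha) (hC ⟨b, hb⟩)⟩ = 1 := by
      rw [show (⟨a⁻¹ * b, mul_mem (inv_mem ha) (hC ⟨b, hb⟩)⟩ : Subgroup.closure (Ds D A.t)) =
        ⟨a, ha⟩⁻¹ * ι ⟨b, hb⟩ from rfl, map_mul, map_inv, ea, ← hL2, inv_mul_eq_one]
      rfl
    have hab : a⁻¹ * b ∈ Subgroup.closure (Cw A 1) := by
      rcases phi_one hG hp h22 A _ e with q | q <;> rw [q]
      exacts [one_mem _, Subgroup.subset_closure (Set.mem_insert _ _)]
    have := mul_mem ha' hab
    rwa [mul_inv_cancel_left] at this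
  · exfalso
    have h1 := plane_bound hF K hKsq hKc hstab hKF
    have h2 : Nat.card Lh.ker ≤ 2 := by
      have : Nat.card Lh.ker ≤ ({1, A.t} : Set G).ncard := by
        rw [← Nat.card_coe_set_eq]
        exact Nat.card_le_card_of_injective (fun b => (⟨(b.1 : G), hker b.1 b.2⟩ : ({1, A.t} : Set G)))
          fun p q e => by
            have := congrArg Subtype.val e
            exact Subtype.ext (Subtype.ext this)
      exact this.trans ((Set.ncard_insert_le _ _).trans (by simp))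
    have h3 : Nat.card B = Nat.card K * Nat.card Lh.ker := by
      rw [Subgroup.card_eq_card_quotient_mul_card_subgroup Lh.ker,
        Nat.card_congr (QuotientGroup.quotientKerEquivRange Lh).toEquiv]
    have := Nat.mul_le_mul h1 h2
    omega

omit h22 in
theorem closure_clique_comm {E : Set G} (hE : IsClique D E) :
    ∀ p ∈ Subgroup.closure E, ∀ q ∈ Subgroup.closure E, Commute p q := by
  have h1 : Subgroup.closure E ≤ Subgroup.centralizer (Subgroup.closure E : Set G) := by
    rw [Subgroup.closure_le]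
    intro a ha
    rw [SetLike.mem_coe, Subgroup.mem_centralizer_iff]
    intro q hq
    have h2 : Subgroup.closure E ≤ Subgroup.centralizer ({a} : Set G) := (Subgroup.closure_le _).mpr fun b hb =>
      Subgroup.mem_centralizer_singleton_iff.mpr (hE.2.1 b hb a ha).eq
    exact Subgroup.mem_centralizer_singleton_iff.mp (h2 hq)
  exact fun p hp' q hq => (Subgroup.mem_centralizer_iff.mp (h1 hp') q hq).symm

/-- The group of a clique is elementary abelian. -/
theorem closure_clique_sq {E : Set G} (hE : IsClique D E) : ∀ p ∈ Subgroup.closure E, p * p = 1 := by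
  intro p hp'
  induction hp' using Subgroup.closure_induction with
  | mem x hx => exact mul_self (cls_of_group_prim hG hp).1 (hE.1 hx)
  | one => exact one_mul _
  | mul x y hx hy ihx ihy => rw [(closure_clique_comm hG hp hE x hx y hy).symm.mul_mul_mul_comm, ihx, ihy, one_mul]
  | inv x hx ih => rw [← _root_.mul_inv_rev, ih, inv_one]

include A in
/-- A large elementary abelian group fixing a member of a clique and normalising it. -/
theorem member_case {E : Set G} (hE : IsClique D E) {a : G} (ha : a ∈ E) (B : Subgroup G)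
    (hsq : ∀ b ∈ B, b * b = 1) (hcom : ∀ b ∈ B, ∀ c ∈ B, Commute b c) (hfix : ∀ b ∈ B, b * a * b⁻¹ = a)
    (hnorm : ∀ b ∈ B, ∀ e ∈ E, b * e * b⁻¹ ∈ E) (hcard : Nat.card (Subgroup.closure E) ≤ Nat.card B) :
    B ≤ Subgroup.closure E := by
  obtain ⟨g, g1, g2⟩ := clique_move (cls_of_group_prim hG hp) A hE ha
  set f := (MulAut.conj g).toMonoidHom
  have hcl : (Subgroup.closure E).map f = Subgroup.closure (Cw A 1) := by rw [MonoidHom.map_closure, ← g2]; rfl
  have hc2 : Nat.card (Subgroup.closure (Cw A 1)) = Nat.card (Subgroup.closure E) := by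
    rw [← hcl, Subgroup.card_map_of_injective (MulAut.conj g).injective]
  have hcB : 1024 ≤ Nat.card (B.map f) := by
    rw [Subgroup.card_map_of_injective (MulAut.conj g).injective]
    exact (card_A0 hG hp h22 A).trans (hc2.le.trans hcard)
  have := fixed_case hG hp h22 A (B.map f)
    (by rintro _ ⟨b, hb, rfl⟩; rw [← map_mul, hsq b hb, map_one])
    (by rintro _ ⟨b, hb, rfl⟩ _ ⟨c, hc, rfl⟩; exact (hcom b hb c hc).map f)
    (by
      rintro _ ⟨b, hb, rfl⟩
      show g * b * g⁻¹ * A.t * (g * b * g⁻¹)⁻¹ = A.t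
      rw [← g1, show g * b * g⁻¹ * (g * a * g⁻¹) * (g * b * g⁻¹)⁻¹ = g * (b * a * b⁻¹) * g⁻¹ by group, hfix b hb])
    (by
      rintro _ ⟨b, hb, rfl⟩ e he
      rw [← g2] at he ⊢
      obtain ⟨e', he', rfl⟩ := he
      refine ⟨b * e' * b⁻¹, hnorm b hb e' he', ?_⟩
      show g * (b * e' * b⁻¹) * g⁻¹ = g * b * g⁻¹ * (g * e' * g⁻¹) * (g * b * g⁻¹)⁻¹
      group)
    hcB
  rw [← hcl] at this
  exact (Subgroup.map_le_map_iff_of_injective (MulAut.conj g).injective).mp this

include A in
/-- A large elementary abelian group normalising a clique lies in its group. -/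
theorem large_le {d₀ : G} (hd₀ : d₀ ∈ D)
    (h3 : pCore 3 ↥(Subgroup.closure (Ds D d₀)) ≤ Subgroup.center ↥(Subgroup.closure (Ds D d₀)))
    (h2 : pCore 2 ↥(Subgroup.closure (Ds D d₀)) ≤ Subgroup.center ↥(Subgroup.closure (Ds D d₀)))
    {E : Set G} (hE : IsClique D E) (B : Subgroup G)
    (hsq : ∀ b ∈ B, b * b = 1) (hcom : ∀ b ∈ B, ∀ c ∈ B, Commute b c)
    (hnorm : ∀ b ∈ B, ∀ e ∈ E, b * e * b⁻¹ ∈ E) (hcard : Nat.card (Subgroup.closure E) ≤ Nat.card B) :
    B ≤ Subgroup.closure E := by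
  classical
  have hD := cls_of_group_prim hG hp
  haveI := Fintype.ofFinite G
  have h22E := clique_card hD A hE.1 hE.2.1 hE.2.2
  -- a member with a short orbit
  obtain ⟨a, ha, hshort⟩ : ∃ a ∈ E, Nat.card {y // ∃ b ∈ B, b * a * b⁻¹ = y} ≤ 2 := by
    by_contra hc
    push Not at hc
    let act : MulAction B E :=
      { smul := fun b e => ⟨(b : G) * e * (b : G)⁻¹, hnorm b b.2 e e.2⟩
        one_smul := fun e => Subtype.ext (by show (1 : G) * e * 1⁻¹ = e; group)
        mul_smul := fun b c e => Subtype.ext (by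
          show ((b : G) * c) * e * ((b : G) * c)⁻¹ = b * (c * e * (c : G)⁻¹) * (b : G)⁻¹
          group) }
    have hB2 : IsPGroup 2 B := fun b => ⟨1, by rw [pow_one, pow_two]; exact Subtype.ext (hsq b b.2)⟩
    have horb : ∀ e : E, 4 ∣ Nat.card (MulAction.orbit B e) := by
      intro e
      haveI : Fact (Nat.Prime 2) := ⟨Nat.prime_two⟩
      obtain ⟨n, hn⟩ := hB2.card_orbit e
      have hgt : 2 < Nat.card (MulAction.orbit B e) := by
        refine (hc e e.2).trans_le (le_of_eq (Nat.card_congr ?_))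
        exact
          { toFun := fun y => ⟨⟨y.1, by obtain ⟨b, hb, q⟩ := y.2; exact q ▸ hnorm b hb e e.2⟩, by
              obtain ⟨b, hb, q⟩ := y.2; exact ⟨⟨b, hb⟩, Subtype.ext q⟩⟩
            invFun := fun y => ⟨y.1.1, by obtain ⟨b, hb⟩ := y.2; exact ⟨b, b.2, congrArg Subtype.val hb⟩⟩
            left_inv := fun y => rfl
            right_inv := fun y => rfl }
      rw [hn] at hgt ⊢
      have : 2 ≤ n := by
        by_contra hlt
        interval_cases n <;> norm_num at hgt
      exact (show 4 = 2 ^ 2 by norm_num) ▸ pow_dvd_pow 2 this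
    have hdvd : 4 ∣ Nat.card E := by
      rw [Nat.card_congr (MulAction.selfEquivSigmaOrbits B E), Nat.card_sigma]
      exact Finset.dvd_sum fun ω _ => horb _
    rw [Nat.card_coe_set_eq, h22E] at hdvd
    norm_num at hdvd
  by_cases hfix : ∀ b ∈ B, b * a * b⁻¹ = a
  · exact member_case hG hp h22 A hE ha B hsq hcom hfix hnorm hcard
  push Not at hfix
  obtain ⟨x, hx, hxa⟩ := hfix
  set b := x * a * x⁻¹
  have hbE : b ∈ E := hnorm x hx a ha
  have horb : ∀ y ∈ B, y * a * y⁻¹ = a ∨ y * a * y⁻¹ = b := by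
    intro y hy
    by_contra hne
    push Not at hne
    have : Nat.card ({a, b, y * a * y⁻¹} : Set G) ≤ 2 := by
      refine le_trans ?_ hshort
      refine Nat.card_le_card_of_injective (fun z => ⟨z.1, ?_⟩) fun p q e => Subtype.ext (congrArg (fun r => r.1) e)
      rcases z.2 with q | q | q
      exacts [⟨1, one_mem _, by rw [q]; group⟩, ⟨x, hx, q.symm⟩, ⟨y, hy, q.symm⟩]
    rw [Nat.card_coe_set_eq, Set.ncard_eq_toFinset_card', Set.toFinset_insert, Set.toFinset_insert,
      Set.toFinset_singleton] at this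
    rw [Finset.card_insert_of_notMem (by simp [Ne.symm hxa, Ne.symm hne.1]),
      Finset.card_pair (Ne.symm hne.2)] at this
    omega
  have haB : a ∉ B := fun q => hxa (by show x * a * x⁻¹ = a; rw [(hcom x hx a q).eq, mul_inv_cancel_right])
  set B1 := B ⊓ Subgroup.centralizer ({a} : Set G)
  have hB1 : ∀ y ∈ B1, y * a * y⁻¹ = a := fun y hy => mem_cent.mp hy.2
  set M := B1 ⊔ Subgroup.zpowers a
  have haa : a * a = 1 := mul_self hD.1 (hE.1 ha)
  have haM : a ∈ M := Subgroup.mem_sup_right (Subgroup.mem_zpowers a)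
  have hMform : ∀ m ∈ M, m ∈ B1 ∨ m * a ∈ B1 := by
    intro m hm
    let S : Subgroup G :=
      { carrier := {m | m ∈ B1 ∨ m * a ∈ B1}
        one_mem' := Or.inl (one_mem _)
        mul_mem' := fun {p q} hp' hq' => by
          have hcm : ∀ r ∈ B1, Commute a r := fun r hr =>
            ((mul_inv_eq_iff_eq_mul.mp (hB1 r hr)).symm : a * r = r * a)
          rcases hp' with hp' | hp' <;> rcases hq' with hq' | hq'
          · exact Or.inl (mul_mem hp' hq')
          · exact Or.inr (by rw [mul_assoc]; exact mul_mem hp' hq')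
          · refine Or.inr ?_
            rw [mul_assoc, ← (hcm q hq').eq, ← mul_assoc]; exact mul_mem hp' hq'
          · refine Or.inl ?_
            have := mul_mem hp' hq'
            rwa [mul_assoc p a, (hcm (q * a) hq').eq, mul_assoc q, haa, mul_one] at this
        inv_mem' := fun {p} hp' => by
          rcases hp' with hp' | hp'
          · exact Or.inl (inv_mem hp')
          · refine Or.inr ?_
            have hcm : Commute a (p * a)⁻¹ :=
              (show Commute a (p * a) from (mul_inv_eq_iff_eq_mul.mp (hB1 _ hp')).symm).inv_right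
            have e : p⁻¹ * a = (p * a)⁻¹ := by
              calc p⁻¹ * a = a * (p * a)⁻¹ * a := by group
                _ = (p * a)⁻¹ := by rw [hcm.eq, mul_assoc, haa, mul_one]
            rw [e]; exact inv_mem hp' }
    have hle : M ≤ S := sup_le (fun q hq => Or.inl hq)
      (Subgroup.zpowers_le.mpr (Or.inr (by rw [haa]; exact one_mem _)))
    exact hle hm
  have hMsq : ∀ m ∈ M, m * m = 1 := by
    intro m hm
    rcases hMform m hm with q | q
    · exact hsq m q.1
    · have hc : Commute a (m * a) := (mul_inv_eq_iff_eq_mul.mp (hB1 _ q)).symm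
      calc m * m = (m * a * a) * (m * a * a) := by rw [mul_assoc m, haa, mul_one]
        _ = (m * a) * (m * a) * (a * a) := hc.mul_mul_mul_comm _ _
        _ = 1 := by rw [hsq _ q.1, haa, one_mul]
  have hMcom : ∀ p ∈ M, ∀ q ∈ M, Commute p q := by
    intro p hp' q hq'
    have e := hMsq _ (mul_mem hp' hq')
    calc p * q = (p * q)⁻¹ := eq_inv_of_mul_eq_one_left e
      _ = q * p := by
        rw [_root_.mul_inv_rev, ← eq_inv_of_mul_eq_one_left (hMsq p hp'), ← eq_inv_of_mul_eq_one_left (hMsq q hq')]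
  have hnormA : ∀ e ∈ E, a * e * a⁻¹ ∈ E := fun e he => by rwa [(hE.2.1 a ha e he).eq, mul_inv_cancel_right]
  have hMnorm : ∀ m ∈ M, ∀ e ∈ E, m * e * m⁻¹ ∈ E := by
    intro m hm e he
    rcases hMform m hm with q | q
    · exact hnorm m q.1 e he
    · rw [show m * e * m⁻¹ = (m * a) * (a⁻¹ * e * a⁻¹⁻¹) * (m * a)⁻¹ by group]
      refine hnorm _ q.1 _ ?_
      rw [inv_self hD.1 (hE.1 ha)]
      exact hnormA e he
  have hMfix : ∀ m ∈ M, m * a * m⁻¹ = a := fun m hm => by
    rw [(hMcom m hm a haM).eq, mul_inv_cancel_right]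
  have hBM : Nat.card B ≤ Nat.card M := by
    have h1 : Nat.card B ≤ 2 * Nat.card B1 := by
      have hi : (B1.subgroupOf B).index ≤ 2 := by
        rw [Subgroup.index]
        refine le_trans (Nat.card_le_card_of_injective
          (fun q : B ⧸ B1.subgroupOf B => (⟨(q.out : G) * a * (q.out : G)⁻¹, ?_⟩ : ({a, b} : Set G))) ?_) ?_
        · exact horb _ q.out.2
        · intro p q e
          rw [← QuotientGroup.out_eq' p, ← QuotientGroup.out_eq' q, QuotientGroup.eq, Subgroup.mem_subgroupOf]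
          refine ⟨(p.out⁻¹ * q.out).2, mem_cent.mpr ?_⟩
          have e' : (p.out : G) * a * (p.out : G)⁻¹ = (q.out : G) * a * (q.out : G)⁻¹ := congrArg Subtype.val e
          rw [Subgroup.coe_mul, Subgroup.coe_inv, ← cj_cj, ← e']
          group
        · rw [Nat.card_coe_set_eq]
          exact (Set.ncard_insert_le _ _).trans (by simp)
      rw [← (B1.subgroupOf B).card_mul_index, Nat.card_congr (Subgroup.subgroupOfEquivOfLe inf_le_left).toEquiv]
      rw [mul_comm 2]
      exact Nat.mul_le_mul_left _ hi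
    have hlt : B1 < M := lt_of_le_of_ne le_sup_left fun q => haB (q ▸ haM : a ∈ B1).1
    obtain ⟨k, hk⟩ := Subgroup.card_dvd_of_le hlt.le
    have hk2 : 2 ≤ k := by
      rcases k with - | k
      · rw [mul_zero] at hk; exact absurd hk (Nat.card_pos).ne'
      rcases k with - | k
      · rw [zero_add, mul_one] at hk
        exact absurd (Subgroup.eq_of_le_of_card_ge hlt.le hk.le) hlt.ne
      omega
    rw [hk]
    exact h1.trans (by rw [mul_comm 2]; exact Nat.mul_le_mul_left _ hk2)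
  have hMA : M ≤ Subgroup.closure E := member_case hG hp h22 A hE ha M hMsq hMcom hMfix hMnorm (hcard.trans hBM)
  have hME : M = Subgroup.closure E := Subgroup.eq_of_le_of_card_ge hMA (hcard.trans hBM)
  obtain ⟨c, hc, hcn⟩ : ∃ c ∈ E, c ∉ ({a, b} : Set G) := Set.exists_mem_notMem_of_ncard_lt_ncard
    (lt_of_le_of_lt (Set.ncard_insert_le a {b}) (by rw [Set.ncard_singleton]; omega)) (Set.toFinite _)
  simp only [Set.mem_insert_iff, Set.mem_singleton_iff, not_or] at hcn
  have hB1c : ∀ y ∈ B1, y * c * y⁻¹ = c := fun y hy => by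
    rw [(hMcom y (Subgroup.mem_sup_left hy) c (hME ▸ Subgroup.subset_closure hc)).eq, mul_inv_cancel_right]
  have hxc : x * c * x⁻¹ = c := by
    rcases hMform c (hME ▸ Subgroup.subset_closure hc) with q | q
    · rw [(hcom x hx c q.1).eq, mul_inv_cancel_right]
    · exfalso
      have e : x * (c * a) * x⁻¹ = c * a := by rw [(hcom x hx _ q.1).eq, mul_inv_cancel_right]
      rw [show x * (c * a) * x⁻¹ = (x * c * x⁻¹) * b by simp only [b]; group] at e
      have hbb : b⁻¹ = b := inv_self hD.1 (hE.1 hbE)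
      have e' : x * c * x⁻¹ = c * a * b := by rw [← e, mul_assoc (x * c * x⁻¹), mul_self hD.1 (hE.1 hbE), mul_one]
      exact ne_three hG hp hd₀ h3 h2 h22 A (cls_conj hD x (hE.1 hc)) (hE.1 hc) (hE.1 ha) (hE.1 hbE)
        hcn.1 hcn.2 (Ne.symm hxa) (hE.2.1 c hc a ha) (hE.2.1 c hc b hbE) (hE.2.1 a ha b hbE) e'
  have hfixc : ∀ y ∈ B, y * c * y⁻¹ = c := by
    intro y hy
    rcases horb y hy with q | q
    · exact hB1c y ⟨hy, mem_cent.mpr q⟩
    · have hq : x⁻¹ * y ∈ B1 := Subgroup.mem_inf.mpr ⟨mul_mem (inv_mem hx) hy, mem_cent.mpr (by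
        rw [← cj_cj, q]; simp only [b]; group)⟩
      have := hB1c _ hq
      calc y * c * y⁻¹ = x * ((x⁻¹ * y) * c * (x⁻¹ * y)⁻¹) * x⁻¹ := by group
        _ = c := by rw [this, hxc]
  exact member_case hG hp h22 A hE hc B hsq hcom hfixc hnorm hcard

end CfsgThreeTrans.M22.Thompson
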