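/-
The generating class of 3-transpositions in type M(22) is unique.
-/
import Cfsg.Agent.Lib.ThreeTrans.M22.InvolClasses

set_option autoImplicit false
set_option linter.unusedSectionVars false

namespace CfsgThreeTrans.M22

open Matrix Cfsg CfsgLib CfsgLib.UnitarySimple

theorem product_not_short {G : Type*} [Group G] {D : Set G} (hD : IsThreeTranspositionSet D) {a b c d : G} (ha : a ∈ D)
    (hb : b ∈ D) (hc : c ∈ D) (hd : d ∈ D) (hac : ¬ Commute a c) (hbd : Commute b d) (hne : b ≠ d)
    (h1 : Commute (a * c) (b * d)) :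
    ¬ ((a * c * (b * d)) ^ 2 = 1 ∨ (a * c * (b * d)) ^ 3 = 1) := by
  have h3 := CfsgThreeTrans.pow_three hD ha hc hac
  have hb2 : (b * d) ^ 2 = 1 := by
    rw [hbd.mul_pow, pow_two, pow_two, CfsgThreeTrans.mul_self hD hb, CfsgThreeTrans.mul_self hD hd, one_mul]
  rintro (e | e)
  · rw [h1.mul_pow, hb2, mul_one] at e
    rw [pow_succ, e, one_mul] at h3
    exact hac ((eq_inv_of_mul_eq_one_left h3).trans (CfsgThreeTrans.inv_self hD hc) ▸ Commute.refl c)
  · rw [h1.mul_pow, h3, one_mul, pow_succ, hb2, one_mul] at e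
    exact hne ((eq_inv_of_mul_eq_one_left e).trans (CfsgThreeTrans.inv_self hD hd))

/-- The class is unique. -/
theorem class_unique {G : Type*} [Group G] [Finite G] {D : Set G} (hD : IsThreeTranspositionGroup D)
    (hprim : IsPrimitiveUnderConj D) (h22 : IsOfTypeM22 G D) (D' : Set G) (hD' : IsThreeTranspositionClass D') :
    D' = D := by
    have hcl := cls_of_group_prim hD hprim
    obtain ⟨t, ht, h3, h2, F, iF, iFt, iDec, hF, ⟨A⟩⟩ := exists_full hD hprim h22
    obtain ⟨hset, ⟨d', hd', hcls⟩, -⟩ := hD'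
    have hd2 : d' * d' = 1 := CfsgThreeTrans.mul_self hset hd'
    obtain ⟨l, hlen, hn, hm, hc, hprod⟩ := short_invol hD hprim ht h3 h2 h22 A hd2
    obtain ⟨z, z0, z1, hq, hσ, -⟩ := exists_zeta hF
    have hσ' : z ^ 2 = z * z := pow_two z
    have two := two_zero hF
    have hyy : Cfsg.hermForm 6 F 2 ![z, z * z, 0, 0, 0, 0] ![z, z * z, 0, 0, 0, 0] = 0 := by
      simp [Cfsg.hermForm, Fin.sum_univ_six]
      have hz3 : z * z * z = 1 := by linear_combination (z - 1) * hq
      linear_combination (1 + (z * z * z + 1)) * hz3 + two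
    let y : Iso F := ⟨![z, z * z, 0, 0, 0, 0], fun e => z0 (by simpa using congrFun e 0), hyy⟩
    set a := q1 A with hadef
    set b := q2 A with hbdef
    set d := q3 A with hddef
    set c := point A y with hcdef
    have hac : ¬ Commute a c := fun k => by
      have := (point_commute_iff A _ _).mp k
      simp [dv, dbl, y, Cfsg.hermForm, Fin.sum_univ_six] at this
      have hz3 : z * z * z = 1 := by linear_combination (z - 1) * hq
      exact one_ne_zero (α := F) (by linear_combination this - hq - z * hz3 + two)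
    have cab : Commute a b := dp_commute A 1 0 0 0 1 0 _ _
    have cad : Commute a d := dp_commute A 1 0 0 0 0 1 _ _
    have cbd : Commute b d := dp_commute A 0 1 0 0 0 1 _ _
    have ccb : Commute c b := (point_commute_iff A _ _).mpr (by simp [dv, dbl, y, Cfsg.hermForm, Fin.sum_univ_six])
    have ccd : Commute c d := (point_commute_iff A _ _).mpr (by simp [dv, dbl, y, Cfsg.hermForm, Fin.sum_univ_six])
    have nab : a ≠ b := fun e => by
      obtain ⟨k, -, hk⟩ := (point_eq_iff A _ _).mp e
      simpa [dv, dbl] using congrFun hk 0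
    have nbd : b ≠ d := fun e => by
      obtain ⟨k, -, hk⟩ := (point_eq_iff A _ _).mp e
      simpa [dv, dbl] using congrFun hk 2
    have ncd : c ≠ d := fun e => hac (e ▸ cad)
    have ma : a ∈ Ds D A.t := point_mem A _
    have mb : b ∈ Ds D A.t := point_mem A _
    have mc : c ∈ Ds D A.t := point_mem A _
    have md : d ∈ Ds D A.t := point_mem A _
    have inD' : ∀ x : G, IsConj d' x → x ∈ D' := fun x hx => hcls ▸ (hx : x ∈ conjugatesOf d')
    rcases (show l.length = 0 ∨ l.length = 1 ∨ l.length = 2 ∨ l.length = 3 by omega) with e | e | e | e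
    · rw [List.eq_nil_of_length_eq_zero e, List.prod_nil] at hprod
      have := hset.1 d' hd'
      rw [← hprod, orderOf_one] at this
      norm_num at this
    · obtain ⟨w, rfl⟩ := List.length_eq_one_iff.mp e
      have hw : w ∈ D := hm w (by simp)
      have hd'w : d' = w := by simpa using hprod.symm
      subst hd'w
      rw [hcls]
      refine Set.ext fun x => ⟨fun hx => ?_, fun hx => ?_⟩
      · obtain ⟨g, rfl⟩ := isConj_iff.mp (hx : IsConj _ x)
        exact cls_conj hcl g hw
      · exact (isConj_iff.mpr (cls_exists_conj hcl hw hx) : IsConj _ x)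
    · exfalso
      obtain ⟨u, v, rfl⟩ := List.length_eq_two.mp e
      simp only [List.prod_cons, List.prod_nil, mul_one] at hprod
      obtain ⟨g, f1, f2⟩ := conj_base hcl A (hm u (by simp))
        (show v ∈ Ds D u from ⟨hm v (by simp), Ne.symm (by simpa using hn), hc u (by simp) v (by simp)⟩)
      have mk : ∀ p q : G, p ∈ D → q ∈ Ds D p → IsConj d' (p * q) := by
        intro p q hp hq
        obtain ⟨k, k1, k2⟩ := conj_base hcl A hp hq
        refine isConj_iff.mpr ⟨k * g⁻¹, ?_⟩
        rw [← hprod, ← f1, ← f2, ← k1, ← k2]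
        group
      have h6 := hset.2 _ (inD' _ (mk a b ma.1 ⟨mb.1, nab.symm, cab⟩)) _ (inD' _ (mk c d mc.1 ⟨md.1, ncd.symm, ccd⟩))
      rw [show a * b * (c * d) = a * c * (b * d) by rw [mul_assoc, ← mul_assoc b, ccb.symm.eq]; simp only [mul_assoc]]
        at h6
      exact product_not_short hcl.1 ma.1 mb.1 mc.1 md.1 hac cbd nbd
        ((cab.mul_right cad).mul_left (ccb.mul_right ccd)) h6
    · exfalso
      obtain ⟨u, v, w, rfl⟩ := List.length_eq_three.mp e
      simp only [List.prod_cons, List.prod_nil, mul_one] at hprod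
      simp only [List.nodup_cons, List.mem_cons, List.not_mem_nil, or_false, not_or, List.nodup_nil, and_true] at hn
      have mk : ∀ p q r : G, p ∈ D → q ∈ Ds D p → r ∈ Ds D p → q ≠ r → Commute q r → IsConj d' (p * q * r) := by
        intro p q r hp hq hr hqr cqr
        obtain ⟨k, k1, k2, k3⟩ := triple_map hcl A (hm u (by simp))
          ⟨hm v (by simp), Ne.symm hn.1.1, hc u (by simp) v (by simp)⟩
          ⟨hm w (by simp), Ne.symm hn.1.2, hc u (by simp) w (by simp)⟩ hn.2.1 (hc v (by simp) w (by simp))
          hp hq hr hqr cqr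
        refine isConj_iff.mpr ⟨k, ?_⟩
        rw [← hprod, ← k1, ← k2, ← k3]
        group
      have h6 := hset.2 _ (inD' _ (mk A.t a b A.ht ma mb nab cab)) _ (inD' _ (mk A.t c d A.ht mc md ncd ccd))
      have ct : Commute (a * b) A.t := (ma.2.2.mul_right mb.2.2).symm
      rw [show A.t * a * b * (A.t * c * d) = a * c * (b * d) by
        calc A.t * a * b * (A.t * c * d) = A.t * ((a * b) * A.t) * (c * d) := by simp only [mul_assoc]
          _ = A.t * A.t * (a * b) * (c * d) := by rw [ct.eq]; simp only [mul_assoc]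
          _ = a * b * (c * d) := by rw [CfsgThreeTrans.mul_self hcl.1 A.ht, one_mul]
          _ = a * c * (b * d) := by rw [mul_assoc, ← mul_assoc b, ccb.symm.eq]; simp only [mul_assoc]] at h6
      exact product_not_short hcl.1 ma.1 mb.1 mc.1 md.1 hac cbd nbd
        ((cab.mul_right cad).mul_left (ccb.mul_right ccd)) h6

end CfsgThreeTrans.M22
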