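/-
A transposition outside a maximal commuting set of type M(22) commutes with none or six of its members.
-/
import Cfsg.Agent.Lib.ThreeTrans.M22.CliqueCount
import Cfsg.Agent.Lib.ThreeTrans.M22.Params
import Cfsg.Agent.Lib.ThreeTrans.M22.InvolClasses

set_option autoImplicit false
set_option linter.unusedSectionVars false

namespace CfsgThreeTrans.M22.ThreeAWidth

open Matrix Cfsg CfsgLib CfsgThreeTrans.M22 CfsgThreeTrans.M22.Points CfsgThreeTrans.M22.CliqueCount

universe u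

variable {G : Type u} [Group G] [Finite G] {D : Set G}
variable {F : Type} [Field F] [Fintype F] [DecidableEq F] {hF : Fintype.card F = 2 ^ 2}

local notation "h" => Cfsg.hermForm 6 F 2

theorem card_iso_pair (hF : Fintype.card F = 2 ^ 2) :
    Nat.card {u : F × F // u.1 * u.1 ^ 2 + u.2 * u.2 ^ 2 = 0} = 10 := by
  classical
  have h1 : ∀ a : F, a ≠ 0 → a * a ^ 2 = 1 := fun a ha => by rw [← cube hF ha]; ring
  let f : Option (Fˣ × Fˣ) → {u : F × F // u.1 * u.1 ^ 2 + u.2 * u.2 ^ 2 = 0} := fun o =>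
    o.elim ⟨(0, 0), by simp⟩ fun p => ⟨(p.1.1, p.2.1), by
      rw [h1 _ p.1.ne_zero, h1 _ p.2.ne_zero]; exact add_self hF 1⟩
  have hf : Function.Bijective f := by
    refine ⟨?_, ?_⟩
    · rintro (_ | p) (_ | q) e
      · rfl
      · exact absurd (congrArg (fun u => u.1.1) e).symm q.1.ne_zero
      · exact absurd (congrArg (fun u => u.1.1) e) p.1.ne_zero
      · exact congrArg some (Prod.ext (Units.ext (congrArg (fun u => u.1.1) e))
          (Units.ext (congrArg (fun u => u.1.2) e)))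
    · rintro ⟨⟨a, b⟩, e⟩
      by_cases ha : a = 0
      · subst ha
        have hb : b = 0 := by simpa using e
        subst hb
        exact ⟨none, rfl⟩
      · have hb : b ≠ 0 := fun q => by
          subst q
          simp [ha] at e
        exact ⟨some (Units.mk0 a ha, Units.mk0 b hb), rfl⟩
  rw [← Nat.card_eq_of_bijective f hf, Finite.card_option, Nat.card_prod, Nat.card_units, Nat.card_eq_fintype_card, hF]
  norm_num

set_option maxHeartbeats 1000000 in
/-- Three pairwise commuting transpositions have fifty-one common partners. -/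
theorem ncard_base (A : Data D F hF) : (Ds D A.t ∩ Ds D (q1 A) ∩ Ds D (q2 A)).ncard = 51 := by
  classical
  set S := Ds D A.t ∩ Ds D (q1 A) ∩ Ds D (q2 A)
  set T : Set G := insert (q1 A) (insert (q2 A) S) with hT
  have hq1 : q1 A ∈ Ds D A.t := point_mem A _
  have hq2 : q2 A ∈ Ds D A.t := point_mem A _
  have hne : q1 A ≠ q2 A := fun e => by
    obtain ⟨k, hk, e'⟩ := (point_eq_iff A _ _).mp e
    simpa [dv, dbl] using congrFun e' 0
  have hc : Commute (q1 A) (q2 A) := dp_commute A 1 0 0 0 1 0 _ _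
  have hTsub : T ⊆ Ds D A.t := by
    rintro x (rfl | rfl | hx)
    exacts [hq1, hq2, hx.1.1]
  have hTcard : T.ncard = S.ncard + 2 := by
    rw [hT, Set.ncard_insert_of_notMem (by
      rintro (e | e)
      exacts [hne e, e.1.2.2.1 rfl]), Set.ncard_insert_of_notMem (fun e => e.2.2.1 rfl)]
  have hmem : ∀ x : Iso F, point A x ∈ T ↔ x.1 0 = x.1 1 ∧ x.1 2 = x.1 3 := by
    intro x
    have key : (Commute (point A x) (q1 A) ∧ Commute (point A x) (q2 A)) ↔ x.1 0 = x.1 1 ∧ x.1 2 = x.1 3 := by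
      rw [show q1 A = point A (dv hF 1 0 0 (Or.inl one_ne_zero)) from rfl,
        show q2 A = point A (dv hF 0 1 0 (Or.inr (Or.inl one_ne_zero))) from rfl, point_commute_iff,
        point_commute_iff]
      simp [dv, dbl, Cfsg.hermForm, Fin.sum_univ_six]
      constructor <;> rintro ⟨e1, e2⟩
      · exact ⟨by linear_combination e1 - x.1 1 * two_zero hF, by linear_combination e2 - x.1 3 * two_zero hF⟩
      · exact ⟨by linear_combination e1 + x.1 1 * two_zero hF, by linear_combination e2 + x.1 3 * two_zero hF⟩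
    rw [← key]
    constructor
    · rintro (e | e | ⟨⟨-, e1⟩, e2⟩)
      · rw [e]; exact ⟨Commute.refl _, hc⟩
      · rw [e]; exact ⟨hc.symm, Commute.refl _⟩
      · exact ⟨e1.2.2.symm, e2.2.2.symm⟩
    · rintro ⟨e1, e2⟩
      by_cases p1 : point A x = q1 A
      · exact Or.inl p1
      by_cases p2 : point A x = q2 A
      · exact Or.inr (Or.inl p2)
      exact Or.inr (Or.inr ⟨⟨point_mem A x, (point_mem A x).1, p1, e1.symm⟩, (point_mem A x).1, p2, e2.symm⟩)
  have hcard := card_pre A hTsub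
  let U := {u : F × F // u.1 * u.1 ^ 2 + u.2 * u.2 ^ 2 = 0}
  let W := {w : (F × F) × U // w ≠ ((0, 0), ⟨(0, 0), by simp⟩)}
  let e : {x : Iso F // point A x ∈ T} ≃ W :=
    { toFun := fun x => ⟨((x.1.1 0, x.1.1 2), ⟨(x.1.1 4, x.1.1 5), by
        obtain ⟨a0, a2⟩ := (hmem x.1).mp x.2
        have := x.1.2.2
        simp [Cfsg.hermForm, Fin.sum_univ_six] at this
        rw [← a0, ← a2] at this
        linear_combination this - (x.1.1 0 * x.1.1 0 ^ 2 + x.1.1 2 * x.1.1 2 ^ 2) * two_zero hF⟩), fun q => by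
        obtain ⟨a0, a2⟩ := (hmem x.1).mp x.2
        have q1 : x.1.1 0 = 0 := congrArg (fun w : (F × F) × U => w.1.1) q
        have q2 : x.1.1 2 = 0 := congrArg (fun w : (F × F) × U => w.1.2) q
        have q3 : x.1.1 4 = 0 := congrArg (fun w : (F × F) × U => w.2.1.1) q
        have q4 : x.1.1 5 = 0 := congrArg (fun w : (F × F) × U => w.2.1.2) q
        refine x.1.2.1 (funext fun i => ?_)
        fin_cases i <;> simp [← a0, ← a2, q1, q2, q3, q4]⟩
      invFun := fun w => ⟨⟨![w.1.1.1, w.1.1.1, w.1.1.2, w.1.1.2, w.1.2.1.1, w.1.2.1.2], fun q => w.2 (by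
          have q0 := congrFun q 0
          have q2 := congrFun q 2
          have q4 := congrFun q 4
          have q5 := congrFun q 5
          simp at q0 q2 q4 q5
          exact Prod.ext (Prod.ext q0 q2) (Subtype.ext (Prod.ext q4 q5))), by
        simp [Cfsg.hermForm, Fin.sum_univ_six]
        linear_combination w.1.2.2 + (w.1.1.1 * w.1.1.1 ^ 2 + w.1.1.2 * w.1.1.2 ^ 2) * two_zero hF⟩,
        (hmem _).mpr ⟨rfl, rfl⟩⟩
      left_inv := fun x => Subtype.ext (Subtype.ext (funext fun i => by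
        obtain ⟨a0, a2⟩ := (hmem x.1).mp x.2
        fin_cases i <;> simp [← a0, ← a2]))
      right_inv := fun w => rfl }
  have hW : Nat.card W = 159 := by
    have h1 : Nat.card W + 1 = Nat.card ((F × F) × U) := by
      rw [← Finite.card_option]
      exact Nat.card_congr (Equiv.optionSubtypeNe _)
    rw [Nat.card_prod, Nat.card_prod, card_iso_pair hF, Nat.card_eq_fintype_card (α := F), hF] at h1
    omega
  rw [Nat.card_congr e, hW, hTcard] at hcard
  omega

section

variable (hD : IsThreeTranspositionClass D) (hp : IsPrimitiveUnderConj D) (A : Data D F hF)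
include hD hp A

theorem ncard_commuting {a b c : G} (ha : a ∈ D) (hb : b ∈ Ds D a) (hc : c ∈ Ds D a) (hne : b ≠ c)
    (hbc : Commute b c) : (Ds D a ∩ Ds D b ∩ Ds D c).ncard = 51 := by
  obtain ⟨g, g1, g2, g3⟩ := triple_map hD A ha hb hc hne hbc A.ht (b' := q1 A) (point_mem A _)
    (c' := q2 A) (point_mem A _) (fun e => by
      obtain ⟨k, hk, e'⟩ := (point_eq_iff A _ _).mp e
      simpa [dv, dbl] using congrFun e' 0) (dp_commute A 1 0 0 0 1 0 _ _)
  rw [← ncard_base A, ← g1, ← g2, ← g3, ← cj_Ds hD, ← cj_Ds hD, ← cj_Ds hD,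
    ← Set.image_inter (cj_injective g), ← Set.image_inter (cj_injective g),
    Set.ncard_image_of_injective _ (cj_injective g)]

set_option maxHeartbeats 1000000 in
/-- The intersection numbers. -/
theorem zero_or_six {E : Set G} (hE : IsClique D E) {d : G} (hd : d ∈ D) (hdE : d ∉ E) :
    {e | e ∈ E ∧ Commute e d}.ncard = 0 ∨ {e | e ∈ E ∧ Commute e d}.ncard = 6 := by
  classical
  haveI := Fintype.ofFinite G
  have h22 : E.ncard = 22 := clique_card hD A hE.1 hE.2.1 hE.2.2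
  set Ef := E.toFinset with hEf
  have hEc : Ef.card = 22 := by rw [hEf, ← Set.ncard_eq_toFinset_card']; exact h22
  set Ω := (D \ E).toFinset with hΩ
  set ι : G → G → ℕ := fun e y => if Commute e y then 1 else 0 with hι
  set k : G → ℕ := fun y => ∑ e ∈ Ef, ι e y with hk
  have hkk : ∀ y, k y = {e | e ∈ E ∧ Commute e y}.ncard := fun y => by
    simp only [hk, hι]
    rw [Finset.sum_boole, Nat.cast_id, ← Set.ncard_coe_finset]
    congr 1
    ext e
    simp [hEf]
  have hιm : ∀ e y, ι e y * ι e y = ι e y := fun e y => by simp only [hι]; split <;> simp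
  -- the number of outside members commuting with given members
  set N : G → G → G → ℕ := fun e f g => ∑ y ∈ Ω, ι e y * ι f y * ι g y with hN
  have hNcard : ∀ e f g, N e f g = {y | y ∈ D \ E ∧ Commute e y ∧ Commute f y ∧ Commute g y}.ncard := fun e f g => by
    rw [show {y | y ∈ D \ E ∧ Commute e y ∧ Commute f y ∧ Commute g y} =
        ↑(Ω.filter fun y => Commute e y ∧ Commute f y ∧ Commute g y) by ext y; simp [hΩ], Set.ncard_coe_finset]
    simp only [hN, hι]
    rw [Finset.card_filter]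
    refine Finset.sum_congr rfl fun y _ => ?_
    split_ifs <;> simp_all
  have hout : ∀ {e : G}, e ∈ E → Ds D e ∩ E = E \ {e} := fun {e} he => by
    ext y
    constructor
    · rintro ⟨h1, h2⟩; exact ⟨h2, h1.2.1⟩
    · rintro ⟨h1, h2⟩; exact ⟨⟨hE.1 h1, h2, hE.2.1 e he y h1⟩, h1⟩
  have hN1 : ∀ e ∈ Ef, N e e e = 672 := by
    intro e he
    rw [hEf, Set.mem_toFinset] at he
    rw [hNcard, show {y | y ∈ D \ E ∧ Commute e y ∧ Commute e y ∧ Commute e y} = Ds D e \ (Ds D e ∩ E) by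
      ext y
      simp only [Set.mem_setOf_eq, Set.mem_sdiff, Set.mem_inter_iff, and_self]
      constructor
      · rintro ⟨⟨hy, hyE⟩, h1⟩; exact ⟨⟨hy, fun q => hyE (q ▸ he), h1⟩, fun q => hyE q.2⟩
      · rintro ⟨h1, h2⟩; exact ⟨⟨h1.1, fun q => h2 ⟨h1, q⟩⟩, h1.2.2⟩,
      Set.ncard_sdiff Set.inter_subset_left, ncard_Ds hD A (hE.1 he), hout he,
      Set.ncard_sdiff_singleton_of_mem he, h22]
  have hN2 : ∀ e ∈ Ef, ∀ f ∈ Ef, e ≠ f → N e e f = 160 ∧ N e f e = 160 ∧ N e f f = 160 := by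
    intro e he f hf hef
    rw [hEf, Set.mem_toFinset] at he hf
    have hf' : f ∈ Ds D e := ⟨hE.1 hf, Ne.symm hef, hE.2.1 e he f hf⟩
    have key : {y | y ∈ D \ E ∧ Commute e y ∧ Commute f y}.ncard = 160 := by
      rw [show {y | y ∈ D \ E ∧ Commute e y ∧ Commute f y} = (Ds D e ∩ Ds D f) \ (E \ {e, f}) by
        ext y
        simp only [Set.mem_setOf_eq, Set.mem_sdiff, Set.mem_inter_iff, Set.mem_insert_iff, Set.mem_singleton_iff, not_or]
        constructor
        · rintro ⟨⟨hy, hyE⟩, h1, h2⟩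
          exact ⟨⟨⟨hy, fun q => hyE (q ▸ he), h1⟩, hy, fun q => hyE (q ▸ hf), h2⟩, fun q => hyE q.1⟩
        · rintro ⟨⟨h1, h2⟩, h3⟩
          exact ⟨⟨h1.1, fun q => h3 ⟨q, h1.2.1, h2.2.1⟩⟩, h1.2.2, h2.2.2⟩,
        Set.ncard_sdiff (by
          rintro y ⟨hy, hne⟩
          simp only [Set.mem_insert_iff, Set.mem_singleton_iff, not_or] at hne
          exact ⟨⟨hE.1 hy, hne.1, hE.2.1 e he y hy⟩, hE.1 hy, hne.2, hE.2.1 f hf y hy⟩),
        ncard_near hD A (hE.1 he) hf', Set.ncard_sdiff (Set.insert_subset he (Set.singleton_subset_iff.mpr hf)),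
        Set.ncard_pair hef, h22]
    refine ⟨?_, ?_, ?_⟩ <;> rw [hNcard, ← key] <;> congr 1 <;> ext y <;> simp only [Set.mem_setOf_eq] <;> tauto
  have hN3 : ∀ e ∈ Ef, ∀ f ∈ Ef, ∀ g ∈ Ef, e ≠ f → e ≠ g → f ≠ g → N e f g = 32 := by
    intro e he f hf g hg hef heg hfg
    rw [hEf, Set.mem_toFinset] at he hf hg
    rw [hNcard, show {y | y ∈ D \ E ∧ Commute e y ∧ Commute f y ∧ Commute g y} =
        (Ds D e ∩ Ds D f ∩ Ds D g) \ (E \ {e, f, g}) by
      ext y
      simp only [Set.mem_setOf_eq, Set.mem_sdiff, Set.mem_inter_iff, Set.mem_insert_iff, Set.mem_singleton_iff, not_or]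
      constructor
      · rintro ⟨⟨hy, hyE⟩, h1, h2, h3⟩
        exact ⟨⟨⟨⟨hy, fun q => hyE (q ▸ he), h1⟩, hy, fun q => hyE (q ▸ hf), h2⟩, hy, fun q => hyE (q ▸ hg), h3⟩,
          fun q => hyE q.1⟩
      · rintro ⟨⟨⟨h1, h2⟩, h3⟩, h4⟩
        exact ⟨⟨h1.1, fun q => h4 ⟨q, h1.2.1, h2.2.1, h3.2.1⟩⟩, h1.2.2, h2.2.2, h3.2.2⟩,
      Set.ncard_sdiff (by
        rintro y ⟨hy, hne⟩
        simp only [Set.mem_insert_iff, Set.mem_singleton_iff, not_or] at hne
        exact ⟨⟨⟨hE.1 hy, hne.1, hE.2.1 e he y hy⟩, hE.1 hy, hne.2.1, hE.2.1 f hf y hy⟩, hE.1 hy, hne.2.2,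
          hE.2.1 g hg y hy⟩),
      ncard_commuting hD hp A (hE.1 he) ⟨hE.1 hf, Ne.symm hef, hE.2.1 e he f hf⟩
        ⟨hE.1 hg, Ne.symm heg, hE.2.1 e he g hg⟩ hfg (hE.2.1 f hf g hg),
      Set.ncard_sdiff (by
        rintro y (rfl | rfl | rfl)
        exacts [he, hf, hg]),
      Set.ncard_eq_three.mpr ⟨e, f, g, hef, heg, hfg, rfl⟩, h22]
  -- summing over members of the clique
  have hin : ∀ e ∈ Ef, ∀ f ∈ Ef, ∑ g ∈ Ef, N e f g = if f = e then 4032 else 960 := by
    intro e he f hf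
    split_ifs with hfe
    · subst hfe
      rw [← Finset.add_sum_erase _ _ he, hN1 f he, Finset.sum_congr rfl (fun g hg => (hN2 f he g
        (Finset.mem_of_mem_erase hg) (Finset.ne_of_mem_erase hg).symm).1), Finset.sum_const,
        Finset.card_erase_of_mem he, hEc]
      rfl
    · have hfe' : f ∈ Ef.erase e := Finset.mem_erase.mpr ⟨hfe, hf⟩
      rw [← Finset.add_sum_erase _ _ he, ← Finset.add_sum_erase _ _ hfe', (hN2 e he f hf (Ne.symm hfe)).2.1,
        (hN2 e he f hf (Ne.symm hfe)).2.2, Finset.sum_congr rfl (fun g hg => hN3 e he f hf g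
          (Finset.mem_of_mem_erase (Finset.mem_of_mem_erase hg)) (Ne.symm hfe)
          (Finset.ne_of_mem_erase (Finset.mem_of_mem_erase hg)).symm (Finset.ne_of_mem_erase hg).symm),
        Finset.sum_const, Finset.card_erase_of_mem hfe', Finset.card_erase_of_mem he, hEc]
      rfl
  have s3 : ∑ y ∈ Ω, k y ^ 3 = 532224 := by
    have e1 : ∀ y, k y ^ 3 = ∑ e ∈ Ef, ∑ f ∈ Ef, ∑ g ∈ Ef, ι e y * ι f y * ι g y := fun y => by
      rw [_root_.pow_three]
      simp only [hk]
      rw [Finset.sum_mul_sum, Finset.sum_mul]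
      refine Finset.sum_congr rfl fun e _ => ?_
      rw [Finset.mul_sum]
      refine Finset.sum_congr rfl fun f _ => ?_
      rw [Finset.mul_sum]
      exact Finset.sum_congr rfl fun g _ => by ring
    have hswap : ∑ y ∈ Ω, k y ^ 3 = ∑ e ∈ Ef, ∑ f ∈ Ef, ∑ g ∈ Ef, N e f g := by
      rw [Finset.sum_congr rfl fun y _ => e1 y, Finset.sum_comm]
      refine Finset.sum_congr rfl fun e _ => ?_
      rw [Finset.sum_comm]
      refine Finset.sum_congr rfl fun f _ => ?_
      rw [Finset.sum_comm]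
    have hval : ∀ e ∈ Ef, ∑ f ∈ Ef, ∑ g ∈ Ef, N e f g = 24192 := by
      intro e he
      rw [Finset.sum_congr rfl (hin e he), ← Finset.add_sum_erase _ _ he, if_pos rfl,
        Finset.sum_congr rfl (fun f hf => if_neg (Finset.ne_of_mem_erase hf)),
        Finset.sum_const, Finset.card_erase_of_mem he, hEc]
      rfl
    rw [hswap, Finset.sum_congr rfl hval, Finset.sum_const, hEc]
    rfl
  have s2 : ∑ y ∈ Ω, k y ^ 2 = 88704 := by
    have e1 : ∀ y, k y ^ 2 = ∑ e ∈ Ef, ∑ f ∈ Ef, ι e y * ι e y * ι f y := fun y => by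
      rw [pow_two]
      simp only [hk]
      rw [Finset.sum_mul_sum]
      exact Finset.sum_congr rfl fun e _ => Finset.sum_congr rfl fun f _ => by rw [hιm]
    have hswap : ∑ y ∈ Ω, k y ^ 2 = ∑ e ∈ Ef, ∑ f ∈ Ef, N e e f := by
      rw [Finset.sum_congr rfl fun y _ => e1 y, Finset.sum_comm]
      refine Finset.sum_congr rfl fun e _ => ?_
      rw [Finset.sum_comm]
    have hval : ∀ e ∈ Ef, ∑ f ∈ Ef, N e e f = 4032 := by
      intro e he
      rw [← Finset.add_sum_erase _ _ he, hN1 e he, Finset.sum_congr rfl (fun f hf => (hN2 e he f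
        (Finset.mem_of_mem_erase hf) (Finset.ne_of_mem_erase hf).symm).1), Finset.sum_const,
        Finset.card_erase_of_mem he, hEc]
      rfl
    rw [hswap, Finset.sum_congr rfl hval, Finset.sum_const, hEc]
    rfl
  have s1 : ∑ y ∈ Ω, k y = 14784 := by
    simp only [hk]
    rw [Finset.sum_comm, Finset.sum_congr rfl (fun e he => by
      rw [show ∑ y ∈ Ω, ι e y = N e e e from Finset.sum_congr rfl fun y _ => by rw [hιm, hιm], hN1 e he]),
      Finset.sum_const, hEc]
    rfl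
  have hle : ∀ y ∈ Ω, 12 * k y ^ 2 ≤ k y ^ 3 + 36 * k y := fun y _ => by
    nlinarith [mul_nonneg (Nat.cast_nonneg (α := ℤ) (k y)) (sq_nonneg ((k y : ℤ) - 6))]
  have heq := (Finset.sum_eq_sum_iff_of_le hle).mp (by
    rw [← Finset.mul_sum, Finset.sum_add_distrib, ← Finset.mul_sum, s1, s2, s3]; norm_num) d (by simp [hΩ, hd, hdE])
  rw [← hkk]
  rcases Nat.eq_zero_or_pos (k d) with h0 | h0
  · exact Or.inl h0
  · refine Or.inr ?_
    have : (k d : ℤ) * ((k d : ℤ) - 6) ^ 2 = 0 := by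
      have : (12 : ℤ) * (k d : ℤ) ^ 2 = (k d : ℤ) ^ 3 + 36 * (k d : ℤ) := by exact_mod_cast heq
      linarith
    rcases mul_eq_zero.mp this with q | q
    · omega
    · have := pow_eq_zero_iff (two_ne_zero) |>.mp q
      omega

/-- Every commuting set extends to a maximal one. -/
theorem exists_clique {C : Set G} (hC : C ⊆ D) (hc : ∀ a ∈ C, ∀ b ∈ C, Commute a b) :
    ∃ E, IsClique D E ∧ C ⊆ E := by
  let s : Set (Set G) := {E | C ⊆ E ∧ E ⊆ D ∧ ∀ a ∈ E, ∀ b ∈ E, Commute a b}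
  obtain ⟨E, hE⟩ := (Set.toFinite s).exists_maximal ⟨C, subset_rfl, hC, hc⟩
  refine ⟨E, ⟨hE.prop.2.1, hE.prop.2.2, fun c hcD hcom => ?_⟩, hE.prop.1⟩
  by_contra hn
  refine hn (hE.2 (y := insert c E) ⟨hE.prop.1.trans (Set.subset_insert _ _), Set.insert_subset hcD hE.prop.2.1, ?_⟩
    (Set.subset_insert _ _) (Set.mem_insert c E))
  rintro a (rfl | ha) b (rfl | hb)
  exacts [Commute.refl _, (hcom b hb).symm, hcom a ha, hE.prop.2.2 a ha b hb]

/-- The width of the common partners of a non-commuting pair. -/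
theorem width {a d : G} (ha : a ∈ D) (hd : d ∈ D) (hnc : ¬ Commute a d) :
    commutingWidth (Ds D a ∩ Ds D d) = 6 ∧ ∃ b ∈ Ds D a ∩ Ds D d, ∃ c ∈ Ds D a ∩ Ds D d, ¬ Commute b c := by
  classical
  have h126 : (Ds D a ∩ Ds D d).ncard = 126 := (params hD hp A).2 a ha d hd hnc
  have hup : ∀ C ⊆ Ds D a ∩ Ds D d, (∀ x ∈ C, ∀ y ∈ C, Commute x y) → C.ncard ≤ 6 := by
    intro C hC hc
    obtain ⟨E, hE, hCE⟩ := exists_clique hD hp A (C := insert a C)
      (Set.insert_subset ha fun x hx => (hC hx).1.1) (by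
        rintro x (rfl | hx) y (rfl | hy)
        exacts [Commute.refl _, (hC hy).1.2.2, (hC hx).1.2.2.symm, hc x hx y hy])
    have hdE : d ∉ E := fun q => hnc (hE.2.1 a (hCE (Set.mem_insert _ _)) d q)
    have hsub : C ⊆ {e | e ∈ E ∧ Commute e d} := fun x hx => ⟨hCE (Set.mem_insert_of_mem _ hx), (hC hx).2.2.2.symm⟩
    have := Set.ncard_le_ncard hsub (Set.toFinite _)
    rcases zero_or_six hD hp A hE hd hdE with e | e <;> omega
  obtain ⟨z, hz⟩ : (Ds D a ∩ Ds D d).Nonempty := Set.nonempty_of_ncard_ne_zero (by rw [h126]; norm_num)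
  obtain ⟨E, hE, hsub⟩ := exists_clique hD hp A (C := {a, z}) (Set.insert_subset ha (Set.singleton_subset_iff.mpr hz.1.1))
    (by
      rintro x (rfl | rfl) y (rfl | rfl)
      exacts [Commute.refl _, hz.1.2.2, hz.1.2.2.symm, Commute.refl _])
  have haE : a ∈ E := hsub (Set.mem_insert _ _)
  have hzE : z ∈ E := hsub (Set.mem_insert_of_mem _ rfl)
  have hdE : d ∉ E := fun q => hnc (hE.2.1 a haE d q)
  set C0 := {e | e ∈ E ∧ Commute e d}
  have h6 : C0.ncard = 6 := (zero_or_six hD hp A hE hd hdE).resolve_left fun e =>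
    Set.notMem_empty z ((Set.ncard_eq_zero (Set.toFinite _)).mp e ▸ (⟨hzE, hz.2.2.2.symm⟩ : z ∈ C0))
  have hC0 : C0 ⊆ Ds D a ∩ Ds D d := fun e he =>
    ⟨⟨hE.1 he.1, fun q => hnc (q ▸ he.2), hE.2.1 a haE e he.1⟩, hE.1 he.1, fun q => hdE (q ▸ he.1), he.2.symm⟩
  refine ⟨?_, ?_⟩
  · refine IsGreatest.csSup_eq ⟨⟨C0, hC0, Set.toFinite _, fun x hx y hy => hE.2.1 x hx.1 y hy.1, h6⟩, ?_⟩
    rintro n ⟨C, hC, -, hc, rfl⟩
    exact hup C hC hc
  · by_contra hall
    push Not at hall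
    have := hup _ subset_rfl hall
    omega

end

end CfsgThreeTrans.M22.ThreeAWidth
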