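/-
Subgroups of order eleven in the unitary group of dimension six over four elements.
-/
import Cfsg.Agent.Lib.ThreeTrans.M22.Quasi
import Mathlib.GroupTheory.Sylow

set_option autoImplicit false
set_option linter.unusedSectionVars false

namespace CfsgThreeTrans.M22

open Matrix Cfsg CfsgLib CfsgLib.UnitarySimple

universe u

variable {F : Type} [Field F] [Fintype F] [DecidableEq F]

theorem eleven_num : ∀ c e : ℕ, (c = 11 ∨ c = 33) → (e = 1 ∨ e = 2 ∨ e = 5 ∨ e = 10) →
    (c * e ∣ 9196830720) → (9196830720 / (c * e)) % 11 = 1 → c = 11 ∧ e = 5 := by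
  rintro c e (rfl | rfl) (rfl | rfl | rfl | rfl) h h' <;> first | exact ⟨rfl, rfl⟩ | norm_num at h h'

/-- An element of order eleven has a centraliser of order dividing `3069` in the special unitary group. -/
theorem su_cent_eleven (hF : Fintype.card F = 2 ^ 2) {M : Cfsg.SU 6 F 2} (hM : orderOf M = 11) :
    Nat.card ↥(Subgroup.centralizer ({M} : Set (Cfsg.SU 6 F 2))) ∣ 3069 := by
  classical
  set A := mat M
  have h2 : (2 : F) = 0 := by
    have : ((4 : ℕ) : F) = 0 := by
      rw [show (4 : ℕ) = Fintype.card F by rw [hF]; norm_num]; exact FiniteField.cast_card_eq_zero F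
    have h4 : (2 : F) * 2 = 0 := by norm_num at this ⊢; exact this
    exact (mul_self_eq_zero.mp h4)
  have h11 : (11 : F) = 1 := by linear_combination (5 : F) * h2
  have hApow : ∀ i : ℕ, mat (M ^ i) = A ^ i := by
    intro i
    induction i with
    | zero => rw [pow_zero, pow_zero, mat_one]
    | succ i ih => rw [pow_succ, pow_succ, mat_mul, ih]
  have hA11 : A ^ 11 = 1 := by rw [← hApow, ← hM, pow_orderOf_eq_one, mat_one]
  set P := ∑ i ∈ Finset.range 11, A ^ i with hP
  have hAP : A * P = P := by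
    rw [hP, Finset.mul_sum]
    have e : (∑ i ∈ Finset.range 11, A * A ^ i) + A ^ 0 = (∑ i ∈ Finset.range 11, A ^ i) + A ^ 11 := by
      rw [← Finset.sum_range_succ (fun i => A ^ i), Finset.sum_range_succ' (fun i => A ^ i)]
      simp only [pow_succ']
    rw [hA11, pow_zero] at e
    exact add_right_cancel e
  have hiP : ∀ i : ℕ, A ^ i * P = P := by
    intro i
    induction i with
    | zero => rw [pow_zero, Matrix.one_mul]
    | succ i ih => rw [pow_succ, Matrix.mul_assoc, hAP, ih]
  have hPP : P * P = P := by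
    conv_lhs => arg 1; rw [hP]
    rw [Finset.sum_mul, Finset.sum_congr rfl fun i _ => hiP i, Finset.sum_const, Finset.card_range,
      ← Nat.cast_smul_eq_nsmul F, show ((11 : ℕ) : F) = 1 by exact_mod_cast h11, one_smul]
  set L := Matrix.mulVecLin P
  set U := LinearMap.ker L with hU
  have hmemU : ∀ u, u ∈ U ↔ P *ᵥ u = 0 := fun u => Iff.rfl
  have hfix : ∀ u, A *ᵥ u = u → P *ᵥ u = u := by
    intro u hu
    have hi : ∀ i : ℕ, A ^ i *ᵥ u = u := by
      intro i
      induction i with
      | zero => rw [pow_zero, one_mulVec]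
      | succ i ih => rw [pow_succ, ← mulVec_mulVec, hu, ih]
    rw [hP, sum_mulVec, Finset.sum_congr rfl fun i _ => hi i, Finset.sum_const, Finset.card_range,
      ← Nat.cast_smul_eq_nsmul F, show ((11 : ℕ) : F) = 1 by exact_mod_cast h11, one_smul]
  have hne : ∃ v, A *ᵥ v ≠ v := by
    by_contra hcon
    push Not at hcon
    have h1 : A = 1 := Matrix.ext_of_mulVec_single fun i => by rw [one_mulVec]; exact hcon _
    have : M = 1 := Subtype.ext (Subtype.ext h1)
    rw [this, orderOf_one] at hM
    norm_num at hM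
  have hq4 : Nat.card F = 4 := by rw [Nat.card_eq_fintype_card, hF]; norm_num
  -- invariant subspaces without fixed vectors
  have hinv : ∀ W : Submodule F (Fin 6 → F), (∀ u ∈ W, A *ᵥ u ∈ W) → W ≤ U → W = ⊥ ∨ Module.finrank F W = 5 := by
    intro W hW hWU
    haveI : Fintype W := Fintype.ofFinite W
    let f : Function.End W := fun u => ⟨A *ᵥ u.1, hW u u.2⟩
    have hit : ∀ (n : ℕ) (u : W), (f^[n] u).1 = A ^ n *ᵥ u.1 := by
      intro n
      induction n with
      | zero => intro u; rw [pow_zero, one_mulVec]; rfl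
      | succ n ih => intro u; rw [Function.iterate_succ_apply, ih, pow_succ, ← mulVec_mulVec]
    have hf : f^[11 ^ 1] = id := by
      funext u
      refine Subtype.ext ?_
      rw [hit, pow_one, hA11, one_mulVec, id]
    haveI : Fact (Nat.Prime 11) := ⟨by norm_num⟩
    have hmod := Equiv.Perm.card_fixedPoints_modEq (f := f) hf
    have h1 : Fintype.card (Function.fixedPoints f) = 1 := by
      rw [Fintype.card_eq_one_iff]
      refine ⟨⟨0, Subtype.ext (mulVec_zero A)⟩, fun x => Subtype.ext (Subtype.ext ?_)⟩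
      have hx : A *ᵥ x.1.1 = x.1.1 := congrArg Subtype.val x.2
      exact (hfix _ hx).symm.trans ((hmemU _).mp (hWU x.1.2))
    rw [h1, ← Nat.card_eq_fintype_card, Module.natCard_eq_pow_finrank (K := F), hq4] at hmod
    have hle : Module.finrank F W ≤ 6 := (Submodule.finrank_le W).trans (le_of_eq (Module.finrank_fin_fun F))
    have key : ∀ k : ℕ, k ≤ 6 → 4 ^ k % 11 = 1 → k = 0 ∨ k = 5 := by decide
    rcases key _ hle (by rw [hmod]) with h | h
    exacts [Or.inl (Submodule.finrank_eq_zero.mp h), Or.inr h]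
  have hAU : ∀ u ∈ U, A *ᵥ u ∈ U := by
    intro u hu
    rw [hmemU] at hu ⊢
    have hcomm : P * A = A * P := by rw [hP, Finset.mul_sum, Finset.sum_mul]; simp only [← pow_succ', ← pow_succ]
    rw [mulVec_mulVec, hcomm, ← mulVec_mulVec, hu, mulVec_zero]
  obtain ⟨v, hv⟩ := hne
  have hU0 : U ≠ ⊥ := by
    intro h
    apply hv
    have : A *ᵥ v - v ∈ U := by
      rw [hmemU, mulVec_sub, mulVec_mulVec, show P * A = P by
        rw [show P * A = A * P by rw [hP, Finset.mul_sum, Finset.sum_mul]; simp only [← pow_succ', ← pow_succ], hAP],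
        sub_self]
    rw [h, Submodule.mem_bot, sub_eq_zero] at this
    exact this
  have hdim : Module.finrank F U = 5 := (hinv U hAU le_rfl).resolve_left hU0
  have hrange : Module.finrank F (LinearMap.range L) = 1 := by
    have := LinearMap.finrank_range_add_finrank_ker L
    rw [← hU, hdim, Module.finrank_fin_fun] at this
    omega
  obtain ⟨⟨w, hw⟩, hwne, hwspan⟩ := finrank_eq_one_iff'.mp hrange
  set C := Subgroup.centralizer ({M} : Set (Cfsg.SU 6 F 2))
  have hCA : ∀ g : C, mat g.1 * A = A * mat g.1 := fun g => by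
    rw [← mat_mul, ← mat_mul, Subgroup.mem_centralizer_singleton_iff.mp g.2]
  have hCP : ∀ g : C, mat g.1 * P = P * mat g.1 := fun g => by
    rw [hP, Finset.mul_sum, Finset.sum_mul]
    exact Finset.sum_congr rfl fun i _ => ((show Commute (mat g.1) A from hCA g).pow_right i).eq
  have hCU : ∀ (g : C) u, u ∈ U → mat g.1 *ᵥ u ∈ U := fun g u hu => by
    rw [hmemU] at hu ⊢
    rw [mulVec_mulVec, ← hCP g, ← mulVec_mulVec, hu, mulVec_zero]
  let S := {u : Fin 6 → F // u ∈ U ∧ u ≠ 0}
  letI : MulAction C S :=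
    { smul := fun g u => ⟨mat g.1 *ᵥ u.1, hCU g _ u.2.1, fun e => u.2.2 (by
        have e' := congrArg (mat (g⁻¹ : C).1 *ᵥ ·) e
        simp only [mulVec_mulVec, mulVec_zero, ← mat_mul] at e'
        rwa [show ((g⁻¹ : C) : Cfsg.SU 6 F 2) * g.1 = 1 from congrArg Subtype.val (inv_mul_cancel g), mat_one,
          one_mulVec] at e')⟩
      one_smul := fun u => Subtype.ext (by
        show mat (1 : C).1 *ᵥ u.1 = u.1
        rw [OneMemClass.coe_one, mat_one, one_mulVec])
      mul_smul := fun g k u => Subtype.ext (by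
        show mat (g * k : C).1 *ᵥ u.1 = mat g.1 *ᵥ (mat k.1 *ᵥ u.1)
        rw [mulVec_mulVec, ← mat_mul]; rfl) }
  let Kr : Subgroup C :=
    { carrier := {g | ∀ u ∈ U, mat g.1 *ᵥ u = u}
      one_mem' := fun u _ => by rw [OneMemClass.coe_one, mat_one, one_mulVec]
      mul_mem' := fun {g k} hg hk u hu => by
        rw [show mat (g * k : C).1 = mat g.1 * mat k.1 from mat_mul _ _, ← mulVec_mulVec, hk u hu, hg u hu]
      inv_mem' := fun {g} hg u hu => by
        conv_lhs => rw [← hg u hu]
        rw [mulVec_mulVec, ← mat_mul, show ((g⁻¹ : C) : Cfsg.SU 6 F 2) * g.1 = 1 from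
          congrArg Subtype.val (inv_mul_cancel g), mat_one, one_mulVec] }
  have hstab : ∀ u : S, MulAction.stabilizer C u = Kr := by
    intro u
    ext g
    rw [MulAction.mem_stabilizer_iff]
    refine ⟨fun e => ?_, fun hg => Subtype.ext (hg u.1 u.2.1)⟩
    have he : mat g.1 *ᵥ u.1 = u.1 := congrArg Subtype.val e
    set W := U ⊓ LinearMap.ker (Matrix.mulVecLin (mat g.1 - 1))
    have hmemW : ∀ x, x ∈ W ↔ x ∈ U ∧ mat g.1 *ᵥ x = x := fun x => by
      simp only [W, Submodule.mem_inf, LinearMap.mem_ker, mulVecLin_apply, sub_mulVec, one_mulVec, sub_eq_zero]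
    have hW5 := (hinv W (fun x hx => (hmemW _).mpr ⟨hAU x ((hmemW x).mp hx).1, by
      rw [mulVec_mulVec, hCA g, ← mulVec_mulVec, ((hmemW x).mp hx).2]⟩) inf_le_left).resolve_left
      (fun h => u.2.2 (by simpa [h] using (hmemW u.1).mpr ⟨u.2.1, he⟩))
    have : W = U := Submodule.eq_of_le_of_finrank_eq inf_le_left (by rw [hW5, hdim])
    exact fun x hx => ((hmemW x).mp (this ▸ hx)).2
  -- the kernel
  have hKr : Nat.card Kr ∣ 3 := by
    have hl : ∀ g : Kr, ∃ c : F, mat g.1.1 *ᵥ w = c • w := by
      intro g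
      obtain ⟨y, hy⟩ := hw
      have hm : mat g.1.1 *ᵥ w ∈ LinearMap.range L :=
        ⟨mat g.1.1 *ᵥ y, by
          show P *ᵥ _ = _
          rw [mulVec_mulVec, ← hCP g.1, ← mulVec_mulVec, show P *ᵥ y = w from hy]⟩
      obtain ⟨c, hc⟩ := hwspan ⟨_, hm⟩
      exact ⟨c, (congrArg Subtype.val hc).symm⟩
    choose c hc using hl
    have hw0 : w ≠ 0 := fun e => hwne (Subtype.ext e)
    have hcm : ∀ g k : Kr, c (g * k) = c g * c k := fun g k => smul_left_injective F hw0 (by
      show c (g * k) • w = (c g * c k) • w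
      rw [← hc, show mat (g * k : Kr).1.1 = mat g.1.1 * mat k.1.1 from mat_mul _ _, ← mulVec_mulVec, hc k,
        mulVec_smul, hc g, smul_smul, mul_comm])
    have hc1 : c 1 = 1 := smul_left_injective F hw0 (by
      show c 1 • w = (1 : F) • w
      rw [← hc, show mat (1 : Kr).1.1 = 1 from mat_one, one_mulVec, one_smul])
    let χ : Kr →* Fˣ := MonoidHom.toHomUnits ⟨⟨c, hc1⟩, hcm⟩
    have hχ : Function.Injective χ := by
      rw [injective_iff_map_eq_one]
      intro g hg
      have hcg : c g = 1 := congrArg Units.val hg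
      refine Subtype.ext (Subtype.ext (Subtype.ext (Subtype.ext (Matrix.ext_of_mulVec_single fun i => ?_))))
      show mat g.1.1 *ᵥ Pi.single i 1 = (1 : Matrix (Fin 6) (Fin 6) F) *ᵥ Pi.single i 1
      set x : Fin 6 → F := Pi.single i 1
      have hxU : x - P *ᵥ x ∈ U := by rw [hmemU, mulVec_sub, mulVec_mulVec, hPP, sub_self]
      obtain ⟨a, ha⟩ := hwspan ⟨P *ᵥ x, x, rfl⟩
      have ha' : a • w = P *ᵥ x := congrArg Subtype.val ha
      rw [one_mulVec]
      conv_lhs => rw [← sub_add_cancel x (P *ᵥ x)]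
      rw [mulVec_add, g.2 _ hxU, ← ha', mulVec_smul, hc g, hcg, one_smul, sub_add_cancel]
    have h3 : Nat.card Fˣ = 3 := by rw [Nat.card_units, hq4]
    rw [← h3, Nat.card_congr (MonoidHom.ofInjective hχ).toEquiv]
    exact Subgroup.card_subgroup_dvd_card _
  -- the orbits
  haveI : Fintype S := Fintype.ofFinite S
  have hS : Nat.card S = 1023 := by
    haveI : Fintype U := Fintype.ofFinite U
    have e : Nat.card S = Nat.card {u : U // u ≠ 0} := Nat.card_congr
      { toFun := fun u => ⟨⟨u.1, u.2.1⟩, fun e => u.2.2 (congrArg Subtype.val e)⟩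
        invFun := fun u => ⟨u.1.1, u.1.2, fun e => u.2 (Subtype.ext e)⟩
        left_inv := fun u => rfl
        right_inv := fun u => rfl }
    have hU' : Fintype.card U = 1024 := by
      rw [← Nat.card_eq_fintype_card, Module.natCard_eq_pow_finrank (K := F), hdim, hq4]
      norm_num
    rw [e, Nat.card_eq_fintype_card, Fintype.card_subtype_compl, hU', Fintype.card_subtype_eq]
  haveI : Nonempty S := (Nat.card_pos_iff.mp (by rw [hS]; norm_num)).1
  obtain ⟨u0⟩ := ‹Nonempty S›
  have horb : ∀ u : S, Nat.card (MulAction.orbit C u) = Kr.index := fun u => by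
    rw [← hstab u, MulAction.index_stabilizer, Nat.card_coe_set_eq]
  have hidx : Kr.index ∣ 1023 := by
    rw [← hS, Nat.card_congr (MulAction.selfEquivSigmaOrbits C S), Nat.card_sigma]
    exact Finset.dvd_sum fun q _ => by rw [horb]
  rw [← Kr.card_mul_index, show (3069 : ℕ) = 3 * 1023 from rfl]
  exact Nat.mul_dvd_mul hKr hidx

/-- Subgroups of order eleven in the projective group. -/
theorem psu_eleven (hF : Fintype.card F = 2 ^ 2) {X : Subgroup (PSU 6 F 2)} (hX : Nat.card X = 11) :
    Nat.card ↥(Subgroup.centralizer (X : Set (PSU 6 F 2))) = 11 ∧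
      Nat.card ↥(Subgroup.normalizer (X : Set (PSU 6 F 2))) = 55 := by
  classical
  haveI : Fact (Nat.Prime 11) := ⟨by norm_num⟩
  set q := QuotientGroup.mk' (Subgroup.center (Cfsg.SU 6 F 2))
  have hq : Function.Surjective q := QuotientGroup.mk'_surjective _
  have hcomap : ∀ K : Subgroup (PSU 6 F 2), Nat.card (K.comap q) = 3 * Nat.card K := by
    intro K
    have hc := (SUCover.center_cyclic hF (n := 6) (by norm_num)).2
    norm_num [-Nat.card_eq_fintype_card] at hc
    have e1 := Subgroup.card_eq_card_quotient_mul_card_subgroup (Subgroup.center (Cfsg.SU 6 F 2))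
    have e2 := (K.comap q).card_mul_index
    rw [Subgroup.index_comap_of_surjective _ hq] at e2
    have e3 := K.card_mul_index
    rw [hc] at e1
    change Nat.card (Cfsg.SU 6 F 2) = Nat.card (PSU 6 F 2) * 3 at e1
    rw [e1, ← e3] at e2
    have hpos : 0 < K.index := Nat.pos_of_ne_zero K.index_ne_zero_of_finite
    exact Nat.eq_of_mul_eq_mul_right hpos (by rw [e2]; ring)
  obtain ⟨M', hM'⟩ := exists_prime_orderOf_dvd_card' (G := X.comap q) 11 (by rw [hcomap, hX]; norm_num)
  set M : Cfsg.SU 6 F 2 := M'.1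
  have hM : orderOf M = 11 := by rw [← hM']; exact (orderOf_injective (Subgroup.subtype _) Subtype.val_injective M')
  have hz3 : ∀ z ∈ Subgroup.center (Cfsg.SU 6 F 2), z ^ 3 = 1 := by
    intro z hz
    have hc := (SUCover.center_cyclic hF (n := 6) (by norm_num)).2
    norm_num [-Nat.card_eq_fintype_card] at hc
    have := pow_card_eq_one' (G := Subgroup.center (Cfsg.SU 6 F 2)) (x := ⟨z, hz⟩)
    rw [hc] at this
    exact congrArg Subtype.val this
  have hM1 : q M ≠ 1 := by
    intro e
    have := hz3 M ((QuotientGroup.eq_one_iff M).mp e)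
    have h3 := orderOf_dvd_of_pow_eq_one this
    rw [hM] at h3
    norm_num at h3
  have hgen : X = Subgroup.zpowers (q M) :=
    (Subgroup.eq_of_le_of_card_ge (Subgroup.zpowers_le.mpr (show q M ∈ X from M'.2)) (by
      rw [hX, Nat.card_zpowers, orderOf_eq_prime (p := 11) (by rw [← map_pow, ← hM, pow_orderOf_eq_one, map_one]) hM1])).symm
  have hC : Subgroup.centralizer ({M} : Set (Cfsg.SU 6 F 2)) =
      (Subgroup.centralizer (X : Set (PSU 6 F 2))).comap q := by
    have hzc : Subgroup.centralizer (↑(Subgroup.zpowers (q M)) : Set (PSU 6 F 2)) =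
        Subgroup.centralizer ({q M} : Set (PSU 6 F 2)) := by
      ext y
      rw [Subgroup.mem_centralizer_singleton_iff, Subgroup.mem_centralizer_iff]
      refine ⟨fun h => (h _ (Subgroup.mem_zpowers _)).symm, fun h z hz => ?_⟩
      obtain ⟨k, rfl⟩ := Subgroup.mem_zpowers_iff.mp hz
      exact ((show Commute y (q M) from h).zpow_right k).eq.symm
    rw [hgen, hzc]
    ext g
    rw [Subgroup.mem_comap, Subgroup.mem_centralizer_singleton_iff, Subgroup.mem_centralizer_singleton_iff]
    refine ⟨fun e => by rw [← map_mul, ← map_mul, e], fun e => ?_⟩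
    set z := M⁻¹ * (g * M * g⁻¹)
    have hz : z ∈ Subgroup.center (Cfsg.SU 6 F 2) := (QuotientGroup.eq_one_iff z).mp (by
      show q z = 1
      simp only [z, map_mul, map_inv, e]
      group)
    have hgz : g * M * g⁻¹ = M * z := (mul_inv_cancel_left M _).symm
    have h11 : z ^ 11 = 1 := by
      have h := congrArg (· ^ 11) hgz
      simp only [conj_pow, (show Commute M z from Subgroup.mem_center_iff.mp hz M).mul_pow] at h
      rwa [← hM, pow_orderOf_eq_one, hM, mul_one, mul_inv_cancel, one_mul, eq_comm] at h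
    have hz1 : z = 1 := by
      have := pow_gcd_eq_one.mpr ⟨h11, hz3 z hz⟩
      simpa using this
    rw [hz1, mul_one] at hgz
    exact mul_inv_eq_iff_eq_mul.mp hgz
  have hG : Nat.card (PSU 6 F 2) = 9196830720 := card_psu_eq hF
  set Cc := Subgroup.centralizer (X : Set (PSU 6 F 2))
  have hd := su_cent_eleven hF hM
  rw [hC, hcomap, show (3069 : ℕ) = 3 * 1023 from rfl] at hd
  have hd' := Nat.dvd_gcd (Nat.dvd_of_mul_dvd_mul_left (by norm_num) hd) (show Nat.card Cc ∣ 9196830720 by rw [← hG]; exact Subgroup.card_subgroup_dvd_card Cc)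
  have hd'' : Nat.card Cc ∣ 33 := by
    refine hd'.trans (dvd_of_eq ?_)
    norm_num
  have hXC : X ≤ Cc := by
    rw [hgen]
    exact Subgroup.zpowers_le.mpr (Subgroup.mem_centralizer_iff.mpr fun y hy => by
      rw [hgen] at hy
      obtain ⟨k, rfl⟩ := Subgroup.mem_zpowers_iff.mp hy
      exact (Commute.zpow_left (Commute.refl _) k).eq)
  have h11C : 11 ∣ Nat.card Cc := hX ▸ Subgroup.card_dvd_of_le hXC
  have hcases : Nat.card Cc = 11 ∨ Nat.card Cc = 33 := by
    have hle : Nat.card Cc ≤ 33 := Nat.le_of_dvd (by norm_num) hd''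
    interval_cases h : Nat.card Cc <;> omega
  set N := Subgroup.normalizer (X : Set (PSU 6 F 2))
  obtain ⟨e, he, hcard⟩ : ∃ e, (e = 1 ∨ e = 2 ∨ e = 5 ∨ e = 10) ∧ Nat.card N = Nat.card Cc * e := by
    let φ := X.normalizerMonoidHom
    have hker : Nat.card φ.ker = Nat.card Cc := by
      rw [Subgroup.normalizerMonoidHom_ker]
      exact Nat.card_congr (Subgroup.subgroupOfEquivOfLe (Subgroup.centralizer_le_normalizer _)).toEquiv
    refine ⟨φ.ker.index, ?_, by rw [← hker, φ.ker.card_mul_index]⟩
    haveI : IsCyclic X := isCyclic_of_prime_card hX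
    have haut : Nat.card (MulAut X) = 10 := by
      rw [IsCyclic.card_mulAut X, hX, Nat.totient_prime (by norm_num)]
    have hdvd : φ.ker.index ∣ 10 := by
      rw [Subgroup.index_ker, ← haut]
      exact Subgroup.card_subgroup_dvd_card _
    have := Nat.le_of_dvd (by norm_num) hdvd
    interval_cases h : φ.ker.index <;> omega
  have hfac : (9196830720 : ℕ) = 11 * 836075520 := by norm_num
  have hval : (Nat.card (PSU 6 F 2)).factorization 11 = 1 := by
    rw [hG, hfac, Nat.factorization_mul (by norm_num) (by norm_num), Finsupp.add_apply,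
      Nat.Prime.factorization_self (by norm_num), Nat.factorization_eq_zero_of_not_dvd (by norm_num)]
  let S : Sylow 11 (PSU 6 F 2) := Sylow.ofCard X (by rw [hX, hval, pow_one])
  have hmod : N.index ≡ 1 [MOD 11] := by
    have := card_sylow_modEq_one (p := 11) (G := PSU 6 F 2)
    rwa [S.card_eq_index_normalizer] at this
  have hNi := N.card_mul_index
  rw [hG, hcard] at hNi
  have hdiv : Nat.card Cc * e ∣ 9196830720 := ⟨_, hNi.symm⟩
  have hq' : 9196830720 / (Nat.card Cc * e) = N.index := by
    rw [← hNi, Nat.mul_div_cancel_left _ (Nat.pos_of_ne_zero fun h0 => by rw [h0, zero_mul] at hNi; norm_num at hNi)]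
  obtain ⟨r1, r2⟩ := eleven_num _ _ hcases he hdiv (by rw [hq']; exact hmod)
  exact ⟨r1, by rw [hcard, r1, r2]⟩

end CfsgThreeTrans.M22
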