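/-
Subgroups of order eleven in a group of type M(22).
-/
import Cfsg.Agent.Lib.ThreeTrans.Eleven
import Cfsg.Agent.Lib.ThreeTrans.M22.Eleven

set_option autoImplicit false
set_option linter.unusedSectionVars false

namespace CfsgThreeTrans.M22

open Cfsg CfsgLib Eleven

universe u

variable {G : Type u} [Group G] [Finite G] {D : Set G}
variable {F : Type} [Field F] [Fintype F] [DecidableEq F] {hF : Fintype.card F = 2 ^ 2}

/-- Every subgroup of order eleven centralises exactly one transposition. -/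
theorem eleven_level (hD : IsThreeTranspositionClass D) (hp : IsPrimitiveUnderConj D)
    (hloc : ∃ d ∈ D, LocalOK D d) (hZ : Subgroup.center G = ⊥) (A : Data D F hF) :
    ¬ 121 ∣ Nat.card G ∧
      (∀ X Y : Subgroup G, Nat.card X = 11 → Nat.card Y = 11 → ∃ g : G, X.map (MulAut.conj g).toMonoidHom = Y) ∧
      ∀ X : Subgroup G, Nat.card X = 11 → GoodAt D X 1 := by
  have hCe := centralizer_eq hD hp hloc hZ A A.ht
  set C := Subgroup.centralizer ({A.t} : Set G) with hC
  set q : C →* PSU 6 F 2 := A.φ.comp (MulEquiv.subgroupCongr hCe).toMonoidHom with hq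
  have hqv : ∀ (y : C) (hy : (y : G) ∈ Subgroup.closure (Ds D A.t)), q y = A.φ ⟨y, hy⟩ := fun y hy => rfl
  have hin : ∀ y : C, (y : G) ∈ Subgroup.closure (Ds D A.t) := fun y => hCe ▸ y.2
  have hker : ∀ y : C, q y = 1 ↔ (y : G) = 1 ∨ (y : G) = A.t := by
    intro y
    rw [hqv y (hin y), ← MonoidHom.mem_ker, A.ker_φ, center_closure hD hp hloc hZ A A.ht, Subgroup.mem_subgroupOf]
    constructor
    · intro h
      obtain ⟨j, hj⟩ := Subgroup.mem_zpowers_iff.mp h
      have h2 : A.t ^ 2 = 1 := by rw [← hD.1.1 A.t A.ht, pow_orderOf_eq_one]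
      rcases Int.even_or_odd' j with ⟨i, rfl | rfl⟩
      · left
        rw [← hj, zpow_mul, zpow_ofNat, h2, one_zpow]
      · right
        rw [← hj, zpow_add, zpow_mul, zpow_ofNat, h2, one_zpow, one_mul, zpow_one]
    · rintro (e | e)
      · exact e ▸ one_mem _
      · rw [show ((⟨y, hin y⟩ : ↥(Subgroup.closure (Ds D A.t))) : G) = A.t from e]
        exact Subgroup.mem_zpowers _
  refine step hD hp (has_pair A) A.ht hC q ?_ (fun z h => (hker z).mp h) (fun z h => (hker z).mpr (Or.inr h))
    rfl ?_ ?_ (params hD hp A).1 (ncard_Ds hD A A.ht) (by norm_num) (by norm_num) (card_psu_eq hF) (by norm_num)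
    (by norm_num) fun Y hY => ?_
  · intro z
    obtain ⟨x, hx⟩ := A.sur z
    exact ⟨⟨x, hCe.symm ▸ x.2⟩, hx⟩
  · intro y hy y' hy' e
    exact Subtype.ext (A.inj y hy y' hy' (hin y) (hin y') e)
  · intro y y' hy hy' e
    exact A.comm y hy y' hy' (hin y) (hin y') e
  · obtain ⟨hc, hn⟩ := psu_eleven hF hY
    refine base ?_ hc hn
    rintro _ ⟨y, hy, rfl⟩
    refine orderOf_eq_prime ?_ fun h => ?_
    · rw [← map_pow, show y ^ 2 = 1 from Subtype.ext (by
        show (y : G) ^ 2 = 1
        rw [pow_two]; exact mul_self hD.1 hy.1), map_one]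
    · rcases (hker y).mp h with e | e
      · have := hD.1.1 _ hy.1
        rw [e, orderOf_one] at this
        norm_num at this
      · exact hy.2.1 e

end CfsgThreeTrans.M22
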