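/-
Subgroups of order seven in the unitary group of dimension six over four elements.
-/
import Cfsg.Agent.Lib.ThreeTrans.M22.Quasi
import Mathlib.GroupTheory.Sylow

set_option autoImplicit false
set_option linter.unusedSectionVars false

namespace CfsgThreeTrans.M22.SevenNorm

open Matrix Cfsg CfsgLib CfsgLib.UnitarySimple CfsgLib.UnitaryTransvection

universe u

variable {F : Type} [Field F] [Fintype F] [DecidableEq F]

local notation "h" => Cfsg.hermForm 6 F 2
local notation "V" => (Fin 6 → F)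

theorem seven_num : ∀ e : ℕ, (e = 1 ∨ e = 2 ∨ e = 3 ∨ e = 6) →
    (9196830720 / (7 * e)) % 7 = 1 → e = 6 := by
  rintro e (rfl | rfl | rfl | rfl) h' <;> first | rfl | norm_num at h'

/-- The anisotropic cubic form over four elements. -/
theorem norm_ne (hF : Fintype.card F = 2 ^ 2) {z : F} (hz : z * z + z + 1 = 0) {a b c : F}
    (hne : a ≠ 0 ∨ b ≠ 0 ∨ c ≠ 0) : a * a * a + z * (b * b * b) + z * z * (c * c * c) + z * (a * b * c) ≠ 0 := by
  have h2 : (2 : F) = 0 := two_zero hF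
  have hc3 : ∀ x : F, x ≠ 0 → x * x * x = 1 := fun x hx => by rw [← cube hF hx]; ring
  have hz0 : z ≠ 0 := fun e => by rw [e] at hz; simp at hz
  have hz1 : z ≠ 1 := fun e => by
    rw [e] at hz
    exact one_ne_zero (α := F) (by linear_combination hz - h2)
  by_cases ha : a = 0 <;> by_cases hb : b = 0 <;> by_cases hc : c = 0
  · tauto
  · rw [ha, hb, hc3 c hc]; simpa using mul_ne_zero hz0 hz0
  · rw [ha, hc, hc3 b hb]; simpa using hz0
  · rw [ha, hc3 b hb, hc3 c hc]
    intro e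
    exact one_ne_zero (α := F) (by linear_combination hz - e)
  · rw [hb, hc, hc3 a ha]; simp
  · rw [hb, hc3 a ha, hc3 c hc]
    intro e
    exact hz0 (by linear_combination hz - e)
  · rw [hc, hc3 a ha, hc3 b hb]
    intro e
    exact hz1 (by linear_combination e - h2)
  · rw [hc3 a ha, hc3 b hb, hc3 c hc]
    intro e
    refine mul_ne_zero hz0 (mul_ne_zero (mul_ne_zero ha hb) hc) ?_
    linear_combination e - hz

/-- A vector moved with cube `z` has independent images. -/
theorem indep (hF : Fintype.card F = 2 ^ 2) {z : F} (hz : z * z + z + 1 = 0) (g : Matrix (Fin 6) (Fin 6) F) {u : V}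
    (hu : u ≠ 0) (h3 : g *ᵥ (g *ᵥ (g *ᵥ u)) = z • u) {a b c : F}
    (h0 : a • u + b • g *ᵥ u + c • g *ᵥ (g *ᵥ u) = 0) : a = 0 ∧ b = 0 ∧ c = 0 := by
  have h2 : (2 : F) = 0 := two_zero hF
  set v := g *ᵥ u
  set r := g *ᵥ v
  have e1 : (z * c) • u + a • v + b • r = 0 := by
    have := congrArg (g *ᵥ ·) h0
    simp only [mulVec_add, mulVec_smul, mulVec_zero] at this
    rw [show g *ᵥ r = z • u from h3, smul_smul] at this
    rw [← this, mul_comm c z]
    abel
  have e2 : (z * b) • u + (z * c) • v + a • r = 0 := by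
    have := congrArg (g *ᵥ ·) e1
    simp only [mulVec_add, mulVec_smul, mulVec_zero] at this
    rw [show g *ᵥ r = z • u from h3, smul_smul] at this
    rw [← this, mul_comm b z]
    abel
  by_contra hne
  refine norm_ne hF hz (show a ≠ 0 ∨ b ≠ 0 ∨ c ≠ 0 by tauto) ((smul_eq_zero.mp ?_).resolve_right hu)
  have : (a * a * a + z * (b * b * b) + z * z * (c * c * c) + z * (a * b * c)) • u =
      (a * a - z * (b * c)) • (a • u + b • v + c • r) + (z * (c * c) - a * b) • ((z * c) • u + a • v + b • r) +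
        (b * b - a * c) • ((z * b) • u + (z * c) • v + a • r) := by
    match_scalars
    · linear_combination (2 * z * a * b * c) * h2
    · ring
    · ring
  rw [this, h0, e1, e2]
  simp

theorem det_six (z : F) (M : Matrix (Fin 6) (Fin 6) F)
    (hM : M = !![0, 0, z, 0, 0, 0; 1, 0, 0, 0, 0, 0; 0, 1, 0, 0, 0, 0;
      0, 0, 0, 0, 0, z; 0, 0, 0, 1, 0, 0; 0, 0, 0, 0, 1, 0]) : M.det = z * z := by
  let σ : Equiv.Perm (Fin 6) := Equiv.swap 2 1 * Equiv.swap 1 0 * (Equiv.swap 5 4 * Equiv.swap 4 3)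
  have e : M = σ.permMatrix F * Matrix.diagonal ![1, 1, z, 1, 1, z] := by
    rw [hM]
    ext i j
    rw [Matrix.mul_diagonal]
    fin_cases i <;> fin_cases j <;>
      simp [σ, Equiv.Perm.permMatrix, PEquiv.toMatrix_apply, Equiv.swap_apply_def]
  have hs : Equiv.Perm.sign σ = 1 := by simp [σ]
  rw [e, det_mul, det_diagonal, det_permutation, hs, Fin.prod_univ_six]
  simp

/-- An element of order seven has a centraliser of order dividing `63`, other than `63`, in the special unitary group. -/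
theorem su_cent_seven (hF : Fintype.card F = 2 ^ 2) {M : Cfsg.SU 6 F 2} (hM : orderOf M = 7) :
    Nat.card ↥(Subgroup.centralizer ({M} : Set (Cfsg.SU 6 F 2))) ∣ 63 ∧
      Nat.card ↥(Subgroup.centralizer ({M} : Set (Cfsg.SU 6 F 2))) ≠ 63 := by
  classical
  set A := mat M
  have h2 : (2 : F) = 0 := two_zero hF
  have hq4 : Nat.card F = 4 := by rw [Nat.card_eq_fintype_card, hF]; norm_num
  have hApow : ∀ i : ℕ, mat (M ^ i) = A ^ i := by
    intro i
    induction i with
    | zero => rw [pow_zero, pow_zero, mat_one]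
    | succ i ih => rw [pow_succ, pow_succ, mat_mul, ih]
  have hA7 : A ^ 7 = 1 := by rw [← hApow, ← hM, pow_orderOf_eq_one, mat_one]
  set P := ∑ i ∈ Finset.range 7, A ^ i with hP
  have hAP : A * P = P := by
    rw [hP, Finset.mul_sum]
    have e : (∑ i ∈ Finset.range 7, A * A ^ i) + A ^ 0 = (∑ i ∈ Finset.range 7, A ^ i) + A ^ 7 := by
      rw [← Finset.sum_range_succ (fun i => A ^ i), Finset.sum_range_succ' (fun i => A ^ i)]
      simp only [pow_succ']
    rw [hA7, pow_zero] at e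
    exact add_right_cancel e
  have h7 : ((7 : ℕ) : F) = 1 := by push_cast; linear_combination (3 : F) * h2
  have hfix : ∀ u, A *ᵥ u = u → P *ᵥ u = u := by
    intro u hu
    have hi : ∀ i : ℕ, A ^ i *ᵥ u = u := by
      intro i
      induction i with
      | zero => rw [pow_zero, one_mulVec]
      | succ i ih => rw [pow_succ, ← mulVec_mulVec, hu, ih]
    rw [hP, sum_mulVec, Finset.sum_congr rfl fun i _ => hi i, Finset.sum_const, Finset.card_range,
      ← Nat.cast_smul_eq_nsmul F, h7, one_smul]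
  have hM1 : M ≠ 1 := fun e => by rw [e, orderOf_one] at hM; norm_num at hM
  -- invariant subspaces without fixed vectors
  have hinv : ∀ W : Submodule F V, (∀ u ∈ W, A *ᵥ u ∈ W) → (∀ u ∈ W, A *ᵥ u = u → u = 0) →
      Module.finrank F W = 0 ∨ Module.finrank F W = 3 ∨ Module.finrank F W = 6 := by
    intro W hW hW0
    haveI : Fintype W := Fintype.ofFinite W
    let f : Function.End W := fun u => ⟨A *ᵥ u.1, hW u u.2⟩
    have hit : ∀ (n : ℕ) (u : W), (f^[n] u).1 = A ^ n *ᵥ u.1 := by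
      intro n
      induction n with
      | zero => intro u; rw [pow_zero, one_mulVec]; rfl
      | succ n ih => intro u; rw [Function.iterate_succ_apply, ih, pow_succ, ← mulVec_mulVec]
    have hf : f^[7 ^ 1] = id := by
      funext u
      refine Subtype.ext ?_
      rw [hit, pow_one, hA7, one_mulVec, id]
    haveI : Fact (Nat.Prime 7) := ⟨by norm_num⟩
    have hmod := Equiv.Perm.card_fixedPoints_modEq (f := f) hf
    have h1 : Fintype.card (Function.fixedPoints f) = 1 := by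
      rw [Fintype.card_eq_one_iff]
      refine ⟨⟨0, Subtype.ext (mulVec_zero A)⟩, fun x => Subtype.ext (Subtype.ext ?_)⟩
      exact hW0 _ x.1.2 (congrArg Subtype.val x.2)
    rw [h1, ← Nat.card_eq_fintype_card, Module.natCard_eq_pow_finrank (K := F), hq4] at hmod
    have hle : Module.finrank F W ≤ 6 := (Submodule.finrank_le W).trans (le_of_eq (Module.finrank_fin_fun F))
    have key : ∀ k : ℕ, k ≤ 6 → 4 ^ k % 7 = 1 → k = 0 ∨ k = 3 ∨ k = 6 := by decide
    exact key _ hle (by rw [hmod])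
  -- no fixed vector
  have hP0 : ∀ u, P *ᵥ u = 0 := by
    have hAR : ∀ x, A *ᵥ (P *ᵥ x) = P *ᵥ x := fun x => by rw [mulVec_mulVec, hAP]
    have hiso : ∀ u : V, u ≠ 0 → A *ᵥ u = u → h u u = 1 := by
      intro u hu hAu
      refine (fixed hF (h_swap hF u u)).resolve_left fun h0 => hM1 (no_seven hF hu h0 ?_ hAu)
      rw [← hM, pow_orderOf_eq_one]
    set U := LinearMap.ker (Matrix.mulVecLin P)
    set R := LinearMap.range (Matrix.mulVecLin P)
    have hR1 : Module.finrank F R ≤ 1 := by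
      by_contra hlt
      obtain ⟨u, hu, hu0⟩ := Submodule.exists_mem_ne_zero_of_ne_bot
        (show R ≠ ⊥ from fun e => by rw [e, finrank_bot] at hlt; omega)
      obtain ⟨w, hw, hwu⟩ : ∃ w ∈ R, w ∉ Submodule.span F {u} := by
        by_contra hcon
        push Not at hcon
        exact hlt ((Submodule.finrank_mono (hcon : R ≤ _)).trans (by rw [finrank_span_singleton hu0]))
      have hA : ∀ x ∈ R, A *ᵥ x = x := by
        rintro _ ⟨y, rfl⟩; exact hAR y
      have hone : ∀ a : F, h (u + a • w) (u + a • w) = 1 := by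
        intro a
        refine hiso _ (fun e => ?_) (by rw [mulVec_add, mulVec_smul, hA u hu, hA w hw])
        by_cases ha : a = 0
        · rw [ha, zero_smul, add_zero] at e; exact hu0 e
        · refine hwu (Submodule.mem_span_singleton.mpr ⟨-a⁻¹, ?_⟩)
          rw [add_eq_zero_iff_eq_neg] at e
          rw [e, smul_neg, neg_smul, neg_neg, smul_smul, inv_mul_cancel₀ ha, one_smul]
      have hw0 : w ≠ 0 := fun e => hwu (e ▸ Submodule.zero_mem _)
      have huu := hiso u hu0 (hA u hu)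
      have hww := hiso w hw0 (hA w hw)
      have hexp : ∀ a : F, a ≠ 0 → frob hF a * h u w + a * h w u = 1 := by
        intro a ha
        have := hone a
        rw [h_add_left, h_add_right hF, h_add_right hF, h_smul_left, h_smul_left, h_smul_right hF,
          h_smul_right hF, huu, hww, mul_one, norm_one hF ha] at this
        linear_combination this - h2
      obtain ⟨z, hz0, hz1, hz, -⟩ := exists_zeta hF
      have hz2 : z + 1 ≠ 0 := fun e => hz1 (by linear_combination e - h2)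
      have e1 := hexp 1 one_ne_zero
      have e2 := hexp z hz0
      have e3 := hexp (z + 1) hz2
      rw [map_add, map_one] at e3
      rw [map_one] at e1
      exact one_ne_zero (α := F) (by linear_combination e3 - e1 - e2)
    have hU : ∀ u ∈ U, A *ᵥ u = u → u = 0 := fun u hu hAu => by
      rw [← hfix u hAu]; exact hu
    have hAU : ∀ u ∈ U, A *ᵥ u ∈ U := by
      intro u (hu : P *ᵥ u = 0)
      show P *ᵥ _ = 0
      have hcomm : P * A = A * P := by rw [hP, Finset.mul_sum, Finset.sum_mul]; simp only [← pow_succ', ← pow_succ]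
      rw [mulVec_mulVec, hcomm, ← mulVec_mulVec, hu, mulVec_zero]
    have hsum := LinearMap.finrank_range_add_finrank_ker (Matrix.mulVecLin P)
    rw [Module.finrank_fin_fun] at hsum
    change Module.finrank F R + Module.finrank F U = 6 at hsum
    intro u
    have h6 : Module.finrank F U = 6 := by rcases hinv U hAU hU with e | e | e <;> omega
    have : U = ⊤ := Submodule.eq_top_of_finrank_eq (by rw [h6, Module.finrank_fin_fun])
    exact (this ▸ Submodule.mem_top : u ∈ U)
  have hPz : P = 0 := Matrix.ext_of_mulVec_single fun i => by rw [hP0, zero_mulVec]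
  have hnofix : ∀ u, A *ᵥ u = u → u = 0 := fun u hu => by rw [← hfix u hu, hP0]
  -- the two factors
  set p1 := A ^ 3 + A + 1 with hp1
  set p2 := A ^ 3 + A ^ 2 + 1 with hp2
  have hM2 : (2 : Matrix (Fin 6) (Fin 6) F) = 0 := by
    rw [← map_ofNat (algebraMap F (Matrix (Fin 6) (Fin 6) F)), h2, map_zero]
  have hp12 : p1 * p2 = 0 ∧ p2 * p1 = 0 := by
    have e : p1 * p2 = P + 2 * A ^ 3 := by
      rw [hP, hp1, hp2]
      simp only [Finset.sum_range_succ, Finset.sum_range_zero, pow_zero, pow_one]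
      noncomm_ring
    have e' : p2 * p1 = P + 2 * A ^ 3 := by
      rw [hP, hp1, hp2]
      simp only [Finset.sum_range_succ, Finset.sum_range_zero, pow_zero, pow_one]
      noncomm_ring
    rw [e, e', hPz, hM2, zero_mul, add_zero]
    exact ⟨rfl, rfl⟩
  have hbez : A * p1 + (A + 1) * p2 = 1 := by
    have e : A * p1 + (A + 1) * p2 = 1 + 2 * (A ^ 4 + A ^ 3 + A ^ 2 + A) := by
      rw [hp1, hp2]; noncomm_ring
    rw [e, hM2, zero_mul, add_zero]
  set U1 := LinearMap.ker (Matrix.mulVecLin p1)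
  set U2 := LinearMap.ker (Matrix.mulVecLin p2)
  have hm1 : ∀ u, u ∈ U1 ↔ p1 *ᵥ u = 0 := fun u => Iff.rfl
  have hm2 : ∀ u, u ∈ U2 ↔ p2 *ᵥ u = 0 := fun u => Iff.rfl
  have hsplit : ∀ u, ∃ a ∈ U1, ∃ b ∈ U2, u = a + b := by
    intro u
    refine ⟨((A + 1) * p2) *ᵥ u, ?_, (A * p1) *ᵥ u, ?_, ?_⟩
    · rw [hm1, mulVec_mulVec, ← mul_assoc, show p1 * (A + 1) = (A + 1) * p1 by rw [hp1]; noncomm_ring, mul_assoc,
        hp12.1, mul_zero, zero_mulVec]
    · rw [hm2, mulVec_mulVec, ← mul_assoc, show p2 * A = A * p2 by rw [hp2]; noncomm_ring, mul_assoc, hp12.2,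
        mul_zero, zero_mulVec]
    · rw [← add_mulVec, add_comm, hbez, one_mulVec]
  have hh : ∀ u w, h (A *ᵥ u) (A *ᵥ w) = h u w := fun u w => su_h M u w
  have hadd : ∀ (p : Matrix (Fin 6) (Fin 6) F) (u w : V), h (p *ᵥ u + w) w = h (p *ᵥ u) w + h w w :=
    fun p u w => h_add_left _ _ _
  have hp1e : ∀ u, p1 *ᵥ u = A *ᵥ (A *ᵥ (A *ᵥ u)) + A *ᵥ u + u := fun u => by
    simp only [hp1, add_mulVec, one_mulVec, mulVec_mulVec, pow_succ, pow_zero, one_mul, mul_assoc]
  have hp2e : ∀ u, p2 *ᵥ u = A *ᵥ (A *ᵥ (A *ᵥ u)) + A *ᵥ (A *ᵥ u) + u := fun u => by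
    simp only [hp2, add_mulVec, one_mulVec, mulVec_mulVec, pow_succ, pow_zero, one_mul, mul_assoc]
  have hzl : ∀ w : V, h 0 w = 0 := fun w => h_zero_left hF w
  have hiso1 : ∀ u ∈ U1, ∀ w ∈ U1, h u w = 0 := by
    intro u hu w hw
    have e : w = p2 *ᵥ ((A + 1) *ᵥ w) := by
      conv_lhs => rw [← one_mulVec w, ← hbez, add_mulVec, ← mulVec_mulVec, (hm1 w).mp hw, mulVec_zero, zero_add]
      rw [mulVec_mulVec, show p2 * (A + 1) = (A + 1) * p2 by rw [hp2]; noncomm_ring]
    rw [e, hp2e]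
    generalize (A + 1) *ᵥ w = x
    have h0 := hzl (A *ᵥ (A *ᵥ (A *ᵥ x)))
    rw [← (hm1 u).mp hu, hp1e, h_add_left, h_add_left, hh, hh, hh, hh] at h0
    rw [h_add_right hF, h_add_right hF, ← h0]
    ring
  have hiso2 : ∀ u ∈ U2, ∀ w ∈ U2, h u w = 0 := by
    intro u hu w hw
    have e : w = p1 *ᵥ (A *ᵥ w) := by
      conv_lhs => rw [← one_mulVec w, ← hbez, add_mulVec, ← mulVec_mulVec w (A + 1) p2, (hm2 w).mp hw, mulVec_zero, add_zero]
      rw [mulVec_mulVec, show p1 * A = A * p1 by rw [hp1]; noncomm_ring]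
    rw [e, hp1e]
    generalize A *ᵥ w = x
    have h0 := hzl (A *ᵥ (A *ᵥ (A *ᵥ x)))
    rw [← (hm2 u).mp hu, hp2e, h_add_left, h_add_left, hh, hh, hh, hh, hh] at h0
    rw [h_add_right hF, h_add_right hF, ← h0]
    ring
  have hle3 : ∀ U : Submodule F V, (∀ u ∈ U, ∀ w ∈ U, h u w = 0) → Module.finrank F U ≤ 3 := by
    intro U hU
    have := iso_clique_card hF (U : Set V) hU
    rw [Submodule.span_eq, Module.natCard_eq_pow_finrank (K := F), hq4] at this
    exact (Nat.pow_le_pow_iff_right (by norm_num : 1 < 4)).mp (by simpa using this)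
  have hdim : Module.finrank F U1 = 3 ∧ Module.finrank F U2 = 3 := by
    have htop : U1 ⊔ U2 = ⊤ := by
      rw [eq_top_iff]
      intro u _
      obtain ⟨a, ha, b, hb, rfl⟩ := hsplit u
      exact Submodule.add_mem_sup ha hb
    have := Submodule.finrank_add_le_finrank_add_finrank U1 U2
    rw [htop, finrank_top, Module.finrank_fin_fun] at this
    have := hle3 U1 hiso1
    have := hle3 U2 hiso2
    omega
  set C := Subgroup.centralizer ({M} : Set (Cfsg.SU 6 F 2))
  have hCA : ∀ g : C, Commute (mat g.1) A := fun g => by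
    show _ = _
    rw [← mat_mul, ← mat_mul, Subgroup.mem_centralizer_singleton_iff.mp g.2]
  have hC1 : ∀ (g : C) u, u ∈ U1 → mat g.1 *ᵥ u ∈ U1 := fun g u hu => by
    have hc : Commute (mat g.1) p1 := (((hCA g).pow_right 3).add_right (hCA g)).add_right (Commute.one_right _)
    rw [hm1, mulVec_mulVec, ← hc.eq, ← mulVec_mulVec, (hm1 u).mp hu, mulVec_zero]
  have hC2 : ∀ (g : C) u, u ∈ U2 → mat g.1 *ᵥ u ∈ U2 := fun g u hu => by
    have hc : Commute (mat g.1) p2 :=
      (((hCA g).pow_right 3).add_right ((hCA g).pow_right 2)).add_right (Commute.one_right _)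
    rw [hm2, mulVec_mulVec, ← hc.eq, ← mulVec_mulVec, (hm2 u).mp hu, mulVec_zero]
  have hA1 : ∀ u ∈ U1, A *ᵥ u ∈ U1 := fun u hu =>
    hC1 ⟨M, Subgroup.mem_centralizer_singleton_iff.mpr rfl⟩ u hu
  -- an element commuting with A and fixing a vector of U1 fixes U1
  have hlin : ∀ (S T : Matrix (Fin 6) (Fin 6) F), Commute S A → Commute T A →
      ∀ u ∈ U1, u ≠ 0 → S *ᵥ u = T *ᵥ u → ∀ x ∈ U1, S *ᵥ x = T *ᵥ x := by
    intro S T hS hT u hu hu0 e x hx
    set W := U1 ⊓ LinearMap.ker (Matrix.mulVecLin (S - T))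
    have hmemW : ∀ x, x ∈ W ↔ x ∈ U1 ∧ S *ᵥ x = T *ᵥ x := fun x => by
      simp only [W, Submodule.mem_inf, LinearMap.mem_ker, mulVecLin_apply, sub_mulVec, sub_eq_zero]
    have hW := hinv W (fun y hy => (hmemW _).mpr ⟨hA1 y ((hmemW y).mp hy).1, by
        rw [mulVec_mulVec, mulVec_mulVec, hS.eq, hT.eq, ← mulVec_mulVec, ← mulVec_mulVec, ((hmemW y).mp hy).2]⟩)
      (fun y _ hy => hnofix y hy)
    have hle : Module.finrank F W ≤ 3 := hdim.1 ▸ Submodule.finrank_mono inf_le_left
    have hne : Module.finrank F W ≠ 0 := fun h0 => hu0 (by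
      simpa [Submodule.finrank_eq_zero.mp h0] using (hmemW u).mpr ⟨hu, e⟩)
    have : W = U1 := Submodule.eq_of_le_of_finrank_eq inf_le_left (by rw [hdim.1]; omega)
    exact ((hmemW x).mp (this ▸ hx)).2
  -- behaviour on U1 decides the behaviour on U2
  have hdual : ∀ (g : C) (c d : F), (∀ x ∈ U1, mat g.1 *ᵥ x = c • x) → c * frob hF d = 1 →
      ∀ w ∈ U2, mat g.1 *ᵥ w = d • w := by
    intro g c d hg hcd w hw
    refine sub_eq_zero.mp (h_nondeg hF fun x => ?_)
    obtain ⟨a, ha, b, hb, rfl⟩ := hsplit x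
    rw [h_sub_left, ← h_swap hF (a + b) (mat g.1 *ᵥ w), ← h_swap hF (a + b) (d • w), h_add_left, h_add_left,
      hiso2 b hb _ (hC2 g w hw), hiso2 b hb _ (U2.smul_mem d hw), h_smul_right hF]
    have e := su_h g.1 a w
    rw [hg a ha, h_smul_left] at e
    have : h a (mat g.1 *ᵥ w) = frob hF d * h a w := by
      calc h a (mat g.1 *ᵥ w) = (c * frob hF d) * h a (mat g.1 *ᵥ w) := by rw [hcd, one_mul]
        _ = frob hF d * h a w := by rw [← e]; ring
    rw [this, sub_self]
  let S := {u : V // u ∈ U1 ∧ u ≠ 0}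
  letI : MulAction C S :=
    { smul := fun g u => ⟨mat g.1 *ᵥ u.1, hC1 g _ u.2.1, mat_ne_zero _ u.2.2⟩
      one_smul := fun u => Subtype.ext (by
        show mat (1 : C).1 *ᵥ u.1 = u.1
        rw [OneMemClass.coe_one, mat_one, one_mulVec])
      mul_smul := fun g k u => Subtype.ext (by
        show mat (g * k : C).1 *ᵥ u.1 = mat g.1 *ᵥ (mat k.1 *ᵥ u.1)
        rw [mulVec_mulVec, ← mat_mul]; rfl) }
  have hstab : ∀ u : S, MulAction.stabilizer C u = ⊥ := by
    intro u
    rw [eq_bot_iff]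
    intro g hg
    have he : mat g.1 *ᵥ u.1 = u.1 := congrArg Subtype.val (MulAction.mem_stabilizer_iff.mp hg)
    have hU1 := hlin (mat g.1) 1 (hCA g) (Commute.one_left _) u.1 u.2.1 u.2.2 (by rw [he, one_mulVec])
    have hU2 := hdual g 1 1 (fun x hx => by rw [hU1 x hx, one_mulVec, one_smul]) (by rw [map_one, mul_one])
    refine Subgroup.mem_bot.mpr (Subtype.ext (su_ext fun x => ?_))
    obtain ⟨a, ha, b, hb, rfl⟩ := hsplit x
    rw [mulVec_add, hU1 a ha, hU2 b hb, one_mulVec, one_smul, OneMemClass.coe_one, mat_one, one_mulVec]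
  haveI : Fintype S := Fintype.ofFinite S
  have hS : Nat.card S = 63 := by
    haveI : Fintype U1 := Fintype.ofFinite U1
    have e : Nat.card S = Nat.card {u : U1 // u ≠ 0} := Nat.card_congr
      { toFun := fun u => ⟨⟨u.1, u.2.1⟩, fun e => u.2.2 (congrArg Subtype.val e)⟩
        invFun := fun u => ⟨u.1.1, u.1.2, fun e => u.2 (Subtype.ext e)⟩
        left_inv := fun u => rfl
        right_inv := fun u => rfl }
    have hU' : Fintype.card U1 = 64 := by
      rw [← Nat.card_eq_fintype_card, Module.natCard_eq_pow_finrank (K := F), hdim.1, hq4]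
      norm_num
    rw [e, Nat.card_eq_fintype_card, Fintype.card_subtype_compl, hU', Fintype.card_subtype_eq]
  have horb : ∀ u : S, Nat.card (MulAction.orbit C u) = Nat.card C := fun u => by
    rw [Nat.card_coe_set_eq, ← MulAction.index_stabilizer, hstab u, Subgroup.index_bot]
  refine ⟨?_, fun h63 => ?_⟩
  · rw [← hS, Nat.card_congr (MulAction.selfEquivSigmaOrbits C S), Nat.card_sigma]
    exact Finset.dvd_sum fun q _ => by rw [horb]
  -- the case of a transitive action
  obtain ⟨z, hz0, hz1, hz, hzs, -⟩ := exists_zeta hF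
  haveI : Nonempty S := (Nat.card_pos_iff.mp (by rw [hS]; norm_num)).1
  obtain ⟨u0⟩ := ‹Nonempty S›
  set T := z • A + A ^ 2 with hT
  have hTA : Commute T A := ((Commute.refl A).smul_left z).add_left ((Commute.refl A).pow_left 2)
  have hT3 : ∀ u ∈ U1, T *ᵥ (T *ᵥ (T *ᵥ u)) = z • u := by
    intro u hu
    have e : T * T * T = z • (1 : Matrix (Fin 6) (Fin 6) F) +
        (A ^ 3 + z • A ^ 2 + z • A + z • 1) * p1 := by
      have hz' : (Polynomial.C z * Polynomial.C z + Polynomial.C z + 1 : Polynomial F) = 0 := by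
        rw [← map_one Polynomial.C, ← map_mul, ← map_add, ← map_add, hz, map_zero]
      have h2' : (2 : Polynomial F) = 0 := by
        rw [← map_ofNat Polynomial.C 2, h2, map_zero]
      have key : ((Polynomial.C z * Polynomial.X + Polynomial.X ^ 2) ^ 3 : Polynomial F) =
          Polynomial.C z + (Polynomial.X ^ 3 + Polynomial.C z * Polynomial.X ^ 2 + Polynomial.C z * Polynomial.X +
            Polynomial.C z) * (Polynomial.X ^ 3 + Polynomial.X + 1) := by
        linear_combination (3 * Polynomial.X ^ 4 + (Polynomial.C z - 1) * Polynomial.X ^ 3) * hz' +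
          (Polynomial.C z * Polynomial.X ^ 5 - 2 * (Polynomial.C z + 1) * Polynomial.X ^ 4 -
            Polynomial.C z * (Polynomial.X ^ 3 + Polynomial.X ^ 2 + Polynomial.X + 1)) * h2'
      have := congrArg (Polynomial.aeval A) key
      simp only [map_pow, map_add, map_mul, map_one, Polynomial.aeval_C, Polynomial.aeval_X,
        ← Algebra.smul_def, Algebra.algebraMap_eq_smul_one] at this
      rw [hT, hp1, mul_assoc]
      refine (_root_.pow_three _).symm.trans ?_
      simpa only [smul_mul_assoc, one_mul] using this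
    rw [mulVec_mulVec, mulVec_mulVec, e, add_mulVec, ← mulVec_mulVec _ _ p1, (hm1 u).mp hu, mulVec_zero, add_zero,
      smul_mulVec, one_mulVec]
  have hTu : T *ᵥ u0.1 ≠ 0 := fun e => by
    have := hT3 u0.1 u0.2.1
    rw [e, mulVec_zero, mulVec_zero] at this
    exact u0.2.2 ((smul_eq_zero.mp this.symm).resolve_left hz0)
  have hTU : T *ᵥ u0.1 ∈ U1 := by
    rw [hT, add_mulVec, smul_mulVec, pow_two, ← mulVec_mulVec]
    exact U1.add_mem (U1.smul_mem z (hA1 _ u0.2.1)) (hA1 _ (hA1 _ u0.2.1))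
  obtain ⟨g, hg⟩ : ∃ g : C, g • u0 = (⟨T *ᵥ u0.1, hTU, hTu⟩ : S) := by
    have e : MulAction.orbit C u0 = Set.univ := Set.eq_of_subset_of_ncard_le (Set.subset_univ _) (by
      rw [Set.ncard_univ, hS, ← h63, ← horb u0, Nat.card_coe_set_eq])
    exact MulAction.mem_orbit_iff.mp (e ▸ Set.mem_univ _)
  set B := mat g.1
  have hBT : ∀ x ∈ U1, B *ᵥ x = T *ᵥ x :=
    hlin B T (hCA g) hTA u0.1 u0.2.1 u0.2.2 (congrArg Subtype.val hg)
  have hTU1 : ∀ x ∈ U1, T *ᵥ x ∈ U1 := fun x hx => hBT x hx ▸ hC1 g x hx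
  have hB3 : ∀ x ∈ U1, mat (g ^ 3 : C).1 *ᵥ x = z • x := by
    intro x hx
    have : mat (g ^ 3 : C).1 = B * (B * B) := by
      rw [pow_succ', pow_two]; exact (mat_mul _ _).trans (by rw [show mat (g * g : C).1 = B * B from mat_mul _ _])
    rw [this, ← mulVec_mulVec, ← mulVec_mulVec, hBT x hx, hBT _ (hTU1 x hx), hBT _ (hTU1 _ (hTU1 x hx)), hT3 x hx]
  have hB3' : ∀ w ∈ U2, mat (g ^ 3 : C).1 *ᵥ w = z • w :=
    hdual (g ^ 3) z z hB3 (by rw [hzs]; linear_combination (z - 1) * hz)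
  have hcube : ∀ x, B *ᵥ (B *ᵥ (B *ᵥ x)) = z • x := by
    intro x
    have : mat (g ^ 3 : C).1 = B * (B * B) := by
      rw [pow_succ', pow_two]; exact (mat_mul _ _).trans (by rw [show mat (g * g : C).1 = B * B from mat_mul _ _])
    rw [mulVec_mulVec, mulVec_mulVec, mul_assoc, ← this]
    obtain ⟨a, ha, b, hb, rfl⟩ := hsplit x
    rw [mulVec_add, hB3 a ha, hB3' b hb, smul_add]
  obtain ⟨w0, hw0, hw0'⟩ := Submodule.exists_mem_ne_zero_of_ne_bot
    (show U2 ≠ ⊥ from fun e => by have := hdim.2; rw [e, finrank_bot] at this; omega)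
  let bv : Fin 6 → V := ![u0.1, B *ᵥ u0.1, B *ᵥ (B *ᵥ u0.1), w0, B *ᵥ w0, B *ᵥ (B *ᵥ w0)]
  let Q : Matrix (Fin 6) (Fin 6) F := Matrix.of fun i j => bv j i
  have hQx : ∀ x : V, Q *ᵥ x = x 0 • bv 0 + x 1 • bv 1 + x 2 • bv 2 + x 3 • bv 3 + x 4 • bv 4 + x 5 • bv 5 := by
    intro x
    funext i
    simp [Matrix.mulVec, dotProduct, Fin.sum_univ_six, Q, mul_comm]
  have hQ : IsUnit Q := by
    rw [← mulVec_injective_iff_isUnit]
    suffices h0 : ∀ x, Q *ᵥ x = 0 → x = 0 from fun x y e => sub_eq_zero.mp (h0 _ (by rw [mulVec_sub, e, sub_self]))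
    intro x hx
    rw [hQx] at hx
    simp only [bv, Matrix.cons_val] at hx
    have ha : x 0 • u0.1 + x 1 • B *ᵥ u0.1 + x 2 • B *ᵥ (B *ᵥ u0.1) ∈ U1 :=
      U1.add_mem (U1.add_mem (U1.smul_mem _ u0.2.1) (U1.smul_mem _ (hC1 g _ u0.2.1)))
        (U1.smul_mem _ (hC1 g _ (hC1 g _ u0.2.1)))
    have hb : x 3 • w0 + x 4 • B *ᵥ w0 + x 5 • B *ᵥ (B *ᵥ w0) ∈ U2 :=
      U2.add_mem (U2.add_mem (U2.smul_mem _ hw0) (U2.smul_mem _ (hC2 g _ hw0)))
        (U2.smul_mem _ (hC2 g _ (hC2 g _ hw0)))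
    set a := x 0 • u0.1 + x 1 • B *ᵥ u0.1 + x 2 • B *ᵥ (B *ᵥ u0.1) with hadef
    set b := x 3 • w0 + x 4 • B *ᵥ w0 + x 5 • B *ᵥ (B *ᵥ w0) with hbdef
    have hab : a = -b := eq_neg_of_add_eq_zero_left (by rw [← hx, hadef, hbdef]; abel)
    have ha0 : a = 0 := by
      have e : a = 1 *ᵥ a := (one_mulVec a).symm
      rw [e, ← hbez, add_mulVec, ← mulVec_mulVec, ← mulVec_mulVec, (hm1 a).mp ha, hab, mulVec_neg,
        (hm2 b).mp hb, neg_zero, mulVec_zero, mulVec_zero, add_zero]
    have hb0 : b = 0 := by rwa [ha0, zero_eq_neg] at hab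
    obtain ⟨a1, a2, a3⟩ := indep hF hz B u0.2.2 (hcube _) ha0
    obtain ⟨b1, b2, b3⟩ := indep hF hz B hw0' (hcube _) hb0
    funext i
    fin_cases i <;> assumption
  let Cm : Matrix (Fin 6) (Fin 6) F := !![0, 0, z, 0, 0, 0; 1, 0, 0, 0, 0, 0; 0, 1, 0, 0, 0, 0;
      0, 0, 0, 0, 0, z; 0, 0, 0, 1, 0, 0; 0, 0, 0, 0, 1, 0]
  have hBQ : B * Q = Q * Cm := Matrix.ext_of_mulVec_single fun j => by
    rw [← mulVec_mulVec, ← mulVec_mulVec, hQx, hQx]
    simp only [mulVec_add, mulVec_smul]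
    fin_cases j <;> simp [Cm, bv, Pi.single_apply] <;>
      (rw [← mulVec_mulVec, ← mulVec_mulVec]; exact hcube _)
  have hdet := congrArg Matrix.det hBQ
  have hBdet : B.det = 1 := (g.1 : Matrix.SpecialLinearGroup (Fin 6) F).2
  rw [det_mul, det_mul, hBdet, one_mul, det_six z Cm rfl] at hdet
  have hQ0 : Q.det ≠ 0 := ((Matrix.isUnit_iff_isUnit_det Q).mp hQ).ne_zero
  have h1 : z * z = 1 := by
    apply mul_left_cancel₀ hQ0
    rw [mul_one]; exact hdet.symm
  exact hz0 (by linear_combination hz - h1 - h2)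

end CfsgThreeTrans.M22.SevenNorm
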