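/-
Subgroups of order seven in the projective unitary group of dimension six over four elements.
-/
import Cfsg.Agent.Lib.ThreeTrans.M22.SevenNorm

set_option autoImplicit false
set_option linter.unusedSectionVars false

namespace CfsgThreeTrans.M22.SevenNorm

open Matrix Cfsg CfsgLib CfsgLib.UnitarySimple

universe u

variable {F : Type} [Field F] [Fintype F] [DecidableEq F]

/-- Subgroups of order seven in the projective group. -/
theorem psu_seven (hF : Fintype.card F = 2 ^ 2) {X : Subgroup (PSU 6 F 2)} (hX : Nat.card X = 7) :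
    Nat.card ↥(Subgroup.centralizer (X : Set (PSU 6 F 2))) = 7 ∧
      Nat.card ↥(Subgroup.normalizer (X : Set (PSU 6 F 2))) = 42 := by
  classical
  haveI : Fact (Nat.Prime 7) := ⟨by norm_num⟩
  set q := QuotientGroup.mk' (Subgroup.center (Cfsg.SU 6 F 2))
  have hq : Function.Surjective q := QuotientGroup.mk'_surjective _
  have hcomap : ∀ K : Subgroup (PSU 6 F 2), Nat.card (K.comap q) = 3 * Nat.card K := by
    intro K
    have hc := (SUCover.center_cyclic hF (n := 6) (by norm_num)).2
    norm_num [-Nat.card_eq_fintype_card] at hc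
    have e1 := Subgroup.card_eq_card_quotient_mul_card_subgroup (Subgroup.center (Cfsg.SU 6 F 2))
    have e2 := (K.comap q).card_mul_index
    rw [Subgroup.index_comap_of_surjective _ hq] at e2
    have e3 := K.card_mul_index
    rw [hc] at e1
    change Nat.card (Cfsg.SU 6 F 2) = Nat.card (PSU 6 F 2) * 3 at e1
    rw [e1, ← e3] at e2
    have hpos : 0 < K.index := Nat.pos_of_ne_zero K.index_ne_zero_of_finite
    exact Nat.eq_of_mul_eq_mul_right hpos (by rw [e2]; ring)
  obtain ⟨M', hM'⟩ := exists_prime_orderOf_dvd_card' (G := X.comap q) 7 (by rw [hcomap, hX]; norm_num)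
  set M : Cfsg.SU 6 F 2 := M'.1
  have hM : orderOf M = 7 := by rw [← hM']; exact (orderOf_injective (Subgroup.subtype _) Subtype.val_injective M')
  have hz3 : ∀ z ∈ Subgroup.center (Cfsg.SU 6 F 2), z ^ 3 = 1 := by
    intro z hz
    have hc := (SUCover.center_cyclic hF (n := 6) (by norm_num)).2
    norm_num [-Nat.card_eq_fintype_card] at hc
    have := pow_card_eq_one' (G := Subgroup.center (Cfsg.SU 6 F 2)) (x := ⟨z, hz⟩)
    rw [hc] at this
    exact congrArg Subtype.val this
  have hM1 : q M ≠ 1 := by
    intro e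
    have := hz3 M ((QuotientGroup.eq_one_iff M).mp e)
    have h3 := orderOf_dvd_of_pow_eq_one this
    rw [hM] at h3
    norm_num at h3
  have hgen : X = Subgroup.zpowers (q M) :=
    (Subgroup.eq_of_le_of_card_ge (Subgroup.zpowers_le.mpr (show q M ∈ X from M'.2)) (by
      rw [hX, Nat.card_zpowers, orderOf_eq_prime (p := 7) (by rw [← map_pow, ← hM, pow_orderOf_eq_one, map_one]) hM1])).symm
  have hC : Subgroup.centralizer ({M} : Set (Cfsg.SU 6 F 2)) =
      (Subgroup.centralizer (X : Set (PSU 6 F 2))).comap q := by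
    have hzc : Subgroup.centralizer (↑(Subgroup.zpowers (q M)) : Set (PSU 6 F 2)) =
        Subgroup.centralizer ({q M} : Set (PSU 6 F 2)) := by
      ext y
      rw [Subgroup.mem_centralizer_singleton_iff, Subgroup.mem_centralizer_iff]
      refine ⟨fun h => (h _ (Subgroup.mem_zpowers _)).symm, fun h z hz => ?_⟩
      obtain ⟨k, rfl⟩ := Subgroup.mem_zpowers_iff.mp hz
      exact ((show Commute y (q M) from h).zpow_right k).eq.symm
    rw [hgen, hzc]
    ext g
    rw [Subgroup.mem_comap, Subgroup.mem_centralizer_singleton_iff, Subgroup.mem_centralizer_singleton_iff]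
    refine ⟨fun e => by rw [← map_mul, ← map_mul, e], fun e => ?_⟩
    set z := M⁻¹ * (g * M * g⁻¹)
    have hz : z ∈ Subgroup.center (Cfsg.SU 6 F 2) := (QuotientGroup.eq_one_iff z).mp (by
      show q z = 1
      simp only [z, map_mul, map_inv, e]
      group)
    have hgz : g * M * g⁻¹ = M * z := (mul_inv_cancel_left M _).symm
    have h7 : z ^ 7 = 1 := by
      have h := congrArg (· ^ 7) hgz
      simp only [conj_pow, (show Commute M z from Subgroup.mem_center_iff.mp hz M).mul_pow] at h
      rwa [← hM, pow_orderOf_eq_one, hM, mul_one, mul_inv_cancel, one_mul, eq_comm] at h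
    have hz1 : z = 1 := by
      have := pow_gcd_eq_one.mpr ⟨h7, hz3 z hz⟩
      simpa using this
    rw [hz1, mul_one] at hgz
    exact mul_inv_eq_iff_eq_mul.mp hgz
  have hG : Nat.card (PSU 6 F 2) = 9196830720 := card_psu_eq hF
  set Cc := Subgroup.centralizer (X : Set (PSU 6 F 2))
  obtain ⟨hd, hne⟩ := su_cent_seven hF hM
  rw [hC, hcomap, show (63 : ℕ) = 3 * 21 from rfl] at hd hne
  have hd' : Nat.card Cc ∣ 21 := Nat.dvd_of_mul_dvd_mul_left (by norm_num) hd
  have hXC : X ≤ Cc := by
    rw [hgen]
    exact Subgroup.zpowers_le.mpr (Subgroup.mem_centralizer_iff.mpr fun y hy => by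
      rw [hgen] at hy
      obtain ⟨k, rfl⟩ := Subgroup.mem_zpowers_iff.mp hy
      exact (Commute.zpow_left (Commute.refl _) k).eq)
  have h7C : 7 ∣ Nat.card Cc := hX ▸ Subgroup.card_dvd_of_le hXC
  have hcases : Nat.card Cc = 7 := by
    have hle : Nat.card Cc ≤ 21 := Nat.le_of_dvd (by norm_num) hd'
    interval_cases h : Nat.card Cc <;> omega
  set N := Subgroup.normalizer (X : Set (PSU 6 F 2))
  obtain ⟨e, he, hcard⟩ : ∃ e, (e = 1 ∨ e = 2 ∨ e = 3 ∨ e = 6) ∧ Nat.card N = Nat.card Cc * e := by
    let φ := X.normalizerMonoidHom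
    have hker : Nat.card φ.ker = Nat.card Cc := by
      rw [Subgroup.normalizerMonoidHom_ker]
      exact Nat.card_congr (Subgroup.subgroupOfEquivOfLe (Subgroup.centralizer_le_normalizer _)).toEquiv
    refine ⟨φ.ker.index, ?_, by rw [← hker, φ.ker.card_mul_index]⟩
    haveI : IsCyclic X := isCyclic_of_prime_card hX
    have haut : Nat.card (MulAut X) = 6 := by
      rw [IsCyclic.card_mulAut X, hX, Nat.totient_prime (by norm_num)]
    have hdvd : φ.ker.index ∣ 6 := by
      rw [Subgroup.index_ker]
      exact (Subgroup.card_subgroup_dvd_card _).trans (dvd_of_eq haut)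
    have := Nat.le_of_dvd (by norm_num) hdvd
    interval_cases h : φ.ker.index <;> omega
  have hfac : (9196830720 : ℕ) = 7 * 1313832960 := by norm_num
  have hval : (Nat.card (PSU 6 F 2)).factorization 7 = 1 := by
    rw [hG, hfac, Nat.factorization_mul (by norm_num) (by norm_num), Finsupp.add_apply,
      Nat.Prime.factorization_self (by norm_num), Nat.factorization_eq_zero_of_not_dvd (by norm_num)]
  let S : Sylow 7 (PSU 6 F 2) := Sylow.ofCard X (by rw [hX, hval, pow_one])
  have hmod : N.index ≡ 1 [MOD 7] := by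
    have := card_sylow_modEq_one (p := 7) (G := PSU 6 F 2)
    rwa [S.card_eq_index_normalizer] at this
  have hNi := N.card_mul_index
  rw [hG, hcard] at hNi
  have hdiv : Nat.card Cc * e ∣ 9196830720 := ⟨_, hNi.symm⟩
  have hq' : 9196830720 / (Nat.card Cc * e) = N.index := by
    rw [← hNi, Nat.mul_div_cancel_left _ (Nat.pos_of_ne_zero fun h0 => by rw [h0, zero_mul] at hNi; norm_num at hNi)]
  refine ⟨hcases, ?_⟩
  rw [hcard, hcases, seven_num _ he (by rw [hcases] at hq'; rw [hq']; exact hmod)]

end CfsgThreeTrans.M22.SevenNorm
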