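/-
Subgroups of order seven in a group of type M(22).
-/
import Cfsg.Agent.Lib.ThreeTrans.Seven
import Cfsg.Agent.Lib.ThreeTrans.M22.SevenPSU

set_option autoImplicit false
set_option linter.unusedSectionVars false

namespace CfsgThreeTrans.M22.SevenNorm

open Cfsg CfsgLib

universe u

variable {G : Type u} [Group G] [Finite G] {D : Set G}
variable {F : Type} [Field F] [Fintype F] [DecidableEq F] {hF : Fintype.card F = 2 ^ 2}

/-- The conclusions at a subgroup of order seven. -/
structure Good (D : Set G) (X : Subgroup G) : Prop where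
  num : (Seven.fx D X).ncard = 3
  nc : ∀ x ∈ Seven.fx D X, ∀ y ∈ Seven.fx D X, x ≠ y → ¬ Commute x y
  cent : Nat.card ↥(Subgroup.centralizer (X : Set G)) = 42
  norm : Nat.card ↥(Subgroup.normalizer (X : Set G)) = 252
  product : ∃ E : Subgroup G, Nat.card E = 42 ∧ X ≤ E ∧ E ⊓ Subgroup.centralizer (X : Set G) = X ∧
      E ⊓ Subgroup.closure (Seven.fx D X) = ⊥ ∧ (∀ x ∈ E, ∀ y ∈ Subgroup.closure (Seven.fx D X), x * y = y * x) ∧
      E ⊔ Subgroup.closure (Seven.fx D X) = Subgroup.normalizer (X : Set G)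
  perm : Nonempty (↥(Subgroup.closure (Seven.fx D X)) ≃* Equiv.Perm (Fin 3))

theorem fx_stable (hD : IsThreeTranspositionClass D) {X : Subgroup G} {n y : G}
    (hn : n ∈ Subgroup.normalizer (X : Set G)) (hy : y ∈ Seven.fx D X) : n * y * n⁻¹ ∈ Seven.fx D X := by
  refine ⟨cls_conj hD n hy.1, Subgroup.mem_centralizer_iff.mpr fun x hx => ?_⟩
  obtain ⟨z, hz, rfl⟩ : ∃ z ∈ X, n * z * n⁻¹ = x :=
    ⟨n⁻¹ * x * n⁻¹⁻¹, (Subgroup.mem_normalizer_iff.mp (inv_mem hn) x).mp hx, by group⟩
  exact ((commute_cj_iff n).mpr (show Commute z y from Subgroup.mem_centralizer_iff.mp hy.2 z hz)).eq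

theorem perm_three : ∀ σ : Equiv.Perm (Fin 3), σ = 1 ∨ σ = Equiv.swap 0 1 ∨ σ = Equiv.swap 1 2 ∨
    σ = Equiv.swap 0 1 * Equiv.swap 1 2 ∨ σ = Equiv.swap 1 2 * Equiv.swap 0 1 ∨
    σ = Equiv.swap 0 1 * Equiv.swap 1 2 * Equiv.swap 0 1 := by decide +kernel

/-- Every subgroup of order seven centralises exactly three transpositions. -/
theorem seven_level (hD : IsThreeTranspositionClass D) (hp : IsPrimitiveUnderConj D)
    (hloc : ∃ d ∈ D, LocalOK D d) (hZ : Subgroup.center G = ⊥) (A : Data D F hF) :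
    ¬ 49 ∣ Nat.card G ∧
      (∀ X Y : Subgroup G, Nat.card X = 7 → Nat.card Y = 7 → ∃ g : G, X.map (MulAut.conj g).toMonoidHom = Y) ∧
      ∀ X : Subgroup G, Nat.card X = 7 → Good D X := by
  have hCe := centralizer_eq hD hp hloc hZ A A.ht
  set C := Subgroup.centralizer ({A.t} : Set G) with hC
  set q : C →* PSU 6 F 2 := A.φ.comp (MulEquiv.subgroupCongr hCe).toMonoidHom with hq
  have hqv : ∀ (y : C) (hy : (y : G) ∈ Subgroup.closure (Ds D A.t)), q y = A.φ ⟨y, hy⟩ := fun y hy => rfl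
  have hin : ∀ y : C, (y : G) ∈ Subgroup.closure (Ds D A.t) := fun y => hCe ▸ y.2
  have hker : ∀ y : C, q y = 1 ↔ (y : G) = 1 ∨ (y : G) = A.t := by
    intro y
    rw [hqv y (hin y), ← MonoidHom.mem_ker, A.ker_φ, center_closure hD hp hloc hZ A A.ht, Subgroup.mem_subgroupOf]
    constructor
    · intro h
      obtain ⟨j, hj⟩ := Subgroup.mem_zpowers_iff.mp h
      have h2 : A.t ^ 2 = 1 := by rw [← hD.1.1 A.t A.ht, pow_orderOf_eq_one]
      rcases Int.even_or_odd' j with ⟨i, rfl | rfl⟩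
      · left
        rw [← hj, zpow_mul, zpow_ofNat, h2, one_zpow]
      · right
        rw [← hj, zpow_add, zpow_mul, zpow_ofNat, h2, one_zpow, one_mul, zpow_one]
    · rintro (e | e)
      · exact e ▸ one_mem _
      · rw [show ((⟨y, hin y⟩ : ↥(Subgroup.closure (Ds D A.t))) : G) = A.t from e]
        exact Subgroup.mem_zpowers _
  have hE : q '' {y : C | (y : G) ∈ Ds D A.t} = q '' {y : C | (y : G) ∈ Ds D A.t} := rfl
  obtain ⟨h49, hconj, hat⟩ := Seven.step (E := q '' {y : C | (y : G) ∈ Ds D A.t}) (k := 0) (c := 7) (n := 3510)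
    (m := 693) (a := 9196830720) hD hp (has_pair A) A.ht hC q (by
      intro z
      obtain ⟨x, hx⟩ := A.sur z
      exact ⟨⟨x, hCe.symm ▸ x.2⟩, hx⟩) (fun z h => (hker z).mp h) (fun z h => (hker z).mpr (Or.inr h)) rfl
    (fun y hy y' hy' e => Subtype.ext (A.inj y hy y' hy' (hin y) (hin y') e))
    (params hD hp A).1 (ncard_Ds hD A A.ht) (by norm_num) (card_psu_eq hF) (by norm_num) (by norm_num) (fun Y hY => by
      obtain ⟨hc, hn⟩ := psu_seven hF hY
      have h0 : Seven.fx (q '' {y : C | (y : G) ∈ Ds D A.t}) Y = ∅ := by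
        refine Set.eq_empty_of_forall_notMem ?_
        rintro _ ⟨⟨y, hy, rfl⟩, hyY⟩
        have h := Subgroup.orderOf_dvd_natCard _ (hyY : q y ∈ Subgroup.centralizer (Y : Set (PSU 6 F 2)))
        have h2 : orderOf (q y) = 2 := by
          refine orderOf_eq_prime ?_ fun h => ?_
          · rw [← map_pow, show y ^ 2 = 1 from Subtype.ext (by
              show (y : G) ^ 2 = 1
              rw [pow_two]; exact mul_self hD.1 hy.1), map_one]
          · rcases (hker y).mp h with e | e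
            · have := hD.1.1 _ hy.1
              rw [e, orderOf_one] at this
              norm_num at this
            · exact hy.2.1 e
        rw [h2, hc] at h
        norm_num at h
      exact ⟨by rw [h0, Set.ncard_empty], hc, hn, fun x hx => by rw [h0] at hx; exact hx.elim⟩)
  refine ⟨h49, hconj, fun X hX => ?_⟩
  obtain ⟨⟨s, hs⟩, hall⟩ := hat X hX
  set S := Seven.fx D X
  have hnc : ∀ x ∈ S, ∀ y ∈ S, x ≠ y → ¬ Commute x y := by
    intro x hx y hy hne hc
    have h0 := (Set.ncard_eq_zero (Set.toFinite _)).mp (hall x hx).near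
    exact (Set.eq_empty_iff_forall_notMem.mp h0) y ⟨hy, hy.1, hne.symm, hc⟩
  have hW : {y | y ∈ S ∧ ¬ Commute s y} = S \ {s} := by
    ext y
    exact ⟨fun h => ⟨h.1, fun e => h.2 (by rw [Set.mem_singleton_iff.mp e])⟩,
      fun h => ⟨h.1, hnc s hs.mem y h.1 (fun e => h.2 e.symm)⟩⟩
  obtain ⟨a, ha⟩ : {y | y ∈ S ∧ ¬ Commute s y}.Nonempty :=
    Set.nonempty_of_ncard_ne_zero fun e => by have := hs.far; rw [e] at this; norm_num at this
  have hf : {y | y ∈ S ∧ ¬ Commute s y}.ncard = 2 := by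
    have h1 := Nat.le_of_dvd (by norm_num) (hs.farDvd a ha)
    have h2 := hs.farDvd a ha
    have h3 := hs.far
    generalize {y | y ∈ Seven.fx D X ∧ ¬ Commute s y}.ncard = f at h1 h2 h3 ⊢
    have hf12 : f ≤ 12 := by omega
    interval_cases f <;> omega
  have hnum : S.ncard = 3 := by
    rw [hW] at hf
    rw [← Set.ncard_diff_singleton_add_one hs.mem, hf]
  have hsD := hs.mem.1
  have haD := ha.1.1
  have hss := mul_self hD.1 hsD
  have haa := mul_self hD.1 haD
  have hbr := braid hD.1 hsD haD ha.2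
  have hVX : Subgroup.closure S ≤ Subgroup.centralizer (X : Set G) := (Subgroup.closure_le _).mpr fun y hy => hy.2
  have hVN : Subgroup.closure S ≤ Subgroup.normalizer (X : Set G) := hVX.trans (Subgroup.centralizer_le_normalizer _)
  have hsV : s ∈ Subgroup.closure S := Subgroup.subset_closure hs.mem
  have haV : a ∈ Subgroup.closure S := Subgroup.subset_closure ha.1
  have hbS : s * a * s⁻¹ ∈ S := fx_stable hD (hVN hsV) ha.1
  have hSeq : S = {s, a, s * a * s⁻¹} := by
    refine (Set.eq_of_subset_of_ncard_le ?_ ?_).symm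
    · rintro y (rfl | rfl | rfl)
      exacts [hs.mem, ha.1, hbS]
    · rw [hnum, Set.ncard_eq_three.mpr ⟨s, a, s * a * s⁻¹, fun e => ha.2 (e ▸ Commute.refl _), fun e => ?_, fun e => ?_,
        rfl⟩]
      · refine ha.2 ?_
        have h' : s * s * s⁻¹ = s * a * s⁻¹ := by rw [← e]; group
        rw [cj_injective s h']
      · exact ha.2 (mul_inv_eq_iff_eq_mul.mp e.symm)
  obtain ⟨φ, e0, e1⟩ := exists_hom_S3 hss haa hbr.symm
  have htrans : ∀ y ∈ S, ∃ k ∈ Subgroup.closure S, k * s * k⁻¹ = y := by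
    intro y hy
    rw [hSeq] at hy
    rcases hy with e | e | e <;> rw [e]
    · exact ⟨1, one_mem _, by simp⟩
    · refine ⟨s * a, mul_mem hsV haV, ?_⟩
      rw [mul_inv_rev, inv_eq_of_mul_eq_one_right hss, inv_eq_of_mul_eq_one_right haa]
      calc s * a * s * (a * s) = s * (a * s * a) * s := by group
        _ = s * (s * a * s) * s := by rw [hbr]
        _ = (s * s) * a * (s * s) := by group
        _ = a := by rw [hss, one_mul, mul_one]
    · exact ⟨a, haV, by rw [inv_eq_of_mul_eq_one_right hss, inv_eq_of_mul_eq_one_right haa, hbr]⟩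
  have hcount : ∀ H : Subgroup G, Subgroup.closure S ≤ H → H ≤ Subgroup.normalizer (X : Set G) →
      Nat.card H = 3 * Nat.card ↥(H ⊓ Subgroup.centralizer ({s} : Set G)) ∧
      Nat.card ↥(H ⊓ Subgroup.centralizer ({s} : Set G)) = 2 * Nat.card ↥(H ⊓ Subgroup.centralizer S) := by
    intro H hVH hHN
    refine ⟨by rw [← hnum]; exact M22.card_orbit_stab H s S (fun k hk => fx_stable hD (hHN hk) hs.mem) (fun y hy => by
      obtain ⟨k, hk, e⟩ := htrans y hy
      exact ⟨k, hVH hk, e⟩), ?_⟩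
    rw [← hf, M22.card_orbit_stab (H ⊓ Subgroup.centralizer ({s} : Set G)) a {y | y ∈ S ∧ ¬ Commute s y}
      (fun k hk => ⟨fx_stable hD (hHN hk.1) ha.1, fun h => ha.2 ((commute_cj_iff k).mp (by
        rwa [show k * s * k⁻¹ = s from mem_cent.mp hk.2]))⟩) (fun y hy => by
      have hy' : y = a ∨ y = s * a * s⁻¹ := by
        have := hy.1
        rw [hSeq] at this
        rcases this with rfl | h | h
        · exact absurd (Commute.refl _) hy.2
        · exact Or.inl h
        · exact Or.inr h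
      rcases hy' with e | e
      · exact ⟨1, one_mem _, by simp [e]⟩
      · exact ⟨s, ⟨hVH hsV, Subgroup.mem_centralizer_singleton_iff.mpr rfl⟩, e.symm⟩)]
    congr 1
    refine Nat.card_congr (Equiv.setCongr (congrArg (fun K : Subgroup G => (K : Set G)) ?_))
    ext k
    simp only [Subgroup.mem_inf, Subgroup.mem_centralizer_singleton_iff]
    refine ⟨fun h => ⟨h.1.1, Subgroup.mem_centralizer_iff.mpr fun y hy => ?_⟩, fun h =>
      ⟨⟨h.1, (Subgroup.mem_centralizer_iff.mp h.2 s hs.mem).symm⟩, (Subgroup.mem_centralizer_iff.mp h.2 a ha.1).symm⟩⟩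
    rw [hSeq] at hy
    rcases hy with rfl | rfl | rfl
    · exact h.1.2.symm
    · exact h.2.symm
    · exact (((show Commute k s from h.1.2).mul_right h.2).mul_right (show Commute k s from h.1.2).inv_right).eq.symm
  obtain ⟨c1, c2⟩ := hcount _ hVX (Subgroup.centralizer_le_normalizer _)
  obtain ⟨n1, n2⟩ := hcount _ hVN le_rfl
  rw [hs.cent] at c1 c2
  rw [hs.norm] at n1 n2
  have hφ : Function.Injective φ := injective_S3_hom (by
    rw [map_mul, e0, e1]
    intro e
    exact ha.2 (by rw [eq_inv_of_mul_eq_one_left e]; exact (Commute.refl a).inv_left))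
  have hrange : φ.range = Subgroup.closure S := by
    refine le_antisymm ?_ ((Subgroup.closure_le _).mpr fun y hy => ?_)
    · rintro _ ⟨σ, rfl⟩
      have hgen : ∀ σ : Equiv.Perm (Fin 3), σ = 1 ∨ σ = Equiv.swap 0 1 ∨ σ = Equiv.swap 1 2 ∨
          σ = Equiv.swap 0 1 * Equiv.swap 1 2 ∨ σ = Equiv.swap 1 2 * Equiv.swap 0 1 ∨
          σ = Equiv.swap 0 1 * Equiv.swap 1 2 * Equiv.swap 0 1 := perm_three
      rcases hgen σ with rfl | rfl | rfl | rfl | rfl | rfl <;> simp [e0, e1, hsV, haV, mul_mem]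
    · rw [hSeq] at hy
      rcases hy with rfl | rfl | rfl
      · exact ⟨_, e0⟩
      · exact ⟨_, e1⟩
      · exact mul_mem (mul_mem ⟨_, e0⟩ ⟨_, e1⟩) (inv_mem ⟨_, e0⟩)
  have eV : ↥(Subgroup.closure S) ≃* Equiv.Perm (Fin 3) :=
    ((MonoidHom.ofInjective hφ).trans (MulEquiv.subgroupCongr hrange)).symm
  have hV6 : Nat.card ↥(Subgroup.closure S) = 6 := by
    rw [Nat.card_congr eV.toEquiv, Nat.card_perm, Nat.card_fin]; rfl
  exact ⟨hnum, hnc, by omega, by omega,
    Seven.product hX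
      (show Nat.card ↥(Subgroup.normalizer (X : Set G) ⊓ Subgroup.centralizer S) = 42 by omega)
      (show Nat.card ↥(Subgroup.centralizer (X : Set G) ⊓ Subgroup.centralizer S) = 7 by omega) (by rw [hV6]; omega) (by rw [hV6]; norm_num), ⟨eV⟩⟩

end CfsgThreeTrans.M22.SevenNorm
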