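/-
An element of order five in the unitary group of dimension six over four elements.
-/
import Cfsg.Agent.Lib.ThreeTrans.M22.Quasi

set_option autoImplicit false
set_option linter.unusedSectionVars false

namespace CfsgThreeTrans.M22.FiveNorm

open Matrix Cfsg CfsgLib CfsgLib.UnitarySimple CfsgLib.UnitaryTransvection

universe u

variable {F : Type} [Field F] [Fintype F] [DecidableEq F]

local notation "h" => Cfsg.hermForm 6 F 2
local notation "V" => (Fin 6 → F)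

/-- The cycle of the first five coordinates. -/
def pv : Equiv.Perm (Fin 6) := Equiv.swap 0 1 * Equiv.swap 1 2 * Equiv.swap 2 3 * Equiv.swap 3 4

theorem pv_vals : (pv 0 = 1 ∧ pv 1 = 2 ∧ pv 2 = 3 ∧ pv 3 = 4 ∧ pv 4 = 0 ∧ pv 5 = 5) ∧
    Equiv.Perm.sign pv = 1 := by decide +kernel

theorem perm_mulVec (x : V) : pv.permMatrix F *ᵥ x = ![x 1, x 2, x 3, x 4, x 0, x 5] := by
  obtain ⟨⟨a0, a1, a2, a3, a4, a5⟩, -⟩ := pv_vals
  rw [permMatrix_mulVec]
  funext i
  fin_cases i <;> simp [a0, a1, a2, a3, a4, a5]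

/-- The element permuting the first five coordinates cyclically. -/
def cyc (F : Type) [Field F] [Fintype F] [DecidableEq F] : Cfsg.SU 6 F 2 :=
  mkSU (pv.permMatrix F) (fun u w => by
    rw [perm_mulVec, perm_mulVec]
    simp [Cfsg.hermForm, Fin.sum_univ_six]
    ring) (by rw [det_permutation, pv_vals.2]; simp)

theorem cyc_mulVec (x : V) : mat (cyc F) *ᵥ x = ![x 1, x 2, x 3, x 4, x 0, x 5] := perm_mulVec x

theorem five_apply (x : V) :
    mat (cyc F) *ᵥ (mat (cyc F) *ᵥ (mat (cyc F) *ᵥ (mat (cyc F) *ᵥ (mat (cyc F) *ᵥ x)))) = x := by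
  simp only [cyc_mulVec]
  funext i
  fin_cases i <;> simp

theorem cyc_order : orderOf (cyc F) = 5 := by
  haveI : Fact (Nat.Prime 5) := ⟨by norm_num⟩
  refine orderOf_eq_prime (su_ext fun x => ?_) fun e => ?_
  · rw [show cyc F ^ 5 = cyc F * (cyc F * (cyc F * (cyc F * cyc F))) by simp [pow_succ, mul_assoc],
      mat_mul, mat_mul, mat_mul, mat_mul, mat_one, one_mulVec]
    simp only [← mulVec_mulVec]
    exact five_apply x
  · have := congrArg (fun g => (mat g *ᵥ (![1, 0, 0, 0, 0, 0] : V)) 0) e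
    simp [cyc_mulVec, mat_one] at this

/-- A fixed isotropic vector. -/
def rv (b : F) : V := ![1, 1, 1, 1, 1, b]

theorem rv_iso (hF : Fintype.card F = 2 ^ 2) {b : F} (hb : b ≠ 0) : h (rv b) (rv b) = 0 := by
  simp [Cfsg.hermForm, Fin.sum_univ_six, rv]
  linear_combination cube hF hb + 3 * two_zero hF

theorem rv_ne (b : F) : rv b ≠ 0 := fun e => by simpa [rv] using congrFun e 0

theorem rv_fixed (b : F) : mat (cyc F) *ᵥ rv b = rv b := by
  rw [cyc_mulVec]
  funext i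
  fin_cases i <;> simp [rv]

theorem rv_herm (hF : Fintype.card F = 2 ^ 2) {b b' : F} (hb' : b' ≠ 0) (hbb : h (rv b) (rv b') = 0) : b = b' := by
  simp [Cfsg.hermForm, Fin.sum_univ_six, rv] at hbb
  have hc := cube hF hb'
  linear_combination b' * hbb - b * hc - 3 * b' * two_zero hF

theorem fixed_form {x : V} (hx : mat (cyc F) *ᵥ x = x) : x = ![x 0, x 0, x 0, x 0, x 0, x 5] := by
  rw [cyc_mulVec] at hx
  have h0 := congrFun hx 0
  have h1 := congrFun hx 1
  have h2 := congrFun hx 2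
  have h3 := congrFun hx 3
  simp at h0 h1 h2 h3
  funext i
  fin_cases i <;> simp [h0, h1, h2, h3]

theorem fixed_iso (hF : Fintype.card F = 2 ^ 2) {x : V} (hx : mat (cyc F) *ᵥ x = x) (hx0 : x ≠ 0) (hxx : h x x = 0) :
    ∃ l b : F, l ≠ 0 ∧ b ≠ 0 ∧ x = l • rv b := by
  have hf := fixed_form hx
  have h2 := two_zero hF
  rw [hf] at hxx hx0
  simp [Cfsg.hermForm, Fin.sum_univ_six] at hxx
  have ha : x 0 ≠ 0 := by
    intro ha
    rw [ha] at hxx
    have hb : x 5 = 0 := by simpa using hxx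
    exact hx0 (by funext i; fin_cases i <;> simp [ha, hb])
  have hb : x 5 ≠ 0 := by
    intro hb
    rw [hb] at hxx
    exact one_ne_zero (α := F) (by linear_combination hxx - 5 * cube hF ha - 2 * h2)
  refine ⟨x 0, (x 0)⁻¹ * x 5, ha, mul_ne_zero (inv_ne_zero ha) hb, ?_⟩
  conv_lhs => rw [hf]
  funext i
  fin_cases i <;> simp [rv, ha]

/-- The order of the centraliser divides `270`. -/
theorem su_cent_five (hF : Fintype.card F = 2 ^ 2) :
    Nat.card ↥(Subgroup.centralizer ({cyc F} : Set (Cfsg.SU 6 F 2))) ∣ 270 := by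
  classical
  set A := mat (cyc F)
  have h2 : (2 : F) = 0 := two_zero hF
  obtain ⟨z, hz0, hz1, hz, hzs, hall⟩ := exists_zeta hF
  have hq4 : Nat.card F = 4 := by rw [Nat.card_eq_fintype_card, hF]; norm_num
  set p1 : Matrix (Fin 6) (Fin 6) F := A * A + z • A + 1 with hp1
  set p2 : Matrix (Fin 6) (Fin 6) F := A * A + (z * z) • A + 1 with hp2
  have hp1e : ∀ x, p1 *ᵥ x = A *ᵥ (A *ᵥ x) + z • A *ᵥ x + x := fun x => by
    rw [hp1, add_mulVec, add_mulVec, one_mulVec, ← mulVec_mulVec, smul_mulVec]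
  have hp2e : ∀ x, p2 *ᵥ x = A *ᵥ (A *ᵥ x) + (z * z) • A *ᵥ x + x := fun x => by
    rw [hp2, add_mulVec, add_mulVec, one_mulVec, ← mulVec_mulVec, smul_mulVec]
  have hA5 : ∀ x, A *ᵥ (A *ᵥ (A *ᵥ (A *ᵥ (A *ᵥ x)))) = x := five_apply
  let s : V → F := fun x => x 0 + x 1 + x 2 + x 3 + x 4
  have hPx : ∀ x, p1 *ᵥ (p2 *ᵥ x) = ![s x, s x, s x, s x, s x, x 5] := by
    intro x
    rw [hp1e, hp2e]
    simp only [A, cyc_mulVec, s]
    funext i
    fin_cases i <;> simp [Matrix.vecHead, Matrix.vecTail]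
    · linear_combination (x 3 + x 1 + (z - 1) * x 2) * hz + (x 2 - x 3 - x 1) * h2
    · linear_combination (x 4 + x 2 + (z - 1) * x 3) * hz + (x 3 - x 4 - x 2) * h2
    · linear_combination (x 0 + x 3 + (z - 1) * x 4) * hz + (x 4 - x 0 - x 3) * h2
    · linear_combination (x 1 + x 4 + (z - 1) * x 0) * hz + (x 0 - x 1 - x 4) * h2
    · linear_combination (x 2 + x 0 + (z - 1) * x 1) * hz + (x 1 - x 2 - x 0) * h2
    · linear_combination x 5 * ((z + 1) * hz + h2)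
  have hcomm12 : ∀ x, p2 *ᵥ (p1 *ᵥ x) = p1 *ᵥ (p2 *ᵥ x) := by
    intro x
    simp only [hp1e, hp2e, mulVec_add, mulVec_smul, smul_add, smul_smul, mul_comm z (z * z)]
    abel
  have hcA1 : ∀ x, p1 *ᵥ (A *ᵥ x) = A *ᵥ (p1 *ᵥ x) := fun x => by
    simp only [hp1e, mulVec_add, mulVec_smul]
  have hcA2 : ∀ x, p2 *ᵥ (A *ᵥ x) = A *ᵥ (p2 *ᵥ x) := fun x => by
    simp only [hp2e, mulVec_add, mulVec_smul]
  have hsum : ∀ x, p1 *ᵥ x + p2 *ᵥ x = A *ᵥ x := fun x => by
    rw [hp1e, hp2e]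
    funext i
    simp only [Pi.add_apply, Pi.smul_apply, smul_eq_mul]
    linear_combination ((A *ᵥ (A *ᵥ x)) i + x i - (A *ᵥ x) i) * h2 + (A *ᵥ x) i * hz
  set U1 := LinearMap.ker (Matrix.mulVecLin p1)
  set U2 := LinearMap.ker (Matrix.mulVecLin p2)
  have hm1 : ∀ u, u ∈ U1 ↔ p1 *ᵥ u = 0 := fun u => Iff.rfl
  have hm2 : ∀ u, u ∈ U2 ↔ p2 *ᵥ u = 0 := fun u => Iff.rfl
  have hU0 : ∀ u, (u ∈ U1 ∨ u ∈ U2) → s u = 0 ∧ u 5 = 0 := by
    intro u hu
    have e : p1 *ᵥ (p2 *ᵥ u) = 0 := by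
      rcases hu with h' | h'
      · rw [← hcomm12, (hm1 u).mp h', mulVec_zero]
      · rw [(hm2 u).mp h', mulVec_zero]
    rw [hPx] at e
    exact ⟨by simpa using congrFun e 0, by simpa using congrFun e 5⟩
  have hsplitU : ∀ u, s u = 0 → u 5 = 0 → ∃ a ∈ U1, ∃ b ∈ U2, u = a + b := by
    intro u hs h5
    have e : p1 *ᵥ (p2 *ᵥ u) = 0 := by
      rw [hPx, hs, h5]; funext i; fin_cases i <;> simp
    refine ⟨A *ᵥ (A *ᵥ (A *ᵥ (A *ᵥ (p2 *ᵥ u)))), ?_, A *ᵥ (A *ᵥ (A *ᵥ (A *ᵥ (p1 *ᵥ u)))), ?_, ?_⟩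
    · rw [hm1, hcA1, hcA1, hcA1, hcA1, e]; simp
    · rw [hm2, hcA2, hcA2, hcA2, hcA2, hcomm12, e]; simp
    · rw [← mulVec_add, ← mulVec_add, ← mulVec_add, ← mulVec_add, add_comm (p2 *ᵥ u), hsum, hA5]
  have hsplit : ∀ x, ∃ a ∈ U1, ∃ b ∈ U2, ∃ r, A *ᵥ r = r ∧ x = a + b + r := by
    intro x
    set r : V := ![s x, s x, s x, s x, s x, x 5] with hr
    obtain ⟨a, ha, b, hb, e⟩ := hsplitU (x - r)
      (by simp [s, r, Matrix.vecHead, Matrix.vecTail]; linear_combination (-2 * (x 0 + x 1 + x 2 + x 3 + x 4)) * h2)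
      (by simp [r])
    refine ⟨a, ha, b, hb, r, ?_, by rw [← e, sub_add_cancel]⟩
    simp only [A, cyc_mulVec, r]
    funext i
    fin_cases i <;> simp
  have hperp : ∀ r u, A *ᵥ r = r → (u ∈ U1 ∨ u ∈ U2) → h r u = 0 := by
    intro r u hr hu
    obtain ⟨hs, h5⟩ := hU0 u hu
    rw [fixed_form hr]
    simp only [s] at hs
    simp [Cfsg.hermForm, Fin.sum_univ_six, h5]
    linear_combination r 0 * (u 0 + u 1 + u 2 + u 3 + u 4) * hs -
      r 0 * (u 0 * u 1 + u 0 * u 2 + u 0 * u 3 + u 0 * u 4 + u 1 * u 2 + u 1 * u 3 + u 1 * u 4 + u 2 * u 3 +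
        u 2 * u 4 + u 3 * u 4) * h2
  have hh : ∀ u w, h (A *ᵥ u) (A *ᵥ w) = h u w := fun u w => su_h (cyc F) u w
  have hzl : ∀ w : V, h 0 w = 0 := fun w => h_zero_left hF w
  have hA4 : ∀ u, A *ᵥ (A *ᵥ (A *ᵥ (A *ᵥ (A *ᵥ u)))) = u := hA5
  have hiso1 : ∀ u ∈ U1, ∀ w ∈ U1, h u w = 0 := by
    intro u hu w hw
    have e : w = p2 *ᵥ (A *ᵥ (A *ᵥ (A *ᵥ (A *ᵥ w)))) := by
      rw [hcA2, hcA2, hcA2, hcA2]
      conv_lhs => rw [← hA5 w, ← hsum w, (hm1 w).mp hw, zero_add]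
    rw [e, hp2e]
    generalize A *ᵥ (A *ᵥ (A *ᵥ (A *ᵥ w))) = x
    have h0 := hzl (A *ᵥ (A *ᵥ x))
    rw [← (hm1 u).mp hu, hp1e, h_add_left, h_add_left, h_smul_left, hh, hh, hh] at h0
    rw [h_add_right hF, h_add_right hF, h_smul_right hF, map_mul, hzs]
    linear_combination h0 + (z * z - z) * h u (A *ᵥ x) * hz
  have hiso2 : ∀ u ∈ U2, ∀ w ∈ U2, h u w = 0 := by
    intro u hu w hw
    have e : w = p1 *ᵥ (A *ᵥ (A *ᵥ (A *ᵥ (A *ᵥ w)))) := by
      rw [hcA1, hcA1, hcA1, hcA1]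
      conv_lhs => rw [← hA5 w, ← hsum w, (hm2 w).mp hw, add_zero]
    rw [e, hp1e]
    generalize A *ᵥ (A *ᵥ (A *ᵥ (A *ᵥ w))) = x
    have h0 := hzl (A *ᵥ (A *ᵥ x))
    rw [← (hm2 u).mp hu, hp2e, h_add_left, h_add_left, h_smul_left, hh, hh, hh] at h0
    rw [h_add_right hF, h_add_right hF, h_smul_right hF, hzs]
    linear_combination h0
  have hA1 : ∀ u ∈ U1, A *ᵥ u ∈ U1 := fun u hu => by
    rw [hm1, hcA1, (hm1 u).mp hu, mulVec_zero]
  have hA2 : ∀ u ∈ U2, A *ᵥ u ∈ U2 := fun u hu => by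
    rw [hm2, hcA2, (hm2 u).mp hu, mulVec_zero]
  have hnofix : ∀ u, (u ∈ U1 ∨ u ∈ U2) → A *ᵥ u = u → u = 0 := by
    intro u hu hf
    obtain ⟨hs, h5⟩ := hU0 u hu
    have hff := fixed_form hf
    simp only [s] at hs
    rw [hff] at hs
    simp at hs
    have h0 : u 0 = 0 := by linear_combination hs - 2 * u 0 * h2
    rw [hff]
    funext i
    fin_cases i <;> simp [h0, h5]
  haveI : Fact (Nat.Prime 5) := ⟨by norm_num⟩
  have hinv : ∀ W : Submodule F V, (∀ u ∈ W, A *ᵥ u ∈ W) → (W ≤ U1 ∨ W ≤ U2) →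
      Module.finrank F W = 0 ∨ Module.finrank F W = 2 := by
    intro W hW hWU
    haveI : Fintype W := Fintype.ofFinite W
    let f : Function.End W := fun u => ⟨A *ᵥ u.1, hW u u.2⟩
    have hf : f^[5 ^ 1] = id := funext fun u => Subtype.ext (hA5 u.1)
    have hmod := Equiv.Perm.card_fixedPoints_modEq (f := f) hf
    have h1 : Fintype.card (Function.fixedPoints f) = 1 := by
      rw [Fintype.card_eq_one_iff]
      refine ⟨⟨0, Subtype.ext (mulVec_zero A)⟩, fun x => Subtype.ext (Subtype.ext ?_)⟩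
      exact hnofix _ (hWU.imp (fun h' => h' x.1.2) fun h' => h' x.1.2) (congrArg Subtype.val x.2)
    rw [h1, ← Nat.card_eq_fintype_card, Module.natCard_eq_pow_finrank (K := F), hq4] at hmod
    have hle : Module.finrank F W ≤ 3 := by
      have := iso_clique_card hF (W : Set V) fun a ha b hb => hWU.elim
        (fun h' => hiso1 a (h' ha) b (h' hb)) fun h' => hiso2 a (h' ha) b (h' hb)
      rw [Submodule.span_eq, Module.natCard_eq_pow_finrank (K := F), hq4] at this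
      exact (Nat.pow_le_pow_iff_right (by norm_num : 1 < 4)).mp (by simpa using this)
    have key : ∀ k : ℕ, k ≤ 3 → 4 ^ k % 5 = 1 → k = 0 ∨ k = 2 := by decide
    exact key _ hle (by rw [hmod])
  have hU1 : Module.finrank F U1 = 2 := by
    refine (hinv U1 hA1 (Or.inl le_rfl)).resolve_left fun h' => ?_
    have hin : ∀ u : V, s u = 0 → u 5 = 0 → u ∈ U2 := by
      intro u hs h5
      obtain ⟨a, ha, b, hb, rfl⟩ := hsplitU u hs h5
      rw [Submodule.finrank_eq_zero.mp h', Submodule.mem_bot] at ha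
      rwa [ha, zero_add]
    have := hiso2 ![1, 1, 0, 0, 0, 0] (hin _ (by simp [s]; linear_combination h2) (by simp))
      ![0, 1, 1, 0, 0, 0] (hin _ (by simp [s]; linear_combination h2) (by simp))
    simp [Cfsg.hermForm, Fin.sum_univ_six] at this
  set C := Subgroup.centralizer ({cyc F} : Set (Cfsg.SU 6 F 2))
  have hCA : ∀ (g : C) x, mat g.1 *ᵥ (A *ᵥ x) = A *ᵥ (mat g.1 *ᵥ x) := fun g x => by
    rw [mulVec_mulVec, mulVec_mulVec, ← mat_mul, ← mat_mul, Subgroup.mem_centralizer_singleton_iff.mp g.2]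
  have hC1 : ∀ (g : C) u, u ∈ U1 → mat g.1 *ᵥ u ∈ U1 := fun g u hu => by
    rw [hm1, hp1e, ← hCA, ← hCA, ← mulVec_smul, ← mulVec_add, ← mulVec_add, ← hp1e, (hm1 u).mp hu, mulVec_zero]
  have hC2 : ∀ (g : C) u, u ∈ U2 → mat g.1 *ᵥ u ∈ U2 := fun g u hu => by
    rw [hm2, hp2e, ← hCA, ← hCA, ← mulVec_smul, ← mulVec_add, ← mulVec_add, ← hp2e, (hm2 u).mp hu, mulVec_zero]
  have hdual : ∀ (g : C), (∀ x ∈ U1, mat g.1 *ᵥ x = x) → ∀ w ∈ U2, mat g.1 *ᵥ w = w := by
    intro g hg w hw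
    refine sub_eq_zero.mp (h_nondeg hF fun x => ?_)
    obtain ⟨a, ha, b, hb, r, hr, rfl⟩ := hsplit x
    rw [h_sub_left, ← h_swap hF (a + b + r) (mat g.1 *ᵥ w), ← h_swap hF (a + b + r) w, h_add_left, h_add_left,
      h_add_left, h_add_left, hiso2 b hb _ (hC2 g w hw), hiso2 b hb _ hw, hperp r _ hr (Or.inr (hC2 g w hw)),
      hperp r _ hr (Or.inr hw)]
    have e := su_h g.1 a w
    rw [hg a ha] at e
    rw [e, sub_self]
  let S := {u : V // u ∈ U1 ∧ u ≠ 0}
  letI : MulAction C S :=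
    { smul := fun g u => ⟨mat g.1 *ᵥ u.1, hC1 g _ u.2.1, mat_ne_zero _ u.2.2⟩
      one_smul := fun u => Subtype.ext (by
        show mat (1 : C).1 *ᵥ u.1 = u.1
        rw [OneMemClass.coe_one, mat_one, one_mulVec])
      mul_smul := fun g k u => Subtype.ext (by
        show mat (g * k : C).1 *ᵥ u.1 = mat g.1 *ᵥ (mat k.1 *ᵥ u.1)
        rw [mulVec_mulVec, ← mat_mul]; rfl) }
  let K : Subgroup C :=
    { carrier := {g | ∀ u ∈ U1, mat g.1 *ᵥ u = u}
      one_mem' := fun u _ => by rw [OneMemClass.coe_one, mat_one, one_mulVec]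
      mul_mem' := fun {g k} hg hk u hu => by
        rw [show mat (g * k : C).1 = mat g.1 * mat k.1 from mat_mul _ _, ← mulVec_mulVec, hk u hu, hg u hu]
      inv_mem' := fun {g} hg u hu => by
        conv_lhs => rw [← hg u hu]
        exact mat_inv_mulVec' g.1 u }
  have hstab : ∀ u : S, MulAction.stabilizer C u = K := by
    intro u
    ext g
    rw [MulAction.mem_stabilizer_iff]
    refine ⟨fun e => ?_, fun hg => Subtype.ext (hg u.1 u.2.1)⟩
    have he : mat g.1 *ᵥ u.1 = u.1 := congrArg Subtype.val e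
    set W := U1 ⊓ LinearMap.ker (Matrix.mulVecLin (mat g.1 - 1))
    have hmemW : ∀ x, x ∈ W ↔ x ∈ U1 ∧ mat g.1 *ᵥ x = x := fun x => by
      simp only [W, Submodule.mem_inf, LinearMap.mem_ker, mulVecLin_apply, sub_mulVec, one_mulVec, sub_eq_zero]
    have hW := (hinv W (fun x hx => (hmemW _).mpr ⟨hA1 x ((hmemW x).mp hx).1, by
      rw [hCA g, ((hmemW x).mp hx).2]⟩) (Or.inl inf_le_left)).resolve_left
      (fun h' => u.2.2 (by simpa [Submodule.finrank_eq_zero.mp h'] using (hmemW u.1).mpr ⟨u.2.1, he⟩))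
    have : W = U1 := Submodule.eq_of_le_of_finrank_eq inf_le_left (by rw [hW, hU1])
    exact fun x hx => ((hmemW x).mp (this ▸ hx)).2
  haveI : Fintype S := Fintype.ofFinite S
  have hS : Nat.card S = 15 := by
    haveI : Fintype U1 := Fintype.ofFinite U1
    have e : Nat.card S = Nat.card {u : U1 // u ≠ 0} := Nat.card_congr
      { toFun := fun u => ⟨⟨u.1, u.2.1⟩, fun e => u.2.2 (congrArg Subtype.val e)⟩
        invFun := fun u => ⟨u.1.1, u.1.2, fun e => u.2 (Subtype.ext e)⟩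
        left_inv := fun u => rfl
        right_inv := fun u => rfl }
    have hU' : Fintype.card U1 = 16 := by
      rw [← Nat.card_eq_fintype_card, Module.natCard_eq_pow_finrank (K := F), hU1, hq4]
      norm_num
    rw [e, Nat.card_eq_fintype_card, Fintype.card_subtype_compl, hU', Fintype.card_subtype_eq]
  have hidx : K.index ∣ 15 := by
    rw [← hS, Nat.card_congr (MulAction.selfEquivSigmaOrbits C S), Nat.card_sigma]
    exact Finset.dvd_sum fun q _ => by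
      rw [Nat.card_coe_set_eq, ← MulAction.index_stabilizer, hstab]
  -- the kernel permutes the three fixed points
  let Pt := {b : F // b ≠ 0}
  have hmove : ∀ (g : K) (b : Pt), ∃ c : Pt, ∃ l : F, l ≠ 0 ∧ mat g.1.1 *ᵥ rv b.1 = l • rv c.1 := by
    intro g b
    obtain ⟨l, c, hl, hc, e⟩ := fixed_iso hF (x := mat g.1.1 *ᵥ rv b.1)
      (by show A *ᵥ _ = _; rw [← hCA g.1, rv_fixed]) (mat_ne_zero _ (rv_ne _)) (by rw [su_h, rv_iso hF b.2])
    exact ⟨⟨c, hc⟩, l, hl, e⟩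
  choose π l hl hπ using hmove
  have huniq : ∀ (c c' : Pt) (l l' : F), l ≠ 0 → l • rv c.1 = l' • rv c'.1 → c = c' ∧ l = l' := by
    intro c c' l l' hl' e
    have e0 : l = l' := by simpa [rv] using congrFun e 0
    refine ⟨Subtype.ext (mul_left_cancel₀ hl' ?_), e0⟩
    simpa [rv, ← e0] using congrFun e 5
  have hone : ∀ b, π 1 b = b ∧ l 1 b = 1 := fun b => by
    refine huniq _ _ _ _ (hl 1 b) ?_
    rw [← hπ 1 b, show mat (1 : K).1.1 = 1 from mat_one, one_mulVec, one_smul]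
  have hmul : ∀ g k b, π (g * k) b = π g (π k b) ∧ l (g * k) b = l k b * l g (π k b) := fun g k b => by
    refine huniq _ _ _ _ (hl _ b) ?_
    rw [← hπ, show mat (g * k : K).1.1 = mat g.1.1 * mat k.1.1 from mat_mul _ _, ← mulVec_mulVec, hπ k b,
      mulVec_smul, hπ g, smul_smul]
  letI : MulAction K Pt :=
    { smul := fun g b => π g b
      one_smul := fun b => (hone b).1
      mul_smul := fun g k b => (hmul g k b).1 }
  let φ := MulAction.toPermHom K Pt
  have hker : ∀ g : φ.ker, ∀ b, π g.1 b = b := fun g b => Equiv.congr_fun (MonoidHom.mem_ker.mp g.2) b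
  obtain ⟨one', hone'⟩ : ∃ p : Pt, p.1 = 1 := ⟨⟨1, one_ne_zero⟩, rfl⟩
  let χ : φ.ker →* Fˣ :=
    { toFun := fun g => Units.mk0 (l g.1 one') (hl g.1 one')
      map_one' := Units.ext (hone one').2
      map_mul' := fun g k => Units.ext (by
        show l (g.1 * k.1) one' = l g.1 one' * l k.1 one'
        rw [(hmul g.1 k.1 one').2, hker k, mul_comm]) }
  have hχ : Function.Injective χ := by
    rw [injective_iff_map_eq_one]
    intro g hg
    have hg1 : l g.1 one' = 1 := congrArg Units.val hg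
    let zP : Pt := ⟨z, hz0⟩
    have hgz : l g.1 zP = 1 := by
      have e := su_h g.1.1.1 (rv zP.1) (rv one'.1)
      rw [hπ g.1 zP, hπ g.1 one', hker g, hker g, hg1, one_smul, h_smul_left] at e
      refine mul_right_cancel₀ (fun e0 => hz1 ((rv_herm hF one'.2 e0).trans hone')) ?_
      rw [e, one_mul]
    have f1 : mat g.1.1.1 *ᵥ rv one'.1 = rv one'.1 := by rw [hπ g.1 one', hker g, hg1, one_smul]
    have f2 : mat g.1.1.1 *ᵥ rv z = rv z := by rw [hπ g.1 zP, hker g, hgz, one_smul]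
    refine Subtype.ext (Subtype.ext (Subtype.ext (su_ext fun x => ?_)))
    obtain ⟨a, ha, b, hb, r, hr, rfl⟩ := hsplit x
    show mat g.1.1.1 *ᵥ _ = mat (1 : Cfsg.SU 6 F 2) *ᵥ _
    rw [mat_one, one_mulVec, mulVec_add, mulVec_add, g.1.2 a ha, hdual g.1.1 g.1.2 b hb]
    congr 1
    obtain ⟨c, d, e⟩ : ∃ c d : F, r = c • rv one'.1 + d • rv z := by
      refine ⟨r 0 - (r 5 - r 0) / (z - 1), (r 5 - r 0) / (z - 1), ?_⟩
      conv_lhs => rw [fixed_form hr]
      have hz1' : z - 1 ≠ 0 := sub_ne_zero.mpr hz1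
      funext i
      fin_cases i <;> simp [rv, hone'] <;> field_simp <;> ring
    rw [e, mulVec_add, mulVec_smul, mulVec_smul, f1, f2]
  have hK : Nat.card K ∣ 18 := by
    rw [← φ.ker.card_mul_index, Subgroup.index_ker, show (18 : ℕ) = 3 * 6 from rfl]
    refine Nat.mul_dvd_mul ?_ ((Subgroup.card_subgroup_dvd_card _).trans (dvd_of_eq ?_))
    · have h3 : Nat.card Fˣ = 3 := by rw [Nat.card_units, hq4]
      rw [← h3]
      exact Subgroup.card_dvd_of_injective χ hχ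
    · rw [Nat.card_perm, Nat.card_eq_fintype_card, Fintype.card_subtype_compl, hF, Fintype.card_subtype_eq]
      rfl
  rw [← K.card_mul_index, show (270 : ℕ) = 18 * 15 from rfl]
  exact Nat.mul_dvd_mul hK hidx

end CfsgThreeTrans.M22.FiveNorm
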