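/-
Subgroups of order five in the projective unitary group of dimension six over four elements.
-/
import Cfsg.Agent.Lib.ThreeTrans.M22.FiveNorm
import Cfsg.Agent.Lib.ThreeTrans.Seven

set_option autoImplicit false
set_option linter.unusedSectionVars false

namespace CfsgThreeTrans.M22.FiveNorm

open Matrix Cfsg CfsgLib CfsgLib.UnitarySimple CfsgLib.UnitaryTransvection

universe u

variable {F : Type} [Field F] [Fintype F] [DecidableEq F]

/-- The images of the transvections. -/
def TV (hF : Fintype.card F = 2 ^ 2) : Set (PSU 6 F 2) :=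
  {e | ∃ u : Fin 6 → F, u ≠ 0 ∧ Cfsg.hermForm 6 F 2 u u = 0 ∧ e = QuotientGroup.mk (tu hF u)}

theorem five_num : ∀ c e : ℕ, (c = 30 ∨ c = 90) → (e = 1 ∨ e = 2 ∨ e = 4) → c * e ∣ 9196830720 →
    (9196830720 / (c * e)) % 5 = 1 → c = 30 ∧ e = 4 := by
  rintro c e (rfl | rfl) (rfl | rfl | rfl) h h' <;> first | exact ⟨rfl, rfl⟩ | norm_num at h h'

/-- The counts at a subgroup of order five. -/
structure Loc (hF : Fintype.card F = 2 ^ 2) (X : Subgroup (PSU 6 F 2)) : Prop where
  num : (Seven.fx (TV hF) X).ncard = 3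
  nc : ∀ x ∈ Seven.fx (TV hF) X, ∀ y ∈ Seven.fx (TV hF) X, x ≠ y → ¬ Commute x y
  cent : Nat.card ↥(Subgroup.centralizer (X : Set (PSU 6 F 2))) = 30
  norm : Nat.card ↥(Subgroup.normalizer (X : Set (PSU 6 F 2))) = 120

set_option maxHeartbeats 1000000 in
theorem psu_five (hF : Fintype.card F = 2 ^ 2) {X : Subgroup (PSU 6 F 2)} (hX : Nat.card X = 5) : Loc hF X := by
  classical
  haveI : Fact (Nat.Prime 5) := ⟨by norm_num⟩
  set q := QuotientGroup.mk' (Subgroup.center (Cfsg.SU 6 F 2))
  have hq : Function.Surjective q := QuotientGroup.mk'_surjective _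
  have hG : Nat.card (PSU 6 F 2) = 9196830720 := card_psu_eq hF
  have hfac : (9196830720 : ℕ) = 5 * 1839366144 := by norm_num
  have hval : (Nat.card (PSU 6 F 2)).factorization 5 = 1 := by
    rw [hG, hfac, Nat.factorization_mul (by norm_num) (by norm_num), Finsupp.add_apply,
      Nat.Prime.factorization_self (by norm_num), Nat.factorization_eq_zero_of_not_dvd (by norm_num)]
  have hcT : (Nat.card (Subgroup.center (Cfsg.SU 6 F 2))) = 3 := by
    have hc := (SUCover.center_cyclic hF (n := 6) (by norm_num)).2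
    norm_num [-Nat.card_eq_fintype_card] at hc
    exact hc
  have hM : orderOf (cyc F) = 5 := cyc_order
  have hz3 : ∀ z ∈ Subgroup.center (Cfsg.SU 6 F 2), z ^ 3 = 1 := fun z hz => center_cube hF hz
  have hqM : orderOf (q (cyc F)) = 5 := by
    refine orderOf_eq_prime (by rw [← map_pow, ← hM, pow_orderOf_eq_one, map_one]) fun e => ?_
    have h3 := orderOf_dvd_of_pow_eq_one (hz3 _ ((QuotientGroup.eq_one_iff _).mp e))
    rw [hM] at h3
    norm_num at h3
  set X0 := Subgroup.zpowers (q (cyc F))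
  have hX0 : Nat.card X0 = 5 := by rw [Nat.card_zpowers, hqM]
  suffices main : Loc hF X0 by
    let P : Sylow 5 (PSU 6 F 2) := Sylow.ofCard X0 (by rw [hX0, hval, pow_one])
    let R : Sylow 5 (PSU 6 F 2) := Sylow.ofCard X (by rw [hX, hval, pow_one])
    obtain ⟨g, hg⟩ := MulAction.exists_smul_eq (PSU 6 F 2) P R
    have hgX : X0.map (MulAut.conj g).toMonoidHom = X := by
      refine Subgroup.eq_of_le_of_card_ge ?_ (by rw [Eleven.card_map, hX0, hX])
      rintro _ ⟨x, hx, rfl⟩
      have hm : g * x * g⁻¹ ∈ ((g • P : Sylow 5 (PSU 6 F 2)) : Subgroup (PSU 6 F 2)) := by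
        rw [Sylow.coe_subgroup_smul]
        exact Subgroup.smul_mem_pointwise_smul _ _ _ hx
      rw [hg] at hm
      exact hm
    have hTV : MulAut.conj g '' TV hF = TV hF := by
      refine Set.eq_of_subset_of_ncard_le ?_ (Set.ncard_image_of_injective _ (MulAut.conj g).injective).ge
      rintro _ ⟨_, ⟨u, hu, huu, rfl⟩, rfl⟩
      obtain ⟨k, rfl⟩ := hq g
      refine ⟨mat k *ᵥ u, mat_ne_zero _ hu, by rw [su_h, huu], ?_⟩
      show q k * q (tu hF u) * (q k)⁻¹ = q _
      rw [← map_inv, ← map_mul, ← map_mul, tu_conj hF k huu]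
    set e := MulAut.conj g
    have hC : Subgroup.centralizer (X : Set (PSU 6 F 2)) =
        (Subgroup.centralizer (X0 : Set (PSU 6 F 2))).map e.toMonoidHom := by
      rw [← hgX, Eleven.map_centralizer, Subgroup.coe_map]; rfl
    have hfx : Seven.fx (TV hF) X = e '' Seven.fx (TV hF) X0 := by
      show TV hF ∩ _ = _
      rw [hC, Subgroup.coe_map, Set.image_inter e.injective, hTV]
      rfl
    refine ⟨by rw [hfx, Set.ncard_image_of_injective _ e.injective, main.num], ?_, by rw [hC, Eleven.card_map, main.cent],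
      by rw [← hgX, ← Subgroup.map_equiv_normalizer_eq, Eleven.card_map, main.norm]⟩
    rw [hfx]
    rintro _ ⟨x, hx, rfl⟩ _ ⟨y, hy, rfl⟩ hne hc
    exact main.nc x hx y hy (fun e' => hne (by rw [e'])) ((commute_cj_iff g).mp hc)
  set C0 := Subgroup.centralizer (X0 : Set (PSU 6 F 2))
  have hzc : C0 = Subgroup.centralizer ({q (cyc F)} : Set (PSU 6 F 2)) := by
    ext y
    rw [Subgroup.mem_centralizer_singleton_iff, Subgroup.mem_centralizer_iff]
    refine ⟨fun h => (h _ (Subgroup.mem_zpowers _)).symm, fun h z hz => ?_⟩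
    obtain ⟨k, rfl⟩ := Subgroup.mem_zpowers_iff.mp hz
    exact ((show Commute y (q (cyc F)) from h).zpow_right k).eq.symm
  have hC : Subgroup.centralizer ({cyc F} : Set (Cfsg.SU 6 F 2)) = C0.comap q := by
    rw [hzc]
    ext g
    rw [Subgroup.mem_comap, Subgroup.mem_centralizer_singleton_iff, Subgroup.mem_centralizer_singleton_iff]
    refine ⟨fun e => by rw [← map_mul, ← map_mul, e], fun e => ?_⟩
    set M := cyc F
    set z := M⁻¹ * (g * M * g⁻¹)
    have hz : z ∈ Subgroup.center (Cfsg.SU 6 F 2) := (QuotientGroup.eq_one_iff z).mp (by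
      show q z = 1
      simp only [z, map_mul, map_inv, e]
      group)
    have hgz : g * M * g⁻¹ = M * z := (mul_inv_cancel_left M _).symm
    have h5 : z ^ 5 = 1 := by
      have h := congrArg (· ^ 5) hgz
      simp only [conj_pow, (show Commute M z from Subgroup.mem_center_iff.mp hz M).mul_pow] at h
      rwa [← hM, pow_orderOf_eq_one, hM, mul_one, mul_inv_cancel, one_mul, eq_comm] at h
    have hz1 : z = 1 := by
      have := pow_gcd_eq_one.mpr ⟨h5, hz3 z hz⟩
      simpa using this
    rw [hz1, mul_one] at hgz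
    exact mul_inv_eq_iff_eq_mul.mp hgz
  -- the three transvections
  let Pt := {b : F // b ≠ 0}
  let r : Pt → PSU 6 F 2 := fun b => q (tu hF (rv b.1))
  have hcyc : ∀ b : Pt, cyc F * tu hF (rv b.1) = tu hF (rv b.1) * cyc F := fun b => by
    have := tu_conj hF (cyc F) (rv_iso hF b.2)
    rw [rv_fixed] at this
    exact mul_inv_eq_iff_eq_mul.mp this
  have hrne : ∀ b b' : Pt, r b = r b' → b = b' := by
    intro b b' e
    obtain ⟨a, ha⟩ := (mk_eq_iff hF (rv_iso hF b.2) (rv_ne _) (rv_iso hF b'.2)).mp e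
    refine Subtype.ext ?_
    have e0 : a = 1 := by simpa [rv] using (congrFun ha 0).symm
    simpa [rv, e0] using congrFun ha 5
  have hfx : Seven.fx (TV hF) X0 = Set.range r := by
    ext e
    constructor
    · rintro ⟨⟨u, hu, huu, rfl⟩, he⟩
      change q (tu hF u) ∈ C0 at he
      rw [hzc, Subgroup.mem_centralizer_singleton_iff] at he
      have hc := of_mk_commute hF (tu_sq hF huu) (g := cyc F) (k := tu hF u) (show Commute (q (cyc F)) (q (tu hF u)) from he.symm)
      have h1 : tu hF (mat (cyc F) *ᵥ u) = tu hF u := by rw [← tu_conj hF _ huu, hc.eq, mul_inv_cancel_right]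
      obtain ⟨a, ha⟩ := tu_point hF (by rw [su_h, huu]) (mat_ne_zero _ hu) huu h1
      have h5 := five_apply (F := F) u
      simp only [ha, mulVec_smul, smul_smul] at h5
      have ha0 : a ≠ 0 := fun e0 => by rw [e0] at h5; simp at h5; exact hu h5.symm
      have ha5 : a * a * a * a * a = 1 := smul_left_injective F hu (by
        show _ • u = (1 : F) • u
        rw [one_smul]; conv_rhs => rw [← h5])
      have ha1 : a = 1 := by
        have h3 := cube hF ha0
        have h2' : a * a = 1 := by linear_combination ha5 - a * a * h3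
        linear_combination h3 - a * h2'
      obtain ⟨l, b, hl, hb, e⟩ := fixed_iso hF (x := u) (by rw [ha, ha1, one_smul]) hu huu
      exact ⟨⟨b, hb⟩, by rw [e, tu_smul hF (rv_iso hF hb) hl]; rfl⟩
    · rintro ⟨b, rfl⟩
      refine ⟨⟨_, rv_ne _, rv_iso hF b.2, rfl⟩, ?_⟩
      show q (tu hF (rv b.1)) ∈ C0
      rw [hzc, Subgroup.mem_centralizer_singleton_iff, ← map_mul, ← map_mul, hcyc]
  have hPt : Nat.card Pt = 3 := by
    rw [Nat.card_eq_fintype_card, Fintype.card_subtype_compl, hF, Fintype.card_subtype_eq]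
    norm_num
  have hnum : (Seven.fx (TV hF) X0).ncard = 3 := by
    rw [hfx, ← Nat.card_coe_set_eq, Nat.card_range_of_injective fun b b' e => hrne b b' e, hPt]
  have hnc : ∀ x ∈ Seven.fx (TV hF) X0, ∀ y ∈ Seven.fx (TV hF) X0, x ≠ y → ¬ Commute x y := by
    rw [hfx]
    rintro _ ⟨b, rfl⟩ _ ⟨b', rfl⟩ hne hc
    refine hne (congrArg r (Subtype.ext (rv_herm hF b'.2 ?_)))
    exact of_mk_tu_commute hF (rv_iso hF b.2) (rv_ne _) (rv_iso hF b'.2) hc
  -- thirty divides the centraliser
  have hord : ∀ x ∈ Seven.fx (TV hF) X0, orderOf x = 2 := by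
    rw [hfx]
    rintro _ ⟨b, rfl⟩
    refine orderOf_eq_prime (by rw [← map_pow, pow_two, tu_sq hF (rv_iso hF b.2), map_one]) fun e => ?_
    have e' : q (tu hF (rv b.1)) = 1 := e
    haveI : Nontrivial Pt := by rw [← Fintype.one_lt_card_iff_nontrivial, ← Nat.card_eq_fintype_card, hPt]; norm_num
    obtain ⟨b', hb'⟩ := exists_ne b
    refine hnc (r b) (by rw [hfx]; exact ⟨b, rfl⟩) (r b') (by rw [hfx]; exact ⟨b', rfl⟩) (fun h => hb' (hrne _ _ h).symm) ?_
    rw [show r b = 1 from e']
    exact Commute.one_left _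
  have hconj : ∀ x ∈ Seven.fx (TV hF) X0, ∀ y ∈ Seven.fx (TV hF) X0, x * y * x⁻¹ ∈ Seven.fx (TV hF) X0 := by
    intro x hx y hy
    refine ⟨?_, C0.mul_mem (C0.mul_mem hx.2 hy.2) (C0.inv_mem hx.2)⟩
    obtain ⟨u, hu, huu, rfl⟩ := hy.1
    obtain ⟨k, rfl⟩ := hq x
    refine ⟨mat k *ᵥ u, mat_ne_zero _ hu, by rw [su_h, huu], ?_⟩
    show q k * q (tu hF u) * (q k)⁻¹ = q _
    rw [← map_inv, ← map_mul, ← map_mul, tu_conj hF k huu]
  obtain ⟨x, y, w, hxy, hxw, hyw, he⟩ := Set.ncard_eq_three.mp hnum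
  have hx : x ∈ Seven.fx (TV hF) X0 := by rw [he]; simp
  have hy : y ∈ Seven.fx (TV hF) X0 := by rw [he]; simp
  have hxx : x * x = 1 := by
    have := pow_orderOf_eq_one x
    rwa [hord x hx, pow_two] at this
  have hyy : y * y = 1 := by
    have := pow_orderOf_eq_one y
    rwa [hord y hy, pow_two] at this
  have hxi : x⁻¹ = x := inv_eq_of_mul_eq_one_right hxx
  have hyi : y⁻¹ = y := inv_eq_of_mul_eq_one_right hyy
  have hbr : x * y * x = y * x * y := by
    have h1 : x * y * x⁻¹ = w := by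
      have := hconj x hx y hy
      rw [he] at this
      rcases this with e | e | e
      · exact absurd ((cj_injective x (show x * y * x⁻¹ = x * x * x⁻¹ from e.trans (by group)))).symm hxy
      · exact absurd (mul_inv_eq_iff_eq_mul.mp e) (hnc x hx y hy hxy)
      · exact e
    have h2 : y * x * y⁻¹ = w := by
      have := hconj y hy x hx
      rw [he] at this
      rcases this with e | e | e
      · exact absurd (mul_inv_eq_iff_eq_mul.mp e).symm (hnc x hx y hy hxy)
      · exact absurd (cj_injective y (show y * x * y⁻¹ = y * y * y⁻¹ from e.trans (by group))) hxy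
      · exact e
    rw [hxi] at h1; rw [hyi] at h2
    rw [h1, h2]
  have h3 : orderOf (x * y) = 3 := by
    haveI : Fact (Nat.Prime 3) := ⟨by norm_num⟩
    refine orderOf_eq_prime ?_ fun e => hxy ?_
    · calc (x * y) ^ 3 = (x * y * x) * (y * x * y) := by simp [pow_succ, mul_assoc]
        _ = (y * x * y) * (y * x * y) := by rw [hbr]
        _ = y * x * (y * y) * x * y := by group
        _ = 1 := by rw [hyy, mul_one, mul_assoc y x x, hxx, mul_one, hyy]
    · rw [← hyi]; exact eq_inv_of_mul_eq_one_left e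
  have h30 : 30 ∣ Nat.card C0 := by
    have d5 : 5 ∣ Nat.card C0 := by
      rw [← hqM]
      exact Subgroup.orderOf_dvd_natCard _ (by rw [hzc]; exact Subgroup.mem_centralizer_singleton_iff.mpr rfl)
    have d2 : 2 ∣ Nat.card C0 := (dvd_of_eq (hord x hx).symm).trans (Subgroup.orderOf_dvd_natCard C0 hx.2)
    have d3 : 3 ∣ Nat.card C0 := h3 ▸ Subgroup.orderOf_dvd_natCard _ (C0.mul_mem hx.2 hy.2)
    omega
  have hcomap : Nat.card (C0.comap q) = 3 * Nat.card C0 := by
    have e2 := (C0.comap q).card_mul_index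
    rw [Subgroup.index_comap_of_surjective _ hq] at e2
    have e3 := C0.card_mul_index
    have e1 := Subgroup.card_eq_card_quotient_mul_card_subgroup (Subgroup.center (Cfsg.SU 6 F 2))
    rw [hcT] at e1
    change Nat.card (Cfsg.SU 6 F 2) = Nat.card (PSU 6 F 2) * 3 at e1
    rw [e1, ← e3] at e2
    exact Nat.eq_of_mul_eq_mul_right (Nat.pos_of_ne_zero C0.index_ne_zero_of_finite) (by rw [e2]; ring)
  have hd := su_cent_five hF
  rw [hC, hcomap, show (270 : ℕ) = 3 * 90 from rfl] at hd
  have hd' : Nat.card C0 ∣ 90 := Nat.dvd_of_mul_dvd_mul_left (by norm_num) hd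
  have hcases : Nat.card C0 = 30 ∨ Nat.card C0 = 90 := by
    have hle : Nat.card C0 ≤ 90 := Nat.le_of_dvd (by norm_num) hd'
    obtain ⟨j, hj⟩ := h30
    rw [hj] at hd' hle ⊢
    have : j ≤ 3 := by omega
    interval_cases j <;> norm_num at hd' <;> simp
  set N := Subgroup.normalizer (X0 : Set (PSU 6 F 2))
  obtain ⟨e, he', hcard⟩ : ∃ e, (e = 1 ∨ e = 2 ∨ e = 4) ∧ Nat.card N = Nat.card C0 * e := by
    let φ := X0.normalizerMonoidHom
    have hker : Nat.card φ.ker = Nat.card C0 := by
      rw [Subgroup.normalizerMonoidHom_ker]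
      exact Nat.card_congr (Subgroup.subgroupOfEquivOfLe (Subgroup.centralizer_le_normalizer _)).toEquiv
    refine ⟨φ.ker.index, ?_, by rw [← hker, φ.ker.card_mul_index]⟩
    haveI : IsCyclic X0 := isCyclic_of_prime_card hX0
    have haut : Nat.card (MulAut X0) = 4 := by
      rw [IsCyclic.card_mulAut X0, hX0, Nat.totient_prime (by norm_num)]
    have hdvd : φ.ker.index ∣ 4 := by
      rw [Subgroup.index_ker]
      exact (Subgroup.card_subgroup_dvd_card _).trans (dvd_of_eq haut)
    have := Nat.le_of_dvd (by norm_num) hdvd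
    interval_cases h : φ.ker.index <;> omega
  let S : Sylow 5 (PSU 6 F 2) := Sylow.ofCard X0 (by rw [hX0, hval, pow_one])
  have hmod : N.index ≡ 1 [MOD 5] := by
    have := card_sylow_modEq_one (p := 5) (G := PSU 6 F 2)
    rwa [S.card_eq_index_normalizer] at this
  have hNi := N.card_mul_index
  rw [hG, hcard] at hNi
  have hdiv : Nat.card C0 * e ∣ 9196830720 := ⟨_, hNi.symm⟩
  have hq' : 9196830720 / (Nat.card C0 * e) = N.index := by
    rw [← hNi, Nat.mul_div_cancel_left _ (Nat.pos_of_ne_zero fun h0 => by rw [h0, zero_mul] at hNi; norm_num at hNi)]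
  obtain ⟨r1, r2⟩ := five_num _ _ hcases he' hdiv (by rw [hq']; exact hmod)
  exact ⟨hnum, hnc, r1, by rw [hcard, r1, r2]⟩

end CfsgThreeTrans.M22.FiveNorm
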