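/-
Subgroups of order five in a group of type M(22).
-/
import Cfsg.Agent.Lib.ThreeTrans.Five
import Cfsg.Agent.Lib.ThreeTrans.Petersen
import Cfsg.Agent.Lib.ThreeTrans.M22.FivePSU

set_option autoImplicit false
set_option linter.unusedSectionVars false

namespace CfsgThreeTrans.M22.FiveNorm

open Cfsg CfsgLib CfsgLib.UnitarySimple
open scoped Pointwise

universe u

variable {G : Type u} [Group G] [Finite G] {D : Set G}
variable {F : Type} [Field F] [Fintype F] [DecidableEq F] {hF : Fintype.card F = 2 ^ 2}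

abbrev P5 := Equiv.Perm (Fin 5)

theorem perm_frobenius :
    ((finRotate 5) ^ 5 = 1 ∧ finRotate 5 ≠ 1) ∧
    (Equiv.swap (1 : Fin 5) 2 * Equiv.swap 2 4 * Equiv.swap 4 3) * finRotate 5 *
      (Equiv.swap (1 : Fin 5) 2 * Equiv.swap 2 4 * Equiv.swap 4 3)⁻¹ = (finRotate 5) ^ 2 ∧
    (Equiv.swap (1 : Fin 5) 2 * Equiv.swap 2 4 * Equiv.swap 4 3) ^ 2 = Equiv.swap 1 4 * Equiv.swap 2 3 ∧
    (Equiv.swap (1 : Fin 5) 2 * Equiv.swap 2 4 * Equiv.swap 4 3) ^ 4 = 1 ∧
    (Equiv.swap (1 : Fin 5) 4 ≠ Equiv.swap 2 3 ∧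
      Equiv.swap (1 : Fin 5) 4 * Equiv.swap 2 3 = Equiv.swap 2 3 * Equiv.swap 1 4) := by decide +kernel

theorem perm_exponent : ∀ i j : Fin 5, i ≠ j → ∀ σ : P5, σ * Equiv.swap i j = Equiv.swap i j * σ → σ ^ 4 = 1 →
    σ ^ 2 = 1 := by decide +kernel

/-- The conclusions at a subgroup of order five. -/
structure Good (D : Set G) (X : Subgroup G) : Prop where
  num : (Five.fx D X).ncard = 10
  near : ∀ x ∈ Five.fx D X, (Five.nr D X x).ncard = 3
  nc : ∀ x ∈ Five.fx D X, ∀ y ∈ Five.nr D X x, ∀ z ∈ Five.nr D X x, y ≠ z → ¬ Commute y z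
  cent : Nat.card ↥(Subgroup.centralizer (X : Set G)) = 600
  norm : Nat.card ↥(Subgroup.normalizer (X : Set G)) = 2400
  bot : X ⊓ Subgroup.closure (Five.fx D X) = ⊥
  product : ∃ E : Subgroup G, Nat.card E = 20 ∧ X ≤ E ∧ E ⊓ Subgroup.centralizer (X : Set G) = X ∧
      E ⊓ Subgroup.closure (Five.fx D X) = ⊥ ∧ (∀ x ∈ E, ∀ y ∈ Subgroup.closure (Five.fx D X), x * y = y * x) ∧
      E ⊔ Subgroup.closure (Five.fx D X) = Subgroup.normalizer (X : Set G)
  model : ∃ φ : P5 →* G, Function.Injective φ ∧ φ.range = Subgroup.closure (Five.fx D X) ∧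
      (∀ i j : Fin 5, i ≠ j → φ (Equiv.swap i j) ∈ Five.fx D X) ∧
      ∀ y ∈ Five.fx D X, ∃ i j : Fin 5, i ≠ j ∧ φ (Equiv.swap i j) = y

theorem fx_stable (hD : IsThreeTranspositionClass D) {X : Subgroup G} {n y : G}
    (hn : n ∈ Subgroup.normalizer (X : Set G)) (hy : y ∈ Five.fx D X) : n * y * n⁻¹ ∈ Five.fx D X := by
  refine ⟨cls_conj hD n hy.1, Subgroup.mem_centralizer_iff.mpr fun x hx => ?_⟩
  obtain ⟨z, hz, rfl⟩ : ∃ z ∈ X, n * z * n⁻¹ = x :=
    ⟨n⁻¹ * x * n⁻¹⁻¹, (Subgroup.mem_normalizer_iff.mp (inv_mem hn) x).mp hx, by group⟩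
  exact ((commute_cj_iff n).mpr (show Commute z y from Subgroup.mem_centralizer_iff.mp hy.2 z hz)).eq

set_option maxHeartbeats 1000000 in
/-- Every subgroup of order five centralises ten transpositions. -/
theorem five_level (hD : IsThreeTranspositionClass D) (hp : IsPrimitiveUnderConj D)
    (hloc : ∃ d ∈ D, LocalOK D d) (hZ : Subgroup.center G = ⊥) (A : Data D F hF) :
    (∀ X Y : Subgroup G, Nat.card X = 5 → Nat.card Y = 5 → ∃ g : G, X.map (MulAut.conj g).toMonoidHom = Y) ∧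
      ∀ X : Subgroup G, Nat.card X = 5 → Good D X := by
  classical
  haveI : Fact (Nat.Prime 5) := ⟨by norm_num⟩
  have hCe := centralizer_eq hD hp hloc hZ A A.ht
  set C := Subgroup.centralizer ({A.t} : Set G) with hC
  set q : C →* PSU 6 F 2 := A.φ.comp (MulEquiv.subgroupCongr hCe).toMonoidHom with hq
  have hqv : ∀ (y : C) (hy : (y : G) ∈ Subgroup.closure (Ds D A.t)), q y = A.φ ⟨y, hy⟩ := fun y hy => rfl
  have hin : ∀ y : C, (y : G) ∈ Subgroup.closure (Ds D A.t) := fun y => hCe ▸ y.2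
  have hker : ∀ y : C, q y = 1 ↔ (y : G) = 1 ∨ (y : G) = A.t := by
    intro y
    rw [hqv y (hin y), ← MonoidHom.mem_ker, A.ker_φ, center_closure hD hp hloc hZ A A.ht, Subgroup.mem_subgroupOf]
    constructor
    · intro h
      obtain ⟨j, hj⟩ := Subgroup.mem_zpowers_iff.mp h
      have h2 : A.t ^ 2 = 1 := by rw [← hD.1.1 A.t A.ht, pow_orderOf_eq_one]
      rcases Int.even_or_odd' j with ⟨i, rfl | rfl⟩
      · left
        rw [← hj, zpow_mul, zpow_ofNat, h2, one_zpow]
      · right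
        rw [← hj, zpow_add, zpow_mul, zpow_ofNat, h2, one_zpow, one_mul, zpow_one]
    · rintro (e | e)
      · exact e ▸ one_mem _
      · rw [show ((⟨y, hin y⟩ : ↥(Subgroup.closure (Ds D A.t))) : G) = A.t from e]
        exact Subgroup.mem_zpowers _
  obtain ⟨hconj, ⟨X₀, hX₀, hX₀C⟩, hat⟩ := Five.step True (E := TV hF) (k := 3) (j := 0) (c := 30) (n := 3510) (m := 693)
    (a := 9196830720) hD hp (has_pair A) A.ht hC q (by
      intro z
      obtain ⟨x, hx⟩ := A.sur z
      exact ⟨⟨x, hCe.symm ▸ x.2⟩, hx⟩)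
    (fun z h => (hker z).mp h) (fun z h => (hker z).mpr (Or.inr h))
    (by
      ext e
      constructor
      · rintro ⟨u, hu, huu, rfl⟩
        obtain ⟨y, hy, hy', e⟩ := A.lift u hu huu
        exact ⟨⟨y, hCe.symm ▸ hy⟩, hy', e⟩
      · rintro ⟨y, hy, rfl⟩
        obtain ⟨u, hu, huu, e⟩ := A.pt y hy (hin y)
        exact ⟨u, hu, huu, e⟩)
    (fun y hy y' hy' e => Subtype.ext (A.inj y hy y' hy' (hin y) (hin y') e))
    (fun y y' hy hy' e => A.comm y hy y' hy' (hin y) (hin y') e)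
    (params hD hp A).1 (ncard_Ds hD A A.ht) (card_psu_eq hF) (by norm_num) (fun _ => by norm_num)
    (fun Y Y' hY hY' => by
      obtain ⟨g, -, hg⟩ := Five.conj_in (H := (⊤ : Subgroup (PSU 6 F 2)))
        (by rw [Subgroup.card_top, card_psu_eq hF]; norm_num) hY hY' le_top le_top
      exact ⟨g, hg⟩)
    (fun Y hY => by
      have hl := psu_five hF hY
      refine ⟨hl.num, hl.cent, by rw [hl.norm], fun b hb => ?_, fun h4 => absurd h4 (by norm_num)⟩
      have h0 : Five.fx (TV hF) Y ∩ Ds (TV hF) b = ∅ :=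
        Set.eq_empty_of_forall_notMem fun y hy => hl.nc b hb y hy.1 hy.2.2.1.symm hy.2.2.2
      exact ⟨by rw [h0, Set.ncard_empty], fun _ x hx => by rw [h0] at hx; exact hx.elim⟩)
  have hfix : ∀ X : Subgroup G, Nat.card X = 5 → (Five.fx D X).Nonempty → Good D X := by
    intro X hX ⟨s, hs⟩
    set S := Five.fx D X with hS
    have hall : ∀ x ∈ S, Five.At D X x 3 0 30 ((3510 - 1 - 693) % 5) True := hat X hX
    have hnear : ∀ x ∈ S, (Five.nr D X x).ncard = 3 := fun x hx => (hall x hx).near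
    have hnc : ∀ x ∈ S, ∀ y ∈ Five.nr D X x, ∀ z ∈ Five.nr D X x, y ≠ z → ¬ Commute y z := by
      intro x hx y hy z hz hne hc
      have h0 := (Set.ncard_eq_zero (Set.toFinite _)).mp ((hall x hx).sub y hy)
      exact (Set.eq_empty_iff_forall_notMem.mp h0) z ⟨hz, hz.1.1, hne.symm, hc⟩
    have hVX : Subgroup.closure S ≤ Subgroup.centralizer (X : Set G) := (Subgroup.closure_le _).mpr fun y hy => hy.2
    have hVN : Subgroup.closure S ≤ Subgroup.normalizer (X : Set G) := hVX.trans (Subgroup.centralizer_le_normalizer _)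
    set W := {y | y ∈ S ∧ ¬ Commute s y} with hW
    obtain ⟨b1, b2, b3, n12, n13, n23, hb⟩ := Set.ncard_eq_three.mp (hnear s hs)
    have hb1 : b1 ∈ Five.nr D X s := by rw [hb]; simp
    have hsb : s ∈ Five.nr D X b1 := ⟨hs, hs.1, hb1.2.2.1.symm, hb1.2.2.2.symm⟩
    obtain ⟨a, ha, has⟩ : ∃ a ∈ Five.nr D X b1, a ≠ s :=
      Set.exists_ne_of_one_lt_ncard (by rw [hnear b1 hb1.1]; norm_num) s
    have haW : a ∈ W := ⟨ha.1, hnc b1 hb1.1 s hsb a ha has.symm⟩
    have hsub : W ⊆ (Five.nr D X b1 \ {s} ∪ Five.nr D X b2 \ {s}) ∪ Five.nr D X b3 \ {s} := by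
      intro y hy
      obtain ⟨g, ⟨hgN, hgs⟩, rfl⟩ := (hall s hs).farTrans trivial a haW y hy
      have hgs' : g * s * g⁻¹ = s := mem_cent.mp hgs
      have hbS : g * b1 * g⁻¹ ∈ Five.nr D X s :=
        ⟨fx_stable hD hgN hb1.1, cj_mem_Ds hD hb1.2 hgs'⟩
      have hmem : g * a * g⁻¹ ∈ Five.nr D X (g * b1 * g⁻¹) \ {s} :=
        ⟨⟨fx_stable hD hgN ha.1, cls_conj hD g ha.1.1, fun e => ha.2.2.1 (cj_injective g e),
          (commute_cj_iff g).mpr ha.2.2.2⟩, fun e => hy.2 (by rw [Set.mem_singleton_iff.mp e])⟩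
      rw [hb] at hbS
      rcases hbS with e | e | e <;> rw [e] at hmem
      exacts [Or.inl (Or.inl hmem), Or.inl (Or.inr hmem), Or.inr hmem]
    have htwo : ∀ x, x ∈ Five.nr D X s → (Five.nr D X x \ {s}).ncard = 2 := by
      intro x hx
      have := Set.ncard_diff_singleton_add_one (show s ∈ Five.nr D X x from ⟨hs, hs.1, hx.2.2.1.symm, hx.2.2.2.symm⟩)
      rw [hnear x hx.1] at this
      omega
    have hf : W.ncard = 6 := by
      have h1 := (Set.ncard_le_ncard hsub (Set.toFinite _)).trans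
        ((Set.ncard_union_le _ _).trans (Nat.add_le_add_right (Set.ncard_union_le _ _) _))
      rw [htwo b1 hb1, htwo b2 (by rw [hb]; simp), htwo b3 (by rw [hb]; simp)] at h1
      have h2 : 1 < W.ncard := (Set.one_lt_ncard (Set.toFinite _)).mpr ⟨a, haW, s * a * s⁻¹,
        ⟨fx_stable hD (hVN (Subgroup.subset_closure hs)) haW.1, fun h => haW.2 ((commute_cj_iff s).mp (by
          rwa [show s * s * s⁻¹ = s by group]))⟩, fun e => haW.2 (mul_inv_eq_iff_eq_mul.mp e.symm)⟩
      have h3 : W.ncard % 5 = 1 := (hall s hs).far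
      omega
    have hnum : S.ncard = 10 := by
      have hsplit : S = insert s (Five.nr D X s) ∪ W := by
        ext y
        refine ⟨fun hy => ?_, ?_⟩
        · by_cases e : y = s
          · exact Or.inl (Or.inl e)
          by_cases hc : Commute s y
          · exact Or.inl (Or.inr ⟨hy, hy.1, e, hc⟩)
          · exact Or.inr ⟨hy, hc⟩
        · rintro ((rfl | h) | h)
          exacts [hs, h.1, h.1]
      rw [hsplit, Set.ncard_union_eq ?_, Set.ncard_insert_of_notMem (fun h => h.2.2.1 rfl), hf, hnear s hs]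
      rw [Set.disjoint_left]
      rintro y (rfl | h) h'
      exacts [h'.2 (Commute.refl _), h'.2 h.2.2.2]
    have hSD : ∀ x ∈ S, x ∈ D := fun x hx => hx.1
    have hcS : ∀ x ∈ S, ∀ y ∈ S, x * y * x⁻¹ ∈ S := fun x hx y hy =>
      fx_stable hD (hVN (Subgroup.subset_closure hx)) hy
    obtain ⟨φ, hφ, hrange, hsw, hsurj, hcount, hcount'⟩ := Petersen.main hD.1 hSD hcS hnum hnear hnc
    have c1 := hcount _ hVX fun k hk x hx => fx_stable hD (Subgroup.centralizer_le_normalizer _ hk) hx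
    have n1 := hcount _ hVN fun k hk x hx => fx_stable hD hk hx
    have c2 := hcount' _ hVX (fun k hk x hx => fx_stable hD (Subgroup.centralizer_le_normalizer _ hk) hx) s hs
    have n2 := hcount' _ hVN (fun k hk x hx => fx_stable hD hk hx) s hs
    rw [(hall s hs).cent] at c2
    rw [(hall s hs).norm] at n2
    have hbot : X ⊓ Subgroup.closure S = ⊥ := by
      rw [eq_bot_iff]
      rintro x ⟨hx, hx'⟩
      rw [SetLike.mem_coe, ← hrange] at hx'
      obtain ⟨σ, rfl⟩ := hx'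
      have : σ = 1 := Petersen.perm_commutes σ fun i => hφ (by
        rw [map_mul, map_mul]
        exact Subgroup.mem_centralizer_iff.mp
          (hsw i.castSucc i.succ (ne_of_lt Fin.castSucc_lt_succ)).2 _ hx)
      rw [Subgroup.mem_bot, this, map_one]
    have hV : Nat.card ↥(Subgroup.closure S) = 120 := by
      rw [← hrange, ← Nat.card_congr (MonoidHom.ofInjective hφ).toEquiv, Nat.card_perm, Nat.card_fin]; rfl
    exact ⟨hnum, hnear, hnc, by omega, by omega, hbot, Five.product hX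
      (show Nat.card ↥(Subgroup.normalizer (X : Set G) ⊓ Subgroup.centralizer S) = 20 by omega)
      (show Nat.card ↥(Subgroup.centralizer (X : Set G) ⊓ Subgroup.centralizer S) = 5 by omega)
      (show _ = 20 * Nat.card ↥(Subgroup.closure S) by rw [hV]; omega) hbot, φ, hφ, hrange, hsw, hsurj⟩
  -- a chain among the partners of the base member
  have hv : ∀ u : Fin 6 → F, u ≠ 0 → Cfsg.hermForm 6 F 2 u u = 0 → ∃ x : Iso F, x.1 = u :=
    fun u hu huu => ⟨⟨u, hu, huu⟩, rfl⟩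
  have h2 := two_zero hF
  obtain ⟨x1, e1⟩ := hv ![1, 1, 0, 0, 0, 0] (fun e => by simpa using congrFun e 0)
    (by simp [Cfsg.hermForm, Fin.sum_univ_six]; linear_combination h2)
  obtain ⟨x2, e2⟩ := hv ![0, 1, 1, 0, 0, 0] (fun e => by simpa using congrFun e 1)
    (by simp [Cfsg.hermForm, Fin.sum_univ_six]; linear_combination h2)
  obtain ⟨x3, e3⟩ := hv ![0, 0, 1, 1, 0, 0] (fun e => by simpa using congrFun e 2)
    (by simp [Cfsg.hermForm, Fin.sum_univ_six]; linear_combination h2)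
  obtain ⟨x4, e4⟩ := hv ![0, 0, 0, 1, 1, 0] (fun e => by simpa using congrFun e 3)
    (by simp [Cfsg.hermForm, Fin.sum_univ_six]; linear_combination h2)
  have hc : ∀ x y : Iso F, Cfsg.hermForm 6 F 2 x.1 y.1 = 0 ↔ Commute (point A x) (point A y) :=
    fun x y => (point_commute_iff A x y).symm
  obtain ⟨ψ, hψ, f1, f2, f3, f4, hψr⟩ := Petersen.exists_hom_five hD.1 (point_mem A x1).1 (point_mem A x2).1
    (point_mem A x3).1 (point_mem A x4).1
    (fun h => by have := (hc x1 x2).mpr h; rw [e1, e2] at this; simp [Cfsg.hermForm, Fin.sum_univ_six] at this)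
    ((hc x1 x3).mp (by rw [e1, e3]; simp [Cfsg.hermForm, Fin.sum_univ_six]))
    ((hc x1 x4).mp (by rw [e1, e4]; simp [Cfsg.hermForm, Fin.sum_univ_six]))
    (fun h => by have := (hc x2 x3).mpr h; rw [e2, e3] at this; simp [Cfsg.hermForm, Fin.sum_univ_six] at this)
    ((hc x2 x4).mp (by rw [e2, e4]; simp [Cfsg.hermForm, Fin.sum_univ_six]))
    (fun h => by have := (hc x3 x4).mpr h; rw [e3, e4] at this; simp [Cfsg.hermForm, Fin.sum_univ_six] at this)
    (fun h => by
      obtain ⟨l, hl, e⟩ := (point_eq_iff A x1 x3).mp h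
      rw [e1, e3] at e
      simpa using congrFun e 0)
  have hψC : ∀ σ, ψ σ ∈ C := by
    intro σ
    have hle : ψ.range ≤ C := by
      rw [hψr, Subgroup.closure_le]
      rintro x (rfl | rfl | rfl | rfl) <;>
        exact Subgroup.mem_centralizer_singleton_iff.mpr (point_mem A _).2.2.eq.symm
    exact hle ⟨σ, rfl⟩
  have hψD : ∀ i j : Fin 5, i ≠ j → ψ (Equiv.swap i j) ∈ D := by
    intro i j hij
    obtain ⟨σ, hσ⟩ := Petersen.perm_pair i j hij
    rw [← hσ, map_mul, map_mul, map_inv, f1]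
    exact cls_conj hD _ (point_mem A x1).1
  obtain ⟨⟨r5, r1⟩, rconj, rsq, r4, rne, rcomm⟩ := perm_frobenius
  set y := ψ (finRotate 5)
  set σ4 : P5 := Equiv.swap (1 : Fin 5) 2 * Equiv.swap 2 4 * Equiv.swap 4 3
  set Y := Subgroup.zpowers y
  have hy5 : orderOf y = 5 := by
    rw [orderOf_injective ψ hψ]
    exact orderOf_eq_prime r5 r1
  have hY : Nat.card Y = 5 := by rw [Nat.card_zpowers, hy5]
  have htY : A.t ∈ Five.fx D Y := ⟨A.ht, Subgroup.mem_centralizer_iff.mpr fun x hx => by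
    have hxC : x ∈ C := Subgroup.zpowers_le.mpr (hψC _) hx
    exact Subgroup.mem_centralizer_singleton_iff.mp hxC⟩
  have hgY := hfix Y hY ⟨A.t, htY⟩
  set s4 := ψ σ4
  have hs4N : s4 ∈ Subgroup.normalizer (Y : Set G) := by
    refine Eleven.mem_norm fun x hx => ?_
    obtain ⟨k, rfl⟩ := Subgroup.mem_zpowers_iff.mp hx
    rw [← conj_zpow, show s4 * y * s4⁻¹ = y ^ 2 by rw [← map_inv, ← map_mul, ← map_mul, rconj, map_pow]]
    exact zpow_mem (pow_mem (Subgroup.mem_zpowers y) 2) k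
  obtain ⟨φ, hφ, hrange, hsw, hsurj⟩ := hgY.model
  obtain ⟨E, hE20, hYE, hEC, hEV, hcomm, hsup⟩ := hgY.product
  set V := Subgroup.closure (Five.fx D Y)
  let M : E × V →* G := MonoidHom.noncommCoprod E.subtype V.subtype fun a b => hcomm a a.2 b b.2
  obtain ⟨⟨f, v⟩, hfv⟩ : s4 ∈ M.range := by
    rw [show M.range = E ⊔ V from (MonoidHom.noncommCoprod_range _ _ _).trans
      (by rw [Subgroup.range_subtype, Subgroup.range_subtype]), hsup]
    exact hs4N
  have hfv' : (f : G) * v = s4 := hfv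
  obtain ⟨σ, hσ⟩ : (v : G) ∈ φ.range := hrange.symm ▸ v.2
  have hcf : ∀ x ∈ V, Commute (f : G) x := fun x hx => hcomm f f.2 x hx
  have hσ4 : σ ^ 4 = 1 := by
    refine hφ ?_
    rw [map_pow, map_one, hσ]
    have h : (f : G) ^ 4 * (v : G) ^ 4 = 1 := by
      rw [← (hcf v v.2).mul_pow, hfv', ← map_pow, r4, map_one]
    have hm : (f : G) ^ 4 ∈ E ⊓ V := ⟨pow_mem f.2 4, by
      rw [eq_inv_of_mul_eq_one_left h]; exact V.inv_mem (pow_mem v.2 4)⟩
    rw [hEV, Subgroup.mem_bot] at hm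
    rwa [hm, one_mul] at h
  have hact : ∀ x ∈ Five.fx D Y, s4 * x * s4⁻¹ = (v : G) * x * (v : G)⁻¹ := by
    intro x hx
    rw [← hfv', ← cj_cj, (hcf _ (V.mul_mem (V.mul_mem v.2 (Subgroup.subset_closure hx)) (V.inv_mem v.2))).eq,
      mul_inv_cancel_right]
  have hσt : σ ^ 2 = 1 := by
    obtain ⟨i, j, hij, e⟩ := hsurj A.t htY
    refine perm_exponent i j hij σ (hφ ?_) hσ4
    rw [map_mul, map_mul, e, hσ]
    refine mul_inv_eq_iff_eq_mul.mp ?_
    rw [← hact A.t htY]
    exact mul_inv_eq_iff_eq_mul.mpr (Subgroup.mem_centralizer_singleton_iff.mp (hψC σ4))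
  set u := ψ (Equiv.swap 1 4)
  set w := ψ (Equiv.swap 2 3)
  have huD : u ∈ D := hψD 1 4 (by decide)
  have hu : ∀ x ∈ Five.fx D Y, Commute u x := by
    intro x hx
    have hv2 : (v : G) * v = 1 := by rw [← hσ, ← map_mul, ← pow_two, hσt, map_one]
    have hfix2 : (u * w) * x * (u * w)⁻¹ = x := by
      rw [show u * w = s4 * s4 by rw [← map_mul, ← map_mul, ← pow_two, rsq], ← cj_cj, hact x hx,
        hact _ (fx_stable hD ((Subgroup.centralizer_le_normalizer _) ((Subgroup.closure_le _).mpr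
          (fun z hz => hz.2) v.2)) hx), cj_cj, hv2]
      group
    have hc : Commute x (u * w) := (mul_inv_eq_iff_eq_mul.mp hfix2).symm
    have hcw : Commute u w := (show Commute (Equiv.swap (1 : Fin 5) 4) (Equiv.swap 2 3) from rcomm).map ψ
    exact ((commute_mul_iff hD.1 huD (hψD 2 3 (by decide)) hx.1 (fun e => rne (hψ e)) hcw).mp hc).1.symm
  set z := φ (finRotate 5)
  set Z := Subgroup.zpowers z
  have hz5 : orderOf z = 5 := by
    rw [orderOf_injective φ hφ]
    exact orderOf_eq_prime r5 r1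
  have hZ5 : Nat.card Z = 5 := by rw [Nat.card_zpowers, hz5]
  have hZV : Z ≤ V := Subgroup.zpowers_le.mpr (hrange ▸ ⟨_, rfl⟩)
  have huZ : u ∈ Five.fx D Z := ⟨huD, Subgroup.mem_centralizer_iff.mpr fun x hx => by
    have hle : V ≤ Subgroup.centralizer ({u} : Set G) := (Subgroup.closure_le _).mpr fun a ha =>
      Subgroup.mem_centralizer_singleton_iff.mpr (hu a ha).eq.symm
    exact Subgroup.mem_centralizer_singleton_iff.mp (hle (hZV hx))⟩
  have hYZ : Y ≠ Z := fun e => by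
    have h : y ∈ Y ⊓ V := ⟨Subgroup.mem_zpowers y, hZV (e ▸ Subgroup.mem_zpowers y)⟩
    rw [hgY.bot, Subgroup.mem_bot] at h
    rw [h, orderOf_one] at hy5
    norm_num at hy5
  have hyz : Commute y z := Subgroup.mem_centralizer_iff.mp
    ((Subgroup.closure_le (Subgroup.centralizer (Y : Set G))).mpr (fun a ha => ha.2) (hZV (Subgroup.mem_zpowers z)))
    y (Subgroup.mem_zpowers y)
  -- a Sylow subgroup
  let MP : Y × Z →* G := MonoidHom.noncommCoprod Y.subtype Z.subtype fun a b => by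
    obtain ⟨i, hi⟩ := Subgroup.mem_zpowers_iff.mp a.2
    obtain ⟨j, hj⟩ := Subgroup.mem_zpowers_iff.mp b.2
    show Commute (a : G) (b : G)
    rw [← hi, ← hj]
    exact (hyz.zpow_left i).zpow_right j
  have hMP : Function.Injective MP := by
    rw [injective_iff_map_eq_one]
    rintro ⟨a, b⟩ hab
    have e : (a : G) * b = 1 := hab
    have hm : (a : G) ∈ Y ⊓ V := ⟨a.2, by rw [eq_inv_of_mul_eq_one_left e]; exact V.inv_mem (hZV b.2)⟩
    rw [hgY.bot, Subgroup.mem_bot] at hm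
    rw [hm, one_mul] at e
    exact Prod.ext (Subtype.ext hm) (Subtype.ext e)
  set P := MP.range
  have hP : Nat.card P = 25 := by
    rw [← Nat.card_congr (MonoidHom.ofInjective hMP).toEquiv, Nat.card_prod, hY, hZ5]
  have hPab : ∀ a ∈ P, a ^ 5 = 1 := by
    rintro _ ⟨⟨a, b⟩, rfl⟩
    rw [← map_pow]
    have ha : a ^ 5 = 1 := hY ▸ pow_card_eq_one'
    have hb : b ^ 5 = 1 := hZ5 ▸ pow_card_eq_one'
    rw [Prod.pow_mk, ha, hb]
    exact map_one MP
  have hYP : Y ≤ P := fun a ha => ⟨(⟨a, ha⟩, 1), by simp [MP]⟩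
  have hZP : Z ≤ P := fun b hb => ⟨(1, ⟨b, hb⟩), by simp [MP]⟩
  have hcard : Nat.card G = 3510 * (2 * 9196830720) := by
    rw [card_group hD hp hloc hZ A, card_psu_eq hF]
  have hCx : ∀ x ∈ D, Nat.card ↥(Subgroup.centralizer ({x} : Set G)) = 2 * 9196830720 := fun x hx => by
    rw [card_centralizer hD hp hloc hZ A hx, card_psu_eq hF]
  have hfac : (64561751654400 : ℕ) = 25 * 2582470066176 := by norm_num
  have hv2' : (Nat.card G).factorization 5 = 2 := by
    rw [hcard, show (3510 * (2 * 9196830720) : ℕ) = 64561751654400 by norm_num, hfac,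
      Nat.factorization_mul (by norm_num) (by norm_num), Finsupp.add_apply, show (25 : ℕ) = 5 ^ 2 by norm_num,
      Nat.Prime.factorization_pow (by norm_num), Finsupp.single_eq_same,
      Nat.factorization_eq_zero_of_not_dvd (by norm_num)]
  let SP : Sylow 5 G := Sylow.ofCard P (by rw [hP, hv2']; norm_num)
  -- every subgroup of order five in it centralises a transposition
  haveI : Fintype G := Fintype.ofFinite G
  haveI : Fintype (Subgroup G) := Fintype.ofFinite _
  have hcons : ∀ Q : Subgroup G, Q ≤ P → Nat.card Q = 5 → (Five.fx D Q).Nonempty := by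
    intro Q₀ hQ₀P hQ₀
    by_contra hno
    let 𝒦 : Finset (Subgroup G) := Finset.univ.filter fun Q => Q ≤ P ∧ Nat.card Q = 5 ∧ (Five.fx D Q).Nonempty
    have hmem : ∀ Q ∈ 𝒦, Q ≤ P ∧ Nat.card Q = 5 ∧ (Five.fx D Q).Nonempty := fun Q hQ => (Finset.mem_filter.mp hQ).2
    have htriv : ∀ Q Q' : Subgroup G, Nat.card Q = 5 → Nat.card Q' = 5 → ∀ a, a ∈ Q → a ∈ Q' → a ≠ 1 → Q = Q' := by
      intro Q Q' hQ hQ' a ha ha' ha1
      have e : ∀ R : Subgroup G, Nat.card R = 5 → a ∈ R → Subgroup.zpowers a = R := fun R hR haR => by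
        refine Subgroup.eq_of_le_of_card_ge (Subgroup.zpowers_le.mpr haR) ?_
        rw [hR, Nat.card_zpowers]
        have hd := Subgroup.orderOf_dvd_natCard R haR
        rw [hR] at hd
        rcases (Nat.dvd_prime (by norm_num)).mp hd with h1 | h1
        · exact absurd (orderOf_eq_one_iff.mp h1) ha1
        · exact h1.ge
      rw [← e Q hQ ha, e Q' hQ' ha']
    have hdisj : ∀ Q ∈ 𝒦, ∀ Q' ∈ 𝒦, Q ≠ Q' → ∀ x, x ∈ Five.fx D Q → x ∈ Five.fx D Q' → False := by
      intro Q hQ Q' hQ' hne x hx hx'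
      obtain ⟨hQP, hQ5, -⟩ := hmem Q hQ
      obtain ⟨hQ'P, hQ'5, -⟩ := hmem Q' hQ'
      have hle : ∀ R : Subgroup G, x ∈ Five.fx D R → R ≤ P → R ≤ P ⊓ Subgroup.centralizer ({x} : Set G) :=
        fun R hR hRP => le_inf hRP fun a ha => Subgroup.mem_centralizer_singleton_iff.mpr
          (Subgroup.mem_centralizer_iff.mp hR.2 a ha)
      have h1 := Subgroup.card_dvd_of_le (inf_le_left : P ⊓ Subgroup.centralizer ({x} : Set G) ≤ P)
      rw [hP, show (25 : ℕ) = 5 ^ 2 by norm_num] at h1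
      obtain ⟨k, hk, e⟩ := (Nat.dvd_prime_pow (by norm_num)).mp h1
      interval_cases k
      · have := Subgroup.card_le_of_le (hle Q hx hQP)
        rw [hQ5, e] at this
        norm_num at this
      · refine hne ?_
        rw [Subgroup.eq_of_le_of_card_ge (hle Q hx hQP) (by rw [e, hQ5]; norm_num),
          Subgroup.eq_of_le_of_card_ge (hle Q' hx' hQ'P) (by rw [e, hQ'5]; norm_num)]
      · have h2 := (Subgroup.card_dvd_of_le (inf_le_right : P ⊓ Subgroup.centralizer ({x} : Set G) ≤ _))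
        rw [e, hCx x hx.1] at h2
        norm_num at h2
    set U : Finset G := 𝒦.biUnion fun Q => (Five.fx D Q).toFinset
    have hU : U.card = 10 * 𝒦.card := by
      rw [Finset.card_biUnion, Finset.sum_congr rfl (g := fun _ => 10) fun Q hQ => ?_, Finset.sum_const, smul_eq_mul,
        mul_comm]
      · rw [← Set.ncard_eq_toFinset_card', (hfix Q (hmem Q hQ).2.1 (hmem Q hQ).2.2).num]
      · intro Q hQ Q' hQ' hne
        exact Finset.disjoint_left.mpr fun x hx hx' =>
          hdisj Q hQ Q' hQ' hne x (Set.mem_toFinset.mp hx) (Set.mem_toFinset.mp hx')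
    let W := {x : G // x ∈ D ∧ x ∉ U}
    have hstay : ∀ (g : P) (x : G), x ∈ D ∧ x ∉ U → (g : G) * x * (g : G)⁻¹ ∈ D ∧ (g : G) * x * (g : G)⁻¹ ∉ U := by
      intro g x hx
      refine ⟨cls_conj hD _ hx.1, fun h => hx.2 ?_⟩
      obtain ⟨Q, hQ, hxQ⟩ := Finset.mem_biUnion.mp h
      refine Finset.mem_biUnion.mpr ⟨Q, hQ, Set.mem_toFinset.mpr ⟨hx.1, Subgroup.mem_centralizer_iff.mpr fun a ha => ?_⟩⟩
      have hga : (g : G) * a * (g : G)⁻¹ = a := by
        obtain ⟨⟨a1, a2⟩, ea⟩ := g.2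
        obtain ⟨⟨b1, b2⟩, eb⟩ := (hmem Q hQ).1 ha
        have hc : Commute ((a1, a2) : Y × Z) (b1, b2) := by
          haveI : IsCyclic Y := isCyclic_of_prime_card hY
          haveI : IsCyclic Z := isCyclic_of_prime_card hZ5
          exact Prod.ext (IsCyclic.commGroup.mul_comm a1 b1) (IsCyclic.commGroup.mul_comm a2 b2)
        rw [← ea, ← eb]
        exact mul_inv_eq_iff_eq_mul.mpr (hc.map MP).eq
      have := (Subgroup.mem_centralizer_iff.mp (Set.mem_toFinset.mp hxQ).2) a ha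
      refine (commute_cj_iff (g : G)).mp ?_
      rw [hga]
      exact this
    letI : MulAction P W :=
      { smul := fun g x => ⟨(g : G) * x.1 * (g : G)⁻¹, hstay g x.1 x.2⟩
        one_smul := fun x => Subtype.ext (by show (1 : G) * x.1 * (1 : G)⁻¹ = x.1; simp)
        mul_smul := fun g g' x => Subtype.ext (by
          show ((g : G) * g') * x.1 * ((g : G) * g')⁻¹ = g * (g' * x.1 * (g' : G)⁻¹) * (g : G)⁻¹
          group) }
    have hfree : ∀ x : W, MulAction.stabilizer P x = ⊥ := by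
      intro x
      rw [eq_bot_iff]
      intro g hg
      by_contra hg1
      have hg1' : (g : G) ≠ 1 := fun e => hg1 (Subgroup.mem_bot.mpr (Subtype.ext e))
      have hgx : Commute (g : G) x.1 := mul_inv_eq_iff_eq_mul.mp
        (congrArg Subtype.val (MulAction.mem_stabilizer_iff.mp hg))
      have ho : orderOf (g : G) = 5 := orderOf_eq_prime (hPab g g.2) hg1'
      set R := Subgroup.zpowers (g : G)
      have hR5 : Nat.card R = 5 := by rw [Nat.card_zpowers, ho]
      have hxR : x.1 ∈ Five.fx D R := ⟨x.2.1, Subgroup.mem_centralizer_iff.mpr fun a ha => by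
        obtain ⟨k, rfl⟩ := Subgroup.mem_zpowers_iff.mp ha
        exact (hgx.zpow_left k).eq⟩
      exact x.2.2 (Finset.mem_biUnion.mpr ⟨R,
        Finset.mem_filter.mpr ⟨Finset.mem_univ _, Subgroup.zpowers_le.mpr g.2, hR5, ⟨_, hxR⟩⟩,
        Set.mem_toFinset.mpr hxR⟩)
    have hWdvd : 25 ∣ Nat.card W := by
      haveI : Fintype (Quotient (MulAction.orbitRel P W)) := Fintype.ofFinite _
      rw [Nat.card_congr (MulAction.selfEquivSigmaOrbits P W), Nat.card_sigma]
      exact Finset.dvd_sum fun Q _ => by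
        rw [Nat.card_coe_set_eq, ← MulAction.index_stabilizer, hfree, Subgroup.index_bot, hP]
    have hWc : Nat.card W + U.card = 3510 := by
      have hUD : (↑U : Set G) ⊆ D := fun x hx => by
        obtain ⟨Q, -, hxQ⟩ := Finset.mem_biUnion.mp hx
        exact (Set.mem_toFinset.mp hxQ).1
      rw [show Nat.card W = (D \ ↑U).ncard from Nat.card_coe_set_eq (D \ (↑U : Set G)), ← Set.ncard_coe_finset]
      exact (Set.ncard_diff_add_ncard_of_subset hUD).trans (params hD hp A).1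
    have hk2 : 2 ≤ 𝒦.card := by
      have hYm : Y ∈ 𝒦 := Finset.mem_filter.mpr ⟨Finset.mem_univ _, hYP, hY, ⟨_, htY⟩⟩
      have hZm : Z ∈ 𝒦 := Finset.mem_filter.mpr ⟨Finset.mem_univ _, hZP, hZ5, ⟨_, huZ⟩⟩
      exact Finset.one_lt_card.mpr ⟨Y, hYm, Z, hZm, hYZ⟩
    have hk5 : 𝒦.card ≤ 5 := by
      have hQn : Q₀ ∉ 𝒦 := fun h => hno (hmem _ h).2.2
      let pts : Subgroup G → Finset G := fun Q => (Q : Set G).toFinset.erase 1
      have hpts : ∀ Q ∈ insert Q₀ 𝒦, (pts Q).card = 4 ∧ pts Q ⊆ pts P := by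
        intro Q hQ
        obtain ⟨hQP, hQ5⟩ : Q ≤ P ∧ Nat.card Q = 5 := by
          rcases Finset.mem_insert.mp hQ with rfl | h
          exacts [⟨hQ₀P, hQ₀⟩, ⟨(hmem _ h).1, (hmem _ h).2.1⟩]
        refine ⟨?_, Finset.erase_subset_erase _ fun a ha => Set.mem_toFinset.mpr (hQP (Set.mem_toFinset.mp ha))⟩
        rw [Finset.card_erase_of_mem (Set.mem_toFinset.mpr Q.one_mem), ← Set.ncard_eq_toFinset_card',
          ← Nat.card_coe_set_eq, SetLike.coe_sort_coe, hQ5]
      have h : ((insert Q₀ 𝒦).biUnion pts).card ≤ (pts P).card :=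
        Finset.card_le_card (Finset.biUnion_subset.mpr fun Q hQ => (hpts Q hQ).2)
      rw [Finset.card_biUnion, Finset.sum_congr rfl (g := fun _ => 4) fun Q hQ => (hpts Q hQ).1, Finset.sum_const,
        smul_eq_mul, Finset.card_insert_of_notMem hQn, Finset.card_erase_of_mem (Set.mem_toFinset.mpr P.one_mem),
        ← Set.ncard_eq_toFinset_card', ← Nat.card_coe_set_eq, SetLike.coe_sort_coe, hP] at h
      · omega
      · intro Q hQ Q' hQ' hne
        refine Finset.disjoint_left.mpr fun a ha ha' => hne ?_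
        have h5 : ∀ R ∈ insert Q₀ 𝒦, Nat.card R = 5 := fun R hR => by
          rcases Finset.mem_insert.mp hR with rfl | h
          exacts [hQ₀, (hmem _ h).2.1]
        exact htriv Q Q' (h5 Q hQ) (h5 Q' hQ') a (Set.mem_toFinset.mp (Finset.mem_of_mem_erase ha))
          (Set.mem_toFinset.mp (Finset.mem_of_mem_erase ha')) (Finset.ne_of_mem_erase ha)
    omega
  have hall5 : ∀ X : Subgroup G, Nat.card X = 5 → (Five.fx D X).Nonempty := by
    intro X hX
    obtain ⟨R, hR⟩ := (IsPGroup.of_card (p := 5) (n := 1) (by rw [hX, pow_one] : Nat.card X = 5 ^ 1)).exists_le_sylow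
    obtain ⟨g, hg⟩ := MulAction.exists_smul_eq G R SP
    have hXP : X.map (MulAut.conj g).toMonoidHom ≤ P := by
      rintro _ ⟨x, hx, rfl⟩
      have hm : g * x * g⁻¹ ∈ ((g • R : Sylow 5 G) : Subgroup G) := by
        rw [Sylow.coe_subgroup_smul]
        exact Subgroup.smul_mem_pointwise_smul _ _ _ (hR hx)
      rw [hg] at hm
      exact hm
    obtain ⟨x, hx⟩ := hcons _ hXP (by rw [Eleven.card_map, hX])
    refine ⟨g⁻¹ * x * g⁻¹⁻¹, cls_conj hD _ hx.1, Subgroup.mem_centralizer_iff.mpr fun a ha => ?_⟩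
    have h := (commute_cj_iff g⁻¹).mpr (show Commute (g * a * g⁻¹) x from
      Subgroup.mem_centralizer_iff.mp hx.2 _ ⟨a, ha, rfl⟩)
    rw [show g⁻¹ * (g * a * g⁻¹) * g⁻¹⁻¹ = a by group] at h
    exact h.eq
  exact ⟨fun X Y hX hY => hconj X Y hX hY (hall5 X hX) (hall5 Y hY), fun X hX => hfix X hX (hall5 X hX)⟩

end CfsgThreeTrans.M22.FiveNorm
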