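/-
No centraliser of order thirty-nine at a subgroup of order thirteen acting freely on the points of a
rank-three action of degree 3510.
-/
import Cfsg.Agent.Lib.CharTheory.PermChar
import Cfsg.Agent.Lib.ThreeTrans.Eleven
import Cfsg.Agent.Lib.CharTheory.ThreeDegrees

set_option autoImplicit false
set_option linter.unusedSectionVars false

namespace CfsgThreeTrans.M22.ThirteenChar

open Cfsg CfsgLib CfsgLib.CharTheory
open scoped ComplexConjugate

universe u

variable {G : Type u} [Group G] [Finite G]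

/-- The degree test. -/
def badDeg (d : ℕ) : Bool :=
  decide (d ∣ 64561751654400) && (decide ((3509 - d) ∣ 64561751654400) &&
    (decide (2 ≤ d) && (decide (d < 3509) && decide ((d - 1) ∣ 64561751654400))))

theorem badDeg_false : ∀ a : Fin 60, ∀ b : Fin 60, badDeg (a.val * 60 + b.val) = false := by decide +kernel

theorem deg_arith {d : ℕ} (h : d < 3509) (h1 : d ∣ 64561751654400) (h2 : (3509 - d) ∣ 64561751654400)
    (h3 : 2 ≤ d) : ¬ (d - 1) ∣ 64561751654400 := by
  intro h4
  have := badDeg_false ⟨d / 60, by omega⟩ ⟨d % 60, Nat.mod_lt _ (by norm_num)⟩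
  simp only [badDeg, Nat.div_add_mod' d 60, h1, h2, h3, h, h4, decide_true, Bool.and_self, reduceCtorEq] at this

/-- A class function with integral coefficients, squared norm three and inner product one with the principal
character has three coefficients of absolute value one. -/
theorem support_three {ι : Type*} [Fintype ι] [DecidableEq ι] (c : ι → ℤ) (one : ι) (h3 : ∑ i, c i ^ 2 = 3)
    (h1 : c one = 1) :
    (∀ i, c i = 0 ∨ c i = 1 ∨ c i = -1) ∧
      ∃ a b, a ≠ one ∧ b ≠ one ∧ a ≠ b ∧ ∀ i, c i ≠ 0 ↔ (i = one ∨ i = a ∨ i = b) := by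
  have hle : ∀ i, c i = 0 ∨ c i = 1 ∨ c i = -1 := by
    intro i
    by_cases hi : i = one
    · rw [hi]; exact Or.inr (Or.inl h1)
    have := Finset.sum_le_sum_of_subset_of_nonneg (f := fun j => c j ^ 2) (s := {one, i}) (Finset.subset_univ _)
      (fun j _ _ => sq_nonneg _)
    rw [Finset.sum_pair (Ne.symm hi), h3, h1] at this
    have hb : -2 < c i ∧ c i < 2 := ⟨by nlinarith, by nlinarith⟩
    omega
  refine ⟨hle, ?_⟩
  set S := Finset.univ.filter fun i => c i ≠ 0
  have hS : S.card = 3 := by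
    have e : ∑ i, c i ^ 2 = ∑ i ∈ S, (1 : ℤ) := by
      rw [Finset.sum_filter]
      refine Finset.sum_congr rfl fun i _ => ?_
      rcases hle i with e | e | e <;> simp [e]
    rw [h3, Finset.sum_const, nsmul_eq_mul, mul_one] at e
    exact_mod_cast e.symm
  have hone : one ∈ S := Finset.mem_filter.mpr ⟨Finset.mem_univ _, by rw [h1]; norm_num⟩
  obtain ⟨a, b, hab, e⟩ := Finset.card_eq_two.mp (show (S.erase one).card = 2 by
    rw [Finset.card_erase_of_mem hone, hS])
  have ha : a ∈ S.erase one := by rw [e]; simp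
  have hb : b ∈ S.erase one := by rw [e]; simp
  refine ⟨a, b, (Finset.mem_erase.mp ha).1, (Finset.mem_erase.mp hb).1, hab, fun i => ?_⟩
  have : i ∈ S ↔ (i = one ∨ i = a ∨ i = b) := by
    rw [← Finset.insert_erase hone, e]; simp
  rw [← this]
  simp [S]

/-- The centraliser of a subgroup of order thirteen has order other than thirty-nine. -/
theorem no_thirty_nine (hG : Nat.card G = 64561751654400) {X C N H : Subgroup G} (hX : Nat.card X = 13)
    (hC : C = Subgroup.centralizer (X : Set G)) (hN : N = Subgroup.normalizer (X : Set G))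
    (hC39 : Nat.card C = 39) (hN78 : Nat.card N = 78) (hH : H.index = 3510)
    (hfree : ∀ y ∈ C, y ≠ 1 → ∀ g : G, g⁻¹ * y * g ∉ H)
    (hsum : Nat.card {p : H × G // p.2⁻¹ * (p.1 : G) * p.2 ∈ H} = 3 * Nat.card H * Nat.card H) : False := by
  classical
  haveI : Fintype G := Fintype.ofFinite G
  haveI : Fintype C := Fintype.ofFinite C
  haveI : Fintype H := Fintype.ofFinite H
  haveI : Fact (Nat.Prime 13) := ⟨by norm_num⟩
  haveI : Fact (Nat.Prime 3) := ⟨by norm_num⟩
  have hCN : C ≤ N := by rw [hC, hN]; exact Subgroup.centralizer_le_normalizer _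
  obtain ⟨x', hx'⟩ := exists_prime_orderOf_dvd_card' (G := X) 13 (by rw [hX])
  set x : G := (x' : G)
  have hx : orderOf x = 13 := by rw [Subgroup.orderOf_coe]; exact hx'
  haveI : IsCyclic X := isCyclic_of_prime_card hX
  have hXC : X ≤ C := by
    rw [hC]
    exact fun y hy => Subgroup.mem_centralizer_iff.mpr fun z hz =>
      congrArg Subtype.val (IsCyclic.commGroup.mul_comm (⟨z, hz⟩ : X) ⟨y, hy⟩)
  have hXN : X ≤ N := hXC.trans hCN
  set X' := X.subgroupOf C
  haveI : X'.Normal := ⟨fun z hz g => by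
    have hg : (g : G) ∈ Subgroup.centralizer (X : Set G) := hC ▸ g.2
    show ((g : G) * z * (g : G)⁻¹) ∈ X
    have hz' : (z : G) ∈ X := hz
    rw [← Subgroup.mem_centralizer_iff.mp hg (z : G) hz', mul_inv_cancel_right]; exact hz'⟩
  have hXc : X' ≤ Subgroup.center C := fun z hz => Subgroup.mem_center_iff.mpr fun g =>
    Subtype.ext (Subgroup.mem_centralizer_iff.mp (hC ▸ g.2 : (g : G) ∈ Subgroup.centralizer (X : Set G)) _ hz).symm
  have hcomm : ∀ a b : C, a * b = b * a := by
    haveI : IsCyclic (C ⧸ X') := isCyclic_of_prime_card (p := 3) (by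
      have := Subgroup.card_eq_card_quotient_mul_card_subgroup X'
      rw [hC39, Nat.card_congr (Subgroup.subgroupOfEquivOfLe hXC).toEquiv, hX] at this
      omega)
    exact commutative_of_cyclic_center_quotient (QuotientGroup.mk' X') (by rwa [QuotientGroup.ker_mk'])
  letI : CommGroup C := { (inferInstance : Group C) with mul_comm := hcomm }
  set xC : C := ⟨x, hXC x'.2⟩
  have hxC : orderOf xC = 13 := by rw [← Subgroup.orderOf_coe]; exact hx
  obtain ⟨μ, hμ⟩ := CommGroup.exists_apply_ne_one_of_hasEnoughRootsOfUnity C ℂ (a := xC ^ 3) (by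
    intro e
    have := orderOf_dvd_of_pow_eq_one e
    rw [hxC] at this
    norm_num at this)
  let lam : C → ℂ := fun y => (μ (y ^ 3) : ℂ)
  have lmul : ∀ a b, lam (a * b) = lam a * lam b := fun a b => by
    simp only [lam, mul_pow, map_mul, Units.val_mul]
  have l1 : lam 1 = 1 := by simp [lam]
  have linv : ∀ a, lam a⁻¹ * lam a = 1 := fun a => by rw [← lmul, inv_mul_cancel, l1]
  have hlx : lam xC ≠ 1 := fun e => hμ (Units.ext e)
  have h39 : ∀ y : C, y ^ 39 = 1 := fun y => by rw [← hC39]; exact pow_card_eq_one'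
  have lpow : ∀ (y : C) (k : ℕ), lam (y ^ k) = lam y ^ k := fun y k => by
    induction k with
    | zero => simp [l1]
    | succ k ih => rw [pow_succ, lmul, ih, pow_succ]
  have l13 : ∀ y : C, lam y ^ 13 = 1 := fun y => by
    simp only [lam]
    rw [← Units.val_pow_eq_pow_val, ← map_pow, ← pow_mul, show 3 * 13 = 39 from rfl, h39, map_one, Units.val_one]
  have lconj : ∀ y : C, conj (lam y) = lam y⁻¹ := fun y => by
    have hn : ‖lam y‖ = 1 := Complex.norm_eq_one_of_pow_eq_one (l13 y) (by norm_num)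
    rw [← Complex.inv_eq_conj hn]
    exact inv_eq_of_mul_eq_one_left (linv y)
  have orth : ∀ φ : C → ℂ, (∀ a b, φ (a * b) = φ a * φ b) → φ xC ≠ 1 → ∑ y : C, φ y = 0 := by
    intro φ hφ hne
    have e : ∑ y : C, φ y = φ xC * ∑ y : C, φ y := by
      rw [Finset.mul_sum, ← Equiv.sum_comp (Equiv.mulLeft xC)]
      exact Finset.sum_congr rfl fun y _ => hφ xC y
    have : (φ xC - 1) * ∑ y : C, φ y = 0 := by rw [sub_mul, one_mul, ← e, sub_self]
    exact (mul_eq_zero.mp this).resolve_left (sub_ne_zero.mpr hne)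
  have s1 : ∑ y : C, lam y = 0 := orth lam lmul hlx
  have s2 : ∑ y : C, lam y ^ 2 = 0 := orth (fun y => lam y ^ 2) (fun a b => by simp only [lmul, mul_pow]) (fun e => by
    refine hlx ?_
    have := l13 xC
    rw [show (13 : ℕ) = 2 * 6 + 1 from rfl, pow_succ, pow_mul, e, one_pow, one_mul] at this
    exact this)
  have si : ∑ y : C, lam y⁻¹ = 0 := by
    rw [← s1]; exact Equiv.sum_comp (Equiv.inv C) lam
  -- the function to be induced
  let f : C → ℂ := fun y => 1 - lam y
  have hcardC : (Fintype.card C : ℂ) = 39 := by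
    rw [← Nat.card_eq_fintype_card, hC39]; norm_num
  have hfgen : IsGeneralizedCharacter C f := by
    refine isGenChar_sub (isGenChar_of_char (isCharacter_one (G := C))) (isGenChar_of_char ?_)
    exact isCharacter_of_irr (isIrrCharacter_linear (μ.comp (powMonoidHom 3)))
  -- fusion
  have hX13 : Nat.card X' = 13 := by rw [Nat.card_congr (Subgroup.subgroupOfEquivOfLe hXC).toEquiv, hX]
  have hcubeX : ∀ y : C, (y : G) ^ 3 ∈ X := by
    intro y
    have hq : Nat.card (C ⧸ X') = 3 := by
      have := Subgroup.card_eq_card_quotient_mul_card_subgroup X'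
      rw [hC39, hX13] at this
      omega
    have := pow_card_eq_one' (G := C ⧸ X') (x := QuotientGroup.mk' X' y)
    rw [hq, ← map_pow] at this
    exact Subgroup.mem_subgroupOf.mp ((QuotientGroup.eq_one_iff (y ^ 3)).mp this)
  have hcube : ∀ y : C, lam y ≠ 1 → ((y : G) ^ 3 ∈ X ∧ (y : G) ^ 3 ≠ 1) := by
    intro y hy
    have h13 : ((y : G) ^ 3) ^ 13 = 1 := by
      rw [← pow_mul]; exact congrArg Subtype.val (h39 y)
    refine ⟨hcubeX y, fun e => hy ?_⟩
    · simp only [lam]
      rw [show y ^ 3 = 1 from Subtype.ext e, map_one, Units.val_one]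
  have hgenX : ∀ z ∈ X, z ≠ 1 → Subgroup.zpowers z = X := fun z hz hne =>
    Subgroup.eq_of_le_of_card_ge (Subgroup.zpowers_le.mpr hz) (by
      rw [hX, Nat.card_zpowers, orderOf_eq_prime (p := 13) (by
        have := pow_card_eq_one' (G := X) (x := ⟨z, hz⟩)
        rw [hX] at this
        exact congrArg Subtype.val this) hne])
  set θ := indFun C f
  have hθgen : IsGeneralizedCharacter G θ := isGenChar_indFun C hfgen
  have hnormC : ∀ g ∈ N, ∀ y : C, g⁻¹ * (y : G) * g ∈ C := by
    intro g hg y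
    refine hC.ge (Subgroup.mem_centralizer_iff.mpr fun z hz => ?_)
    have hz' : g * z * g⁻¹ ∈ X := (Subgroup.mem_normalizer_iff.mp (hN ▸ hg) z).mp hz
    have := Subgroup.mem_centralizer_iff.mp (hC ▸ y.2 : (y : G) ∈ Subgroup.centralizer (X : Set G)) _ hz'
    calc z * (g⁻¹ * y * g) = g⁻¹ * (g * z * g⁻¹ * y) * g := by group
      _ = g⁻¹ * (y * (g * z * g⁻¹)) * g := by rw [this]
      _ = g⁻¹ * y * g * z := by group
  have hext : ∀ y : C, lam y ≠ 1 → ∀ g : G, g ∉ N → extendByZero C f (g⁻¹ * y * g) = 0 := by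
    intro y hy g hg
    by_cases hm : g⁻¹ * (y : G) * g ∈ C
    · rw [extendByZero_of_mem _ _ hm]
      by_contra hne
      have hz := hcube ⟨_, hm⟩ (fun e => hne (by simp only [f, e, sub_self]))
      have hy3 := hcube y hy
      refine hg ?_
      have hz' : g⁻¹ * ((y : G) ^ 3) * g ∈ X := by
        have := hz.1
        rwa [show (g⁻¹ * (y : G) * g) ^ 3 = g⁻¹ * (y : G) ^ 3 * g by
          rw [pow_succ, pow_succ, pow_one, pow_succ, pow_succ, pow_one]; group] at this
      rw [hN]
      refine inv_inv g ▸ inv_mem (Eleven.mem_norm fun z hzX => ?_)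
      rw [← hgenX _ hy3.1 hy3.2] at hzX
      obtain ⟨k, rfl⟩ := Subgroup.mem_zpowers_iff.mp hzX
      rw [show g⁻¹ * ((y : G) ^ 3) ^ k * g⁻¹⁻¹ = (g⁻¹ * (y : G) ^ 3 * g⁻¹⁻¹) ^ k from (conj_zpow ..).symm,
        inv_inv]
      exact zpow_mem hz' k
    · exact extendByZero_of_not_mem _ _ hm
  -- the two cosets
  obtain ⟨n, hnN, hnC⟩ : ∃ n ∈ N, n ∉ C := by
    by_contra h
    push Not at h
    have := Subgroup.card_dvd_of_le (show N ≤ C from h)
    rw [hN78, hC39] at this
    norm_num at this
  have hinvx : n⁻¹ * x * n = x⁻¹ := by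
    -- an element outside the centraliser squares into it
    have hidx : (C.subgroupOf N).index = 2 := by
      have := (C.subgroupOf N).card_mul_index
      rw [Nat.card_congr (Subgroup.subgroupOfEquivOfLe hCN).toEquiv, hC39, hN78] at this
      omega
    have h2 : n * n ∈ C := by
      have := Subgroup.mul_self_mem_of_index_two hidx (⟨n, hnN⟩ : N)
      exact this
    have hxm : n⁻¹ * x * n ∈ X := by
      have := (Subgroup.mem_normalizer_iff.mp (inv_mem (hN ▸ hnN)) x).mp x'.2
      rwa [inv_inv] at this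
    obtain ⟨k, hk⟩ := Subgroup.mem_zpowers_iff.mp ((hgenX x x'.2 (fun e => by
      rw [e, orderOf_one] at hx; norm_num at hx)).symm ▸ hxm : n⁻¹ * x * n ∈ Subgroup.zpowers x)
    have hk2 : x ^ (k * k) = x := by
      have hc : (n * n)⁻¹ * x * (n * n) = x := by
        have := Subgroup.mem_centralizer_iff.mp (hC ▸ h2 : n * n ∈ Subgroup.centralizer (X : Set G)) x x'.2
        rw [mul_assoc, this, ← mul_assoc, inv_mul_cancel, one_mul]
      rw [zpow_mul]
      conv_rhs => rw [← hc, show (n * n)⁻¹ * x * (n * n) = n⁻¹ * (n⁻¹ * x * n) * n by group, ← hk]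
      rw [hk, show n⁻¹ * (n⁻¹ * x * n) * n = n⁻¹ * (x ^ k) * n by rw [hk],
        show n⁻¹ * x ^ k * n = (n⁻¹ * x * n) ^ k from by
          rw [show n⁻¹ * x * n = n⁻¹ * x * n⁻¹⁻¹ by rw [inv_inv], conj_zpow, inv_inv]]
    have hd : (13 : ℤ) ∣ k * k - 1 := by
      have : x ^ (k * k - 1) = 1 := by rw [zpow_sub_one, hk2, mul_inv_cancel]
      have := orderOf_dvd_iff_zpow_eq_one.mpr this
      rwa [hx] at this
    have hp : Prime (13 : ℤ) := Int.prime_iff_natAbs_prime.mpr (by norm_num)
    rcases hp.dvd_or_dvd (show (13 : ℤ) ∣ (k - 1) * (k + 1) by rwa [show (k - 1) * (k + 1) = k * k - 1 by ring])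
      with h | h
    · exfalso
      have e : x ^ (k - 1) = 1 := orderOf_dvd_iff_zpow_eq_one.mp (by rw [hx]; exact h)
      rw [zpow_sub_one, mul_inv_eq_one, hk] at e
      refine hnC ?_
      rw [hC, Subgroup.mem_centralizer_iff]
      intro z hz
      rw [← hgenX x x'.2 (fun e => by rw [e, orderOf_one] at hx; norm_num at hx)] at hz
      obtain ⟨j, rfl⟩ := Subgroup.mem_zpowers_iff.mp hz
      have : Commute x n := by
        show x * n = n * x
        conv_rhs => rw [← e]
        group
      exact (this.zpow_left j).eq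
    · rw [← hk]
      have e : x ^ (k + 1) = 1 := orderOf_dvd_iff_zpow_eq_one.mp (by rw [hx]; exact h)
      rw [zpow_add_one] at e
      exact eq_inv_of_mul_eq_one_left e
  have hlinv : ∀ y : C, ∀ (h : n⁻¹ * (y : G) * n ∈ C), lam ⟨_, h⟩ = lam y⁻¹ := by
    intro y hm
    set y' : C := ⟨_, hm⟩
    have hy3 : ∀ z : C, ∃ k : ℕ, z ^ 3 = xC ^ k := by
      intro z
      have hm' : ((z ^ 3 : C) : G) ∈ Subgroup.zpowers x :=
        (hgenX x x'.2 (fun e => by rw [e, orderOf_one] at hx; norm_num at hx)).symm ▸ hcubeX z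
      obtain ⟨k, hk⟩ := mem_powers_iff_mem_zpowers.mpr hm'
      exact ⟨k, Subtype.ext hk.symm⟩
    obtain ⟨k, hk⟩ := hy3 y
    have e : y' ^ 3 = (y⁻¹) ^ 3 := by
      refine Subtype.ext ?_
      show (n⁻¹ * (y : G) * n) ^ 3 = ((y : G)⁻¹) ^ 3
      have hk' : (y : G) ^ 3 = x ^ k := congrArg Subtype.val hk
      rw [inv_pow, hk', ← inv_pow, ← hinvx, show n⁻¹ * (y : G) * n = n⁻¹ * (y : G) * n⁻¹⁻¹ by rw [inv_inv],
        show n⁻¹ * x * n = n⁻¹ * x * n⁻¹⁻¹ by rw [inv_inv], conj_pow, conj_pow, hk']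
    simp only [lam]
    rw [e]
  have hθval : ∀ y : C, lam y ≠ 1 → θ y = 2 - lam y - lam y⁻¹ := by
    intro y hy
    show (Nat.card C : ℂ)⁻¹ * _ = _
    have hval : ∀ g : G, extendByZero C f (g⁻¹ * y * g) =
        (if g ∈ C then 1 - lam y else 0) + (if g ∈ N ∧ g ∉ C then 1 - lam y⁻¹ else 0) := by
      intro g
      by_cases hg : g ∈ N
      · rw [extendByZero_of_mem _ _ (hnormC g hg y)]
        by_cases hgC : g ∈ C
        · rw [if_pos hgC, if_neg (fun h => h.2 hgC), add_zero]
          show 1 - lam _ = _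
          rw [show (⟨g⁻¹ * (y : G) * g, hnormC g hg y⟩ : C) = ⟨g, hgC⟩⁻¹ * y * ⟨g, hgC⟩ from rfl, hcomm _ y,
            inv_mul_cancel_right]
        · rw [if_neg hgC, if_pos ⟨hg, hgC⟩, zero_add]
          have hidx : (C.subgroupOf N).index = 2 := by
            have := (C.subgroupOf N).card_mul_index
            rw [Nat.card_congr (Subgroup.subgroupOfEquivOfLe hCN).toEquiv, hC39, hN78] at this
            omega
          have hc : g * n⁻¹ ∈ C := by
            have := (Subgroup.mul_mem_iff_of_index_two hidx (a := ⟨g, hg⟩) (b := ⟨n, hnN⟩⁻¹)).mpr (by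
              simp only [inv_mem_iff]
              exact iff_of_false hgC hnC)
            exact this
          show 1 - lam _ = _
          rw [show (⟨g⁻¹ * (y : G) * g, hnormC g hg y⟩ : C) =
            ⟨n⁻¹ * ((⟨g * n⁻¹, hc⟩⁻¹ * y * ⟨g * n⁻¹, hc⟩ : C) : G) * n,
              hnormC n hnN _⟩ from Subtype.ext (by simp only [Subgroup.coe_mul, InvMemClass.coe_inv]; group),
            hlinv, hcomm _ y, inv_mul_cancel_right]
      · rw [hext y hy g hg, if_neg (fun h => hg (hCN h)), if_neg (fun h => hg h.1), add_zero]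
    simp only [hval]
    rw [Finset.sum_add_distrib, ← Finset.sum_filter, ← Finset.sum_filter, Finset.sum_const, Finset.sum_const]
    have c1 : (Finset.univ.filter fun g => g ∈ C).card = 39 := by
      rw [← Fintype.card_subtype, ← Nat.card_eq_fintype_card]; exact hC39
    have c2 : (Finset.univ.filter fun g => g ∈ N ∧ g ∉ C).card = 39 := by
      have e : (Finset.univ.filter fun g => g ∈ N ∧ g ∉ C) =
          (Finset.univ.filter fun g => g ∈ N) \ (Finset.univ.filter fun g => g ∈ C) := by ext; simp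
      rw [e, Finset.card_sdiff_of_subset (fun g hg => by simp at hg ⊢; exact hCN hg), c1, ← Fintype.card_subtype,
        ← Nat.card_eq_fintype_card]
      show Nat.card N - 39 = 39
      rw [hN78]
    rw [c1, c2, hC39, nsmul_eq_mul, nsmul_eq_mul]
    push_cast
    ring
  have hθcf : IsClassFunction G θ := indFun_isClassFunction C f
  have hθθ : classInner θ θ = 3 := by
    rw [frobenius_reciprocity C f hθcf]
    simp only [classInner]
    have e : ∀ y : C, f y * conj (θ y) = 3 - 3 * lam y - lam y⁻¹ + lam y ^ 2 := by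
      intro y
      by_cases hy : lam y = 1
      · simp only [f, hy, sub_self, zero_mul]
        have := linv y
        rw [hy, mul_one] at this
        rw [this]; norm_num
      · rw [hθval y hy, map_sub, map_sub, lconj, lconj, inv_inv, map_ofNat]
        simp only [f]
        linear_combination linv y
    simp only [e]
    rw [Finset.sum_add_distrib, Finset.sum_sub_distrib, Finset.sum_sub_distrib, ← Finset.mul_sum, s1, s2, si,
      Finset.sum_const, Finset.card_univ, nsmul_eq_mul, hcardC, hC39]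
    norm_num
  have hθ1 : classInner θ (fun _ => 1) = 1 := by
    rw [frobenius_reciprocity C f isClassFunction_one]
    simp only [classInner, map_one, mul_one, f]
    rw [Finset.sum_sub_distrib, s1, Finset.sum_const, Finset.card_univ, nsmul_eq_mul, hcardC, hC39]
    norm_num
  have hθone : θ 1 = 0 := by
    show indFun C f 1 = 0
    rw [indFun_apply_one]; simp [f, l1]
  -- the permutation character
  set π := indFun H (fun _ => (1 : ℂ))
  have hπch : IsCharacter G π := isCharacter_indFun H isCharacter_one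
  have hπcf : IsClassFunction G π := indFun_isClassFunction H _
  have hπone : π 1 = 3510 := by
    show indFun H _ 1 = _
    rw [indFun_apply_one, hH]; norm_num
  have hππ : classInner π π = 3 := by
    rw [frobenius_reciprocity H _ hπcf]
    have e : ∀ h : H, π h = ((Nat.card {y : G // y⁻¹ * (h : G) * y ∈ H} : ℂ)) / (Nat.card H : ℂ) := by
      intro h
      show indFun H _ _ = _
      rw [indFun_one_eq_permChar, eq_div_iff (Nat.cast_ne_zero.mpr Nat.card_pos.ne'), mul_comm]
      have := card_mul_permChar H (h : G)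
      exact_mod_cast this
    simp only [classInner, e, one_mul, map_div₀, map_natCast]
    rw [← Finset.sum_div, ← Nat.cast_sum, ← Nat.card_sigma]
    have hs : Nat.card (Σ h : H, {y : G // y⁻¹ * (h : G) * y ∈ H}) = 3 * Nat.card H * Nat.card H := by
      rw [← hsum]
      exact Nat.card_congr
        { toFun := fun p => ⟨(p.1, p.2.1), p.2.2⟩
          invFun := fun p => ⟨p.1.1, p.1.2, p.2⟩
          left_inv := fun p => rfl
          right_inv := fun p => rfl }
    rw [hs]
    have : (Nat.card H : ℂ) ≠ 0 := Nat.cast_ne_zero.mpr Nat.card_pos.ne'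
    push_cast
    field_simp
  have hπ1 : classInner π (fun _ => 1) = 1 := by
    rw [frobenius_reciprocity H _ isClassFunction_one]
    simp only [classInner, map_one, mul_one]
    rw [Finset.sum_const, Finset.card_univ, nsmul_eq_mul, mul_one, ← Nat.card_eq_fintype_card,
      inv_mul_cancel₀ (Nat.cast_ne_zero.mpr Nat.card_pos.ne')]
  have hθπ : classInner θ π = 0 := by
    rw [frobenius_reciprocity C f hπcf]
    simp only [classInner]
    rw [Finset.sum_eq_zero, mul_zero]
    intro y _
    by_cases hy : y = 1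
    · simp [f, hy, l1]
    · have : π (y : G) = 0 := indFun_eq_zero_of_not_isConj H _ (hfree y y.2 fun e => hy (Subtype.ext e))
      rw [this, map_zero, mul_zero]
  -- coefficients
  obtain ⟨c, hcθ, hcc, hcn⟩ := classInner_self_eq_sum_sq hθgen
  obtain ⟨m, hmπ, hmc, hmn⟩ := classInner_self_eq_sum_sq (isGenChar_of_char hπch)
  rw [hθθ] at hcn
  rw [hππ] at hmn
  let one : IrrCharacter G := ⟨fun _ => 1, isIrrCharacter_one⟩
  have hc1 : c one = 1 := by exact_mod_cast (hcc one).symm.trans hθ1
  have hm1 : m one = 1 := by exact_mod_cast (hmc one).symm.trans hπ1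
  obtain ⟨hcv, a', b', ha', hb', hab', hcs⟩ := support_three c one (by exact_mod_cast hcn.symm) hc1
  obtain ⟨hmv, α₀, β₀, hα₀, hβ₀, hαβ₀, hms⟩ := support_three m one (by exact_mod_cast hmn.symm) hm1
  have hmnn : ∀ ψ, 0 ≤ m ψ := by
    intro ψ
    obtain ⟨k, hk⟩ := classInner_char_nat hπch (isCharacter_of_irr ψ.2)
    have : (m ψ : ℂ) = ((k : ℤ) : ℂ) := by rw [← hmc, hk]; norm_num
    rw [show m ψ = (k : ℤ) from Int.cast_injective this]
    exact Int.natCast_nonneg k
  have hmone : ∀ ψ, ψ = one ∨ ψ = α₀ ∨ ψ = β₀ → m ψ = 1 := by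
    intro ψ hψ
    rcases hmv ψ with e | e | e
    · exact absurd e ((hms ψ).mpr hψ)
    · exact e
    · have := hmnn ψ; omega
  have hcm : ∑ ψ, c ψ * m ψ = 0 := by
    have : classInner θ π = ((∑ ψ, c ψ * m ψ : ℤ) : ℂ) := by
      rw [classInner_eq_sum_irr hθcf]
      push_cast
      exact Finset.sum_congr rfl fun ψ _ => by rw [hcc, ← classInner_comm π, hmc, map_intCast]
    rw [hθπ] at this
    exact_mod_cast this.symm
  have sub3 : ∀ (g : IrrCharacter G → ℤ), (∀ ψ, m ψ = 0 → g ψ = 0) → ∑ ψ, g ψ = g one + g α₀ + g β₀ := by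
    intro g hg
    rw [← Finset.sum_subset (Finset.subset_univ ({one, α₀, β₀} : Finset (IrrCharacter G))) fun ψ _ hψ => by
      refine hg ψ (not_not.mp fun h => hψ ?_)
      have := (hms ψ).mp h
      simpa using this,
      Finset.sum_insert (by simp [hα₀.symm, hβ₀.symm]), Finset.sum_pair hαβ₀]
    ring
  rw [sub3 _ (fun ψ h => by rw [h, mul_zero]), hc1, hm1, hmone α₀ (by tauto), hmone β₀ (by tauto)] at hcm
  obtain ⟨α, β, hα, hβ, hαβ, hms', hcα⟩ : ∃ α β : IrrCharacter G, α ≠ one ∧ β ≠ one ∧ α ≠ β ∧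
      (∀ ψ, m ψ ≠ 0 ↔ (ψ = one ∨ ψ = α ∨ ψ = β)) ∧ c α = -1 := by
    rcases hcv α₀ with e | e | e
    · exact ⟨β₀, α₀, hβ₀, hα₀, hαβ₀.symm, fun ψ => (hms ψ).trans (by tauto), by omega⟩
    · have := hcv β₀; omega
    · exact ⟨α₀, β₀, hα₀, hβ₀, hαβ₀, hms, e⟩
  obtain ⟨b, hb1, hbα, hcb⟩ : ∃ b, b ≠ one ∧ b ≠ α ∧ ∀ ψ, c ψ ≠ 0 ↔ (ψ = one ∨ ψ = α ∨ ψ = b) := by
    rcases (hcs α).mp (by rw [hcα]; norm_num) with e | e | e
    · exact absurd e hα
    · exact ⟨b', hb', fun h => hab' (by rw [← e, h]), fun ψ => by rw [hcs ψ, e]⟩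
    · exact ⟨a', ha', fun h => hab' (by rw [h, e]), fun ψ => by rw [hcs ψ, e]; tauto⟩
  choose d hd hdeq using fun φ : IrrCharacter G => irr_degree_pos φ.2
  have hd1 : d one = 1 := by
    have := hdeq one
    have h' : ((1 : ℕ) : ℂ) = (d one : ℂ) := by rw [← this]; norm_num [one]
    exact_mod_cast h'.symm
  have hdvd : ∀ φ : IrrCharacter G, d φ ∣ 64561751654400 := by
    intro φ
    have := ThreeDegrees.degree_dvd_card φ.2
    rwa [hG, show charDegree (φ : G → ℂ) = d φ by simp [charDegree, hdeq]] at this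
  have eθ : (0 : ℤ) = ∑ φ, c φ * (d φ : ℤ) := by
    have e := congrFun hcθ 1
    simp only [hθone, Finset.sum_apply, Pi.smul_apply, smul_eq_mul, hdeq] at e
    exact_mod_cast e
  have eπ : (3510 : ℤ) = ∑ φ, m φ * (d φ : ℤ) := by
    have e := congrFun hmπ 1
    simp only [hπone, Finset.sum_apply, Pi.smul_apply, smul_eq_mul, hdeq] at e
    exact_mod_cast e
  have three : ∀ (g : IrrCharacter G → ℤ) (u v : IrrCharacter G), u ≠ one → v ≠ one → u ≠ v →
      (∀ ψ, g ψ ≠ 0 → (ψ = one ∨ ψ = u ∨ ψ = v)) → ∑ ψ, g ψ = g one + g u + g v := by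
    intro g u v hu hv huv hg
    rw [← Finset.sum_subset (Finset.subset_univ ({one, u, v} : Finset (IrrCharacter G))) fun ψ _ hψ =>
      not_not.mp fun h => hψ (by simpa using hg ψ h),
      Finset.sum_insert (by simp [hu.symm, hv.symm]), Finset.sum_pair huv]
    ring
  rw [three _ α b hα hb1 hbα.symm (fun ψ h => (hcb ψ).mp (left_ne_zero_of_mul h)), hc1, hcα, hd1] at eθ
  rw [three _ α β hα hβ hαβ (fun ψ h => (hms' ψ).mp (left_ne_zero_of_mul h)), hm1, hd1] at eπ
  have hmα : m α = 1 := by
    have := (hms' α).mpr (by tauto); have := hmv α; have := hmnn α; omega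
  have hmβ : m β = 1 := by
    have := (hms' β).mpr (by tauto); have := hmv β; have := hmnn β; omega
  rw [hmα, hmβ] at eπ
  push_cast at eθ eπ
  rcases hcv b with e | e | e
  · exact (hcb b).mpr (by tauto) e
  all_goals rw [e] at eθ
  · have hlt : d α < 3509 := by have := hd β; omega
    refine deg_arith hlt (hdvd α) ?_ (by have := hd b; omega) ?_
    · rw [show 3509 - d α = d β by omega]; exact hdvd β
    · rw [show d α - 1 = d b by omega]; exact hdvd b
  · have := hd b; have := hd α; omega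

end CfsgThreeTrans.M22.ThirteenChar
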