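/-
Eigenspaces of an element of exponent three in the special unitary group of dimension six over four elements.
-/
import Cfsg.Agent.Lib.ThreeTrans.M22.Quasi

set_option autoImplicit false
set_option linter.unusedSectionVars false

namespace CfsgThreeTrans.M22.ThreeEigen

open Matrix CfsgLib CfsgLib.UnitaryTransvection CfsgLib.UnitarySimple CfsgThreeTrans.M22

variable {F : Type} [Field F] [Fintype F] [DecidableEq F] (hF : Fintype.card F = 2 ^ 2)
variable (g : Cfsg.SU 6 F 2)

local notation "h" => Cfsg.hermForm 6 F 2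
local notation "σ" => frob hF
local notation "π" => QuotientGroup.mk' (Subgroup.center (Cfsg.SU 6 F 2))

/-- The eigenspace of `l`. -/
def eig (l : F) : Submodule F (Fin 6 → F) where
  carrier := {x | mat g *ᵥ x = l • x}
  zero_mem' := by simp
  add_mem' := fun {x y} hx hy => by
    simp only [Set.mem_ofPred_eq] at hx hy ⊢
    rw [mulVec_add, hx, hy, smul_add]
  smul_mem' := fun c x hx => by
    simp only [Set.mem_ofPred_eq] at hx ⊢
    rw [mulVec_smul, hx, smul_comm]

theorem mem_eig {l : F} {x : Fin 6 → F} : x ∈ eig g l ↔ mat g *ᵥ x = l • x := Iff.rfl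

/-- The projection to the eigenspace of `l`. -/
def proj (l : F) (x : Fin 6 → F) : Fin 6 → F :=
  x + (l * l) • (mat g *ᵥ x) + l • (mat g *ᵥ (mat g *ᵥ x))

theorem proj_add (l : F) (x y : Fin 6 → F) : proj g l (x + y) = proj g l x + proj g l y := by
  simp only [proj, mulVec_add, smul_add]; abel

theorem proj_smul (l c : F) (x : Fin 6 → F) : proj g l (c • x) = c • proj g l x := by
  simp only [proj, mulVec_smul, smul_add, smul_comm c]

include hF

theorem cube' {l : F} (hl : l ≠ 0) : l * l * l = 1 := by rw [← cube hF hl]; ring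

theorem units_cases {z : F} (hz : z * z + z + 1 = 0) {l : F} (hl : l ≠ 0) : l = 1 ∨ l = z ∨ l = z * z := by
  have e : (l - 1) * (l - z) * (l - z * z) = 0 := by
    linear_combination cube' hF hl + (-(l * l) + l * z + 1 - z) * hz
  rcases mul_eq_zero.mp e with e | e
  · rcases mul_eq_zero.mp e with e | e
    exacts [Or.inl (sub_eq_zero.mp e), Or.inr (Or.inl (sub_eq_zero.mp e))]
  · exact Or.inr (Or.inr (sub_eq_zero.mp e))

theorem orth {l m : F} (hl : l ≠ 0) (hm : m ≠ 0) (hlm : l ≠ m) {x y : Fin 6 → F} (hx : x ∈ eig g l)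
    (hy : y ∈ eig g m) : h x y = 0 := by
  have e := su_h g x y
  rw [mem_eig] at hx hy
  rw [hx, hy, h_smul_left, h_smul_right hF, ← mul_assoc] at e
  have : (l * σ m - 1) * h x y = 0 := by rw [sub_mul, one_mul, e, sub_self]
  refine (mul_eq_zero.mp this).resolve_left fun e' => hlm ?_
  calc l = l * (σ m * m) := by rw [norm_fix hF hm, mul_one]
    _ = (l * σ m) * m := by ring
    _ = m := by rw [sub_eq_zero.mp e', one_mul]

variable (hg : ∀ x : Fin 6 → F, mat g *ᵥ (mat g *ᵥ (mat g *ᵥ x)) = x)

include hg

theorem proj_mem {l : F} (hl : l ≠ 0) (x : Fin 6 → F) : proj g l x ∈ eig g l := by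
  rw [mem_eig, proj, mulVec_add, mulVec_add, mulVec_smul, mulVec_smul, hg, smul_add, smul_add, smul_smul, smul_smul]
  match_scalars
  all_goals first | linear_combination -(cube' hF hl) | linear_combination cube' hF hl | ring

theorem proj_sum {z : F} (hz : z * z + z + 1 = 0) (x : Fin 6 → F) :
    proj g 1 x + proj g z x + proj g (z * z) x = x := by
  have h2 := two_zero hF
  have hz0 : z ≠ 0 := fun e => by rw [e] at hz; simp at hz
  have h3 := cube' hF hz0
  simp only [proj]
  match_scalars
  · linear_combination h2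
  · linear_combination hz + z * h3
  · linear_combination hz

theorem partner {l : F} (hl : l ≠ 0) {x : Fin 6 → F} (hx : x ∈ eig g l) (hx0 : x ≠ 0) :
    ∃ y ∈ eig g l, h y x = 1 := by
  obtain ⟨z, z0, z1, hz, -, -⟩ := exists_zeta hF
  obtain ⟨y, -, hy⟩ := UnitarySimple.exists_partner (n := 6) hF hx0
  refine ⟨proj g l y, proj_mem hF g hg hl y, ?_⟩
  have e := proj_sum hF g hg hz y
  have o : ∀ m : F, m ≠ 0 → m ≠ l → h (proj g m y) x = 0 := fun m hm hml =>
    orth hF g hm hl hml (proj_mem hF g hg hm y) hx
  have hzz0 : z * z ≠ 0 := mul_ne_zero z0 z0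
  have d1 : (1 : F) ≠ z * z := fun e' => z1 (by
    have := cube' hF z0
    rw [← e', one_mul] at this
    exact this)
  have d2 : z ≠ z * z := fun e' => z1 (mul_left_cancel₀ z0 (by rw [← e', mul_one]))
  have hy' : h (proj g 1 y) x + h (proj g z y) x + h (proj g (z * z) y) x = 1 := by
    rw [← h_add_left, ← h_add_left, e, hy]
  rcases units_cases hF hz hl with rfl | rfl | rfl
  · rwa [o z z0 z1, o _ hzz0 d1.symm, add_zero, add_zero] at hy'
  · rwa [o 1 one_ne_zero z1.symm, o _ hzz0 d2.symm, zero_add, add_zero] at hy'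
  · rwa [o 1 one_ne_zero d1, o _ z0 d2, zero_add, zero_add] at hy'

omit hg in
theorem h_self_cases (x : Fin 6 → F) : h x x = 0 ∨ h x x = 1 := fixed hF (h_swap hF x x)

/-- Two-dimensional eigenspaces contain isotropic vectors. -/
theorem exists_iso_mem {l : F} (hl : l ≠ 0) (hd : 2 ≤ Module.finrank F (eig g l)) :
    ∃ u ∈ eig g l, u ≠ 0 ∧ h u u = 0 := by
  by_contra hne
  push Not at hne
  obtain ⟨u, hu0⟩ := Module.finrank_pos_iff_exists_ne_zero.mp (by omega : 0 < Module.finrank F (eig g l))
  have hu0' : (u : Fin 6 → F) ≠ 0 := fun e => hu0 (Subtype.ext e)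
  have huu := (h_self_cases hF (u : Fin 6 → F)).resolve_left (hne u u.2 hu0')
  let L : eig g l →ₗ[F] F :=
    { toFun := fun y => h (y : Fin 6 → F) u
      map_add' := fun a b => h_add_left _ _ _
      map_smul' := fun c a => h_smul_left _ _ _ }
  obtain ⟨w, hw⟩ : ∃ w, w ∈ LinearMap.ker L ∧ w ≠ 0 := by
    have hk := L.finrank_range_add_finrank_ker
    have h1 := (LinearMap.range L).finrank_le
    rw [Module.finrank_self] at h1
    exact Submodule.exists_mem_ne_zero_of_ne_bot fun e => by rw [e, finrank_bot] at hk; omega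
  have hw0 : (w : Fin 6 → F) ≠ 0 := fun e => hw.2 (Subtype.ext e)
  have hwu : h (w : Fin 6 → F) u = 0 := hw.1
  have hww := (h_self_cases hF (w : Fin 6 → F)).resolve_left (hne w w.2 hw0)
  refine hne ((u : Fin 6 → F) + w) (add_mem u.2 w.2) (fun e => ?_) ?_
  · have := congrArg (h · (u : Fin 6 → F)) e
    simp only [h_add_left, huu, hwu, add_zero, h_zero_left hF] at this
    exact one_ne_zero this
  · rw [h_add_left, h_add_right hF, h_add_right hF, huu, hwu, hww, ← h_swap hF (w : Fin 6 → F) u, hwu, map_zero,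
      add_zero, zero_add, add_self hF]

/-- An isotropic eigenvector has an isotropic nonorthogonal companion. -/
theorem exists_iso_partner {l : F} (hl : l ≠ 0) {u : Fin 6 → F} (hu : u ∈ eig g l) (hu0 : u ≠ 0)
    (huu : h u u = 0) : ∃ v ∈ eig g l, v ≠ 0 ∧ h v v = 0 ∧ h v u ≠ 0 := by
  obtain ⟨z, z0, z1, hz, hs, -⟩ := exists_zeta hF
  obtain ⟨y, hy, hyu⟩ := partner hF g hg hl hu hu0
  have huy : h u y = 1 := by rw [← h_swap hF y u, hyu, map_one]
  rcases h_self_cases hF y with e | e
  · exact ⟨y, hy, fun e' => by rw [e', h_zero_left hF] at hyu; exact zero_ne_one hyu, e, by rw [hyu]; exact one_ne_zero⟩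
  · have hv : h (y + z • u) u = 1 := by rw [h_add_left, hyu, h_smul_left, huu, mul_zero, add_zero]
    refine ⟨y + z • u, add_mem hy (Submodule.smul_mem _ _ hu), fun e' => ?_, ?_, by rw [hv]; exact one_ne_zero⟩
    · rw [e', h_zero_left hF] at hv
      exact zero_ne_one hv
    · rw [h_add_left, h_add_right hF, h_add_right hF, h_smul_left, h_smul_right hF, h_smul_left, h_smul_right hF, e,
        hyu, huy, huu, hs]
      linear_combination hz

/-- Eigenspaces of dimension at most three contain no orthogonal pair of isotropic points. -/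
theorem no_pair {l : F} (hl : l ≠ 0) (hd : Module.finrank F (eig g l) ≤ 3) {u w : Fin 6 → F} (hu : u ∈ eig g l)
    (hw : w ∈ eig g l) (huu : h u u = 0) (hww : h w w = 0) (huw : h u w = 0)
    (hli : LinearIndependent F ![u, w]) : False := by
  rw [LinearIndependent.pair_iff] at hli
  have hu0 : u ≠ 0 := fun e => one_ne_zero (hli 1 0 (by rw [e]; simp)).1
  obtain ⟨y₁, hy₁, e1⟩ := partner hF g hg hl hu hu0
  have hwu : h w u = 0 := by rw [← h_swap hF u w, huw, map_zero]
  set c := σ (h y₁ w)
  set w' := w + c • u with hw'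
  have hw'0 : w' ≠ 0 := fun e => one_ne_zero (hli c 1 (by rw [one_smul, add_comm]; exact e)).2
  have e1' : h y₁ w' = 0 := by
    rw [hw', h_add_right hF, h_smul_right hF, e1, mul_one,
      show c = h w y₁ from h_swap hF y₁ w, h_swap hF]
    exact add_self hF _
  obtain ⟨y₂, hy₂, e2⟩ : ∃ y ∈ eig g l, h y w' = 1 :=
    partner hF g hg hl (add_mem hw (Submodule.smul_mem _ _ hu) : w' ∈ eig g l) hw'0
  have huw' : h u w' = 0 := by rw [hw', h_add_right hF, h_smul_right hF, huu, huw, mul_zero, add_zero]
  have hw'w' : h w' w' = 0 := by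
    rw [hw', h_add_left, h_smul_left, h_add_right hF, h_add_right hF, h_smul_right hF, h_smul_right hF, huu, huw, hwu,
      hww]
    simp
  have hw'u : h w' u = 0 := by rw [hw', h_add_left, h_smul_left, huu, hwu, mul_zero, add_zero]
  have hind : LinearIndependent F (![⟨u, hu⟩, ⟨w', add_mem hw (Submodule.smul_mem _ _ hu)⟩, ⟨y₁, hy₁⟩, ⟨y₂, hy₂⟩] :
      Fin 4 → eig g l) := by
    rw [Fintype.linearIndependent_iff]
    intro a ha
    have e : a 0 • u + a 1 • w' + a 2 • y₁ + a 3 • y₂ = 0 := by
      have := congrArg Subtype.val ha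
      simpa [Fin.sum_univ_four] using this
    have h1 := congrArg (h · w') e
    simp only [h_add_left, h_smul_left, huw', hw'w', e1', e2, h_zero_left hF, mul_zero, mul_one, zero_add,
      add_zero] at h1
    have h2 := congrArg (h · u) e
    simp only [h_add_left, h_smul_left, huu, hw'u, e1, h1, h_zero_left hF, mul_zero, zero_mul, mul_one, zero_add,
      add_zero] at h2
    rw [h1, h2, zero_smul, zero_smul, add_zero, add_zero, hw', smul_add, smul_smul, add_left_comm, ← add_smul,
      add_comm] at e
    obtain ⟨e3, e4⟩ := hli _ _ e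
    rw [e4, zero_mul, add_zero] at e3
    intro i
    fin_cases i <;> assumption
  have := hind.fintype_card_le_finrank
  rw [Fintype.card_fin] at this
  omega

/-- The dimensions of the eigenspaces. -/
theorem dims {z : F} (hz : z * z + z + 1 = 0) :
    Module.finrank F (eig g 1) + Module.finrank F (eig g z) + Module.finrank F (eig g (z * z)) = 6 ∧
      3 ∣ Module.finrank F (eig g z) + 2 * Module.finrank F (eig g (z * z)) := by
  have hz0 : z ≠ 0 := fun e => by rw [e] at hz; simp at hz
  have h3 := cube' hF hz0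
  have hz1 : z ≠ 1 := fun e => by
    rw [e] at hz
    exact one_ne_zero (α := F) (by linear_combination hz - two_zero hF)
  have hzz0 : z * z ≠ 0 := mul_ne_zero hz0 hz0
  let e : (eig g 1 × eig g z × eig g (z * z)) ≃ₗ[F] (Fin 6 → F) :=
    LinearEquiv.ofLinear
      ((eig g 1).subtype.coprod ((eig g z).subtype.coprod (eig g (z * z)).subtype))
      (LinearMap.prod
        (LinearMap.codRestrict _ ⟨⟨proj g 1, proj_add g 1⟩, proj_smul g 1⟩ (proj_mem hF g hg one_ne_zero))
        (LinearMap.prod
          (LinearMap.codRestrict _ ⟨⟨proj g z, proj_add g z⟩, proj_smul g z⟩ (proj_mem hF g hg hz0))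
          (LinearMap.codRestrict _ ⟨⟨proj g (z * z), proj_add g (z * z)⟩, proj_smul g (z * z)⟩
            (proj_mem hF g hg hzz0))))
      (LinearMap.ext fun x => by
        show proj g 1 x + (proj g z x + proj g (z * z) x) = x
        rw [← add_assoc, proj_sum hF g hg hz])
      (LinearMap.ext fun p => by
        obtain ⟨⟨a, ha⟩, ⟨b, hb⟩, ⟨c, hc⟩⟩ := p
        have d1 : (1 : F) ≠ z * z := fun k => hz1 (by
          rw [← k, one_mul] at h3
          exact h3)
        have d2 : z ≠ z * z := fun k => hz1 (mul_left_cancel₀ hz0 (by rw [← k, mul_one]))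
        have same : ∀ (l : F) (x : Fin 6 → F), l ≠ 0 → mat g *ᵥ x = l • x → proj g l x = x := by
          intro l x hl hx
          simp only [proj, hx, mulVec_smul, smul_smul]
          match_scalars
          linear_combination 2 * cube' hF hl + two_zero hF
        have diff : ∀ (l m : F) (x : Fin 6 → F), l ≠ 0 → m ≠ 0 → l ≠ m → mat g *ᵥ x = m • x → proj g l x = 0 := by
          intro l m x hl hm hlm hx
          simp only [proj, hx, mulVec_smul, smul_smul]
          have e' : (l - m) * (1 + l * l * m + l * (m * m)) = 0 := by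
            linear_combination m * cube' hF hl - l * cube' hF hm
          have e'' := (mul_eq_zero.mp e').resolve_left (sub_ne_zero.mpr hlm)
          match_scalars
          linear_combination e''
        refine Prod.ext (Subtype.ext ?_) (Prod.ext (Subtype.ext ?_) (Subtype.ext ?_))
        · show proj g 1 (a + (b + c)) = a
          rw [proj_add, proj_add, same 1 a one_ne_zero ha, diff 1 z b one_ne_zero hz0 hz1.symm hb,
            diff 1 _ c one_ne_zero hzz0 d1 hc, add_zero, add_zero]
        · show proj g z (a + (b + c)) = b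
          rw [proj_add, proj_add, diff z 1 a hz0 one_ne_zero hz1 ha, same z b hz0 hb,
            diff z _ c hz0 hzz0 d2 hc, add_zero, zero_add]
        · show proj g (z * z) (a + (b + c)) = c
          rw [proj_add, proj_add, diff _ 1 a hzz0 one_ne_zero d1.symm ha, diff _ z b hzz0 hz0 d2.symm hb,
            same _ c hzz0 hc, zero_add, zero_add])
  refine ⟨?_, ?_⟩
  · have := e.finrank_eq
    rw [Module.finrank_prod, Module.finrank_prod, Module.finrank_fin_fun] at this
    omega
  · have hdet : LinearMap.det (Matrix.toLin' (mat g)) = 1 := by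
      rw [LinearMap.det_toLin']; exact g.1.2
    have hconj : Matrix.toLin' (mat g) = e.toLinearMap ∘ₗ
        (LinearMap.prodMap ((1 : F) • LinearMap.id)
          (LinearMap.prodMap (z • LinearMap.id) ((z * z) • LinearMap.id))) ∘ₗ e.symm.toLinearMap := by
      refine LinearMap.ext fun x => ?_
      show mat g *ᵥ x = (1 : F) • proj g 1 x + (z • proj g z x + (z * z) • proj g (z * z) x)
      conv_lhs => rw [← proj_sum hF g hg hz x]
      rw [mulVec_add, mulVec_add, mem_eig g |>.mp (proj_mem hF g hg one_ne_zero x),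
        mem_eig g |>.mp (proj_mem hF g hg hz0 x), mem_eig g |>.mp (proj_mem hF g hg hzz0 x), add_assoc]
    rw [hconj, LinearMap.det_conj, LinearMap.det_prodMap, LinearMap.det_prodMap, LinearMap.det_smul,
      LinearMap.det_smul, LinearMap.det_smul, LinearMap.det_id, LinearMap.det_id, LinearMap.det_id, one_pow,
      one_mul, mul_one, mul_one, one_mul, mul_pow, ← pow_add, ← pow_add] at hdet
    rw [two_mul]
    generalize Module.finrank F (eig g z) + (Module.finrank F (eig g (z * z)) + Module.finrank F (eig g (z * z))) = N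
      at hdet ⊢
    rw [← Nat.mod_add_div N 3, pow_add, pow_mul, show z ^ 3 = 1 from cube hF hz0, one_pow, mul_one] at hdet
    have := Nat.mod_lt N (show 3 > 0 by norm_num)
    interval_cases hm : N % 3
    · exact Nat.dvd_of_mod_eq_zero hm
    · exact absurd (by simpa using hdet) hz1
    · exfalso
      rw [pow_two] at hdet
      refine hz1 ?_
      rw [hdet, one_mul] at h3
      exact h3

omit hg in
/-- A scalar matrix is central. -/
theorem central_of_scalar {c : F} {k : Cfsg.SU 6 F 2} (hk : ∀ x, mat k *ᵥ x = c • x) :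
    k ∈ Subgroup.center (Cfsg.SU 6 F 2) :=
  Subgroup.mem_center_iff.mpr fun a => su_ext fun x => by
    rw [mat_mul, mat_mul, ← mulVec_mulVec, ← mulVec_mulVec, hk, hk, mulVec_smul]

/-- The shape of an element of exponent three with a large eigenspace. -/
theorem big {l : F} (hl : l ≠ 0) (hd : 4 ≤ Module.finrank F (eig g l)) :
    π g = 1 ∨ ∃ p q : Fin 6 → F, p ≠ 0 ∧ q ≠ 0 ∧ h p p = 0 ∧ h q q = 0 ∧ h p q ≠ 0 ∧
      π g = π (tu hF p * tu hF q) := by
  classical
  obtain ⟨z, z0, z1, hz, hs, -⟩ := exists_zeta hF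
  obtain ⟨dsum, ddiv⟩ := dims hF g hg hz
  have h3 := cube' hF z0
  have m0 : l * z ≠ 0 := mul_ne_zero hl z0
  have n0 : l * (z * z) ≠ 0 := mul_ne_zero hl (mul_ne_zero z0 z0)
  obtain ⟨s1, s2⟩ : Module.finrank F (eig g l) + Module.finrank F (eig g (l * z)) +
      Module.finrank F (eig g (l * (z * z))) = 6 ∧
      3 ∣ Module.finrank F (eig g (l * z)) + 2 * Module.finrank F (eig g (l * (z * z))) := by
    rcases units_cases hF hz hl with e | e | e <;> rw [e]
    · rw [one_mul, one_mul]; exact ⟨dsum, ddiv⟩
    · rw [show z * (z * z) = 1 by linear_combination h3]; omega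
    · rw [h3, show z * z * (z * z) = z by linear_combination z * h3]; omega
  have hsum : ∀ x, proj g l x + proj g (l * z) x + proj g (l * (z * z)) x = x := by
    intro x
    have e := proj_sum hF g hg hz x
    rcases units_cases hF hz hl with el | el | el <;> rw [el]
    · rw [one_mul, one_mul]; exact e
    · rw [show z * (z * z) = 1 by linear_combination h3]
      conv_rhs => rw [← e]
      abel
    · rw [h3, show z * z * (z * z) = z by linear_combination z * h3]
      conv_rhs => rw [← e]
      abel
  by_cases h6 : Module.finrank F (eig g l) = 6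
  · left
    have ht : eig g l = ⊤ := Submodule.eq_top_of_finrank_eq (by rw [h6, Module.finrank_fin_fun])
    exact (QuotientGroup.eq_one_iff g).mpr (central_of_scalar hF (c := l) fun x =>
      (mem_eig g).mp (ht ▸ Submodule.mem_top : x ∈ eig g l))
  have hm1 : Module.finrank F (eig g (l * z)) = 1 := by omega
  have hn1 : Module.finrank F (eig g (l * (z * z))) = 1 := by omega
  have basisv : ∀ m : F, m ≠ 0 → Module.finrank F (eig g m) = 1 →
      ∃ e ∈ eig g m, h e e = 1 ∧ ∀ x ∈ eig g m, x = h x e • e := by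
    intro m hm hm1
    obtain ⟨e, he0, hspan⟩ := finrank_eq_one_iff'.mp hm1
    have he0' : (e : Fin 6 → F) ≠ 0 := fun k => he0 (Subtype.ext k)
    obtain ⟨y, hy, hye⟩ := partner hF g hg hm e.2 he0'
    obtain ⟨c, hc⟩ := hspan ⟨y, hy⟩
    have hc' : c • (e : Fin 6 → F) = y := congrArg Subtype.val hc
    have hee : h (e : Fin 6 → F) e = 1 := by
      refine (h_self_cases hF _).resolve_left fun k => ?_
      rw [← hc', h_smul_left, k, mul_zero] at hye
      exact zero_ne_one hye
    refine ⟨e, e.2, hee, fun x hx => ?_⟩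
    obtain ⟨a, ha⟩ := hspan ⟨x, hx⟩
    have ha' : a • (e : Fin 6 → F) = x := congrArg Subtype.val ha
    rw [← ha', h_smul_left, hee, mul_one]
  have lm : l ≠ l * z := fun k => z1 (mul_left_cancel₀ hl (k.symm.trans (mul_one l).symm))
  have ln : l ≠ l * (z * z) := fun k => by
    have := mul_left_cancel₀ hl (k.symm.trans (mul_one l).symm)
    rw [this, one_mul] at h3
    exact z1 h3
  have mn : l * z ≠ l * (z * z) := fun k => z1 (by
    have := mul_left_cancel₀ hl k
    exact mul_left_cancel₀ z0 (by rw [← this, mul_one]))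
  obtain ⟨e, he, hee, hspe⟩ := basisv _ m0 hm1
  obtain ⟨f, hf, hff, hspf⟩ := basisv _ n0 hn1
  have hef : h e f = 0 := orth hF g m0 n0 mn he hf
  have hfe : h f e = 0 := orth hF g n0 m0 mn.symm hf he
  have h2 := two_zero hF
  set p := e + f
  set q := e + z • f
  have hpp : h p p = 0 := by
    simp only [p, h_add_left, h_add_right hF, hee, hef, hfe, hff, add_zero, zero_add, add_self hF]
  have hqq : h q q = 0 := by
    simp only [q, h_add_left, h_add_right hF, h_smul_left, h_smul_right hF, hee, hef, hfe, hff, hs, mul_zero, mul_one,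
      add_zero, zero_add]
    linear_combination h3 + h2
  have hpq : h p q = 1 + z * z := by
    simp only [p, q, h_add_left, h_add_right hF, h_smul_right hF, hee, hef, hfe, hff, hs, mul_zero, mul_one,
      add_zero, zero_add]
  have hpq0 : h p q ≠ 0 := by
    rw [hpq]
    intro k
    exact z0 (by linear_combination hz - k)
  have hp0 : p ≠ 0 := fun k => hpq0 (by rw [k, h_zero_left hF])
  have hq0 : q ≠ 0 := fun k => hpq0 (by rw [k, h_zero_right hF])
  refine Or.inr ⟨p, q, hp0, hq0, hpp, hqq, hpq0, ?_⟩
  set τ := tu hF p * tu hF q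
  have hτ : ∀ x, mat g *ᵥ x = l • (mat τ *ᵥ x) := by
    intro x
    have e0 : mat τ *ᵥ proj g l x = proj g l x := by
      have o1 := orth hF g hl m0 lm (proj_mem hF g hg hl x) he
      have o2 := orth hF g hl n0 ln (proj_mem hF g hg hl x) hf
      rw [mat_mul, ← mulVec_mulVec, tu_mulVec hF hqq,
        show h (proj g l x) q = 0 by simp only [q, h_add_right hF, h_smul_right hF, o1, o2, mul_zero, add_zero],
        zero_smul, add_zero, tu_mulVec hF hpp,
        show h (proj g l x) p = 0 by simp only [p, h_add_right hF, o1, o2, add_zero], zero_smul, add_zero]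
    have eq1 : mat τ *ᵥ e = z • e := by
      rw [mat_mul, ← mulVec_mulVec, tu_mulVec hF hqq, tu_mulVec hF hpp]
      simp only [p, q, h_add_left, h_add_right hF, h_smul_left, h_smul_right hF, hee, hef, hfe, hff, mul_zero,
        mul_one, add_zero, zero_add, one_smul]
      match_scalars
      · linear_combination 2 * h2
      · linear_combination (1 + z) * h2
    have eq2 : mat τ *ᵥ f = (z * z) • f := by
      rw [mat_mul, ← mulVec_mulVec, tu_mulVec hF hqq, tu_mulVec hF hpp]
      simp only [p, q, h_add_left, h_add_right hF, h_smul_left, h_smul_right hF, hee, hef, hfe, hff, hs, mul_zero,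
        mul_one, add_zero, zero_add]
      match_scalars
      · linear_combination (1 + z * z * z) * h2
      · linear_combination h3 + (1 + z * z) * h2
    conv_lhs => rw [← hsum x]
    conv_rhs => rw [← hsum x]
    rw [hspe _ (proj_mem hF g hg m0 x), hspf _ (proj_mem hF g hg n0 x)]
    simp only [mulVec_add, mulVec_smul, e0, eq1, eq2, smul_add, (mem_eig g).mp he, (mem_eig g).mp hf,
      (mem_eig g).mp (proj_mem hF g hg hl x)]
    module
  refine (QuotientGroup.mk'_eq_mk' _).mpr ⟨g⁻¹ * τ, ?_, mul_inv_cancel_left g τ⟩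
  refine central_of_scalar hF (c := l * l) fun x => ?_
  calc mat (g⁻¹ * τ) *ᵥ x = mat g⁻¹ *ᵥ ((l * l) • (l • (mat τ *ᵥ x))) := by
        rw [mat_mul, ← mulVec_mulVec, smul_smul, cube' hF hl, one_smul]
    _ = mat g⁻¹ *ᵥ ((l * l) • (mat g *ᵥ x)) := by rw [hτ]
    _ = (l * l) • x := by rw [mulVec_smul, mulVec_mulVec, ← mat_mul, inv_mul_cancel, mat_one, one_mulVec]

end CfsgThreeTrans.M22.ThreeEigen
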