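/-
Elements of order three commuting with a fixed-point-free subgroup of order thirteen fix no transposition.
-/
import Cfsg.Agent.Lib.ThreeTrans.Classes
import Cfsg.Agent.Lib.ThreeTrans.SrgTrace
import Cfsg.Agent.Lib.ThreeTrans.M22.ThreeEigen
import Cfsg.Agent.Lib.ThreeTrans.M22.InvolClasses

set_option autoImplicit false
set_option linter.unusedSectionVars false

namespace CfsgThreeTrans.M22.ThirteenFix

open scoped Matrix
open Matrix (mulVec_smul mulVec_mulVec)
open Cfsg CfsgLib CfsgLib.UnitaryTransvection CfsgLib.UnitarySimple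

universe u

variable {G : Type u} [Group G] [Finite G] {D : Set G}
variable {F : Type} [Field F] [Fintype F] [DecidableEq F] {hF : Fintype.card F = 2 ^ 2}

/-- A subgroup acting freely has order dividing the cardinality of any stable set. -/
theorem dvd_of_stable {Y : Subgroup G} {S : Set G} (hst : ∀ g ∈ Y, ∀ y ∈ S, g * y * g⁻¹ ∈ S)
    (hfree : ∀ g ∈ Y, ∀ y ∈ S, g * y * g⁻¹ = y → g = 1) : Nat.card Y ∣ S.ncard := by
  classical
  letI : MulAction Y S :=
    { smul := fun g y => ⟨(g : G) * y * (g : G)⁻¹, hst g g.2 y y.2⟩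
      one_smul := fun y => Subtype.ext (by show ((1 : Y) : G) * y * ((1 : Y) : G)⁻¹ = y; simp)
      mul_smul := fun g k y => Subtype.ext (by
        show ((g * k : Y) : G) * y * ((g * k : Y) : G)⁻¹ = g * (k * y * (k : G)⁻¹) * (g : G)⁻¹
        simp only [Subgroup.coe_mul]; group) }
  haveI : Fintype S := Fintype.ofFinite S
  rw [← Nat.card_coe_set_eq, Nat.card_congr (MulAction.selfEquivSigmaOrbits Y S), Nat.card_sigma]
  refine Finset.dvd_sum fun q _ => dvd_of_eq ?_
  set y : S := q.out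
  have hs : MulAction.stabilizer Y y = ⊥ := by
    rw [eq_bot_iff]
    intro g hg
    exact Subgroup.mem_bot.mpr (Subtype.ext (hfree g g.2 y y.2 (congrArg Subtype.val hg)))
  rw [← Subgroup.index_bot, ← hs, MulAction.index_stabilizer, Nat.card_coe_set_eq]

/-- The fixed members adjacent to `x`. -/
abbrev nr (D : Set G) (r x : G) : Set G := {y | y ∈ Ds D x ∧ Commute r y}

/-- The shape of the fixed members adjacent to `x`. -/
def Shape (D : Set G) (r x : G) : Prop :=
  (∃ e : G → Fin 3, ∀ y ∈ nr D r x, ∀ z ∈ nr D r x, y ≠ z → (e y = e z ↔ ¬ Commute y z)) ∧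
    ∀ y ∈ nr D r x, (∃ z ∈ nr D r x, ¬ Commute y z) ∧ ∃ w ∈ nr D r x, w ≠ y ∧ Commute y w

theorem nr_cj (hD : IsThreeTranspositionClass D) (g r x : G) :
    nr D (g * r * g⁻¹) (g * x * g⁻¹) = (fun z => g * z * g⁻¹) '' nr D r x := by
  ext y
  constructor
  · rintro ⟨hy, hc⟩
    rw [← cj_Ds hD] at hy
    obtain ⟨z, hz, rfl⟩ := hy
    exact ⟨z, ⟨hz, (commute_cj_iff g).mp hc⟩, rfl⟩
  · rintro ⟨z, ⟨hz, hc⟩, rfl⟩
    exact ⟨by rw [← cj_Ds hD]; exact ⟨z, hz, rfl⟩, (commute_cj_iff g).mpr hc⟩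

theorem shape_cj (hD : IsThreeTranspositionClass D) {g r x : G} (h : Shape D (g * r * g⁻¹) (g * x * g⁻¹)) :
    Shape D r x := by
  obtain ⟨⟨e, he⟩, hr⟩ := h
  rw [nr_cj hD] at he hr
  refine ⟨⟨fun y => e (g * y * g⁻¹), fun y hy z hz hne => ?_⟩, fun y hy => ?_⟩
  · rw [he _ ⟨y, hy, rfl⟩ _ ⟨z, hz, rfl⟩ fun k => hne (cj_injective g k), commute_cj_iff]
  · obtain ⟨⟨_, ⟨z, hz, rfl⟩, hc⟩, _, ⟨w, hw, rfl⟩, hne, hcw⟩ := hr _ ⟨y, hy, rfl⟩
    exact ⟨⟨z, hz, fun k => hc ((commute_cj_iff g).mpr k)⟩, w, hw, fun k => hne (k ▸ rfl), (commute_cj_iff g).mp hcw⟩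

set_option maxHeartbeats 1000000 in
/-- The shape at the base transposition. -/
theorem shape_base (hD : IsThreeTranspositionClass D) (hp : IsPrimitiveUnderConj D)
    (hloc : ∃ d ∈ D, LocalOK D d) (hZ : Subgroup.center G = ⊥) (A : Data D F hF) {r : G} (hr : orderOf r = 3)
    (hc : Commute r A.t) :
    (∃ a ∈ D, ∃ d ∈ D, ¬ Commute a d ∧ r = a * d) ∨ Shape D r A.t := by
  classical
  obtain ⟨z, z0, z1, hz, -, -⟩ := exists_zeta hF
  have hCe := centralizer_eq hD hp hloc hZ A A.ht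
  have hrK : r ∈ Subgroup.closure (Ds D A.t) := hCe ▸ Subgroup.mem_centralizer_singleton_iff.mpr hc.eq
  obtain ⟨k, hk⟩ := QuotientGroup.mk'_surjective (Subgroup.center (Cfsg.SU 6 F 2)) (A.φ ⟨r, hrK⟩)
  have hr3 : r ^ 3 = 1 := by rw [← hr, pow_orderOf_eq_one]
  have htt := mul_self hD.1 A.ht
  have kerr : ∀ s : G, ∀ hs : s ∈ Subgroup.closure (Ds D A.t), A.φ ⟨s, hs⟩ = 1 → s = 1 ∨ s = A.t := by
    intro s hs e
    rw [← MonoidHom.mem_ker, A.ker_φ, center_closure hD hp hloc hZ A A.ht, Subgroup.mem_subgroupOf] at e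
    obtain ⟨j, hj⟩ := Subgroup.mem_zpowers_iff.mp e
    have hj' : A.t ^ j = s := hj
    rcases Int.even_or_odd' j with ⟨i, rfl | rfl⟩
    · left; rw [← hj', zpow_mul, zpow_ofNat, pow_two, htt, one_zpow]
    · right; rw [← hj', zpow_add, zpow_mul, zpow_ofNat, pow_two, htt, one_zpow, one_mul, zpow_one]
  have ht1 : A.t ≠ 1 := fun e => by have := hD.1.1 A.t A.ht; rw [e, orderOf_one] at this; norm_num at this
  -- points fixed by `r` are eigenlines
  have hfix : ∀ x : Iso F, Commute r (point A x) ↔ ∃ l : F, l ≠ 0 ∧ mat k *ᵥ x.1 = l • x.1 := by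
    intro x
    obtain ⟨y, hy, hyx⟩ := cj_point hD A hrK hk.symm x
    have e : Commute r (point A x) ↔ point A y = point A x := by
      rw [← hyx]
      exact ⟨fun h => by rw [h.eq, mul_inv_cancel_right], fun h => mul_inv_eq_iff_eq_mul.mp h⟩
    rw [e, point_eq_iff, hy]
  have hk3 : k ^ 3 ∈ Subgroup.center (Cfsg.SU 6 F 2) := by
    refine (QuotientGroup.eq_one_iff _).mp ?_
    show QuotientGroup.mk' _ (k ^ 3) = 1
    rw [map_pow, hk, ← map_pow, show (⟨r, hrK⟩ : ↥(Subgroup.closure (Ds D A.t))) ^ 3 = 1 from Subtype.ext hr3,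
      map_one]
  obtain ⟨c, hc3⟩ := (SpectrumPowers.mk_eq_one_iff_SU hF (by norm_num) _).mp ((QuotientGroup.eq_one_iff _).mpr hk3)
  have hg3 : ∀ x : Fin 6 → F, mat k *ᵥ (mat k *ᵥ (mat k *ᵥ x)) = c • x := by
    intro x
    have : mat (k ^ 3) *ᵥ x = c • x := by
      show (k ^ 3).1.1 *ᵥ x = _
      rw [hc3]
      simp [Matrix.scalar_apply, ← Matrix.smul_one_eq_diagonal, Matrix.smul_mulVec]
    rw [← this, mulVec_mulVec, mulVec_mulVec, pow_succ, pow_two, mat_mul, mat_mul]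
  by_cases hc1 : c = 1
  swap
  · right
    have h0 : nr D r A.t = ∅ := by
      refine Set.eq_empty_of_forall_notMem fun y hy => ?_
      obtain ⟨x, rfl⟩ := point_surj A hy.1
      obtain ⟨l, hl, hl'⟩ := (hfix x).mp hy.2
      have := hg3 x.1
      rw [hl', mulVec_smul, hl', mulVec_smul, mulVec_smul, hl', smul_smul, smul_smul] at this
      refine hc1 (smul_left_injective F x.2.1 (?_ : c • x.1 = (1 : F) • x.1))
      rw [← this, ThreeEigen.cube' hF hl]
    exact ⟨⟨fun _ => 0, fun y hy => by rw [h0] at hy; exact hy.elim⟩, fun y hy => by rw [h0] at hy; exact hy.elim⟩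
  have hg : ∀ x : Fin 6 → F, mat k *ᵥ (mat k *ᵥ (mat k *ᵥ x)) = x := fun x => by rw [hg3, hc1, one_smul]
  by_cases hbig : ∃ l : F, l ≠ 0 ∧ 4 ≤ Module.finrank F (ThreeEigen.eig k l)
  · left
    obtain ⟨l, hl, hd⟩ := hbig
    rcases ThreeEigen.big hF k hg hl hd with e | ⟨p, q, hp0, hq0, hpp, hqq, hpq, e⟩
    · exfalso
      rw [hk] at e
      rcases kerr r hrK e with e' | e'
      · rw [e', orderOf_one] at hr; norm_num at hr
      · rw [e', hD.1.1 A.t A.ht] at hr; norm_num at hr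
    set a := point A ⟨p, hp0, hpp⟩
    set d := point A ⟨q, hq0, hqq⟩
    have had : ¬ Commute a d := fun h => hpq ((point_commute_iff A _ _).mp h)
    refine ⟨a, (point_mem A _).1, d, (point_mem A _).1, had, ?_⟩
    have hade : a * d ∈ Subgroup.closure (Ds D A.t) := mul_mem (point_mem' A _) (point_mem' A _)
    have eφ : A.φ ⟨(a * d)⁻¹ * r, mul_mem (inv_mem hade) hrK⟩ = 1 := by
      rw [show (⟨(a * d)⁻¹ * r, mul_mem (inv_mem hade) hrK⟩ : ↥(Subgroup.closure (Ds D A.t))) =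
          ((⟨a, point_mem' A _⟩ : ↥(Subgroup.closure (Ds D A.t))) * ⟨d, point_mem' A _⟩)⁻¹ * ⟨r, hrK⟩ from rfl,
        map_mul, map_inv, map_mul, point_φ, point_φ, ← hk, e, ← map_mul, inv_mul_cancel]
    rcases kerr _ _ eφ with e' | e'
    · exact (inv_mul_eq_one.mp e').symm
    · exfalso
      have hr' : r = a * d * A.t := by rw [← e', mul_inv_cancel_left]
      have hcom : Commute (a * d) A.t := ((point_mem A ⟨p, hp0, hpp⟩).2.2.symm).mul_left
        (point_mem A ⟨q, hq0, hqq⟩).2.2.symm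
      rw [hr', hcom.mul_pow, pow_three hD.1 (point_mem A _).1 (point_mem A _).1 had, one_mul, pow_succ, pow_two,
        htt, one_mul] at hr3
      exact ht1 hr3
  right
  push Not at hbig
  have hle : ∀ l : F, l ≠ 0 → Module.finrank F (ThreeEigen.eig k l) ≤ 3 := fun l hl => by
    have := hbig l hl; omega
  have hne : ∀ {y : G}, ∀ x : Iso F, point A x = y → y ∈ nr D r A.t →
      ∃ l : F, l ≠ 0 ∧ x.1 ∈ ThreeEigen.eig k l := by
    rintro y x rfl hy
    exact (hfix x).mp hy.2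
  have huniq : ∀ (x x' : Iso F) (l m : F), point A x = point A x' → x.1 ∈ ThreeEigen.eig k l →
      x'.1 ∈ ThreeEigen.eig k m → l = m := by
    intro x x' l m e hx hx'
    obtain ⟨a, -, ea⟩ := (point_eq_iff A x x').mp e
    have hx2 : x.1 ∈ ThreeEigen.eig k m := ea ▸ Submodule.smul_mem _ a hx'
    exact smul_left_injective F x.2.1 (((ThreeEigen.mem_eig k).mp hx).symm.trans ((ThreeEigen.mem_eig k).mp hx2))
  let e : G → Fin 3 := fun y =>
    if ∃ x : Iso F, point A x = y ∧ x.1 ∈ ThreeEigen.eig k 1 then 0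
    else if ∃ x : Iso F, point A x = y ∧ x.1 ∈ ThreeEigen.eig k z then 1 else 2
  have hzz : z * z ≠ 1 := fun k' => z1 (by
    have := ThreeEigen.cube' hF z0
    rw [k', one_mul] at this
    exact this)
  have hzd : z * z ≠ z := fun k' => z1 (mul_left_cancel₀ z0 (k'.trans (mul_one z).symm))
  have eval : ∀ x : Iso F, ∀ l : F, l ≠ 0 → x.1 ∈ ThreeEigen.eig k l →
      e (point A x) = if l = 1 then 0 else if l = z then 1 else 2 := by
    intro x l hl hx
    simp only [e]
    have h1 : (∃ x' : Iso F, point A x' = point A x ∧ x'.1 ∈ ThreeEigen.eig k 1) ↔ l = 1 :=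
      ⟨fun ⟨x', e', hx'⟩ => huniq x x' l 1 e'.symm hx hx', fun el => ⟨x, rfl, el ▸ hx⟩⟩
    have h2' : (∃ x' : Iso F, point A x' = point A x ∧ x'.1 ∈ ThreeEigen.eig k z) ↔ l = z :=
      ⟨fun ⟨x', e', hx'⟩ => huniq x x' l z e'.symm hx hx', fun el => ⟨x, rfl, el ▸ hx⟩⟩
    simp only [h1, h2']
  have ecases : ∀ l m : F, l ≠ 0 → m ≠ 0 →
      ((if l = 1 then (0 : Fin 3) else if l = z then 1 else 2) = if m = 1 then 0 else if m = z then 1 else 2) →
      l = m := by
    intro l m hl hm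
    rcases ThreeEigen.units_cases hF hz hl with rfl | rfl | rfl <;>
      rcases ThreeEigen.units_cases hF hz hm with rfl | rfl | rfl <;>
      simp [z1, hzz, hzd, Ne.symm z1]
  have same : ∀ x x' : Iso F, point A x ≠ point A x' → ∀ l : F, l ≠ 0 → x.1 ∈ ThreeEigen.eig k l →
      x'.1 ∈ ThreeEigen.eig k l → ¬ Commute (point A x) (point A x') := by
    intro x x' hxx l hl hx hx' hcom
    exact ThreeEigen.no_pair hF k hg hl (hle l hl) hx hx' x.2.2 x'.2.2 ((point_commute_iff A _ _).mp hcom)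
      (point_li A x x' hxx)
  refine ⟨⟨e, fun y hy y' hy' hyy => ?_⟩, fun y hy => ?_⟩
  · obtain ⟨x, rfl⟩ := point_surj A hy.1
    obtain ⟨x', rfl⟩ := point_surj A hy'.1
    obtain ⟨l, hl, hx⟩ := hne x rfl hy
    obtain ⟨m, hm, hx'⟩ := hne x' rfl hy'
    rw [eval x l hl hx, eval x' m hm hx']
    constructor
    · intro el
      obtain rfl := ecases l m hl hm el
      exact same x x' hyy l hl hx hx'
    · intro hn
      by_contra hlm
      exact hn ((point_commute_iff A _ _).mpr (ThreeEigen.orth hF k hl hm (fun el => hlm (el ▸ rfl)) hx hx'))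
  · obtain ⟨x, rfl⟩ := point_surj A hy.1
    obtain ⟨l, hl, hx⟩ := hne x rfl hy
    obtain ⟨v, hv, hv0, hvv, hvx⟩ := ThreeEigen.exists_iso_partner hF k hg hl hx x.2.1 x.2.2
    have memv : ∀ (v : Fin 6 → F) (hv0 : v ≠ 0) (hvv : Cfsg.hermForm 6 F 2 v v = 0) (m : F), m ≠ 0 →
        v ∈ ThreeEigen.eig k m → point A ⟨v, hv0, hvv⟩ ∈ nr D r A.t := fun v hv0 hvv m hm hvm =>
      ⟨point_mem A _, (hfix ⟨v, hv0, hvv⟩).mpr ⟨m, hm, hvm⟩⟩
    refine ⟨⟨_, memv v hv0 hvv l hl hv, fun hcom => hvx ((point_commute_iff A _ _).mp hcom.symm)⟩, ?_⟩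
    obtain ⟨dsum, ddiv⟩ := ThreeEigen.dims hF k hg hz
    have hzz0 : z * z ≠ 0 := mul_ne_zero z0 z0
    have d1 := hle 1 one_ne_zero
    have d2 := hle z z0
    have d3 := hle _ hzz0
    obtain ⟨m, hm, hml, hmd⟩ : ∃ m : F, m ≠ 0 ∧ m ≠ l ∧ 2 ≤ Module.finrank F (ThreeEigen.eig k m) := by
      rcases ThreeEigen.units_cases hF hz hl with el | el | el <;> rw [el]
      · rcases (show 2 ≤ Module.finrank F (ThreeEigen.eig k z) ∨
            2 ≤ Module.finrank F (ThreeEigen.eig k (z * z)) by omega) with h' | h'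
        exacts [⟨z, z0, z1, h'⟩, ⟨z * z, hzz0, hzz, h'⟩]
      · rcases (show 2 ≤ Module.finrank F (ThreeEigen.eig k 1) ∨
            2 ≤ Module.finrank F (ThreeEigen.eig k (z * z)) by omega) with h' | h'
        exacts [⟨1, one_ne_zero, Ne.symm z1, h'⟩, ⟨z * z, hzz0, hzd, h'⟩]
      · rcases (show 2 ≤ Module.finrank F (ThreeEigen.eig k 1) ∨
            2 ≤ Module.finrank F (ThreeEigen.eig k z) by omega) with h' | h'
        exacts [⟨1, one_ne_zero, Ne.symm hzz, h'⟩, ⟨z, z0, Ne.symm hzd, h'⟩]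
    obtain ⟨w, hw, hw0, hww⟩ := ThreeEigen.exists_iso_mem hF k hg hm hmd
    refine ⟨_, memv w hw0 hww m hm hw, fun e' => hml (huniq _ x m l e' hw hx), ?_⟩
    exact (point_commute_iff A _ _).mpr (ThreeEigen.orth hF k hl hm (Ne.symm hml) hx hw)

theorem shape_at (hD : IsThreeTranspositionClass D) (hp : IsPrimitiveUnderConj D)
    (hloc : ∃ d ∈ D, LocalOK D d) (hZ : Subgroup.center G = ⊥) (A : Data D F hF) {r x : G} (hr : orderOf r = 3)
    (hx : x ∈ D) (hc : Commute r x) :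
    (∃ a ∈ D, ∃ d ∈ D, ¬ Commute a d ∧ r = a * d) ∨ Shape D r x := by
  obtain ⟨g, hg⟩ := cls_exists_conj hD hx A.ht
  have hr' : orderOf (g * r * g⁻¹) = 3 := by
    rw [← hr]; exact (MulAut.conj g).orderOf_eq r
  have hc' : Commute (g * r * g⁻¹) A.t := by rw [← hg]; exact (commute_cj_iff g).mpr hc
  rcases shape_base hD hp hloc hZ A hr' hc' with ⟨a, ha, d, hd, had, e⟩ | h
  · refine Or.inl ⟨g⁻¹ * a * g⁻¹⁻¹, cls_conj hD _ ha, g⁻¹ * d * g⁻¹⁻¹, cls_conj hD _ hd,
      fun k => had ((commute_cj_iff g⁻¹).mp k), ?_⟩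
    rw [show r = g⁻¹ * (g * r * g⁻¹) * g by group, e]
    group
  · exact Or.inr (shape_cj hD (g := g) (by rwa [hg]))

/-- Noncommuting is transitive among the fixed neighbours. -/
theorem Shape.trans {r x y z w : G} (h : Shape D r x) (hy : y ∈ nr D r x) (hz : z ∈ nr D r x)
    (hw : w ∈ nr D r x) (hyz : ¬ Commute y z) (hzw : ¬ Commute z w) : y = w ∨ ¬ Commute y w := by
  obtain ⟨e, he⟩ := h.1
  by_cases hyw : y = w
  · exact Or.inl hyw
  refine Or.inr ((he y hy w hw hyw).mp ?_)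
  rw [(he y hy z hz fun k => hyz (k ▸ Commute.refl _)).mpr hyz,
    (he z hz w hw fun k => hzw (k ▸ Commute.refl _)).mpr hzw]

variable {r : G}

theorem nr_symm {x y : G} (hx : x ∈ D) (hxr : Commute r x) (hy : y ∈ nr D r x) : x ∈ nr D r y :=
  ⟨⟨hx, hy.1.2.1.symm, hy.1.2.2.symm⟩, hxr⟩

/-- Two fixed members at distance two have the same fixed neighbours. -/
theorem swap (hsh : ∀ x ∈ D, Commute r x → Shape D r x) {x y z : G} (hx : x ∈ D) (hxr : Commute r x)
    (hy : y ∈ nr D r x) (hz : z ∈ nr D r y) (hxz : ¬ Commute x z) : nr D r x = nr D r z := by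
  suffices H : ∀ {x y z : G}, x ∈ D → Commute r x → y ∈ nr D r x → z ∈ nr D r y → ¬ Commute x z →
      nr D r x ⊆ nr D r z from
    Set.Subset.antisymm (H hx hxr hy hz hxz)
      (H hz.1.1 hz.2 (nr_symm hy.1.1 hy.2 hz) (nr_symm hx hxr hy) fun k => hxz k.symm)
  clear hx hxr hy hz hxz x y z
  intro x y z hx hxr hy hz hxz y' hy'
  have hxy := nr_symm hx hxr hy
  obtain ⟨-, w, hw, hwy, hyw⟩ := (hsh x hx hxr).2 y hy
  have hw' : w ∈ nr D r y := ⟨⟨hw.1.1, hwy, hyw⟩, hw.2⟩
  have hwz : Commute w z := by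
    by_contra hn
    rcases (hsh y hy.1.1 hy.2).trans hw' hz hxy hn (fun k => hxz k.symm) with e | e
    · exact hw.1.2.1 e
    · exact e hw.1.2.2.symm
  have hzw : z ∈ nr D r w :=
    ⟨⟨hz.1.1, fun e => hxz (e ▸ hw.1.2.2), hwz⟩, hz.2⟩
  have hy'y : Commute y' y ∨ Commute y' w := by
    by_contra hn
    push Not at hn
    rcases (hsh x hx hxr).trans hy hy' hw (fun k => hn.1 k.symm) hn.2 with e | e
    · exact hwy e.symm
    · exact e hyw
  have hgen : ∀ u, u ∈ nr D r x → z ∈ nr D r u → Commute y' u → Commute z y' := by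
    intro u hu hzu hyu
    by_cases e : y' = u
    · rw [e]; exact hzu.1.2.2.symm
    by_contra hn
    have hy'u : y' ∈ nr D r u := ⟨⟨hy'.1.1, e, hyu.symm⟩, hy'.2⟩
    rcases (hsh u hu.1.1 hu.2).trans hy'u hzu (nr_symm hx hxr hu) (fun k => hn k.symm) (fun k => hxz k.symm) with
      e' | e'
    · exact hy'.1.2.1 e'
    · exact e' hy'.1.2.2.symm
  have hfin : Commute z y' := hy'y.elim (hgen y hy hz) (hgen w hw hzw)
  exact ⟨⟨hy'.1.1, fun e => hxz (e ▸ hy'.1.2.2), hfin⟩, hy'.2⟩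

/-- The members with the same fixed neighbours as `v` are a power of three in number. -/
theorem class_card (hD : IsThreeTranspositionClass D) {v : G} (hv : v ∈ D) (hvr : Commute r v) :
    ∃ n : ℕ, {w | w ∈ D ∧ Commute r w ∧ nr D r w = nr D r v}.ncard ∣ 3 ^ n := by
  classical
  set C := {w | w ∈ D ∧ Commute r w ∧ nr D r w = nr D r v}
  have hvC : v ∈ C := ⟨hv, hvr, rfl⟩
  have hnc : ∀ a ∈ C, ∀ b ∈ C, a ≠ b → ¬ Commute a b := by
    intro a ha b hb hab hc
    have : b ∈ nr D r a := ⟨⟨hb.1, hab.symm, hc⟩, hb.2.1⟩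
    rw [ha.2.2, ← hb.2.2] at this
    exact this.1.2.1 rfl
  have hstab : ∀ a ∈ C, ∀ b ∈ C, a * b * a⁻¹ ∈ C := by
    intro a ha b hb
    have hra : a * r * a⁻¹ = r := mul_inv_eq_iff_eq_mul.mpr ha.2.1.eq.symm
    refine ⟨cls_conj hD a hb.1, ?_, ?_⟩
    · rw [← hra]; exact (commute_cj_iff a).mpr hb.2.1
    · conv_lhs => rw [← hra]
      rw [nr_cj hD, hb.2.2, ← ha.2.2]
      ext y
      constructor
      · rintro ⟨z, hz, rfl⟩
        show a * z * a⁻¹ ∈ nr D r a
        rw [hz.1.2.2.eq, mul_inv_cancel_right]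
        exact hz
      · intro hy
        exact ⟨y, hy, by show a * y * a⁻¹ = y; rw [hy.1.2.2.eq, mul_inv_cancel_right]⟩
  have h3 : ∀ a ∈ C, ∀ b ∈ C, (a * b) ^ 3 = 1 := by
    intro a ha b hb
    by_cases e : a = b
    · rw [e, mul_self hD.1 hb.1, one_pow]
    · exact pow_three hD.1 ha.1 hb.1 (hnc a ha b hb e)
  obtain ⟨P, hP, hPle, hmem⟩ := width_one_products C (fun a ha => hD.1.1 a ha.1) hstab h3
  have hinvar : ∀ k ∈ Subgroup.closure C, ∀ b ∈ C, k * b * k⁻¹ ∈ C := by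
    intro k hk
    refine Subgroup.closure_induction'' (p := fun k _ => ∀ b ∈ C, k * b * k⁻¹ ∈ C) hstab ?_ ?_ ?_ hk
    · intro a ha b hb
      rw [inv_self hD.1 ha.1]
      exact hstab a ha b hb
    · intro b hb; simpa using hb
    · intro x y _ _ hx hy b hb
      rw [← cj_cj]
      exact hx _ (hy b hb)
  have e := M22.card_orbit_stab P v C (fun k hk => hinvar k (hPle hk) v hvC) (fun b hb => by
    refine ⟨v * b, hmem v hvC b hb, ?_⟩
    by_cases e : v = b
    · rw [e, mul_self hD.1 hb.1]; group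
    have hvv := mul_self hD.1 hv
    have hbb := mul_self hD.1 hb.1
    rw [mul_inv_rev, inv_self hD.1 hv, inv_self hD.1 hb.1]
    calc v * b * v * (b * v) = v * (b * v * b) * v := by group
      _ = v * (v * b * v) * v := by rw [braid hD.1 hv hb.1 (hnc v hvC b hb e)]
      _ = (v * v) * b * (v * v) := by group
      _ = b := by rw [hvv, one_mul, mul_one])
  haveI : Fact (Nat.Prime 3) := ⟨by norm_num⟩
  obtain ⟨n, hn⟩ := IsPGroup.iff_card.mp hP
  exact ⟨n, ⟨_, hn.symm.trans e⟩⟩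

set_option maxHeartbeats 1000000 in
/-- No element of order three commuting with a fixed-point-free subgroup of order thirteen fixes a transposition. -/
theorem no_fix (hD : IsThreeTranspositionClass D) (hp : IsPrimitiveUnderConj D)
    (hloc : ∃ d ∈ D, LocalOK D d) (hZ : Subgroup.center G = ⊥) (A : Data D F hF) {X : Subgroup G}
    (hX : Nat.card X = 13) (hfree : ∀ g ∈ X, ∀ y ∈ D, g * y * g⁻¹ = y → g = 1) (hr : orderOf r = 3)
    (hrX : ∀ g ∈ X, Commute r g) {x₀ : G} (hx₀ : x₀ ∈ D) (hc₀ : Commute r x₀) : False := by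
  classical
  obtain ⟨hn, hmu⟩ := params hD hp A
  have hgr : ∀ g ∈ X, g * r * g⁻¹ = r := fun g hg => by rw [← (hrX g hg).eq, mul_inv_cancel_right]
  set Fx := {y | y ∈ D ∧ Commute r y}
  have hstF : ∀ g ∈ X, ∀ y ∈ Fx, g * y * g⁻¹ ∈ Fx := fun g hg y hy =>
    ⟨cls_conj hD g hy.1, by rw [← hgr g hg]; exact (commute_cj_iff g).mpr hy.2⟩
  have hfreeF : ∀ g ∈ X, ∀ y ∈ Fx, g * y * g⁻¹ = y → g = 1 := fun g hg y hy => hfree g hg y hy.1
  by_cases hA : ∃ a ∈ D, ∃ d ∈ D, ¬ Commute a d ∧ r = a * d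
  · obtain ⟨a, ha, d, hd, had, rfl⟩ := hA
    have haa := mul_self hD.1 ha
    have hdd := mul_self hD.1 hd
    have hFx : Fx = Ds D a ∩ Ds D d := by
      ext e
      constructor
      · rintro ⟨he, hc⟩
        have hae : Commute a e := by
          by_contra hn
          have hde : ¬ Commute d e := fun h => hn (by
            have := hc.mul_left h
            rwa [mul_assoc, hdd, mul_one] at this)
          have hee := mul_self hD.1 he
          have k : e * (a * d) * e = a * d := by rw [← hc.eq, mul_assoc, hee, mul_one]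
          have k2 : (a * e * a) * (d * e * d) = a * d := by
            rw [← braid hD.1 he ha (fun h => hn h.symm), ← braid hD.1 he hd (fun h => hde h.symm)]
            calc (e * a * e) * (e * d * e) = e * a * (e * e) * d * e := by group
              _ = a * d := by rw [hee, mul_one, ← k]; group
          have k3 : e * (a * d) * e = 1 := by
            calc e * (a * d) * e = (a * a) * (e * (a * d) * e) * (d * d) := by rw [haa, hdd, one_mul, mul_one]
              _ = a * ((a * e * a) * (d * e * d)) * d := by group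
              _ = a * (a * d) * d := by rw [k2]
              _ = (a * a) * (d * d) := by group
              _ = 1 := by rw [haa, hdd, one_mul]
          rw [k3] at k
          exact had (by rw [eq_inv_of_mul_eq_one_left k.symm, inv_self hD.1 hd])
        have hde : Commute d e := by
          have := (show Commute (a * (a * d)) e from hae.mul_left hc)
          rwa [← mul_assoc, haa, one_mul] at this
        exact ⟨⟨he, fun k => had (k ▸ hde.symm), hae⟩, ⟨he, fun k => had (k ▸ hae), hde⟩⟩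
      · rintro ⟨h1, h2⟩
        exact ⟨h1.1, h1.2.2.mul_left h2.2.2⟩
    have := dvd_of_stable hstF hfreeF
    rw [hFx, hmu a ha d hd had, hX] at this
    norm_num at this
  have hsh : ∀ x ∈ D, Commute r x → Shape D r x := fun x hx hc =>
    (shape_at hD hp hloc hZ A hr hx hc).resolve_left hA
  let cls : G → Set G := fun v => {w | w ∈ D ∧ Commute r w ∧ nr D r w = nr D r v}
  have hnrcj : ∀ g ∈ X, ∀ v, nr D r (g * v * g⁻¹) = (fun y => g * y * g⁻¹) '' nr D r v := fun g hg v => by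
    conv_lhs => rw [← hgr g hg]
    exact nr_cj hD g r v
  have hcls : ∀ v ∈ Fx, ∀ g ∈ X, g ≠ 1 → nr D r (g * v * g⁻¹) ≠ nr D r v := by
    intro v hv g hg hg1 e
    haveI : Fact (Nat.Prime 13) := ⟨by norm_num⟩
    have hgen : Subgroup.zpowers g = X := Subgroup.eq_of_le_of_card_ge (Subgroup.zpowers_le.mpr hg) (by
      rw [hX, Nat.card_zpowers, orderOf_eq_prime (p := 13) (by
        have := pow_card_eq_one' (G := X) (x := ⟨g, hg⟩)
        rw [hX] at this
        exact congrArg Subtype.val this) hg1])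
    have hst : ∀ k ∈ X, nr D r (k * v * k⁻¹) = nr D r v := by
      intro k hk
      rw [← hgen, ← mem_powers_iff_mem_zpowers] at hk
      obtain ⟨n, rfl⟩ := hk
      induction n with
      | zero => simp
      | succ n ih =>
        show nr D r (g ^ (n + 1) * v * (g ^ (n + 1))⁻¹) = _
        rw [pow_succ', ← cj_cj, hnrcj g hg, ih, ← hnrcj g hg]
        exact e
    have hdvd := dvd_of_stable (Y := X) (S := cls v) (fun k hk w hw => by
      refine ⟨(hstF k hk w ⟨hw.1, hw.2.1⟩).1, (hstF k hk w ⟨hw.1, hw.2.1⟩).2, ?_⟩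
      rw [hnrcj k hk, hw.2.2, ← hnrcj k hk]
      exact hst k hk) fun k hk w hw => hfree k hk w hw.1
    obtain ⟨n, hn'⟩ := class_card hD hv.1 hv.2
    have h13 : 13 ∣ 3 ^ n := (hX ▸ hdvd).trans hn'
    have := (Nat.prime_dvd_prime_iff_eq (by norm_num) (by norm_num)).mp ((by norm_num : Nat.Prime 13).dvd_of_dvd_pow h13)
    omega
  obtain ⟨g₀, hg₀, hg₀1⟩ : ∃ g ∈ X, g ≠ 1 := X.bot_or_exists_ne_one.resolve_left fun e => by
    rw [e, Subgroup.card_bot] at hX; norm_num at hX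
  obtain ⟨x, hx, hmax⟩ := Set.exists_max_image Fx (fun v => (nr D r v).ncard) (Set.toFinite _) ⟨x₀, hx₀, hc₀⟩
  set d := (nr D r x).ncard
  obtain ⟨y, hy⟩ : (nr D r x).Nonempty := by
    by_contra hne
    have hall : ∀ v ∈ Fx, nr D r v = ∅ := fun v hv => (Set.ncard_eq_zero (Set.toFinite _)).mp (by
      have h1 : (nr D r v).ncard ≤ d := hmax v hv
      have : d = 0 := by simp [d, Set.not_nonempty_iff_eq_empty.mp hne]
      omega)
    exact hcls x hx g₀ hg₀ hg₀1 (by rw [hall _ (hstF _ hg₀ x hx), hall _ hx])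
  set K := nr D r x ∪ nr D r y
  have hxy := nr_symm hx.1 hx.2 hy
  have hKF : K ⊆ Fx := fun v hv => hv.elim (fun h => ⟨h.1.1, h.2⟩) fun h => ⟨h.1.1, h.2⟩
  have hclosed : ∀ v ∈ K, nr D r v ⊆ K := by
    have H : ∀ {a b : G}, a ∈ Fx → b ∈ nr D r a → ∀ v ∈ nr D r a, nr D r v ⊆ nr D r a ∪ nr D r b := by
      intro a b ha hb v hv t ht
      by_cases e1 : t = a
      · exact Or.inr (e1 ▸ nr_symm ha.1 ha.2 hb)
      by_cases e2 : Commute a t
      · exact Or.inl ⟨⟨ht.1.1, e1, e2⟩, ht.2⟩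
      · refine Or.inr (nr_symm ht.1.1 ht.2 ?_)
        rw [← swap hsh ha.1 ha.2 hv ht e2]
        exact hb
    rintro v (hv | hv)
    · exact H hx hy v hv
    · intro t ht
      exact (H ⟨hy.1.1, hy.2⟩ hxy v hv ht).symm
  have hconn : ∀ T : Set G, (∀ v ∈ T, nr D r v ⊆ T) → ∀ v ∈ K, v ∈ T → K ⊆ T := by
    intro T hT v hv hvT
    have hxT : x ∈ T ∨ y ∈ T := hv.elim (fun h => Or.inl (hT v hvT (nr_symm hx.1 hx.2 h)))
      fun h => Or.inr (hT v hvT (nr_symm hy.1.1 hy.2 h))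
    have hxT' : x ∈ T := hxT.elim id fun h => hT y h hxy
    exact Set.union_subset (hT x hxT') (hT y (hT x hxT' hy))
  -- at most four classes
  obtain ⟨e, he⟩ := (hsh x hx.1 hx.2).1
  let code : G → Fin 4 := fun v => if v ∈ nr D r x then (e v).castSucc else Fin.last 3
  have hcode : ∀ v ∈ K, ∀ w ∈ K, code v = code w → nr D r v = nr D r w := by
    intro v hv w hw ec
    have far : ∀ v ∈ K, v ∉ nr D r x → nr D r v = nr D r x := by
      intro v hv hv'
      by_cases e1 : v = x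
      · rw [e1]
      have hv2 : v ∈ nr D r y := hv.resolve_left hv'
      exact (swap hsh hx.1 hx.2 hy hv2 fun k => hv' ⟨⟨hv2.1.1, e1, k⟩, hv2.2⟩).symm
    simp only [code] at ec
    by_cases h1 : v ∈ nr D r x <;> by_cases h2 : w ∈ nr D r x
    · rw [if_pos h1, if_pos h2, Fin.castSucc_inj] at ec
      by_cases e1 : v = w
      · rw [e1]
      exact swap hsh h1.1.1 h1.2 (nr_symm hx.1 hx.2 h1) h2 ((he v h1 w h2 e1).mp ec)
    · rw [if_pos h1, if_neg h2] at ec; exact absurd ec (Fin.castSucc_lt_last _).ne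
    · rw [if_neg h1, if_pos h2] at ec; exact absurd ec.symm (Fin.castSucc_lt_last _).ne
    · rw [far v hv h1, far w hw h2]
  have hdisj : ∀ g ∈ X, g ≠ 1 → ∀ v ∈ K, g * v * g⁻¹ ∉ K := by
    intro g hg hg1 v hv hgv
    haveI : Fact (Nat.Prime 13) := ⟨by norm_num⟩
    -- the translate of the component is itself
    have hKg : ∀ w ∈ K, g * w * g⁻¹ ∈ K := by
      intro w hw
      have := hconn {w | g * w * g⁻¹ ∈ K} (fun u hu t ht => hclosed _ hu (by
        rw [hnrcj g hg]; exact ⟨t, ht, rfl⟩)) v hv hgv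
      exact this hw
    have hpw : ∀ n : ℕ, g ^ n * v * (g ^ n)⁻¹ ∈ K := by
      intro n
      induction n with
      | zero => simpa using hv
      | succ n ih => rw [pow_succ', ← cj_cj]; exact hKg _ ih
    obtain ⟨i, j, hij, hcij⟩ : ∃ i j : Fin 5, i < j ∧
        code (g ^ (i : ℕ) * v * (g ^ (i : ℕ))⁻¹) = code (g ^ (j : ℕ) * v * (g ^ (j : ℕ))⁻¹) := by
      obtain ⟨i, j, hne, h⟩ := Fintype.exists_ne_map_eq_of_card_lt
        (fun i : Fin 5 => code (g ^ (i : ℕ) * v * (g ^ (i : ℕ))⁻¹)) (by simp)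
      rcases lt_or_gt_of_ne hne with hlt | hlt
      exacts [⟨i, j, hlt, h⟩, ⟨j, i, hlt, h.symm⟩]
    have he' := hcode _ (hpw i) _ (hpw j) hcij
    have hord : orderOf g = 13 := orderOf_eq_prime (by
      have := pow_card_eq_one' (G := X) (x := ⟨g, hg⟩)
      rw [hX] at this
      exact congrArg Subtype.val this) hg1
    have hlt : ((j : ℕ) - i) < 13 := by omega
    refine hcls _ (hKF (hpw i)) (g ^ ((j : ℕ) - i)) (pow_mem hg _) (fun k => ?_) ?_
    · have := orderOf_dvd_of_pow_eq_one k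
      rw [hord] at this
      have := Nat.le_of_dvd (by omega) this
      omega
    · rw [cj_cj, ← pow_add, Nat.sub_add_cancel (le_of_lt hij)]
      exact he'.symm
  -- thirteen translates
  set S := {w | ∃ g ∈ X, ∃ v ∈ K, g * v * g⁻¹ = w}
  have hS : S.ncard = 13 * K.ncard := by
    have hinj : Set.InjOn (fun p : G × G => p.1 * p.2 * p.1⁻¹) ((X : Set G) ×ˢ K) := by
      rintro ⟨g, v⟩ ⟨hg, hv⟩ ⟨g', v'⟩ ⟨hg', hv'⟩ e'
      simp only at e'
      have e2 : g'⁻¹ * g * v * (g'⁻¹ * g)⁻¹ = v' := by rw [← cj_cj, e', cj_cj]; simp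
      by_cases eg : g'⁻¹ * g = 1
      · rw [inv_mul_eq_one] at eg
        subst eg
        exact Prod.ext rfl (cj_injective g' e')
      · exact absurd (e2.symm ▸ hv') (hdisj _ (mul_mem (inv_mem hg') hg) eg v hv)
    have : S = (fun p : G × G => p.1 * p.2 * p.1⁻¹) '' ((X : Set G) ×ˢ K) := by
      ext w
      constructor
      · rintro ⟨g, hg, v, hv, rfl⟩; exact ⟨(g, v), ⟨hg, hv⟩, rfl⟩
      · rintro ⟨⟨g, v⟩, ⟨hg, hv⟩, rfl⟩; exact ⟨g, hg, v, hv, rfl⟩
    rw [this, Set.InjOn.ncard_image hinj, Set.ncard_prod, ← Nat.card_coe_set_eq]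
    exact congrArg (· * K.ncard) hX
  have hSF : S ⊆ Fx := by
    rintro w ⟨g, hg, v, hv, rfl⟩; exact hstF g hg v (hKF hv)
  have hSdeg : ∀ w ∈ S, (Ds D w ∩ S).ncard ≤ d := fun w hw =>
    le_trans (Set.ncard_le_ncard (t := nr D r w) (fun z hz => ⟨hz.1, (hSF hz.2).2⟩) (Set.toFinite _))
      (hmax w (hSF hw))
  -- the size of the component
  obtain ⟨⟨y', hy', hyy'⟩, w, hw, hwy, hyw⟩ := (hsh x hx.1 hx.2).2 y hy
  have hd3 : 3 ≤ d := by
    have hsub : ({y, y', w} : Set G) ⊆ nr D r x := by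
      rintro u (rfl | rfl | rfl); exacts [hy, hy', hw]
    refine le_trans ?_ (Set.ncard_le_ncard hsub (Set.toFinite _))
    rw [Set.ncard_eq_three.mpr ⟨y, y', w, fun k => hyy' (k ▸ Commute.refl _), hwy.symm,
      fun k => hyy' (k ▸ hyw), rfl⟩]
  obtain ⟨⟨x', hx', hxx'⟩, -⟩ := (hsh y hy.1.1 hy.2).2 x hxy
  have hK : d + 2 ≤ K.ncard := by
    have hsub : insert x (insert x' (nr D r x)) ⊆ K := by
      rintro u (rfl | rfl | h)
      exacts [Or.inr hxy, Or.inr hx', Or.inl h]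
    refine le_trans (le_of_eq ?_) (Set.ncard_le_ncard hsub (Set.toFinite _))
    rw [Set.ncard_insert_of_notMem, Set.ncard_insert_of_notMem fun h => hxx' h.1.2.2]
    rintro (k | h)
    · exact hxx' (k ▸ Commute.refl _)
    · exact h.1.2.1 rfl
  -- the quadratic form
  haveI : Fintype D := Fintype.ofFinite D
  have hreg : Srg.IsReg (Adj D) 693 180 126 := by
    refine ⟨fun a b h => ⟨a.2, fun e => h.2.1 e.symm, h.2.2.symm⟩, fun a h => h.2.1 rfl, fun a => ?_,
      fun a b h => ?_, fun a b hne h => ?_⟩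
    · rw [← ncard_Ds hD A a.2]
      exact card_filter_eq (fun y => y ∈ Ds D a.1) fun y h => h.1
    · rw [← ncard_near hD A a.2 h]
      exact card_filter_eq (fun z => z ∈ Ds D a.1 ∧ z ∈ Ds D b.1) fun y h => h.1.1
    · rw [← hmu a.1 a.2 b.1 b.2 fun hc => h ⟨b.2, fun e => hne (Subtype.ext e.symm), hc⟩]
      exact card_filter_eq (fun z => z ∈ Ds D a.1 ∧ z ∈ Ds D b.1) fun y h => h.1.1
  let P : D → Prop := fun z => (z : G) ∈ S
  have hPn : (Finset.univ.filter P).card = S.ncard := card_filter_eq (fun y => y ∈ S) fun y h => (hSF h).1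
  have hPd : ∀ z : D, P z → (Finset.univ.filter fun w => Adj D z w ∧ P w).card ≤ d := by
    intro z hz
    refine le_trans (le_of_eq ?_) (hSdeg z hz)
    exact card_filter_eq (fun w => w ∈ Ds D (z : G) ∧ w ∈ S) fun y h => h.1.1
  have hv : Fintype.card D = 3510 := by rw [← hn, ← Nat.card_coe_set_eq, Nat.card_eq_fintype_card]
  have h0 := (Srg.comb3_nonneg hreg (a := 5) (b := 45) (g := -1) (c := 360) (by norm_num) (by norm_num)
    (by rw [hv]; norm_num) (by norm_num) (Srg.indic P)).1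
  have hle : Srg.indic P ⬝ᵥ (Srg.comb3 (Adj D) 5 45 (-1) *ᵥ Srg.indic P) ≤
      (S.ncard : ℤ) * (5 * d + 45 - S.ncard) := by
    rw [Srg.indic_dot, ← hPn]
    refine le_trans (Finset.sum_le_card_nsmul _ _ (5 * (d : ℤ) + 45 - ((Finset.univ.filter P).card : ℕ))
      fun z hz => ?_) (le_of_eq (by simp))
    have hz' : P z := (Finset.mem_filter.mp hz).2
    rw [Srg.comb3_indic, Srg.indic, if_pos hz']
    have := hPd z hz'
    push_cast
    linarith
  have hSpos : 0 < S.ncard := by rw [hS]; omega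
  have h1 : (0 : ℤ) ≤ 5 * d + 45 - S.ncard :=
    nonneg_of_mul_nonneg_right (le_trans h0 hle) (by exact_mod_cast hSpos)
  omega

end CfsgThreeTrans.M22.ThirteenFix
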