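/-
Subgroups of order thirteen in a group of type M(22).
-/
import Cfsg.Agent.Lib.ThreeTrans.M22.FiveLevel
import Cfsg.Agent.Lib.ThreeTrans.M22.SevenLevel
import Cfsg.Agent.Lib.ThreeTrans.M22.ElevenLevel
import Cfsg.Agent.Lib.ThreeTrans.M22.ThirteenFix
import Cfsg.Agent.Lib.ThreeTrans.M22.ThirteenChar

set_option autoImplicit false
set_option linter.unusedSectionVars false

namespace CfsgThreeTrans.M22.Thirteen

open Cfsg CfsgLib CfsgThreeTrans.M22.ThirteenFix

universe u

variable {G : Type u} [Group G] [Finite G] {D : Set G}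
variable {F : Type} [Field F] [Fintype F] [DecidableEq F] {hF : Fintype.card F = 2 ^ 2}

theorem order_cases : ∀ k : Fin 13, ∀ c ∈ [13, 39, 117, 351], (k.val ∣ 12 ∧ c * k.val ∣ 64561751654400) →
    (64561751654400 / (c * k.val)) % 13 = 1 →
    (c = 13 ∧ k.val = 6) ∨ (c = 39 ∧ k.val = 2) ∨ (c = 351 ∧ k.val = 6) := by decide +kernel

theorem cent_cases : ∀ a : Fin 60, ∀ b : Fin 60, (a.val * 60 + b.val) ∣ 3510 → (a.val * 60 + b.val) % 13 = 0 →
    (a.val * 60 + b.val) % 2 ≠ 0 → (a.val * 60 + b.val) % 5 ≠ 0 →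
    (a.val * 60 + b.val) = 13 ∨ (a.val * 60 + b.val) = 39 ∨ (a.val * 60 + b.val) = 117 ∨
      (a.val * 60 + b.val) = 351 := by decide +kernel

theorem primes_of_order {q : ℕ} (hq : q.Prime) (h : q ∣ 64561751654400) :
    q = 2 ∨ q = 3 ∨ q = 5 ∨ q = 7 ∨ q = 11 ∨ q = 13 := by
  rw [show (64561751654400 : ℕ) = 2 ^ 17 * 3 ^ 9 * 5 ^ 2 * 7 * 11 * 13 by norm_num] at h
  have one : ∀ p : ℕ, p.Prime → q ∣ p → q = p := fun p hp' h' => (Nat.prime_dvd_prime_iff_eq hq hp').mp h'
  have pw : ∀ p n : ℕ, p.Prime → q ∣ p ^ n → q = p := fun p n hp' h' => one p hp' (hq.dvd_of_dvd_pow h')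
  rcases hq.dvd_mul.mp h with h | h
  · rcases hq.dvd_mul.mp h with h | h
    · rcases hq.dvd_mul.mp h with h | h
      · rcases hq.dvd_mul.mp h with h | h
        · rcases hq.dvd_mul.mp h with h | h
          · exact Or.inl (pw 2 17 (by norm_num) h)
          · exact Or.inr (Or.inl (pw 3 9 (by norm_num) h))
        · exact Or.inr (Or.inr (Or.inl (pw 5 2 (by norm_num) h)))
      · exact Or.inr (Or.inr (Or.inr (Or.inl (one 7 (by norm_num) h))))
    · exact Or.inr (Or.inr (Or.inr (Or.inr (Or.inl (one 11 (by norm_num) h)))))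
  · exact Or.inr (Or.inr (Or.inr (Or.inr (Or.inr (one 13 (by norm_num) h)))))

/-- A small set stable under a fixed-point-free subgroup of order thirteen is empty. -/
theorem empty_of_small {X : Subgroup G} (hX : Nat.card X = 13) (hfree : ∀ g ∈ X, ∀ y ∈ D, g * y * g⁻¹ = y → g = 1)
    {S : Set G} (hS : S ⊆ D) (hlt : S.ncard < 13) (hst : ∀ g ∈ X, ∀ y ∈ S, g * y * g⁻¹ ∈ S) : S = ∅ := by
  refine (Set.ncard_eq_zero (Set.toFinite _)).mp ?_
  have := dvd_of_stable hst fun g hg y hy => hfree g hg y (hS hy)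
  rw [hX] at this
  exact Nat.eq_zero_of_dvd_of_lt this hlt

/-- Conjugation by an element centralising a product permutes its factorisations. -/
theorem fac_cj (hD : IsThreeTranspositionClass D) {j g : G} {m : ℕ} {l : List G} (hg : Commute g j)
    (hl : IsFac D j m l) : IsFac D j m (l.map fun z => g * z * g⁻¹) := by
  obtain ⟨h1, h2, h3, h4, h5⟩ := hl
  refine ⟨h1.map (cj_injective g), by rw [List.length_map, h2], ?_, ?_, ?_⟩
  · intro a ha
    obtain ⟨z, hz, rfl⟩ := List.mem_map.mp ha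
    exact cls_conj hD g (h3 z hz)
  · intro a ha b hb
    obtain ⟨z, hz, rfl⟩ := List.mem_map.mp ha
    obtain ⟨w, hw, rfl⟩ := List.mem_map.mp hb
    exact (commute_cj_iff g).mpr (h4 z hz w hw)
  · have : (l.map fun z => g * z * g⁻¹).prod = g * l.prod * g⁻¹ := by
      clear h1 h2 h3 h4 h5
      induction l with
      | nil => simp
      | cons a l ih => rw [List.map_cons, List.prod_cons, ih, List.prod_cons]; group
    rw [this, h5, hg.eq, mul_inv_cancel_right]

/-- The members fixed by an involution are few when a centraliser acts freely. -/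
theorem fix_bound (hn : D.ncard = 3510) (hD : IsThreeTranspositionClass D) {C : Subgroup G} {i : G}
    (hi : ∀ u ∈ C, i * u * i⁻¹ ∈ C) (hfree : ∀ g ∈ C, ∀ y ∈ D, g * y * g⁻¹ = y → g = 1) :
    {y | y ∈ D ∧ i * y * i⁻¹ = y}.ncard * Nat.card C ≤
      3510 * Nat.card ↥(C ⊓ Subgroup.centralizer ({i} : Set G)) := by
  classical
  haveI : Fintype G := Fintype.ofFinite G
  set Φ := {y | y ∈ D ∧ i * y * i⁻¹ = y}
  set B := C ⊓ Subgroup.centralizer ({i} : Set G)
  let f : G × G → G := fun p => p.2 * p.1 * p.2⁻¹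
  set S : Finset (G × G) := Finset.univ.filter (fun p => p.1 ∈ Φ ∧ p.2 ∈ C)
  have hS : S.card = Φ.ncard * Nat.card C := by
    rw [← Set.ncard_coe_finset, show Nat.card C = (C : Set G).ncard from Nat.card_coe_set_eq _, ← Set.ncard_prod]
    congr 1
    ext p; simp [S]
  have himg : (S.image f).card ≤ 3510 := by
    rw [← hn, ← Set.ncard_coe_finset]
    refine Set.ncard_le_ncard ?_ (Set.toFinite _)
    intro w hw
    simp only [Finset.coe_image, Set.mem_image] at hw
    obtain ⟨p, hp, rfl⟩ := hw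
    exact cls_conj hD _ (Finset.mem_filter.mp hp).2.1.1
  rw [← hS, mul_comm]
  refine le_trans (Finset.card_le_mul_card_image S (Nat.card B) fun w hw => ?_) (Nat.mul_le_mul_left _ himg)
  obtain ⟨p₀, hp₀, rfl⟩ := Finset.mem_image.mp hw
  obtain ⟨-, hp₀', hu₀⟩ := Finset.mem_filter.mp hp₀
  rw [show Nat.card B = (Finset.univ.filter fun v => v ∈ B).card by
    rw [← Fintype.card_subtype, ← Nat.card_eq_fintype_card]]
  refine Finset.card_le_card_of_injOn (fun p => p₀.2⁻¹ * p.2) ?_ ?_
  · intro p hp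
    rw [Finset.mem_coe, Finset.mem_filter] at hp
    obtain ⟨hp1, hpe⟩ := hp
    obtain ⟨-, hy, hu⟩ := Finset.mem_filter.mp hp1
    set v := p₀.2⁻¹ * p.2
    have hv : v ∈ C := mul_mem (inv_mem hu₀) hu
    have e1 : v * p.1 * v⁻¹ = p₀.1 := by
      simp only [v, ← cj_cj]
      show p₀.2⁻¹ * f p * p₀.2⁻¹⁻¹ = _
      rw [hpe]; simp only [f]; group
    have e2 : i * v * i⁻¹ * p.1 * (i * v * i⁻¹)⁻¹ = p₀.1 := by
      calc i * v * i⁻¹ * p.1 * (i * v * i⁻¹)⁻¹ = i * v * i⁻¹ * (i * p.1 * i⁻¹) * (i * v * i⁻¹)⁻¹ := by rw [hy.2]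
        _ = i * (v * p.1 * v⁻¹) * i⁻¹ := by group
        _ = p₀.1 := by rw [e1, hp₀'.2]
    have e3 : v⁻¹ * (i * v * i⁻¹) = 1 := hfree _ (mul_mem (inv_mem hv) (hi v hv)) p.1 hy.1 (by
      rw [← cj_cj, e2, ← e1]; group)
    have e4 : i * v = v * i := mul_inv_eq_iff_eq_mul.mp (inv_mul_eq_one.mp e3).symm
    simp only [Finset.coe_filter, Finset.mem_univ, true_and, Set.mem_ofPred_eq]
    exact ⟨hv, Subgroup.mem_centralizer_singleton_iff.mpr e4.symm⟩
  · intro p hp p' hp' e
    rw [Finset.mem_coe, Finset.mem_filter] at hp hp'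
    have e2 : p.2 = p'.2 := mul_left_cancel e
    refine Prod.ext ?_ e2
    have := hp.2.trans hp'.2.symm
    simp only [f, e2] at this
    exact cj_injective _ this

set_option maxHeartbeats 1000000 in
/-- Three commuting transpositions are fixed with at least forty-eight common partners. -/
theorem near_three (hD : IsThreeTranspositionClass D) (A : Data D F hF) {a b c : G} (ha : a ∈ D) (hb : b ∈ Ds D a)
    (hc : c ∈ Ds D a) (hne : b ≠ c) (hbc : Commute b c) : 48 ≤ (Ds D a ∩ Ds D b ∩ Ds D c).ncard := by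
  classical
  obtain ⟨g, ga, gb, gc⟩ := triple_conj hD A ha hb hc hne hbc
  rw [← ga, ← gb, ← gc, ← cj_Ds hD, ← cj_Ds hD, ← cj_Ds hD, ← Set.image_inter (cj_injective g),
    ← Set.image_inter (cj_injective g), Set.ncard_image_of_injective _ (cj_injective g)]
  set S := Ds D A.t ∩ Ds D (q1 A) ∩ Ds D (q2 A)
  have e := card_pre A (S := S) fun _ hx => hx.1.1
  let v : F × F × Fˣ × Fˣ → Fin 6 → F := fun p => ![p.1, p.1, p.2.1, p.2.1, (p.2.2.1 : F), (p.2.2.2 : F)]
  have hiso : ∀ p, Cfsg.hermForm 6 F 2 (v p) (v p) = 0 := by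
    intro p
    have h5 := cube hF p.2.2.1.ne_zero
    have h6 := cube hF p.2.2.2.ne_zero
    simp [v, Cfsg.hermForm, Fin.sum_univ_six]
    linear_combination h5 + h6 + (p.1 ^ 3 + p.2.1 ^ 3 + 1) * two_zero hF
  have hv0 : ∀ p, v p ≠ 0 := fun p k => p.2.2.1.ne_zero (by simpa [v] using congrFun k 4)
  let pt : F × F × Fˣ × Fˣ → Iso F := fun p => ⟨v p, hv0 p, hiso p⟩
  have hne' : ∀ p, ∀ (a b : F) (hn : a ≠ 0 ∨ b ≠ 0 ∨ (0 : F) ≠ 0), point A (pt p) ≠ dp A a b 0 hn := by
    intro p a b hn k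
    obtain ⟨l, -, hl⟩ := (point_eq_iff A _ _).mp k
    exact p.2.2.1.ne_zero (by simpa [pt, v, dv, dbl] using congrFun hl 4)
  have hcom : ∀ p, ∀ (a b : F) (hn : a ≠ 0 ∨ b ≠ 0 ∨ (0 : F) ≠ 0), Commute (dp A a b 0 hn) (point A (pt p)) := by
    intro p a b hn
    refine ((point_commute_iff A _ _).mpr ?_).symm
    show Cfsg.hermForm 6 F 2 (v p) (dbl a b 0) = 0
    rw [herm_dbl hF]
    simp [v, add_self hF]
  have hmem : ∀ p, point A (pt p) ∈ S := fun p =>
    ⟨⟨point_mem A _, (point_mem A _).1, hne' p 1 0 _, hcom p 1 0 _⟩, (point_mem A _).1, hne' p 0 1 _, hcom p 0 1 _⟩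
  have hinj : Function.Injective (fun p => (⟨pt p, hmem p⟩ : {x : Iso F // point A x ∈ S})) := by
    rintro ⟨a, b, x, y⟩ ⟨a', b', x', y'⟩ k
    have k' : v (a, b, x, y) = v (a', b', x', y') := congrArg (fun z => z.1.1) k
    refine Prod.ext ?_ (Prod.ext ?_ (Prod.ext (Units.ext ?_) (Units.ext ?_)))
    · simpa [v] using congrFun k' 0
    · simpa [v] using congrFun k' 2
    · simpa [v] using congrFun k' 4
    · simpa [v] using congrFun k' 5
  have hle := Nat.card_le_card_of_injective _ hinj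
  rw [e, Nat.card_prod, Nat.card_prod, Nat.card_prod, Nat.card_units, Nat.card_eq_fintype_card, hF] at hle
  omega

set_option maxHeartbeats 1000000 in
/-- The double count of fusion in the centraliser of a transposition. -/
theorem pair_sum (hD : IsThreeTranspositionClass D) (hp : IsPrimitiveUnderConj D) (A : Data D F hF) :
    Nat.card {p : ↥(Subgroup.centralizer ({A.t} : Set G)) × G //
      p.2⁻¹ * (p.1 : G) * p.2 ∈ Subgroup.centralizer ({A.t} : Set G)} =
      3 * Nat.card ↥(Subgroup.centralizer ({A.t} : Set G)) * Nat.card ↥(Subgroup.centralizer ({A.t} : Set G)) := by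
  classical
  haveI : Fintype G := Fintype.ofFinite G
  have hw := has_pair A
  set H := Subgroup.centralizer ({A.t} : Set G)
  set h := Nat.card H
  let f : G → ℕ := fun d => Nat.card ↥(H ⊓ Subgroup.centralizer ({d} : Set G))
  have hgrp : ∀ g : G, Nat.card {k : H // g⁻¹ * (k : G) * g ∈ H} = f (g * A.t * g⁻¹) := by
    intro g
    refine Nat.card_congr
      { toFun := fun k => ⟨k.1, k.1.2, ?_⟩
        invFun := fun k => ⟨⟨k.1, k.2.1⟩, ?_⟩
        left_inv := fun k => rfl
        right_inv := fun k => rfl }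
    · have := (mem_cent (k := g⁻¹ * (k.1 : G) * g) (x := A.t)).mp k.2
      refine mem_cent.mpr ?_
      calc (k.1 : G) * (g * A.t * g⁻¹) * (k.1 : G)⁻¹ =
          g * (g⁻¹ * (k.1 : G) * g * A.t * (g⁻¹ * (k.1 : G) * g)⁻¹) * g⁻¹ := by group
        _ = g * A.t * g⁻¹ := by rw [this]
    · have hk := (mem_cent (k := (k.1 : G))).mp k.2.2
      refine mem_cent.mpr (cj_injective g ?_)
      show g * (g⁻¹ * (k.1 : G) * g * A.t * (g⁻¹ * (k.1 : G) * g)⁻¹) * g⁻¹ = g * A.t * g⁻¹
      calc g * (g⁻¹ * (k.1 : G) * g * A.t * (g⁻¹ * (k.1 : G) * g)⁻¹) * g⁻¹ =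
          (k.1 : G) * (g * A.t * g⁻¹) * (k.1 : G)⁻¹ := by group
        _ = _ := hk
  have e1 : Nat.card {p : ↥H × G // p.2⁻¹ * (p.1 : G) * p.2 ∈ H} = ∑ g : G, f (g * A.t * g⁻¹) := by
    rw [← Finset.sum_congr rfl fun g _ => hgrp g, ← Nat.card_sigma]
    exact Nat.card_congr
      { toFun := fun p => ⟨p.1.2, p.1.1, p.2⟩
        invFun := fun p => ⟨(p.2.1, p.1), p.2.2⟩
        left_inv := fun p => rfl
        right_inv := fun p => rfl }
  set DF := (Set.toFinite D).toFinset
  have e2 : ∑ g : G, f (g * A.t * g⁻¹) = ∑ d ∈ DF, h * f d := by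
    rw [← Finset.sum_fiberwise_of_maps_to (s := Finset.univ) (t := DF) (g := fun g : G => g * A.t * g⁻¹)
      (fun g _ => by simpa [DF] using cls_conj hD g A.ht)]
    refine Finset.sum_congr rfl fun d hd => ?_
    have hd' : d ∈ D := by simpa [DF] using hd
    rw [Finset.sum_congr rfl (fun g hg => by rw [(Finset.mem_filter.mp hg).2]), Finset.sum_const, smul_eq_mul]
    congr 1
    obtain ⟨g0, hg0⟩ := cls_exists_conj hD A.ht hd'
    have : (Finset.univ.filter fun g : G => g * A.t * g⁻¹ = d) =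
        (Finset.univ.filter fun g : G => g ∈ H).map (Equiv.mulLeft g0).toEmbedding := by
      ext g
      simp only [Finset.mem_filter, Finset.mem_univ, true_and, Finset.mem_map_equiv, Equiv.mulLeft_symm,
        Equiv.coe_mulLeft]
      rw [← hg0, show H = Subgroup.centralizer ({A.t} : Set G) from rfl, mem_cent, ← cj_cj, inv_inv]
      constructor
      · intro k; rw [k]; group
      · intro k
        conv_rhs => rw [← k]
        group
    rw [this, Finset.card_map, ← Fintype.card_subtype, ← Nat.card_eq_fintype_card]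
  rw [e1, e2, ← Finset.mul_sum, mul_comm 3 h, mul_assoc]
  congr 1
  have hmaps : ∀ k ∈ H, k * A.t * k⁻¹ = A.t := fun k hk => mem_cent.mp hk
  have hnearsum : ∀ d ∈ Ds D A.t, (Ds D A.t).ncard * f d = h := by
    intro d hd
    refine (M22.card_orbit_stab H d (Ds D A.t) (fun k hk => cj_mem_Ds hD hd (hmaps k hk)) fun y hy => ?_).symm
    obtain ⟨k, hk, e⟩ := Ds_transitive hD hp hw A.ht d hd y hy
    exact ⟨k, Subgroup.mem_centralizer_singleton_iff.mpr (closure_Ds_commute hk).eq, e⟩
  set far := {y : G | y ∈ D ∧ ¬ Commute A.t y}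
  have hfarsum : ∀ d ∈ far, far.ncard * f d = h := by
    intro d hd
    refine (M22.card_orbit_stab H d far (fun k hk => ⟨cls_conj hD k hd.1, fun c => hd.2 ((commute_cj_iff k).mp
      (by rw [hmaps k hk]; exact c))⟩) fun y hy => ?_).symm
    obtain ⟨k, hk, e⟩ := rank_three_far hD hp hw A.ht d hd.1 hd.2 y hy.1 hy.2
    exact ⟨k, Subgroup.mem_centralizer_singleton_iff.mpr hk.eq, e⟩
  have hsplit : DF = insert A.t ((Set.toFinite (Ds D A.t)).toFinset ∪ (Set.toFinite far).toFinset) := by
    ext y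
    simp only [DF, Set.Finite.mem_toFinset, Finset.mem_insert, Finset.mem_union, far, Ds, Set.mem_ofPred_eq]
    constructor
    · intro hy
      by_cases k : y = A.t
      · exact Or.inl k
      by_cases k' : Commute A.t y
      · exact Or.inr (Or.inl ⟨hy, k, k'⟩)
      · exact Or.inr (Or.inr ⟨hy, k'⟩)
    · rintro (rfl | k | k); exacts [A.ht, k.1, k.1]
  rw [hsplit, Finset.sum_insert (by simp [far, Ds]), Finset.sum_union (by
    rw [Finset.disjoint_left]
    intro y h1 h2'
    simp only [Set.Finite.mem_toFinset] at h1 h2'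
    exact h2'.2 h1.2.2)]
  have hfne : far.Nonempty := ⟨A.c, A.hc, A.htc⟩
  have hnne : (Ds D A.t).Nonempty := Set.nonempty_of_ncard_ne_zero (by rw [ncard_Ds hD A A.ht]; norm_num)
  have s1 : ∀ S : Set G, S.Nonempty → (∀ d ∈ S, S.ncard * f d = h) → ∑ d ∈ (Set.toFinite S).toFinset, f d = h := by
    intro S ⟨d0, hd0⟩ hS
    have hpos : 0 < S.ncard := (Set.ncard_pos).mpr ⟨d0, hd0⟩
    rw [Finset.sum_congr rfl fun d hd => Nat.eq_of_mul_eq_mul_left hpos
      ((hS d (by simpa using hd)).trans (hS d0 hd0).symm), Finset.sum_const, smul_eq_mul,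
      ← Set.ncard_eq_toFinset_card S, hS d0 hd0]
  have ht : f A.t = h := by simp only [f, h]; rw [inf_idem]
  rw [ht, s1 _ hnne hnearsum, s1 _ hfne hfarsum]
  ring

set_option maxHeartbeats 1000000 in
/-- A subgroup of order thirteen is its own centraliser, with normaliser of order seventy-eight. -/
theorem thirteen_level (hG : IsThreeTranspositionGroup D) (hp : IsPrimitiveUnderConj D) {d₀ : G} (hd₀ : d₀ ∈ D)
    (h3 : pCore 3 ↥(Subgroup.closure (Ds D d₀)) ≤ Subgroup.center ↥(Subgroup.closure (Ds D d₀)))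
    (h2 : pCore 2 ↥(Subgroup.closure (Ds D d₀)) ≤ Subgroup.center ↥(Subgroup.closure (Ds D d₀)))
    (h22 : IsOfTypeM22 G D) (A : Data D F hF) :
    ¬ 169 ∣ Nat.card G ∧
      (∀ X Y : Subgroup G, Nat.card X = 13 → Nat.card Y = 13 → ∃ g : G, X.map (MulAut.conj g).toMonoidHom = Y) ∧
      ∀ X : Subgroup G, Nat.card X = 13 →
        Nat.card ↥(Subgroup.normalizer (X : Set G)) = 78 ∧ Subgroup.centralizer (X : Set G) = X := by
  classical
  haveI : Fact (Nat.Prime 13) := ⟨by norm_num⟩
  have hD := cls_of_group_prim hG hp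
  have hloc := local_of_M22 h22
  have hZ := h22.1
  obtain ⟨hn, -⟩ := params hD hp A
  have hGc : Nat.card G = 64561751654400 := by rw [card_group hD hp hloc hZ A, card_psu_eq hF]
  have h169 : ¬ 169 ∣ Nat.card G := by rw [hGc]; norm_num
  have hfac : (Nat.card G).factorization 13 = 1 := by
    refine le_antisymm ?_ ?_
    · by_contra hlt
      exact h169 ((Nat.Prime.pow_dvd_iff_le_factorization (by norm_num) Nat.card_pos.ne').mpr
        (by omega : 2 ≤ (Nat.card G).factorization 13))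
    · refine (Nat.Prime.pow_dvd_iff_le_factorization (by norm_num) Nat.card_pos.ne').mp ?_
      rw [hGc]; norm_num
  let syl : ∀ X : Subgroup G, Nat.card X = 13 → Sylow 13 G := fun X hX => Sylow.ofCard X (by rw [hX, hfac, pow_one])
  refine ⟨h169, fun X Y hX hY => ?_, fun X hX => ?_⟩
  · obtain ⟨g, hg⟩ := MulAction.exists_smul_eq G (syl X hX) (syl Y hY)
    exact ⟨g, congrArg (fun P : Sylow 13 G => (P : Subgroup G)) hg⟩
  have hfree : ∀ g ∈ X, ∀ y ∈ D, g * y * g⁻¹ = y → g = 1 := by
    intro g hg y hy e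
    by_contra hg1
    have hord : orderOf g = 13 := orderOf_eq_prime (by
      have := pow_card_eq_one' (G := X) (x := ⟨g, hg⟩)
      rw [hX] at this
      exact congrArg Subtype.val this) hg1
    have := Subgroup.orderOf_dvd_natCard (Subgroup.centralizer ({y} : Set G)) (mem_cent.mpr e)
    rw [hord, card_centralizer hD hp hloc hZ A hy, card_psu_eq hF] at this
    norm_num at this
  obtain ⟨x', hx'⟩ := exists_prime_orderOf_dvd_card' (G := X) 13 (by rw [hX])
  set x : G := (x' : G)
  have hx : orderOf x = 13 := by rw [Subgroup.orderOf_coe]; exact hx'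
  set C := Subgroup.centralizer (X : Set G) with hC
  set N := Subgroup.normalizer (X : Set G) with hN
  haveI : IsCyclic X := isCyclic_of_prime_card hX
  have hXC : X ≤ C := fun y hy => Subgroup.mem_centralizer_iff.mpr fun z hz =>
    congrArg Subtype.val (IsCyclic.commGroup.mul_comm (⟨z, hz⟩ : X) ⟨y, hy⟩)
  have hCX : ∀ s ∈ C, ∀ g ∈ X, Commute s g := fun s hs g hg => (Subgroup.mem_centralizer_iff.mp hs g hg).symm
  -- the prime divisors
  have hprimes : ∀ s ∈ C, (orderOf s).Prime → orderOf s = 3 ∨ orderOf s = 13 := by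
    intro s hs hq
    have hqG : orderOf s ∣ 64561751654400 := hGc ▸ orderOf_dvd_natCard s
    have hY : ∀ g ∈ X, ∀ y, y ∈ D ∩ (Subgroup.centralizer (Subgroup.zpowers s : Set G) : Set G) →
        g * y * g⁻¹ ∈ D ∩ (Subgroup.centralizer (Subgroup.zpowers s : Set G) : Set G) := by
      intro g hg y hy
      refine ⟨cls_conj hD g hy.1, Subgroup.mem_centralizer_iff.mpr fun z hz => ?_⟩
      obtain ⟨k, rfl⟩ := Subgroup.mem_zpowers_iff.mp hz
      have hy' : Commute (s ^ k) y := Subgroup.mem_centralizer_iff.mp hy.2 _ (Subgroup.mem_zpowers_iff.mpr ⟨k, rfl⟩)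
      have := (commute_cj_iff g).mpr hy'
      rwa [((hCX s hs g hg).zpow_left k).eq.symm, mul_inv_cancel_right] at this
    have small : ∀ {n : ℕ}, (D ∩ (Subgroup.centralizer (Subgroup.zpowers s : Set G) : Set G)).ncard = n →
        1 ≤ n → n < 13 → False := by
      intro n hn' h1 h13
      have := empty_of_small hX hfree Set.inter_subset_left (hn'.le.trans_lt h13) hY
      rw [this, Set.ncard_empty] at hn'
      omega
    rcases primes_of_order hq hqG with e | e | e | e | e | e
    · exfalso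
      have hss : s * s = 1 := by rw [← pow_two, ← e, pow_orderOf_eq_one]
      obtain ⟨l, hlen, hnd, hm, hc, hprod⟩ := short_invol hG hp hd₀ h3 h2 h22 A hss
      match l, hlen, hnd, hm, hc, hprod with
      | [], _, _, _, _, hprod =>
        rw [← hprod] at e
        simp at e
      | [a], _, _, hm, _, hprod =>
        have ha : a = s := by simpa using hprod
        have hg := X.bot_or_exists_ne_one.resolve_left fun k => by rw [k, Subgroup.card_bot] at hX; norm_num at hX
        obtain ⟨g, hg, hg1⟩ := hg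
        exact hg1 (hfree g hg a (hm a (by simp)) (by rw [ha, ← (hCX s hs g hg).eq, mul_inv_cancel_right]))
      | [a, b], _, hnd, hm, hc, hprod =>
        have hl : IsFac D s 2 [a, b] := ⟨hnd, rfl, hm, hc, hprod⟩
        have := empty_of_small hX hfree (S := {y | y ∈ [a, b]}) (fun y hy => hm y hy) (by
          have : {y : G | y ∈ [a, b]} ⊆ {a, b} := fun y hy => by simpa using hy
          have := le_trans (Set.ncard_le_ncard this (Set.toFinite _)) (Set.ncard_insert_le _ _)
          rw [Set.ncard_singleton] at this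
          exact lt_of_le_of_lt this (by norm_num)) (fun g hg y hy => by
          have hl' := fac_cj hD (hCX s hs g hg).symm hl
          exact (two_unique hD hp hl' hl _).mp (List.mem_map_of_mem (f := fun z => g * z * g⁻¹) hy))
        exact Set.eq_empty_iff_forall_notMem.mp this a (List.mem_cons_self ..)
      | [a, b, c], _, hnd, hm, hc, hprod =>
        simp only [List.nodup_cons, List.mem_cons, List.not_mem_nil, or_false, not_or, List.nodup_nil, and_true] at hnd
        obtain ⟨⟨hab, hac⟩, hbc, -⟩ := hnd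
        have hj : s = a * b * c := by rw [← hprod]; simp [mul_assoc]
        have hle : X ≤ Subgroup.centralizer ({a * b * c} : Set G) := fun g hg =>
          Subgroup.mem_centralizer_singleton_iff.mpr (hj ▸ (hCX s hs g hg).symm.eq)
        have := Subgroup.card_dvd_of_le hle
        rw [hX, card_cent_three hG hp hd₀ h3 h2 h22 A (hm a (by simp)) (hm b (by simp)) (hm c (by simp)) hab hac hbc
          (hc a (by simp) b (by simp)) (hc a (by simp) c (by simp)) (hc b (by simp) c (by simp))] at this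
        norm_num at this
      | _ :: _ :: _ :: _ :: _, hlen, _, _, _, _ => simp only [List.length_cons] at hlen; omega
    · exact Or.inl e
    · exact (small ((FiveNorm.five_level hD hp hloc hZ A).2 (Subgroup.zpowers s)
        (by rw [Nat.card_zpowers, e])).num (by norm_num) (by norm_num)).elim
    · exact (small ((SevenNorm.seven_level hD hp hloc hZ A).2.2 (Subgroup.zpowers s)
        (by rw [Nat.card_zpowers, e])).num (by norm_num) (by norm_num)).elim
    · exact (small ((M22.eleven_level hD hp hloc hZ A).2.2 (Subgroup.zpowers s)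
        (by rw [Nat.card_zpowers, e])).num (by norm_num) (by norm_num)).elim
    · exact Or.inr e
  -- the centraliser acts freely
  have hCfree : ∀ g ∈ C, ∀ y ∈ D, g * y * g⁻¹ = y → g = 1 := by
    intro g hg y hy e
    by_contra hg1
    set q := (orderOf g).minFac
    have hq : q.Prime := Nat.minFac_prime (fun k => hg1 (orderOf_eq_one_iff.mp k))
    set s := g ^ (orderOf g / q)
    have hs : orderOf s = q := by
      rw [orderOf_pow_orderOf_div (orderOf_pos g).ne' (Nat.minFac_dvd _)]
    have hsC : s ∈ C := pow_mem hg _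
    have hsy : Commute s y := (show Commute g y from mul_inv_eq_iff_eq_mul.mp e).pow_left _
    rcases hprimes s hsC (hs ▸ hq) with k | k
    · exact ThirteenFix.no_fix hD hp hloc hZ A hX hfree k (hCX s hsC) hy hsy
    · have := Subgroup.orderOf_dvd_natCard (Subgroup.centralizer ({y} : Set G))
        (Subgroup.mem_centralizer_singleton_iff.mpr hsy.eq)
      rw [k, card_centralizer hD hp hloc hZ A hy, card_psu_eq hF] at this
      norm_num at this
  have hCdvd : Nat.card C ∣ 3510 := hn ▸ dvd_of_stable (fun g _ y hy => cls_conj hD g hy) hCfree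
  have h13C : 13 ∣ Nat.card C := hX ▸ Subgroup.card_dvd_of_le hXC
  have hnot : ∀ q : ℕ, q.Prime → q ≠ 3 → q ≠ 13 → ¬ q ∣ Nat.card C := by
    intro q hq h3' h13 hdvd
    haveI := Fact.mk hq
    obtain ⟨s, hs⟩ := exists_prime_orderOf_dvd_card' (G := C) q hdvd
    have hs' : orderOf (s : G) = q := by rw [Subgroup.orderOf_coe, hs]
    rcases hprimes s s.2 (hs' ▸ hq) with k | k <;> omega
  have hc4 : Nat.card C = 13 ∨ Nat.card C = 39 ∨ Nat.card C = 117 ∨ Nat.card C = 351 := by
    have hle : Nat.card C ≤ 3510 := Nat.le_of_dvd (by norm_num) hCdvd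
    have e : Nat.card C / 60 * 60 + Nat.card C % 60 = Nat.card C := Nat.div_add_mod' _ 60
    have := cent_cases ⟨Nat.card C / 60, by omega⟩ ⟨Nat.card C % 60, Nat.mod_lt _ (by norm_num)⟩
    rw [e] at this
    exact this hCdvd (Nat.mod_eq_zero_of_dvd h13C |>.trans rfl)
      (fun k => hnot 2 (by norm_num) (by norm_num) (by norm_num) (Nat.dvd_of_mod_eq_zero k))
      (fun k => hnot 5 (by norm_num) (by norm_num) (by norm_num) (Nat.dvd_of_mod_eq_zero k))
  -- the automiser
  have hCN : C ≤ N := Subgroup.centralizer_le_normalizer _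
  obtain ⟨k, hk12, hNk⟩ : ∃ k, k ∣ 12 ∧ Nat.card N = Nat.card C * k := by
    let φ := X.normalizerMonoidHom
    have hker : Nat.card φ.ker = Nat.card C := by
      rw [Subgroup.normalizerMonoidHom_ker]
      exact Nat.card_congr (Subgroup.subgroupOfEquivOfLe (Subgroup.centralizer_le_normalizer _)).toEquiv
    refine ⟨φ.ker.index, ?_, by rw [← hker, φ.ker.card_mul_index]⟩
    have haut : Nat.card (MulAut X) = 12 := by
      rw [IsCyclic.card_mulAut X, hX, Nat.totient_prime (by norm_num)]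
    rw [Subgroup.index_ker, ← haut]
    exact Subgroup.card_subgroup_dvd_card _
  have hmod : N.index % 13 = 1 := by
    have := card_sylow_modEq_one (p := 13) (G := G)
    rw [(syl X hX).card_eq_index_normalizer] at this
    exact this
  have hidx : N.index = 64561751654400 / (Nat.card C * k) := by
    rw [← hNk, ← hGc, ← N.card_mul_index, Nat.mul_div_cancel_left _ Nat.card_pos]
  have hdvdN : Nat.card C * k ∣ 64561751654400 := hNk ▸ hGc ▸ Subgroup.card_subgroup_dvd_card N
  have hklt : k < 13 := by have := Nat.le_of_dvd (by norm_num) hk12; omega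
  have hcases : (Nat.card C = 13 ∧ k = 6) ∨ (Nat.card C = 39 ∧ k = 2) ∨ (Nat.card C = 351 ∧ k = 6) :=
    order_cases ⟨k, hklt⟩ (Nat.card C) (by simpa [List.mem_cons] using hc4) ⟨hk12, hdvdN⟩ (hidx ▸ hmod)
  rcases hcases with ⟨hc, hk⟩ | ⟨hc, hk⟩ | ⟨hc, hk⟩
  · exact ⟨by rw [hNk, hc, hk], (Subgroup.eq_of_le_of_card_ge hXC (by rw [hc, hX])).symm⟩
  · exfalso
    refine ThirteenChar.no_thirty_nine hGc hX hC hN hc (by rw [hNk, hc, hk])
      (H := Subgroup.centralizer ({A.t} : Set G)) (by rw [index_centralizer hD A.ht, hn])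
      (fun y hy hy1 g hg => hy1 (hCfree y hy (g * A.t * g⁻¹) (cls_conj hD g A.ht) ?_)) (pair_sum hD hp A)
    have e := mem_cent.mp hg
    calc y * (g * A.t * g⁻¹) * y⁻¹ = g * (g⁻¹ * y * g * A.t * (g⁻¹ * y * g)⁻¹) * g⁻¹ := by group
      _ = g * A.t * g⁻¹ := by rw [e]
  exfalso
  haveI : Fact (Nat.Prime 2) := ⟨by norm_num⟩
  obtain ⟨i', hi'⟩ := exists_prime_orderOf_dvd_card' (G := N) 2 (by rw [hNk, hc, hk]; norm_num)
  set i : G := (i' : G)
  have hi2 : orderOf i = 2 := by rw [Subgroup.orderOf_coe]; exact hi'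
  have hii : i * i = 1 := by rw [← pow_two, ← hi2, pow_orderOf_eq_one]
  have hiC : i ∉ C := by
    intro h
    have := Subgroup.orderOf_dvd_natCard C h
    rw [hi2, hc] at this
    norm_num at this
  have hgenX : Subgroup.zpowers x = X := Subgroup.eq_of_le_of_card_ge (Subgroup.zpowers_le.mpr x'.2)
    (by rw [hX, Nat.card_zpowers, hx])
  have hinv : i * x * i⁻¹ = x⁻¹ := by
    have hm : i * x * i⁻¹ ∈ Subgroup.zpowers x := hgenX.symm ▸ (Subgroup.mem_normalizer_iff.mp i'.2 x).mp x'.2
    obtain ⟨m, hm⟩ := Subgroup.mem_zpowers_iff.mp hm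
    have hm2 : x ^ (m * m) = x := by
      rw [zpow_mul, hm, conj_zpow, hm]
      calc i * (i * x * i⁻¹) * i⁻¹ = (i * i) * x * (i * i)⁻¹ := by group
        _ = x := by rw [hii]; group
    have hd : (13 : ℤ) ∣ m * m - 1 := by
      have : x ^ (m * m - 1) = 1 := by rw [zpow_sub_one, hm2, mul_inv_cancel]
      have := orderOf_dvd_iff_zpow_eq_one.mpr this
      rwa [hx] at this
    have hp' : Prime (13 : ℤ) := Int.prime_iff_natAbs_prime.mpr (by norm_num)
    rcases hp'.dvd_or_dvd (show (13 : ℤ) ∣ (m - 1) * (m + 1) by rwa [show (m - 1) * (m + 1) = m * m - 1 by ring])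
      with h | h
    · exfalso
      have e : x ^ (m - 1) = 1 := orderOf_dvd_iff_zpow_eq_one.mp (by rw [hx]; exact h)
      rw [zpow_sub_one, mul_inv_eq_one, hm] at e
      refine hiC (Subgroup.mem_centralizer_iff.mpr fun z hz => ?_)
      rw [← hgenX] at hz
      obtain ⟨j, rfl⟩ := Subgroup.mem_zpowers_iff.mp hz
      exact ((show Commute i x from mul_inv_eq_iff_eq_mul.mp e).symm.zpow_left j).eq
    · rw [← hm]
      have e : x ^ (m + 1) = 1 := orderOf_dvd_iff_zpow_eq_one.mp (by rw [hx]; exact h)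
      rw [zpow_add_one] at e
      exact eq_inv_of_mul_eq_one_left e
  have hiN : ∀ u ∈ C, i * u * i⁻¹ ∈ C := by
    intro u hu
    refine Subgroup.mem_centralizer_iff.mpr fun z hz => ?_
    have hz' : i⁻¹ * z * i ∈ X := by
      have := (Subgroup.mem_normalizer_iff.mp (inv_mem i'.2) z).mp hz
      rwa [inv_inv] at this
    have := (commute_cj_iff i).mpr (hCX u hu _ hz')
    rw [show i * (i⁻¹ * z * i) * i⁻¹ = z by group] at this
    exact this.symm.eq
  have hbound := fix_bound hn hD hiN hCfree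
  rw [hc] at hbound
  set Φ := {y | y ∈ D ∧ i * y * i⁻¹ = y}
  set B := C ⊓ Subgroup.centralizer ({i} : Set G)
  have hBc : ∀ g ∈ B, Commute g i := fun g hg => Subgroup.mem_centralizer_singleton_iff.mp hg.2
  have hB351 : Nat.card B ∣ 351 := hc ▸ Subgroup.card_dvd_of_le inf_le_left
  obtain ⟨l, hlen, hnd, hm, hcl, hprod⟩ := short_invol hG hp hd₀ h3 h2 h22 A hii
  match l, hlen, hnd, hm, hcl, hprod with
  | [], _, _, _, _, hprod =>
    rw [show i = 1 by simpa using hprod.symm, orderOf_one] at hi2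
    norm_num at hi2
  | [a], _, _, hm, _, hprod =>
    have ha : i ∈ D := by rw [show i = a by simpa using hprod.symm]; exact hm a (by simp)
    have hb : x * i * x⁻¹ ∈ D := cls_conj hD x ha
    have hprodx : i * (x * i * x⁻¹) = x⁻¹ * x⁻¹ := by
      conv_rhs => arg 1; rw [← hinv]
      rw [inv_eq_of_mul_eq_one_right hii]; group
    have h6 : (i * (x * i * x⁻¹)) ^ 6 = 1 := by
      by_cases hcm : Commute i (x * i * x⁻¹)
      · rw [show 6 = 2 * 3 from rfl, pow_mul, hcm.mul_pow, pow_two, pow_two, hii, mul_self hD.1 hb, one_mul, one_pow]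
      · rw [show 6 = 3 * 2 from rfl, pow_mul, pow_three hD.1 ha hb hcm, one_pow]
    rw [hprodx, ← pow_two, ← pow_mul, inv_pow, inv_eq_one] at h6
    have := orderOf_dvd_of_pow_eq_one h6
    rw [hx] at this
    norm_num at this
  | [a, b], _, hnd, hm, hcl, hprod =>
    simp only [List.nodup_cons, List.mem_cons, List.not_mem_nil, or_false, List.nodup_nil, and_true,
      not_false_iff] at hnd
    have hi : i = a * b := by rw [← hprod]; simp
    have ha : a ∈ D := hm a (by simp)
    have hb : b ∈ D := hm b (by simp)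
    have cab : Commute a b := hcl a (by simp) b (by simp)
    have hl : IsFac D i 2 [a, b] := ⟨by simp [hnd], rfl, hm, hcl, hprod⟩
    have hB2 := dvd_of_stable (Y := B) (S := {y | y ∈ [a, b]})
      (fun g hg y hy => (two_unique hD hp (fac_cj hD (hBc g hg) hl) hl _).mp
        (List.mem_map_of_mem (f := fun z => g * z * g⁻¹) hy))
      (fun g hg y hy => hCfree g hg.1 y (hm y hy))
    rw [show {y : G | y ∈ [a, b]} = {a, b} by ext; simp, Set.ncard_pair hnd] at hB2
    have hB1 : Nat.card B = 1 := by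
      have := Nat.dvd_gcd hB2 hB351
      simpa using this
    have hsub : insert a (insert b (Ds D a ∩ Ds D b)) ⊆ Φ := by
      have hcm : ∀ y, Commute a y → Commute b y → i * y * i⁻¹ = y := fun y h1 h2' =>
        mul_inv_eq_iff_eq_mul.mpr (hi ▸ h1.mul_left h2').eq
      rintro y (rfl | rfl | ⟨h1, h2'⟩)
      exacts [⟨ha, hcm _ (Commute.refl _) cab.symm⟩, ⟨hb, hcm _ cab (Commute.refl _)⟩,
        ⟨h1.1, hcm _ h1.2.2 h2'.2.2⟩]
    have := Set.ncard_le_ncard hsub (Set.toFinite _)
    rw [Set.ncard_insert_of_notMem, Set.ncard_insert_of_notMem fun k => k.2.2.1 rfl,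
      ncard_near hD A ha ⟨hb, fun k => hnd k.symm, cab⟩] at this
    · rw [hB1] at hbound; omega
    · rintro (k | k)
      · exact hnd k
      · exact k.1.2.1 rfl
  | [a, b, c], _, hnd, hm, hcl, hprod =>
    have hl : IsFac D i 3 [a, b, c] := ⟨hnd, rfl, hm, hcl, hprod⟩
    obtain ⟨l₁, l₂, hl₁, hl₂, -, huniq⟩ := (factorizations hG hp hd₀ h3 h2 h22).2 i _ hl
    set T := {y : G | ∃ l, IsFac D i 3 l ∧ y ∈ l}
    have hT6 : T.ncard ≤ 6 := by
      have hsub : T ⊆ ↑(l₁ ++ l₂).toFinset := by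
        rintro y ⟨l, hl', hy⟩
        rcases huniq l hl' with h' | h' <;> simp [(h' y).mp hy]
      refine le_trans (Set.ncard_le_ncard hsub (Set.toFinite _)) ?_
      rw [Set.ncard_coe_finset]
      refine le_trans (List.toFinset_card_le _) ?_
      rw [List.length_append, hl₁.2.1, hl₂.2.1]
    have hBT := dvd_of_stable (Y := B) (S := T)
      (fun g hg y ⟨l, hl', hy⟩ => ⟨_, fac_cj hD (hBc g hg) hl', List.mem_map_of_mem (f := fun z => g * z * g⁻¹) hy⟩)
      (fun g hg y ⟨l, hl', hy⟩ => hCfree g hg.1 y (hl'.2.2.1 y hy))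
    have hTpos : 0 < T.ncard := (Set.ncard_pos).mpr ⟨a, [a, b, c], hl, by simp⟩
    have hB3 : Nat.card B ≤ 3 := by
      have := Nat.le_of_dvd hTpos hBT
      obtain ⟨n, hn'⟩ := hB351
      have hBle : Nat.card B ≤ 6 := this.trans hT6
      interval_cases hBn : Nat.card B <;> omega
    simp only [List.nodup_cons, List.mem_cons, List.not_mem_nil, or_false, not_or, List.nodup_nil, and_true] at hnd
    obtain ⟨⟨hab, hac⟩, hbc, -⟩ := hnd
    have hi : i = a * b * c := by rw [← hprod]; simp [mul_assoc]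
    have ha : a ∈ D := hm a (by simp)
    have hsub : Ds D a ∩ Ds D b ∩ Ds D c ⊆ Φ := fun y hy => ⟨hy.2.1, mul_inv_eq_iff_eq_mul.mpr
      (hi ▸ (hy.1.1.2.2.mul_left hy.1.2.2.2).mul_left hy.2.2.2).eq⟩
    have := le_trans (near_three hD A ha ⟨hm b (by simp), fun k => hab k.symm, hcl a (by simp) b (by simp)⟩
      ⟨hm c (by simp), fun k => hac k.symm, hcl a (by simp) c (by simp)⟩ hbc (hcl b (by simp) c (by simp)))
      (Set.ncard_le_ncard hsub (Set.toFinite _))
    have := Nat.mul_le_mul_right 351 this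
    omega
  | _ :: _ :: _ :: _ :: _, hlen, _, _, _, _ => simp only [List.length_cons] at hlen; omega

end CfsgThreeTrans.M22.Thirteen
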